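import Mathlib

/-!
# Flatness from local flatness of a directed family of submodules (helper93)
-/

set_option autoImplicit false

namespace Groth.Agent.H93.FlatDirected

open TensorProduct

universe u v

theorem flat_of_directed_local {B : Type u} [CommRing B] {A : Type v} [CommRing A] [Algebra B A]
    (H : ∀ (Q : Ideal A) [Q.IsMaximal] (M₀ : Submodule B A), M₀.FG →
      ∃ M : Submodule B A, M₀ ≤ M ∧
        Module.Flat B (LocalizedModule (Q.comap (algebraMap B A)).primeCompl M)) :
    Module.Flat B A := by
  classical
  rw [Module.Flat.iff_lTensor_injective']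
  intro I
  rw [injective_iff_map_eq_zero]
  intro x hx
  by_contra hx0
  let J : Ideal A := LinearMap.ker (LinearMap.toSpanSingleton A (A ⊗[B] I) x)
  have hJ : J ≠ ⊤ := by
    intro h
    have h1 : (1 : A) ∈ J := h ▸ Submodule.mem_top
    rw [LinearMap.mem_ker, LinearMap.toSpanSingleton_apply, one_smul] at h1
    exact hx0 h1
  obtain ⟨Q, hQ, hJQ⟩ := Ideal.exists_le_maximal J hJ
  obtain ⟨M₀, hfin, hM₀⟩ :=
    TensorProduct.exists_finite_submodule_left_of_setFinite {x} (Set.finite_singleton x)
  obtain ⟨M, hle, hflat⟩ := H Q M₀ (Module.Finite.iff_fg.mp hfin)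
  obtain ⟨x₀, hx₀⟩ := hM₀ (Set.mem_singleton x)
  set P : Ideal B := Q.comap (algebraMap B A) with hP
  let x' : M ⊗[B] I := (Submodule.inclusion hle).rTensor I x₀
  have hx' : M.subtype.rTensor I x' = x := by
    rw [← hx₀, ← LinearMap.rTensor_comp_apply]
    rfl
  have h1 : (I.subtype.lTensor M) x' = 0 := by
    have hinj : Function.Injective (M.subtype.rTensor B) :=
      Module.Flat.rTensor_preserves_injective_linearMap (M := B) M.subtype M.injective_subtype
    apply hinj
    rw [map_zero, ← LinearMap.comp_apply, LinearMap.rTensor_comp_lTensor,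
      ← LinearMap.lTensor_comp_rTensor, LinearMap.comp_apply, hx', hx]
  let ℓ := LocalizedModule.mkLinearMap P.primeCompl M
  have h2 : (ℓ.rTensor I) x' = 0 := by
    have hinj : Function.Injective
        (I.subtype.lTensor (LocalizedModule P.primeCompl M)) :=
      Module.Flat.lTensor_preserves_injective_linearMap (M := LocalizedModule P.primeCompl M)
        I.subtype I.injective_subtype
    apply hinj
    rw [map_zero, ← LinearMap.comp_apply, LinearMap.lTensor_comp_rTensor,
      ← LinearMap.rTensor_comp_lTensor, LinearMap.comp_apply, h1, map_zero]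
  have h3 : (AlgebraTensorModule.rTensor B I ℓ) x' = 0 := h2
  obtain ⟨s, hs⟩ := (IsLocalizedModule.eq_zero_iff P.primeCompl
    (AlgebraTensorModule.rTensor B I ℓ)).mp h3
  have h4 : (algebraMap B A (s : B)) ∈ J := by
    rw [LinearMap.mem_ker, LinearMap.toSpanSingleton_apply, algebraMap_smul, ← hx',
      ← map_smul]
    have : (s : B) • x' = 0 := hs
    rw [this, map_zero]
  exact s.2 (hJQ h4)

end Groth.Agent.H93.FlatDirected
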