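import Mathlib

/-!
# Descent of freeness along an injective local extension (helper93)

`R` local, `R → R'` injective with `𝔪 R' ≠ R'`, `N` a finite `R`-module with `R' ⊗ N` free over `R'`.
Then `N` is free over `R`.
-/

set_option autoImplicit false

namespace Groth.Agent.H93.FreeDescent

open TensorProduct IsLocalRing

universe u v w

theorem free_of_free_baseChange {R : Type u} [CommRing R] [IsLocalRing R] {R' : Type v} [CommRing R']
    [Algebra R R'] (hinj : Function.Injective (algebraMap R R'))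
    (hne : (maximalIdeal R).map (algebraMap R R') ≠ ⊤)
    (N : Type w) [AddCommGroup N] [Module R N] [Module.Finite R N]
    [Module.Free R' (R' ⊗[R] N)] : Module.Free R N := by
  classical
  obtain ⟨Q, hQmax, hQ⟩ := Ideal.exists_le_maximal _ hne
  letI : Field (R' ⧸ Q) := Ideal.Quotient.field Q
  haveI : Nontrivial R' :=
    nontrivial_of_ne (0 : R') 1 (fun h => hQmax.ne_top ((Ideal.eq_top_iff_one Q).mpr (h ▸ Q.zero_mem)))
  have hker : ∀ a ∈ maximalIdeal R, algebraMap R (R' ⧸ Q) a = 0 := by
    intro a ha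
    rw [IsScalarTower.algebraMap_apply R R' (R' ⧸ Q)]
    exact Ideal.Quotient.eq_zero_iff_mem.mpr (hQ (Ideal.mem_map_of_mem _ ha))
  letI : Algebra (ResidueField R) (R' ⧸ Q) :=
    (Ideal.Quotient.lift (maximalIdeal R) (algebraMap R (R' ⧸ Q)) hker).toAlgebra
  haveI : IsScalarTower R (ResidueField R) (R' ⧸ Q) :=
    IsScalarTower.of_algebraMap_eq (fun x => rfl)
  -- a basis of `κ ⊗ N`
  set n := Module.finrank (ResidueField R) (ResidueField R ⊗[R] N) with hn
  let b := Module.finBasis (ResidueField R) (ResidueField R ⊗[R] N)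
  have hsurj : Function.Surjective (TensorProduct.mk R (ResidueField R) N 1) :=
    TensorProduct.mk_surjective R N (ResidueField R) Ideal.Quotient.mk_surjective
  choose x hx using fun i => hsurj (b i)
  have hspan : Submodule.span R (Set.range x) = ⊤ :=
    IsLocalRing.span_eq_top_of_tmul_eq_basis x b hx
  let π : (Fin n → R) →ₗ[R] N := Fintype.linearCombination R x
  have hπ : Function.Surjective π := by
    rw [← LinearMap.range_eq_top, Fintype.range_linearCombination, hspan]
  let PB : R' ⊗[R] (Fin n → R) →ₗ[R'] R' ⊗[R] N := π.baseChange R'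
  have hPB : Function.Surjective PB := by
    have : (PB : R' ⊗[R] (Fin n → R) → R' ⊗[R] N) = π.lTensor R' := rfl
    rw [this]
    exact LinearMap.lTensor_surjective _ hπ
  -- ranks
  have h1 : Module.finrank R' (R' ⊗[R] (Fin n → R)) = n := by
    rw [Module.finrank_baseChange, Module.finrank_fin_fun]
  have e1 : (R' ⧸ Q) ⊗[R'] (R' ⊗[R] N) ≃ₗ[R' ⧸ Q] (R' ⧸ Q) ⊗[R] N :=
    AlgebraTensorModule.cancelBaseChange R R' (R' ⧸ Q) (R' ⧸ Q) N
  have e2 : (R' ⧸ Q) ⊗[ResidueField R] (ResidueField R ⊗[R] N) ≃ₗ[R' ⧸ Q] (R' ⧸ Q) ⊗[R] N :=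
    AlgebraTensorModule.cancelBaseChange R (ResidueField R) (R' ⧸ Q) (R' ⧸ Q) N
  have h2 : Module.finrank R' (R' ⊗[R] N) = n := by
    rw [← Module.finrank_baseChange (R := R' ⧸ Q) (S := R') (M' := R' ⊗[R] N),
      e1.finrank_eq, ← e2.finrank_eq, Module.finrank_baseChange]
  haveI : Module.Finite R' (R' ⊗[R] N) := inferInstance
  let e : R' ⊗[R] (Fin n → R) ≃ₗ[R'] R' ⊗[R] N :=
    LinearEquiv.ofFinrankEq _ _ (h1.trans h2.symm)
  have hPBinj : Function.Injective PB :=
    OrzechProperty.injective_of_surjective_of_injective e.toLinearMap PB e.injective hPB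
  haveI : FaithfulSMul R R' := (faithfulSMul_iff_algebraMap_injective R R').mpr hinj
  have hmk : Function.Injective (TensorProduct.mk R R' (Fin n → R) 1) :=
    Module.Flat.tensorProduct_mk_injective R (Fin n → R) R'
  have hπinj : Function.Injective π := by
    rw [← LinearMap.ker_eq_bot, LinearMap.ker_eq_bot']
    intro y hy
    apply hmk
    apply hPBinj
    simp only [TensorProduct.mk_apply, map_zero]
    show π.baseChange R' (1 ⊗ₜ[R] y) = 0
    rw [LinearMap.baseChange_tmul, hy, TensorProduct.tmul_zero]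
  exact Module.Free.of_equiv (LinearEquiv.ofBijective π ⟨hπinj, hπ⟩)

end Groth.Agent.H93.FreeDescent
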