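import Mathlib
import Groth.Agent.H93.FreeDescent

/-!
# Local freeness at primes in the image, from freeness after an injective base change (helper93)
-/

set_option autoImplicit false

namespace Groth.Agent.H93.FreeDescent

open TensorProduct IsLocalRing

universe u v w

theorem flat_localizedModule_of_free_baseChange {B : Type u} [CommRing B] {A : Type v} [CommRing A]
    [Algebra B A] (hinj : Function.Injective (algebraMap B A)) (Q : Ideal A) [Q.IsPrime]
    (M : Type w) [AddCommGroup M] [Module B M] [Module.Finite B M] [Module.Free A (A ⊗[B] M)] :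
    Module.Flat B (LocalizedModule (Q.comap (algebraMap B A)).primeCompl M) := by
  classical
  set P : Ideal B := Q.comap (algebraMap B A) with hP
  set R := Localization.AtPrime P with hR
  set T := Algebra.algebraMapSubmonoid A P.primeCompl with hT
  set R' := Localization T with hR'
  set N := LocalizedModule P.primeCompl M with hN
  have hinj' : Function.Injective (algebraMap R R') :=
    localizationAlgebra_injective (R := B) (S := A) (M := P.primeCompl) R R' hinj
  -- the prime `Q R'`
  have hdisj : Disjoint (T : Set A) (Q : Set A) := by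
    rw [Set.disjoint_left]
    rintro a ⟨b, hb, rfl⟩ ha
    exact hb ha
  have hQ' : (Q.map (algebraMap A R')).IsPrime :=
    IsLocalization.isPrime_of_isPrime_disjoint T R' Q inferInstance hdisj
  have hne : (maximalIdeal R).map (algebraMap R R') ≠ ⊤ := by
    have hle : (maximalIdeal R).map (algebraMap R R') ≤ Q.map (algebraMap A R') := by
      rw [← Localization.AtPrime.map_eq_maximalIdeal, Ideal.map_map,
        ← IsScalarTower.algebraMap_eq, IsScalarTower.algebraMap_eq B A R', ← Ideal.map_map]
      exact Ideal.map_mono Ideal.map_comap_le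
    intro h
    exact hQ'.ne_top (top_le_iff.mp (h ▸ hle))
  -- freeness of the base change
  have e0 : R ⊗[B] M ≃ₗ[R] N :=
    (IsLocalizedModule.isBaseChange P.primeCompl R (LocalizedModule.mkLinearMap P.primeCompl M)).equiv
  have e1 : R' ⊗[R] N ≃ₗ[R'] R' ⊗[R] (R ⊗[B] M) :=
    AlgebraTensorModule.congr (LinearEquiv.refl R' R') e0.symm
  have e2 : R' ⊗[R] (R ⊗[B] M) ≃ₗ[R'] R' ⊗[B] M :=
    AlgebraTensorModule.cancelBaseChange B R R' R' M
  have e3 : R' ⊗[A] (A ⊗[B] M) ≃ₗ[R'] R' ⊗[B] M :=
    AlgebraTensorModule.cancelBaseChange B A R' R' M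
  haveI : Module.Free R' (R' ⊗[R] N) :=
    Module.Free.of_equiv (e3.trans (e2.symm.trans e1.symm))
  haveI : Module.Free R N := free_of_free_baseChange hinj' hne N
  exact Module.Flat.trans B R N

end Groth.Agent.H93.FreeDescent
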