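import Groth.Agent.H93.HopfModFree
import Groth.Prelude.Def_ComodTens
import Groth.Prelude.Def_W4c1tameactTame
import Mathlib.LinearAlgebra.TensorProduct.Tower
import Mathlib.RingTheory.TensorProduct.Basic

/-!
# Relative Hopf modules: `A ⊗[B] M` is an `(A, A)`-Hopf module (helper93)

`A` a commutative bialgebra over `k`, `B` a commutative `k`-algebra with `Algebra B A` and a
"coaction" `ρB : B → B ⊗ A` lifting the comultiplication of `A` (a right coideal subalgebra),
`M` a `B`-module with an `A`-coaction compatible with `ρB`.  Then `A ⊗[B] M` carries an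
`A`-coaction making it an `(A, A)`-Hopf module; over a field with `A` Hopf it is therefore free.
-/

set_option autoImplicit false

universe u v w w'

open TensorProduct

namespace Groth.Agent.H93.RelHopf

section Defs

variable (k : Type u) [CommRing k] (A : Type v) [CommRing A] [Bialgebra k A]
variable (B : Type w) [CommRing B] [Algebra k B] [Algebra B A] [IsScalarTower k B A]
variable (M : Type w') [AddCommGroup M] [Module k M] [Module B M] [IsScalarTower k B M]

/-- `(a, m) ↦ a ⊗ₜ[B] m` as a `k`-bilinear map -/
noncomputable def mkBM : A →ₗ[k] M →ₗ[k] A ⊗[B] M :=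
  LinearMap.mk₂ k (fun a m => a ⊗ₜ[B] m) (fun a a' m => TensorProduct.add_tmul a a' m)
    (fun r a m => by rw [TensorProduct.smul_tmul'])
    (fun a m m' => TensorProduct.tmul_add a m m')
    (fun r a m => by rw [TensorProduct.tmul_smul])

@[simp] theorem mkBM_apply (a : A) (m : M) : mkBM k A B M a m = a ⊗ₜ[B] m := rfl

/-- `(a ⊗ a', m ⊗ c) ↦ (a ⊗ₜ[B] m) ⊗ a' c` -/
noncomputable def star : A ⊗[k] A →ₗ[k] M ⊗[k] A →ₗ[k] (A ⊗[B] M) ⊗[k] A :=
  TensorProduct.map₂ (mkBM k A B M) (LinearMap.mul k A)

@[simp] theorem star_tmul (a a' : A) (m : M) (c : A) :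
    star k A B M (a ⊗ₜ[k] a') (m ⊗ₜ[k] c) = (a ⊗ₜ[B] m) ⊗ₜ[k] (a' * c) := by
  simp [star]

/-- the canonical surjection `A ⊗[k] M → A ⊗[B] M` -/
noncomputable def q : A ⊗[k] M →ₗ[k] A ⊗[B] M := TensorProduct.lift (mkBM k A B M)

@[simp] theorem q_tmul (a : A) (m : M) : q k A B M (a ⊗ₜ[k] m) = a ⊗ₜ[B] m := by
  simp [q]

theorem q_surjective : Function.Surjective (q k A B M) := by
  intro n
  induction n using TensorProduct.induction_on with
  | zero => exact ⟨0, map_zero _⟩
  | tmul a m => exact ⟨a ⊗ₜ[k] m, q_tmul k A B M a m⟩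
  | add x y hx hy =>
    obtain ⟨x', rfl⟩ := hx
    obtain ⟨y', rfl⟩ := hy
    exact ⟨x' + y', map_add _ _ _⟩

theorem star_eq_q (x : A ⊗[k] A) (y : M ⊗[k] A) :
    star k A B M x y = (q k A B M).rTensor A
      (TensorProduct.map LinearMap.id (LinearMap.mul' k A)
        (AlgebraTensorModule.tensorTensorTensorComm k k k k A A M A (x ⊗ₜ[k] y))) := by
  induction x using TensorProduct.induction_on with
  | zero => simp only [map_zero, LinearMap.zero_apply, TensorProduct.zero_tmul]
  | add x x' hx hx' => simp only [map_add, LinearMap.add_apply, TensorProduct.add_tmul, hx, hx']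
  | tmul a a' =>
    induction y using TensorProduct.induction_on with
    | zero => simp only [map_zero, TensorProduct.tmul_zero]
    | add y y' hy hy' => simp only [map_add, TensorProduct.tmul_add, hy, hy']
    | tmul m c =>
      simp only [star_tmul, AlgebraTensorModule.tensorTensorTensorComm_tmul, TensorProduct.map_tmul,
        LinearMap.id_apply, LinearMap.mul'_apply, LinearMap.rTensor_tmul, q_tmul]

/-- `B`-balancedness of `star` -/
theorem star_bal (t : B ⊗[k] A) (x : A ⊗[k] A) (y : M ⊗[k] A) :
    star k A B M
        (TensorProduct.map (IsScalarTower.toAlgHom k B A).toLinearMap LinearMap.id t * x) y =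
      star k A B M x (TameAct.hmSMul k A B M t y) := by
  induction t using TensorProduct.induction_on with
  | zero => simp only [map_zero, zero_mul, LinearMap.zero_apply]
  | add t t' ht ht' => simp only [map_add, add_mul, LinearMap.add_apply, ht, ht']
  | tmul b a₀ =>
    induction x using TensorProduct.induction_on with
    | zero => simp only [mul_zero, map_zero, LinearMap.zero_apply]
    | add x x' hx hx' => simp only [mul_add, map_add, LinearMap.add_apply, hx, hx']
    | tmul a a' =>
      induction y using TensorProduct.induction_on with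
      | zero => simp only [map_zero]
      | add y y' hy hy' => simp only [map_add, hy, hy']
      | tmul m c =>
        simp only [TensorProduct.map_tmul, AlgHom.toLinearMap_apply, IsScalarTower.coe_toAlgHom',
          LinearMap.id_apply, Algebra.TensorProduct.tmul_mul_tmul, star_tmul,
          TameAct.hmSMul_tmul]
        rw [← Algebra.smul_def, TensorProduct.smul_tmul, mul_left_comm, mul_assoc]

/-- compatibility of `star` with the `A ⊗ A`-action -/
theorem star_mul (x' x : A ⊗[k] A) (y : M ⊗[k] A) :
    star k A B M (x' * x) y = TameAct.hmSMul k A A (A ⊗[B] M) x' (star k A B M x y) := by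
  induction x' using TensorProduct.induction_on with
  | zero => simp only [zero_mul, map_zero, LinearMap.zero_apply]
  | add t t' ht ht' => simp only [add_mul, map_add, LinearMap.add_apply, ht, ht']
  | tmul b a₀ =>
    induction x using TensorProduct.induction_on with
    | zero => simp only [mul_zero, map_zero, LinearMap.zero_apply]
    | add x x' hx hx' => simp only [mul_add, map_add, LinearMap.add_apply, hx, hx']
    | tmul a a' =>
      induction y using TensorProduct.induction_on with
      | zero => simp only [map_zero]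
      | add y y' hy hy' => simp only [map_add, hy, hy']
      | tmul m c =>
        simp only [Algebra.TensorProduct.tmul_mul_tmul, star_tmul, TameAct.hmSMul_tmul,
          TensorProduct.smul_tmul', smul_eq_mul, mul_assoc]

end Defs

section Coact

variable {k : Type u} [CommRing k] {A : Type v} [CommRing A] [Bialgebra k A]
variable {B : Type w} [CommRing B] [Algebra k B] [Algebra B A] [IsScalarTower k B A]
variable {M : Type w'} [AddCommGroup M] [Module k M] [Module B M] [IsScalarTower k B M]

/-- `ρB` lifts the comultiplication of `A`: `B` is a right coideal subalgebra. -/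
def IsCoideal (ρB : B →ₗ[k] B ⊗[k] A) : Prop :=
  ∀ b, TensorProduct.map (IsScalarTower.toAlgHom k B A).toLinearMap LinearMap.id (ρB b) =
    CoalgebraStruct.comul (R := k) (A := A) (algebraMap B A b)

/-- `M` is a `(B, A)`-Hopf module with respect to `ρB`. -/
def IsRelHopf (c : HopfRep.Comod k A M) (ρB : B →ₗ[k] B ⊗[k] A) : Prop :=
  ∀ (b : B) (m : M), c.coact (b • m) = TameAct.hmSMul k A B M (ρB b) (c.coact m)

variable (c : HopfRep.Comod k A M) (ρB : B →ₗ[k] B ⊗[k] A)

/-- `(a, m) ↦ Δ(a) ⋆ ρ(m)` -/
noncomputable def coactLin : A →ₗ[k] M →ₗ[k] (A ⊗[B] M) ⊗[k] A :=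
  (star k A B M).compl₁₂ (CoalgebraStruct.comul (R := k) (A := A)) c.coact

theorem coactLin_apply (a : A) (m : M) :
    coactLin (B := B) c a m = star k A B M (CoalgebraStruct.comul (R := k) a) (c.coact m) := rfl

variable {c ρB}

theorem coactLin_bal (hB : IsCoideal ρB) (hM : IsRelHopf c ρB) (b : B) (a : A) (m : M) :
    coactLin (B := B) c (b • a) m = coactLin (B := B) c a (b • m) := by
  rw [coactLin_apply, coactLin_apply, hM, ← star_bal, hB, Algebra.smul_def, Bialgebra.comul_mul]

/-- the coaction on `A ⊗[B] M` as an additive map -/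
noncomputable def rhoAdd (hB : IsCoideal ρB) (hM : IsRelHopf c ρB) :
    A ⊗[B] M →+ (A ⊗[B] M) ⊗[k] A :=
  TensorProduct.liftAddHom
    (LinearMap.toAddMonoidHom'.comp (coactLin (B := B) c).toAddMonoidHom)
    (fun b a m => coactLin_bal hB hM b a m)

theorem rhoAdd_tmul (hB : IsCoideal ρB) (hM : IsRelHopf c ρB) (a : A) (m : M) :
    rhoAdd hB hM (a ⊗ₜ[B] m) =
      star k A B M (CoalgebraStruct.comul (R := k) a) (c.coact m) := rfl

/-- the coaction on `A ⊗[B] M` -/
noncomputable def rho (hB : IsCoideal ρB) (hM : IsRelHopf c ρB) :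
    A ⊗[B] M →ₗ[k] (A ⊗[B] M) ⊗[k] A where
  toFun := rhoAdd hB hM
  map_add' := map_add _
  map_smul' := by
    intro r x
    induction x using TensorProduct.induction_on with
    | zero => simp only [smul_zero, map_zero]
    | add x y hx hy => simp only [smul_add, map_add, hx, hy]
    | tmul a m =>
      rw [TensorProduct.smul_tmul', rhoAdd_tmul, rhoAdd_tmul, map_smul, map_smul,
        LinearMap.smul_apply]
      rfl

theorem rho_tmul (hB : IsCoideal ρB) (hM : IsRelHopf c ρB) (a : A) (m : M) :
    rho hB hM (a ⊗ₜ[B] m) =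
      star k A B M (CoalgebraStruct.comul (R := k) a) (c.coact m) := rfl

theorem rho_comp_q (hB : IsCoideal ρB) (hM : IsRelHopf c ρB) :
    rho hB hM ∘ₗ q k A B M = (q k A B M).rTensor A ∘ₗ
      (ComodTens.Comod.tensor (HopfRep.Comod.regular k A) c).coact := by
  apply TensorProduct.ext'
  intro a m
  rw [LinearMap.comp_apply, LinearMap.comp_apply, q_tmul, rho_tmul,
    ComodTens.tensor_coact_tmul, star_eq_q]
  rfl

/-- the comodule structure on `A ⊗[B] M` -/
@[reducible] noncomputable def comodTensor (hB : IsCoideal ρB) (hM : IsRelHopf c ρB) :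
    HopfRep.Comod k A (A ⊗[B] M) where
  coact := rho hB hM
  coassoc := by
    apply LinearMap.ext
    intro n
    obtain ⟨v, rfl⟩ := q_surjective k A B M n
    have := ComodTens.coassoc_apply_of_hom
      (ComodTens.Comod.tensor (HopfRep.Comod.regular k A) c) (rho hB hM) (q k A B M)
      (rho_comp_q hB hM) v
    simpa only [LinearMap.coe_comp, Function.comp_apply, LinearEquiv.coe_coe] using this
  counit_comp := by
    apply LinearMap.ext
    intro n
    obtain ⟨v, rfl⟩ := q_surjective k A B M n
    have := ComodTens.counit_apply_of_hom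
      (ComodTens.Comod.tensor (HopfRep.Comod.regular k A) c) (rho hB hM) (q k A B M)
      (rho_comp_q hB hM) v
    simpa only [LinearMap.coe_comp, Function.comp_apply, LinearMap.flip_apply,
      TensorProduct.mk_apply] using this

theorem isHopfMod_tensor (hB : IsCoideal ρB) (hM : IsRelHopf c ρB) :
    @TameAct.IsHopfMod k _ A _ _ A _ _ (A ⊗[B] M) _ _ _ _ (HopfRep.Comod.regular k A)
      (comodTensor hB hM) := by
  letI := comodTensor hB hM
  refine ⟨fun a' n => ?_⟩
  change rho hB hM (a' • n) = TameAct.hmSMul k A A (A ⊗[B] M)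
    (CoalgebraStruct.comul (R := k) a') (rho hB hM n)
  induction n using TensorProduct.induction_on with
  | zero => simp only [smul_zero, map_zero]
  | add x y hx hy => simp only [smul_add, map_add, hx, hy]
  | tmul a m =>
    rw [TensorProduct.smul_tmul', rho_tmul, rho_tmul, smul_eq_mul, Bialgebra.comul_mul, star_mul]

end Coact

section Free

variable {k : Type u} [Field k] {A : Type v} [CommRing A] [HopfAlgebra k A]
variable {B : Type w} [CommRing B] [Algebra k B] [Algebra B A] [IsScalarTower k B A]
variable {M : Type w'} [AddCommGroup M] [Module k M] [Module B M] [IsScalarTower k B M]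
variable {c : HopfRep.Comod k A M} {ρB : B →ₗ[k] B ⊗[k] A}

/-- For a `(B, A)`-Hopf module `M`, the base change `A ⊗[B] M` is a free `A`-module. -/
theorem free_tensor (hB : IsCoideal ρB) (hM : IsRelHopf c ρB) : Module.Free A (A ⊗[B] M) := by
  letI := comodTensor hB hM
  haveI := isHopfMod_tensor hB hM
  exact Groth.Agent.H93.HopfModFree.free k A (A ⊗[B] M)

end Free

end Groth.Agent.H93.RelHopf
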