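import Mathlib
import Groth.Agent.H93.RelHopfMod
import Groth.Agent.H93.FreeDescentLoc
import Groth.Agent.H93.FlatDirected
import Groth.Agent.H74.SubComod
import Groth.Agent.H82.Chev

/-!
# A commutative Hopf algebra over a field is flat over every right coideal subalgebra (helper93)

`A` a commutative Hopf algebra over a field `k`, `B` a commutative `k`-algebra with an injective
`algebraMap B A` and a linear map `ρB : B → B ⊗ A` lifting the comultiplication of `A`.
Then `A` is a flat `B`-module (Masuoka–Wigner; Takeuchi for Hopf subalgebras).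
-/

set_option autoImplicit false

universe u v w

open TensorProduct

namespace Groth.Agent.H93.HopfFlat

open Groth.Agent.H93.RelHopf

variable {k : Type u} [Field k] {A : Type v} [CommRing A] [HopfAlgebra k A]
variable {B : Type w} [CommRing B] [Algebra k B] [Algebra B A] [IsScalarTower k B A]

/-- the `B ⊗ A`-action is compatible with the inclusion of a `B`-submodule of `A` -/
theorem map_mul_rTensor (U : Submodule B A) (t : B ⊗[k] A) (y : ↥(U.restrictScalars k) ⊗[k] A) :
    TensorProduct.map (IsScalarTower.toAlgHom k B A).toLinearMap LinearMap.id t *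
        (U.restrictScalars k).subtype.rTensor A y =
      (U.restrictScalars k).subtype.rTensor A
        (TameAct.hmSMul k A B ↥(U.restrictScalars k) t y) := by
  induction t using TensorProduct.induction_on with
  | zero => simp only [map_zero, zero_mul, LinearMap.zero_apply]
  | add t t' ht ht' => simp only [map_add, add_mul, LinearMap.add_apply, ht, ht']
  | tmul b a₀ =>
    induction y using TensorProduct.induction_on with
    | zero => simp only [map_zero, mul_zero]
    | add y y' hy hy' => simp only [map_add, mul_add, hy, hy']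
    | tmul u c =>
      simp only [TensorProduct.map_tmul, AlgHom.toLinearMap_apply, IsScalarTower.coe_toAlgHom',
        LinearMap.id_apply, LinearMap.rTensor_tmul, Submodule.subtype_apply,
        Algebra.TensorProduct.tmul_mul_tmul, TameAct.hmSMul_tmul]
      rw [← Algebra.smul_def]
      rfl

variable {ρB : B →ₗ[k] B ⊗[k] A}

/-- the `B`-span of a subcomodule of `A` is a subcomodule -/
theorem isSubcomod_span (hB : IsCoideal ρB) (V₀ : Submodule k A)
    (hV₀ : HopfRep.IsSubcomod (k := k) (A := A) V₀) :
    HopfRep.IsSubcomod (k := k) (A := A)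
      ((Submodule.span B (V₀ : Set A)).restrictScalars k) := by
  set U := Submodule.span B (V₀ : Set A) with hU
  intro u hu
  change u ∈ U at hu
  change CoalgebraStruct.comul (R := k) u ∈ _
  induction hu using Submodule.span_induction with
  | mem v hv =>
    obtain ⟨y, hy⟩ := hV₀ v hv
    have hle : V₀ ≤ U.restrictScalars k := fun z hz => Submodule.subset_span hz
    refine ⟨(Submodule.inclusion hle).rTensor A y, ?_⟩
    rw [← LinearMap.rTensor_comp_apply]
    exact hy
  | zero => rw [map_zero]; exact Submodule.zero_mem _
  | add x y _ _ hx hy => rw [map_add]; exact Submodule.add_mem _ hx hy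
  | smul b x _ hx =>
    obtain ⟨y, hy⟩ := hx
    refine ⟨TameAct.hmSMul k A B ↥(U.restrictScalars k) (ρB b) y, ?_⟩
    rw [← map_mul_rTensor, hy, hB b, Algebra.smul_def, Bialgebra.comul_mul]

/-- a `B`-submodule of `A` which is a subcomodule is a `(B, A)`-Hopf module -/
theorem isRelHopf_sub (hB : IsCoideal ρB) (U : Submodule B A)
    (hU : HopfRep.IsSubcomod (k := k) (A := A) (U.restrictScalars k)) :
    IsRelHopf (Groth.Agent.H74.Comod.subComod (U.restrictScalars k) hU) ρB := by
  intro b m
  apply Groth.Agent.H74.Comod.rTensor_subtype_injective (U.restrictScalars k) A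
  rw [← map_mul_rTensor]
  change (U.restrictScalars k).subtype.rTensor A
      (Groth.Agent.H74.Comod.subCoact (U.restrictScalars k) hU (b • m)) = _ *
    (U.restrictScalars k).subtype.rTensor A
      (Groth.Agent.H74.Comod.subCoact (U.restrictScalars k) hU m)
  rw [Groth.Agent.H74.Comod.rTensor_subCoact, Groth.Agent.H74.Comod.rTensor_subCoact, hB b]
  change CoalgebraStruct.comul (R := k) (b • (m : A)) = _
  rw [Algebra.smul_def, Bialgebra.comul_mul]
  rfl

/-- every finitely generated `B`-submodule of `A` lies in a finitely generated `B`-submodule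
which is a subcomodule -/
theorem exists_fg_subcomod (hB : IsCoideal ρB) (M₀ : Submodule B A) (h : M₀.FG) :
    ∃ U : Submodule B A, M₀ ≤ U ∧ U.FG ∧
      HopfRep.IsSubcomod (k := k) (A := A) (U.restrictScalars k) := by
  obtain ⟨s, rfl⟩ := h
  obtain ⟨V₀, hV₀, hfin, hmem⟩ := Groth.Agent.H82.Chev.exists_finite_subcomod
    (k := k) (C := A) (V := A) (fun a : (s : Set A) => (a : A))
  refine ⟨Submodule.span B (V₀ : Set A), ?_, ?_, isSubcomod_span hB V₀ hV₀⟩
  · apply Submodule.span_mono
    intro a ha
    exact hmem ⟨a, ha⟩
  · obtain ⟨t, ht⟩ := Module.Finite.iff_fg.mp hfin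
    refine ⟨t, ?_⟩
    rw [← ht, Submodule.span_span_of_tower]

/-- **Flatness over a right coideal subalgebra.** -/
theorem flat (hB : IsCoideal ρB) (hinj : Function.Injective (algebraMap B A)) :
    Module.Flat B A := by
  apply Groth.Agent.H93.FlatDirected.flat_of_directed_local
  intro Q hQ M₀ hM₀
  obtain ⟨U, hle, hfg, hU⟩ := exists_fg_subcomod hB M₀ hM₀
  refine ⟨U, hle, ?_⟩
  have hfree : Module.Free A (A ⊗[B] ↥(U.restrictScalars k)) :=
    free_tensor hB (isRelHopf_sub hB U hU)
  haveI : Module.Free A (A ⊗[B] ↥U) :=
    Module.Free.of_equiv (AlgebraTensorModule.congr (LinearEquiv.refl A A)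
      (Submodule.restrictScalarsEquiv k B A U))
  haveI : Module.Finite B ↥U := Module.Finite.iff_fg.mpr hfg
  exact Groth.Agent.H93.FreeDescent.flat_localizedModule_of_free_baseChange hinj Q ↥U

end Groth.Agent.H93.HopfFlat
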