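import Mathlib

/-!
# Translation automorphisms of `M ⊗ H`

For a commutative Hopf algebra `H` over `k`, a commutative `k`-algebra `M` and an `M`-point
`w : H →ₐ[k] M` of the group scheme, the translation `m ⊗ b ↦ ∑ m * w b₁ ⊗ b₂` is an `M`-algebra
automorphism of `M ⊗ H`.
-/

set_option autoImplicit false
universe u v w
open TensorProduct WithConv

namespace Groth.Agent.H93

section Translate

variable {k : Type u} [CommRing k] {H : Type v} [CommRing H] [HopfAlgebra k H]
variable {M : Type w} [CommRing M] [Algebra k M]

/-- `b ↦ ∑ w b₁ ⊗ b₂` -/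
noncomputable def phiT (w : H →ₐ[k] M) : H →ₐ[k] M ⊗[k] H :=
  (Algebra.TensorProduct.map w (AlgHom.id k H)).comp (Bialgebra.comulAlgHom k H)

theorem phiT_apply (w : H →ₐ[k] M) (b : H) :
    phiT w b = Algebra.TensorProduct.map w (AlgHom.id k H) (Coalgebra.comul (R := k) b) := rfl

/-- translation by the `M`-point `w`. -/
noncomputable def transl (w : H →ₐ[k] M) : M ⊗[k] H →ₐ[M] M ⊗[k] H :=
  Algebra.TensorProduct.lift (Algebra.ofId M (M ⊗[k] H)) (phiT w) (fun _ _ => Commute.all _ _)

theorem transl_tmul (w : H →ₐ[k] M) (m : M) (b : H) :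
    transl w (m ⊗ₜ[k] b) = (m ⊗ₜ[k] (1 : H)) * phiT w b := by
  rw [transl, Algebra.TensorProduct.lift_tmul]
  rfl

theorem transl_comp_aux (u v : H →ₐ[k] M) (t : H ⊗[k] H) :
    transl u (Algebra.TensorProduct.map v (AlgHom.id k H) t) =
      Algebra.TensorProduct.map (Algebra.TensorProduct.productMap v u) (AlgHom.id k H)
        ((TensorProduct.assoc k H H H).symm ((Coalgebra.comul (R := k) (A := H)).lTensor H t)) := by
  induction t using TensorProduct.induction_on with
  | zero => simp
  | add s t hs ht => simp only [map_add, hs, ht]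
  | tmul x y =>
    rw [Algebra.TensorProduct.map_tmul, AlgHom.id_apply, transl_tmul, phiT_apply,
      LinearMap.lTensor_tmul]
    induction (Coalgebra.comul (R := k) y : H ⊗[k] H) using TensorProduct.induction_on with
    | zero => simp
    | add s t hs ht => simp only [map_add, mul_add, tmul_add, hs, ht]
    | tmul y1 y2 =>
      simp [Algebra.TensorProduct.tmul_mul_tmul]

theorem transl_comp_aux2 (u v : H →ₐ[k] M) (s : H ⊗[k] H) :
    Algebra.TensorProduct.map (Algebra.TensorProduct.productMap v u) (AlgHom.id k H)
        ((Coalgebra.comul (R := k) (A := H)).rTensor H s) =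
      Algebra.TensorProduct.map (ofConv (toConv v * toConv u)) (AlgHom.id k H) s := by
  induction s using TensorProduct.induction_on with
  | zero => simp
  | add s t hs ht => simp only [map_add, hs, ht]
  | tmul b1 b2 =>
    rw [LinearMap.rTensor_tmul, Algebra.TensorProduct.map_tmul, Algebra.TensorProduct.map_tmul,
      AlgHom.convMul_def]
    simp only [ofConv_toConv, AlgHom.coe_comp, Function.comp_apply, Bialgebra.comulAlgHom_apply,
      AlgHom.id_apply]
    rw [Algebra.TensorProduct.productMap_eq_comp_map]
    rfl

theorem transl_comp (u v : H →ₐ[k] M) :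
    (transl u).comp (transl v) = transl (ofConv (toConv v * toConv u)) := by
  apply Algebra.TensorProduct.ext
  · ext
  · ext b
    simp only [AlgHom.coe_comp, AlgHom.coe_restrictScalars', Function.comp_apply,
      Algebra.TensorProduct.includeRight_apply]
    rw [transl_tmul, transl_tmul, ← Algebra.TensorProduct.one_def, one_mul, one_mul, phiT_apply,
      transl_comp_aux, Coalgebra.coassoc_symm_apply, transl_comp_aux2, phiT_apply]

theorem transl_one :
    transl (ofConv (1 : WithConv (H →ₐ[k] M))) = AlgHom.id M (M ⊗[k] H) := by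
  apply Algebra.TensorProduct.ext
  · ext
  · ext b
    simp only [AlgHom.coe_comp, AlgHom.coe_restrictScalars', Function.comp_apply,
      Algebra.TensorProduct.includeRight_apply, AlgHom.id_apply]
    rw [transl_tmul, ← Algebra.TensorProduct.one_def, one_mul, phiT_apply]
    have h : ∀ s : H ⊗[k] H,
        Algebra.TensorProduct.map (ofConv (1 : WithConv (H →ₐ[k] M))) (AlgHom.id k H) s =
          (1 : M) ⊗ₜ[k] (TensorProduct.lid k H ((Coalgebra.counit (R := k) (A := H)).rTensor H s)) := by
      intro s
      induction s using TensorProduct.induction_on with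
      | zero => simp
      | add s t hs ht => simp only [map_add, tmul_add, hs, ht]
      | tmul b1 b2 =>
        simp [AlgHom.convOne_def, Algebra.algebraMap_eq_smul_one, TensorProduct.smul_tmul]
    rw [h, Coalgebra.rTensor_counit_comul]
    simp

theorem id_antipode_cancel' :
    toConv (AlgHom.id k H) * toConv (HopfAlgebra.antipodeAlgHom k H) = 1 := by
  apply WithConv.ofConv_injective
  apply AlgHom.toLinearMap_injective
  apply WithConv.toConv_injective
  rw [AlgHom.toLinearMap_convMul, AlgHom.toLinearMap_convOne]
  simp [LinearMap.id_mul_antipode]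

theorem comp_convOne (u : H →ₐ[k] M) :
    u.comp (ofConv (1 : WithConv (H →ₐ[k] H))) = ofConv (1 : WithConv (H →ₐ[k] M)) := by
  ext b
  simp [AlgHom.convOne_def]

theorem conv_antipode_mul (u : H →ₐ[k] M) :
    toConv (u.comp (HopfAlgebra.antipodeAlgHom k H)) * toConv u = 1 := by
  have h := AlgHom.comp_convMul_distrib u (toConv (HopfAlgebra.antipodeAlgHom k H))
    (toConv (AlgHom.id k H))
  rw [AlgHom.antipode_id_cancel, comp_convOne] at h
  simp only [ofConv_toConv, AlgHom.comp_id] at h
  exact (WithConv.ofConv_injective h).symm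

theorem conv_mul_antipode (u : H →ₐ[k] M) :
    toConv u * toConv (u.comp (HopfAlgebra.antipodeAlgHom k H)) = 1 := by
  have h := AlgHom.comp_convMul_distrib u (toConv (AlgHom.id k H))
    (toConv (HopfAlgebra.antipodeAlgHom k H))
  rw [id_antipode_cancel', comp_convOne] at h
  simp only [ofConv_toConv, AlgHom.comp_id] at h
  exact (WithConv.ofConv_injective h).symm

/-- the translation as an algebra automorphism -/
noncomputable def translEquiv (u : H →ₐ[k] M) : M ⊗[k] H ≃ₐ[M] M ⊗[k] H :=
  AlgEquiv.ofAlgHom (transl u) (transl (u.comp (HopfAlgebra.antipodeAlgHom k H)))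
    (by rw [transl_comp, conv_antipode_mul, transl_one])
    (by rw [transl_comp, conv_mul_antipode, transl_one])

@[simp] theorem translEquiv_apply (u : H →ₐ[k] M) (x : M ⊗[k] H) :
    translEquiv u x = transl u x := rfl

end Translate

end Groth.Agent.H93
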