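import Mathlib
import Groth.Agent.H93.HopfFlat
import Groth.Agent.H93.Translate

/-!
# A commutative Hopf algebra over a field is faithfully flat over every Hopf subalgebra (helper93)

Abstract form: `ι : B →ₐc[k] A` an injective bialgebra map between commutative Hopf algebras over
a field, `A` viewed as a `B`-algebra through `ι`.  Then `A` is faithfully flat over `B`.
-/

set_option autoImplicit false

universe u v w

open TensorProduct WithConv

namespace Groth.Agent.H93.HopfFaithful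

open Groth.Agent.H93.RelHopf

section

variable {k : Type u} [Field k] {A : Type v} [CommRing A] [HopfAlgebra k A]
variable {B : Type w} [CommRing B] [HopfAlgebra k B]
variable [Algebra B A] [IsScalarTower k B A]

/-- the coaction of `A` on `B` induced by a bialgebra map -/
noncomputable def rhoB (ι : B →ₐc[k] A) : B →ₗ[k] B ⊗[k] A :=
  (ι : B →ₗ[k] A).lTensor B ∘ₗ CoalgebraStruct.comul (R := k) (A := B)

theorem isCoideal_rhoB (ι : B →ₐc[k] A) (hι : ∀ b, algebraMap B A b = ι b) :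
    IsCoideal (rhoB ι) := by
  intro b
  have key : ∀ t : B ⊗[k] B,
      TensorProduct.map (IsScalarTower.toAlgHom k B A).toLinearMap LinearMap.id
        ((ι : B →ₗ[k] A).lTensor B t) = TensorProduct.map (ι : B →ₗ[k] A) (ι : B →ₗ[k] A) t := by
    intro t
    induction t using TensorProduct.induction_on with
    | zero => simp only [map_zero]
    | add s t hs ht => simp only [map_add, hs, ht]
    | tmul b₁ b₂ =>
      simp only [LinearMap.lTensor_tmul, TensorProduct.map_tmul, AlgHom.toLinearMap_apply,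
        IsScalarTower.coe_toAlgHom', LinearMap.id_apply, hι]
      rfl
  rw [rhoB, LinearMap.comp_apply, key, hι]
  exact CoalgHomClass.map_comp_comul_apply ι b

theorem flat (ι : B →ₐc[k] A) (hι : ∀ b, algebraMap B A b = ι b)
    (hinj : Function.Injective ι) : Module.Flat B A := by
  refine Groth.Agent.H93.HopfFlat.flat (isCoideal_rhoB ι hι) ?_
  intro b b' h
  rw [hι, hι] at h
  exact hinj h

end

section LyingOver

variable {k : Type u} [Field k] {A : Type v} [CommRing A] [HopfAlgebra k A]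
variable {B : Type w} [CommRing B] [HopfAlgebra k B]
variable {K : Type w} [Field K] [Algebra k K]

/-- `b ↦ ∑ x(b₁) ⊗ ι(b₂)` -/
noncomputable def tau (ι : B →ₐc[k] A) (x : B →ₐ[k] K) : B →ₐ[k] K ⊗[k] A :=
  (Algebra.TensorProduct.map x (ι : B →ₐ[k] A)).comp (Bialgebra.comulAlgHom k B)

theorem tau_eq (ι : B →ₐc[k] A) (x : B →ₐ[k] K) (b : B) :
    tau ι x b = Algebra.TensorProduct.map (AlgHom.id k K) (ι : B →ₐ[k] A)
      (Groth.Agent.H93.translEquiv x ((1 : K) ⊗ₜ[k] b)) := by
  rw [Groth.Agent.H93.translEquiv_apply, Groth.Agent.H93.transl_tmul,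
    ← Algebra.TensorProduct.one_def, one_mul, Groth.Agent.H93.phiT_apply]
  change Algebra.TensorProduct.map x (ι : B →ₐ[k] A) (Coalgebra.comul (R := k) b) = _
  induction (Coalgebra.comul (R := k) b : B ⊗[k] B) using TensorProduct.induction_on with
  | zero => simp only [map_zero]
  | add s t hs ht => simp only [map_add, hs, ht]
  | tmul b₁ b₂ => simp only [Algebra.TensorProduct.map_tmul, AlgHom.id_apply]

theorem tau_injective (ι : B →ₐc[k] A) (hinj : Function.Injective ι) (x : B →ₐ[k] K) :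
    Function.Injective (tau ι x) := by
  have h1 : Function.Injective (Algebra.TensorProduct.map (AlgHom.id k K) (ι : B →ₐ[k] A)) := by
    have : (Algebra.TensorProduct.map (AlgHom.id k K) (ι : B →ₐ[k] A) : K ⊗[k] B → K ⊗[k] A) =
        (ι : B →ₗ[k] A).lTensor K := rfl
    rw [this]
    exact Module.Flat.lTensor_preserves_injective_linearMap _ hinj
  have h2 : Function.Injective (fun b : B => (1 : K) ⊗ₜ[k] b) :=
    Algebra.TensorProduct.includeRight_injective (R := k) (A := K) (B := B)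
      (algebraMap k K).injective
  intro b b' h
  rw [tau_eq, tau_eq] at h
  exact h2 ((Groth.Agent.H93.translEquiv x).injective (h1 h))

theorem one_comp_bialgHom {Ω : Type*} [CommRing Ω] [Algebra k Ω] (ι : B →ₐc[k] A) :
    (ofConv (1 : WithConv (A →ₐ[k] Ω))).comp (ι : B →ₐ[k] A) =
      ofConv (1 : WithConv (B →ₐ[k] Ω)) := by
  ext b
  simp [AlgHom.convOne_def]

theorem comp_one {Ω : Type*} [CommRing Ω] [Algebra k Ω] (u : A →ₐ[k] Ω) :
    u.comp (ofConv (1 : WithConv (B →ₐ[k] A))) = ofConv (1 : WithConv (B →ₐ[k] Ω)) := by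
  ext b
  simp [AlgHom.convOne_def]

/-- the key convolution computation -/
theorem conv_key {Ω : Type*} [CommRing Ω] [Algebra k Ω] (ι : B →ₐc[k] A)
    (g g'' : A →ₐ[k] Ω) (z : B →ₐ[k] Ω)
    (h : g.comp (ι : B →ₐ[k] A) = ofConv (toConv z * toConv (g''.comp (ι : B →ₐ[k] A)))) :
    (ofConv (toConv g * toConv (g''.comp (HopfAlgebra.antipodeAlgHom k A)))).comp
      (ι : B →ₐ[k] A) = z := by
  have h1 := AlgHom.convMul_comp_bialgHom_distrib (toConv g)
    (toConv (g''.comp (HopfAlgebra.antipodeAlgHom k A))) ι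
  simp only [ofConv_toConv] at h1
  rw [h1, h]
  -- `(g'' ι) * (g'' S ι) = 1`
  have h2 : toConv (g''.comp (ι : B →ₐ[k] A)) *
      toConv ((g''.comp (HopfAlgebra.antipodeAlgHom k A)).comp (ι : B →ₐ[k] A)) = 1 := by
    have h3 := AlgHom.comp_convMul_distrib g'' (toConv (ι : B →ₐ[k] A))
      (toConv ((HopfAlgebra.antipodeAlgHom k A).comp (ι : B →ₐ[k] A)))
    simp only [ofConv_toConv] at h3
    have h4 := AlgHom.convMul_comp_bialgHom_distrib (toConv (AlgHom.id k A))
      (toConv (HopfAlgebra.antipodeAlgHom k A)) ι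
    simp only [ofConv_toConv, AlgHom.id_comp] at h4
    rw [Groth.Agent.H93.id_antipode_cancel', one_comp_bialgHom] at h4
    have h5 : toConv (ι : B →ₐ[k] A) *
        toConv ((HopfAlgebra.antipodeAlgHom k A).comp (ι : B →ₐ[k] A)) = 1 := by
      apply WithConv.ofConv_injective
      exact h4.symm
    rw [h5, comp_one] at h3
    apply WithConv.ofConv_injective
    rw [AlgHom.comp_assoc]
    exact h3.symm
  simp only [toConv_ofConv]
  rw [mul_assoc, h2, mul_one, ofConv_toConv]

end LyingOver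

section Main

variable {k : Type u} [Field k] {A : Type v} [CommRing A] [HopfAlgebra k A]
variable {B : Type w} [CommRing B] [HopfAlgebra k B]
variable [Algebra B A] [IsScalarTower k B A]

theorem exists_prime_ker (ι : B →ₐc[k] A) (hι : ∀ b, algebraMap B A b = ι b)
    (hinj : Function.Injective ι) [Module.Flat B A] {K : Type w} [Field K] [Algebra k K]
    (x : B →ₐ[k] K) :
    ∃ Q : Ideal A, Q.IsPrime ∧ Q.comap (algebraMap B A) = RingHom.ker (x : B →+* K) := by
  classical
  have hτ : Function.Injective (tau ι x) := tau_injective ι hinj x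
  letI algBA' : Algebra B (K ⊗[k] A) := (tau ι x).toRingHom.toAlgebra
  haveI : IsScalarTower k B (K ⊗[k] A) := ⟨fun r b z => by
    change (tau ι x) (r • b) * z = r • ((tau ι x) b * z)
    rw [map_smul, smul_mul_assoc]⟩
  haveI : Nontrivial A := (Bialgebra.algebraMap_injective (R := k) A).nontrivial
  haveI : Nontrivial (A ⊗[B] (K ⊗[k] A)) :=
    Algebra.TensorProduct.nontrivial_of_algebraMap_injective_of_flat_left (R := B) (A := A)
      (B := K ⊗[k] A) hτ
  obtain ⟨𝔪, h𝔪⟩ := Ideal.exists_maximal (A ⊗[B] (K ⊗[k] A))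
  letI : Field ((A ⊗[B] (K ⊗[k] A)) ⧸ 𝔪) := Ideal.Quotient.field 𝔪
  let g : A →ₐ[k] (A ⊗[B] (K ⊗[k] A)) ⧸ 𝔪 :=
    (Ideal.Quotient.mkₐ k 𝔪).comp
      (Algebra.TensorProduct.includeLeft : A →ₐ[k] A ⊗[B] (K ⊗[k] A))
  let G' : K ⊗[k] A →ₐ[k] (A ⊗[B] (K ⊗[k] A)) ⧸ 𝔪 :=
    (Ideal.Quotient.mkₐ k 𝔪).comp
      ((Algebra.TensorProduct.includeRight :
        K ⊗[k] A →ₐ[B] A ⊗[B] (K ⊗[k] A)).restrictScalars k)
  let g'' : A →ₐ[k] (A ⊗[B] (K ⊗[k] A)) ⧸ 𝔪 :=
    G'.comp (Algebra.TensorProduct.includeRight : A →ₐ[k] K ⊗[k] A)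
  let gK : K →ₐ[k] (A ⊗[B] (K ⊗[k] A)) ⧸ 𝔪 :=
    G'.comp (Algebra.TensorProduct.includeLeft : K →ₐ[k] K ⊗[k] A)
  -- the relation
  have hrel : ∀ b : B, g (ι b) = G' (tau ι x b) := by
    intro b
    change Ideal.Quotient.mk 𝔪 ((ι b) ⊗ₜ[B] (1 : K ⊗[k] A)) =
      Ideal.Quotient.mk 𝔪 ((1 : A) ⊗ₜ[B] (tau ι x b))
    congr 1
    rw [← hι b, Algebra.algebraMap_eq_smul_one, TensorProduct.smul_tmul,
      Algebra.smul_def, mul_one]
    rfl
  have hG' : ∀ (c : K) (a : A), G' (c ⊗ₜ[k] a) = gK c * g'' a := by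
    intro c a
    change G' (c ⊗ₜ[k] a) = G' (c ⊗ₜ[k] 1) * G' (1 ⊗ₜ[k] a)
    rw [← map_mul, Algebra.TensorProduct.tmul_mul_tmul, mul_one, one_mul]
  have hconv : g.comp (ι : B →ₐ[k] A) =
      ofConv (toConv (gK.comp x) * toConv (g''.comp (ι : B →ₐ[k] A))) := by
    apply AlgHom.ext
    intro b
    rw [AlgHom.comp_apply]
    change g (ι b) = _
    rw [hrel, AlgHom.convMul_apply]
    change G' (Algebra.TensorProduct.map x (ι : B →ₐ[k] A) (Coalgebra.comul (R := k) b)) = _
    simp only [ofConv_toConv]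
    induction (Coalgebra.comul (R := k) b : B ⊗[k] B) using TensorProduct.induction_on with
    | zero => simp only [map_zero]
    | add s t hs ht => simp only [map_add, hs, ht]
    | tmul b₁ b₂ =>
      rw [Algebra.TensorProduct.map_tmul, hG', Algebra.TensorProduct.lift_tmul]
      rfl
  let y : A →ₐ[k] (A ⊗[B] (K ⊗[k] A)) ⧸ 𝔪 :=
    ofConv (toConv g * toConv (g''.comp (HopfAlgebra.antipodeAlgHom k A)))
  have hy : y.comp (ι : B →ₐ[k] A) = gK.comp x := conv_key ι g g'' (gK.comp x) hconv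
  refine ⟨RingHom.ker y.toRingHom, RingHom.ker_isPrime _, ?_⟩
  ext b
  rw [Ideal.mem_comap, RingHom.mem_ker, hι]
  have h1 : y (ι b) = gK (x b) := AlgHom.congr_fun hy b
  change y (ι b) = 0 ↔ _
  rw [h1, map_eq_zero_iff gK gK.toRingHom.injective]
  rfl

theorem exists_prime_over (ι : B →ₐc[k] A) (hι : ∀ b, algebraMap B A b = ι b)
    (hinj : Function.Injective ι) [Module.Flat B A] (P : Ideal B) [hP : P.IsMaximal] :
    ∃ Q : Ideal A, Q.IsPrime ∧ Q.comap (algebraMap B A) = P := by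
  letI : Field (B ⧸ P) := Ideal.Quotient.field P
  obtain ⟨Q, hQ, hQP⟩ := exists_prime_ker ι hι hinj (K := B ⧸ P) (Ideal.Quotient.mkₐ k P)
  refine ⟨Q, hQ, hQP.trans ?_⟩
  ext b
  rw [RingHom.mem_ker]
  exact Ideal.Quotient.eq_zero_iff_mem


/-- **Faithful flatness over a Hopf subalgebra** (abstract form). -/
theorem faithfullyFlat (ι : B →ₐc[k] A) (hι : ∀ b, algebraMap B A b = ι b)
    (hinj : Function.Injective ι) : Module.FaithfullyFlat B A := by
  haveI : Module.Flat B A := flat ι hι hinj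
  refine ⟨fun m hm => ?_⟩
  obtain ⟨Q, hQ, hQm⟩ := exists_prime_over ι hι hinj m
  rw [Ideal.smul_top_eq_map, ← hQm]
  exact (Submodule.restrictScalars_eq_top_iff _ _ _).ne.mpr
    fun top ↦ hQ.ne_top <| top_le_iff.mp <| top ▸ Ideal.map_comap_le

end Main

end Groth.Agent.H93.HopfFaithful
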