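import Mathlib

/-!
# The Hopf algebra structure on a Hopf subalgebra (helper93)

`A` a commutative Hopf algebra over a field `k`, `B` a subalgebra with `Δ(B) ⊆ B ⊗ B` and
`S(B) ⊆ B`.  We build `HopfAlgebra k ↥B` (as reducible definitions, not instances) and the
inclusion as a bialgebra map.
-/

set_option autoImplicit false

universe u v

open TensorProduct

namespace Groth.Agent.H93.HopfSub

variable {k : Type u} [Field k] {A : Type v} [CommRing A] [HopfAlgebra k A]

/-- universe-polymorphic form of `SGA3.IsHopfSubalgebra` -/
def IsHopfSub (B : Subalgebra k A) : Prop :=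
  (∀ b ∈ B, CoalgebraStruct.comul (R := k) (A := A) b ∈
      LinearMap.range (TensorProduct.map B.val.toLinearMap B.val.toLinearMap)) ∧
    ∀ b ∈ B, HopfAlgebraStruct.antipode (R := k) (A := A) b ∈ B

variable (B : Subalgebra k A)

/-- `B ⊗ B → A ⊗ A` -/
noncomputable def ii : ↥B ⊗[k] ↥B →ₐ[k] A ⊗[k] A := Algebra.TensorProduct.map B.val B.val

theorem ii_tmul (b b' : B) : ii B (b ⊗ₜ[k] b') = (b : A) ⊗ₜ[k] (b' : A) := rfl

theorem ii_injective : Function.Injective (ii B) := by
  have h : (ii B : ↥B ⊗[k] ↥B → A ⊗[k] A) =
      TensorProduct.map B.val.toLinearMap B.val.toLinearMap := rfl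
  rw [h]
  exact TensorProduct.map_injective_of_flat_flat _ _ Subtype.val_injective Subtype.val_injective

variable {B}

/-- the comultiplication of the Hopf subalgebra -/
noncomputable def comulB (h : IsHopfSub B) : ↥B →ₐ[k] ↥B ⊗[k] ↥B :=
  ((AlgEquiv.ofInjective (ii B) (ii_injective B)).symm : (ii B).range →ₐ[k] ↥B ⊗[k] ↥B).comp
    (((Bialgebra.comulAlgHom k A).comp B.val).codRestrict (ii B).range (fun b => by
      obtain ⟨t, ht⟩ := h.1 b b.2
      exact ⟨t, ht⟩))

theorem ii_comulB (h : IsHopfSub B) (b : B) :
    ii B (comulB h b) = CoalgebraStruct.comul (R := k) (b : A) := by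
  unfold comulB
  simp only [AlgHom.coe_comp, AlgHom.coe_coe, Function.comp_apply]
  set y := (((Bialgebra.comulAlgHom k A).comp B.val).codRestrict (ii B).range (fun b => by
      obtain ⟨t, ht⟩ := h.1 b b.2
      exact ⟨t, ht⟩)) b with hy
  have h1 : ((AlgEquiv.ofInjective (ii B) (ii_injective B))
      ((AlgEquiv.ofInjective (ii B) (ii_injective B)).symm y) : A ⊗[k] A) = (y : A ⊗[k] A) := by
    rw [AlgEquiv.apply_symm_apply]
  exact h1

/-- the counit -/
noncomputable def counitB : ↥B →ₐ[k] k := (Bialgebra.counitAlgHom k A).comp B.val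

/-- the antipode -/
noncomputable def antipodeB (h : IsHopfSub B) : ↥B →ₐ[k] ↥B :=
  ((HopfAlgebra.antipodeAlgHom k A).comp B.val).codRestrict B (fun b => h.2 b b.2)

theorem coe_antipodeB (h : IsHopfSub B) (b : B) :
    (antipodeB h b : A) = HopfAlgebraStruct.antipode (R := k) (b : A) := rfl

/-- `B ⊗ (B ⊗ B) → A ⊗ (A ⊗ A)` -/
noncomputable def j3 : ↥B ⊗[k] (↥B ⊗[k] ↥B) →ₗ[k] A ⊗[k] (A ⊗[k] A) :=
  TensorProduct.map B.val.toLinearMap (ii B).toLinearMap

theorem j3_injective : Function.Injective (j3 (B := B)) :=
  TensorProduct.map_injective_of_flat_flat _ _ Subtype.val_injective (ii_injective B)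

theorem j3_assoc (s : ↥B ⊗[k] ↥B) (b : B) :
    j3 (TensorProduct.assoc k ↥B ↥B ↥B (s ⊗ₜ[k] b)) =
      TensorProduct.assoc k A A A (ii B s ⊗ₜ[k] (b : A)) := by
  induction s using TensorProduct.induction_on with
  | zero => simp only [TensorProduct.zero_tmul, map_zero]
  | add s t hs ht => simp only [TensorProduct.add_tmul, map_add, hs, ht]
  | tmul b₁ b₂ => rfl

theorem j3_rTensor (h : IsHopfSub B) (t : ↥B ⊗[k] ↥B) :
    j3 (TensorProduct.assoc k ↥B ↥B ↥B ((comulB h).toLinearMap.rTensor ↥B t)) =
      TensorProduct.assoc k A A A
        ((CoalgebraStruct.comul (R := k) (A := A)).rTensor A (ii B t)) := by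
  induction t using TensorProduct.induction_on with
  | zero => simp only [map_zero]
  | add s t hs ht => simp only [map_add, hs, ht]
  | tmul b₁ b₂ =>
    rw [LinearMap.rTensor_tmul, AlgHom.toLinearMap_apply, j3_assoc, ii_comulB, ii_tmul,
      LinearMap.rTensor_tmul]

theorem j3_lTensor (h : IsHopfSub B) (t : ↥B ⊗[k] ↥B) :
    j3 ((comulB h).toLinearMap.lTensor ↥B t) =
      (CoalgebraStruct.comul (R := k) (A := A)).lTensor A (ii B t) := by
  induction t using TensorProduct.induction_on with
  | zero => simp only [map_zero]
  | add s t hs ht => simp only [map_add, hs, ht]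
  | tmul b₁ b₂ =>
    rw [LinearMap.lTensor_tmul, AlgHom.toLinearMap_apply, ii_tmul, LinearMap.lTensor_tmul,
      ← ii_comulB h b₂]
    rfl

/-- the coalgebra structure on a Hopf subalgebra -/
@[reducible] noncomputable def coalgebra (h : IsHopfSub B) : Coalgebra k ↥B where
  comul := (comulB h).toLinearMap
  counit := (counitB (B := B)).toLinearMap
  coassoc := by
    apply LinearMap.ext
    intro b
    apply j3_injective
    simp only [LinearMap.coe_comp, Function.comp_apply, LinearEquiv.coe_coe,
      AlgHom.toLinearMap_apply]
    rw [j3_rTensor, j3_lTensor, ii_comulB, Coalgebra.coassoc_apply]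
  rTensor_counit_comp_comul := by
    apply LinearMap.ext
    intro b
    have hinj : Function.Injective (B.val.toLinearMap.lTensor k) :=
      Module.Flat.lTensor_preserves_injective_linearMap _ Subtype.val_injective
    apply hinj
    have key : ∀ t : ↥B ⊗[k] ↥B, B.val.toLinearMap.lTensor k
        ((counitB (B := B)).toLinearMap.rTensor ↥B t) =
        (CoalgebraStruct.counit (R := k) (A := A)).rTensor A (ii B t) := by
      intro t
      induction t using TensorProduct.induction_on with
      | zero => simp only [map_zero]
      | add s t hs ht => simp only [map_add, hs, ht]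
      | tmul b₁ b₂ => rfl
    simp only [LinearMap.coe_comp, Function.comp_apply, AlgHom.toLinearMap_apply]
    rw [key, ii_comulB, Coalgebra.rTensor_counit_comul]
    rfl
  lTensor_counit_comp_comul := by
    apply LinearMap.ext
    intro b
    have hinj : Function.Injective (B.val.toLinearMap.rTensor k) :=
      Module.Flat.rTensor_preserves_injective_linearMap _ Subtype.val_injective
    apply hinj
    have key : ∀ t : ↥B ⊗[k] ↥B, B.val.toLinearMap.rTensor k
        ((counitB (B := B)).toLinearMap.lTensor ↥B t) =
        (CoalgebraStruct.counit (R := k) (A := A)).lTensor A (ii B t) := by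
      intro t
      induction t using TensorProduct.induction_on with
      | zero => simp only [map_zero]
      | add s t hs ht => simp only [map_add, hs, ht]
      | tmul b₁ b₂ => rfl
    simp only [LinearMap.coe_comp, Function.comp_apply, AlgHom.toLinearMap_apply]
    rw [key, ii_comulB, Coalgebra.lTensor_counit_comul]
    rfl

/-- the bialgebra structure on a Hopf subalgebra -/
@[reducible] noncomputable def bialgebra (h : IsHopfSub B) : Bialgebra k ↥B :=
  letI := coalgebra h
  Bialgebra.mk' k ↥B (map_one (counitB (B := B))) (fun {a b} => map_mul (counitB (B := B)) a b)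
    (map_one (comulB h)) (fun {a b} => map_mul (comulB h) a b)

/-- the Hopf algebra structure on a Hopf subalgebra -/
@[reducible] noncomputable def hopfAlgebra (h : IsHopfSub B) : HopfAlgebra k ↥B :=
  letI := bialgebra h
  { antipode := (antipodeB h).toLinearMap
    mul_antipode_rTensor_comul := by
      apply LinearMap.ext
      intro b
      apply Subtype.val_injective
      have key : ∀ t : ↥B ⊗[k] ↥B,
          ((LinearMap.mul' k ↥B ((antipodeB h).toLinearMap.rTensor ↥B t) : B) : A) =
          LinearMap.mul' k A ((HopfAlgebraStruct.antipode (R := k) (A := A)).rTensor A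
            (ii B t)) := by
        intro t
        induction t using TensorProduct.induction_on with
        | zero => simp only [map_zero, ZeroMemClass.coe_zero]
        | add s t hs ht => simp only [map_add, AddMemClass.coe_add, hs, ht]
        | tmul b₁ b₂ => rfl
      change ((LinearMap.mul' k ↥B ((antipodeB h).toLinearMap.rTensor ↥B (comulB h b)) : B) : A) =
        _
      rw [key, ii_comulB, HopfAlgebra.mul_antipode_rTensor_comul_apply]
      rfl
    mul_antipode_lTensor_comul := by
      apply LinearMap.ext
      intro b
      apply Subtype.val_injective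
      have key : ∀ t : ↥B ⊗[k] ↥B,
          ((LinearMap.mul' k ↥B ((antipodeB h).toLinearMap.lTensor ↥B t) : B) : A) =
          LinearMap.mul' k A ((HopfAlgebraStruct.antipode (R := k) (A := A)).lTensor A
            (ii B t)) := by
        intro t
        induction t using TensorProduct.induction_on with
        | zero => simp only [map_zero, ZeroMemClass.coe_zero]
        | add s t hs ht => simp only [map_add, AddMemClass.coe_add, hs, ht]
        | tmul b₁ b₂ => rfl
      change ((LinearMap.mul' k ↥B ((antipodeB h).toLinearMap.lTensor ↥B (comulB h b)) : B) : A) =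
        _
      rw [key, ii_comulB, HopfAlgebra.mul_antipode_lTensor_comul_apply]
      rfl }

/-- the inclusion of a Hopf subalgebra as a bialgebra map -/
noncomputable def incl (h : IsHopfSub B) :
    letI := hopfAlgebra h
    ↥B →ₐc[k] A :=
  letI := hopfAlgebra h
  BialgHom.ofAlgHom B.val rfl (by
    apply AlgHom.ext
    intro b
    exact ii_comulB h b)

theorem incl_apply (h : IsHopfSub B) (b : B) :
    letI := hopfAlgebra h
    incl h b = (b : A) := rfl

end Groth.Agent.H93.HopfSub
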