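import Mathlib
import Groth.Agent.H93.HopfFaithful
import Groth.Agent.H93.HopfSub

/-!
# Faithful flatness over a Hopf subalgebra, subalgebra form (helper93)
-/

set_option autoImplicit false

universe u v w

open TensorProduct

namespace Groth.Agent.H93.HopfFaithful

/-- A commutative Hopf algebra over a field is faithfully flat over every Hopf subalgebra. -/
theorem faithfullyFlat_sub {k : Type u} [Field k] {A : Type v} [CommRing A] [HopfAlgebra k A]
    (B : Subalgebra k A) (h : Groth.Agent.H93.HopfSub.IsHopfSub B) :
    Module.FaithfullyFlat ↥B A := by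
  letI := Groth.Agent.H93.HopfSub.hopfAlgebra h
  exact faithfullyFlat (Groth.Agent.H93.HopfSub.incl h) (fun b => rfl) Subtype.val_injective

/-- The range of a bialgebra map between commutative Hopf algebras is a Hopf subalgebra. -/
theorem isHopfSub_range {k : Type u} [Field k] {A : Type v} [CommRing A] [HopfAlgebra k A]
    {B : Type w} [CommRing B] [HopfAlgebra k B] (f : A →ₐc[k] B) :
    Groth.Agent.H93.HopfSub.IsHopfSub (f : A →ₐ[k] B).range := by
  constructor
  · rintro _ ⟨a, rfl⟩
    have h1 : CoalgebraStruct.comul (R := k) ((f : A →ₐ[k] B) a) =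
        TensorProduct.map (f : A →ₗ[k] B) (f : A →ₗ[k] B) (CoalgebraStruct.comul (R := k) a) :=
      (CoalgHomClass.map_comp_comul_apply f a).symm
    change CoalgebraStruct.comul (R := k) ((f : A →ₐ[k] B) a) ∈ _
    rw [h1]
    have key : ∀ t : A ⊗[k] A, TensorProduct.map (f : A →ₗ[k] B) (f : A →ₗ[k] B) t ∈
        LinearMap.range (TensorProduct.map (f : A →ₐ[k] B).range.val.toLinearMap
          (f : A →ₐ[k] B).range.val.toLinearMap) := by
      intro t
      induction t using TensorProduct.induction_on with
      | zero => rw [map_zero]; exact Submodule.zero_mem _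
      | add s t hs ht => rw [map_add]; exact Submodule.add_mem _ hs ht
      | tmul a₁ a₂ =>
        exact ⟨(⟨f a₁, ⟨a₁, rfl⟩⟩ : (f : A →ₐ[k] B).range) ⊗ₜ[k]
          (⟨f a₂, ⟨a₂, rfl⟩⟩ : (f : A →ₐ[k] B).range), rfl⟩
    exact key _
  · rintro _ ⟨a, rfl⟩
    -- antipodes commute with bialgebra maps
    have hS : (HopfAlgebra.antipodeAlgHom k B).comp (f : A →ₐ[k] B) =
        (f : A →ₐ[k] B).comp (HopfAlgebra.antipodeAlgHom k A) := by
      -- both are convolution inverses of `f`
      have h1 : WithConv.toConv ((f : A →ₐ[k] B).comp (HopfAlgebra.antipodeAlgHom k A)) *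
          WithConv.toConv (f : A →ₐ[k] B) = 1 := by
        have h := AlgHom.comp_convMul_distrib (f : A →ₐ[k] B)
          (WithConv.toConv (HopfAlgebra.antipodeAlgHom k A)) (WithConv.toConv (AlgHom.id k A))
        rw [AlgHom.antipode_id_cancel, comp_one] at h
        simp only [WithConv.ofConv_toConv, AlgHom.comp_id] at h
        exact (WithConv.ofConv_injective h).symm
      have h2 : WithConv.toConv (f : A →ₐ[k] B) *
          WithConv.toConv ((HopfAlgebra.antipodeAlgHom k B).comp (f : A →ₐ[k] B)) = 1 := by
        have h := AlgHom.convMul_comp_bialgHom_distrib (WithConv.toConv (AlgHom.id k B))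
          (WithConv.toConv (HopfAlgebra.antipodeAlgHom k B)) f
        simp only [WithConv.ofConv_toConv, AlgHom.id_comp] at h
        rw [Groth.Agent.H93.id_antipode_cancel', one_comp_bialgHom] at h
        exact (WithConv.ofConv_injective h).symm
      exact WithConv.toConv_injective (left_inv_eq_right_inv h1 h2).symm
    exact ⟨HopfAlgebra.antipodeAlgHom k A a, (AlgHom.congr_fun hS a).symm⟩

end Groth.Agent.H93.HopfFaithful
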