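import Groth.Agent.H93.Comod
import Mathlib.RingTheory.Coalgebra.Convolution
import Mathlib.LinearAlgebra.TensorProduct.Basis
import Mathlib.LinearAlgebra.Basis.VectorSpace
import Mathlib.RingTheory.SimpleModule.Basic

set_option autoImplicit false
universe u v w w'
open TensorProduct WithConv

namespace Groth.Agent.H93

section Slice

variable {k : Type u} [CommRing k] {A : Type v} [AddCommGroup A] [Module k A]

/-- slice a tensor by a functional: `U ⊗ A → U`, `u ⊗ a ↦ ψ a • u`. -/
noncomputable def slice (U : Type*) [AddCommGroup U] [Module k U] (ψ : A →ₗ[k] k) :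
    U ⊗[k] A →ₗ[k] U :=
  (TensorProduct.rid k U).toLinearMap ∘ₗ ψ.lTensor U

@[simp] theorem slice_tmul (U : Type*) [AddCommGroup U] [Module k U] (ψ : A →ₗ[k] k) (u : U)
    (a : A) : slice U ψ (u ⊗ₜ[k] a) = ψ a • u := by
  simp [slice]

theorem slice_rTensor {U U' : Type*} [AddCommGroup U] [Module k U] [AddCommGroup U'] [Module k U']
    (ψ : A →ₗ[k] k) (f : U →ₗ[k] U') :
    slice U' ψ ∘ₗ f.rTensor A = f ∘ₗ slice U ψ := by
  ext u a
  simp

theorem slice_rTensor_apply {U U' : Type*} [AddCommGroup U] [Module k U] [AddCommGroup U']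
    [Module k U'] (ψ : A →ₗ[k] k) (f : U →ₗ[k] U') (x : U ⊗[k] A) :
    slice U' ψ (f.rTensor A x) = f (slice U ψ x) :=
  LinearMap.congr_fun (slice_rTensor ψ f) x

end Slice

section Ring

variable {k : Type u} [CommRing k] {A : Type v} [AddCommGroup A] [Module k A] [Coalgebra k A]
variable {V : Type w} [AddCommGroup V] [Module k V] [HopfRep.Comod k A V]
variable {W : Type w'} [AddCommGroup W] [Module k W] [HopfRep.Comod k A W]

variable (V) in
/-- the operator `T_ψ = (id ⊗ ψ) ∘ ρ` on a comodule. -/
noncomputable def dualAct (ψ : A →ₗ[k] k) : V →ₗ[k] V :=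
  slice V ψ ∘ₗ HopfRep.Comod.coact (k := k) (A := A)

theorem dualAct_apply (ψ : A →ₗ[k] k) (v : V) :
    dualAct V ψ v = slice V ψ (HopfRep.Comod.coact (k := k) (A := A) v) := rfl

theorem dualAct_counit : dualAct V (Coalgebra.counit (R := k) (A := A)) = LinearMap.id := by
  have h := HopfRep.Comod.counit_comp (k := k) (A := A) (V := V)
  ext v
  have h' := LinearMap.congr_fun h v
  simp only [LinearMap.comp_apply, LinearMap.flip_apply, TensorProduct.mk_apply] at h'
  simp only [dualAct, slice, LinearMap.comp_apply, h', LinearEquiv.coe_coe, LinearMap.id_apply]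
  simp

theorem dualAct_mul (φ ψ : WithConv (A →ₗ[k] k)) :
    dualAct V (φ * ψ).ofConv = dualAct V φ.ofConv ∘ₗ dualAct V ψ.ofConv := by
  have hco := HopfRep.Comod.coassoc (k := k) (A := A) (V := V)
  -- key identity on `V ⊗ A`
  have key : slice V (φ * ψ).ofConv =
      slice V φ.ofConv ∘ₗ slice (V ⊗[k] A) ψ.ofConv ∘ₗ
        (TensorProduct.assoc k V A A).symm.toLinearMap ∘ₗ
        (Coalgebra.comul (R := k) (A := A)).lTensor V := by
    ext v a
    simp only [LinearMap.comp_apply, TensorProduct.AlgebraTensorModule.curry_apply,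
      TensorProduct.curry_apply, LinearMap.coe_restrictScalars, LinearMap.lTensor_tmul,
      slice_tmul, LinearMap.convMul_apply, LinearEquiv.coe_coe]
    induction (Coalgebra.comul (R := k) a : A ⊗[k] A) using TensorProduct.induction_on with
    | zero => simp
    | tmul x y =>
      simp only [TensorProduct.map_tmul, LinearMap.mul'_apply, TensorProduct.assoc_symm_tmul,
        slice_tmul, map_smul]
      rw [mul_comm, mul_smul]
    | add x y hx hy =>
      simp only [TensorProduct.tmul_add, map_add, hx, hy, add_smul]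
  ext v
  have h1 := LinearMap.congr_fun hco v
  simp only [LinearMap.comp_apply, LinearEquiv.coe_coe] at h1
  rw [dualAct_apply, key]
  simp only [LinearMap.comp_apply, LinearEquiv.coe_coe, dualAct_apply]
  rw [← h1, LinearEquiv.symm_apply_apply, slice_rTensor_apply]

theorem dualAct_one : dualAct V (1 : WithConv (A →ₗ[k] k)).ofConv = LinearMap.id := by
  have : (1 : WithConv (A →ₗ[k] k)).ofConv = Coalgebra.counit (R := k) (A := A) := by
    ext a
    simp [LinearMap.convOne_def]
  rw [this, dualAct_counit]

theorem dualAct_add (φ ψ : A →ₗ[k] k) : dualAct V (φ + ψ) = dualAct V φ + dualAct V ψ := by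
  ext v
  simp only [dualAct_apply, LinearMap.add_apply]
  induction (HopfRep.Comod.coact (k := k) (A := A) v) using TensorProduct.induction_on with
  | zero => simp
  | tmul x y => simp [add_smul]
  | add x y hx hy => simp only [map_add, hx, hy]; abel

theorem dualAct_smul (c : k) (ψ : A →ₗ[k] k) : dualAct V (c • ψ) = c • dualAct V ψ := by
  ext v
  simp only [dualAct_apply, LinearMap.smul_apply]
  induction (HopfRep.Comod.coact (k := k) (A := A) v) using TensorProduct.induction_on with
  | zero => simp
  | tmul x y => simp [mul_smul]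
  | add x y hx hy => simp only [map_add, hx, hy, smul_add]

theorem dualAct_zero : dualAct V (0 : A →ₗ[k] k) = 0 := by
  ext v
  simp only [dualAct_apply, LinearMap.zero_apply]
  induction (HopfRep.Comod.coact (k := k) (A := A) v) using TensorProduct.induction_on with
  | zero => simp
  | tmul x y => simp
  | add x y hx hy => simp only [map_add, hx, hy, add_zero]

variable (k A V) in
/-- the module structure of a comodule over the dual (convolution) algebra. -/
@[reducible] noncomputable def dualModule : Module (WithConv (A →ₗ[k] k)) V where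
  smul ψ v := dualAct V ψ.ofConv v
  one_smul v := by
    change dualAct V (1 : WithConv (A →ₗ[k] k)).ofConv v = v
    rw [dualAct_one]; rfl
  mul_smul φ ψ v := by
    change dualAct V (φ * ψ).ofConv v = dualAct V φ.ofConv (dualAct V ψ.ofConv v)
    rw [dualAct_mul]; rfl
  smul_zero ψ := map_zero _
  smul_add ψ v w := map_add _ _ _
  add_smul φ ψ v := by
    change dualAct V (φ + ψ).ofConv v = dualAct V φ.ofConv v + dualAct V ψ.ofConv v
    rw [WithConv.ofConv_add, dualAct_add]; rfl
  zero_smul v := by
    change dualAct V (0 : WithConv (A →ₗ[k] k)).ofConv v = 0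
    rw [WithConv.ofConv_zero, dualAct_zero]; rfl

theorem dualModule_smul_def (ψ : WithConv (A →ₗ[k] k)) (v : V) :
    (dualModule k A V).smul ψ v = dualAct V ψ.ofConv v := rfl

theorem dualAct_comodHom {f : V →ₗ[k] W} (hf : Hoch.IsComodHom A f) (ψ : A →ₗ[k] k) (v : V) :
    f (dualAct V ψ v) = dualAct W ψ (f v) := by
  rw [dualAct_apply, dualAct_apply, comodHom_apply hf, slice_rTensor_apply]

theorem dualAct_mem_of_isSubcomod {U : Submodule k V} (hU : HopfRep.IsSubcomod (k := k) (A := A) U)
    (ψ : A →ₗ[k] k) {v : V} (hv : v ∈ U) : dualAct V ψ v ∈ U := by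
  obtain ⟨y, hy⟩ := hU v hv
  rw [dualAct_apply, ← hy, slice_rTensor_apply]
  exact Submodule.coe_mem _

end Ring

section Field

variable {k : Type u} [Field k] {A : Type v} [AddCommGroup A] [Module k A] [Coalgebra k A]
variable {V : Type w} [AddCommGroup V] [Module k V] [HopfRep.Comod k A V]
variable {W : Type w'} [AddCommGroup W] [Module k W] [HopfRep.Comod k A W]

omit [Coalgebra k A] in
theorem eq_zero_of_slice_eq_zero {U : Type*} [AddCommGroup U] [Module k U] (y : U ⊗[k] A)
    (h : ∀ ψ : A →ₗ[k] k, slice U ψ y = 0) : y = 0 := by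
  classical
  let b := Module.Basis.ofVectorSpace k A
  apply (TensorProduct.equivFinsuppOfBasisRight (M := U) b).injective
  rw [map_zero]
  ext i
  rw [TensorProduct.equivFinsuppOfBasisRight_apply]
  exact h (b.coord i)

omit [Coalgebra k A] in
theorem mem_range_rTensor_subtype_iff (U : Submodule k V) (x : V ⊗[k] A) :
    x ∈ LinearMap.range (U.subtype.rTensor A) ↔ ∀ ψ : A →ₗ[k] k, slice V ψ x ∈ U := by
  constructor
  · rintro ⟨y, rfl⟩ ψ
    rw [slice_rTensor_apply]
    exact Submodule.coe_mem _
  · intro h
    have hex : Function.Exact (U.subtype.rTensor A) (U.mkQ.rTensor A) :=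
      rTensor_exact A (LinearMap.exact_subtype_mkQ U) (Submodule.mkQ_surjective U)
    rw [← LinearMap.exact_iff.mp hex, LinearMap.mem_ker]
    apply eq_zero_of_slice_eq_zero
    intro ψ
    rw [slice_rTensor_apply, Submodule.mkQ_apply, Submodule.Quotient.mk_eq_zero]
    exact h ψ

theorem isSubcomod_iff (U : Submodule k V) :
    HopfRep.IsSubcomod (k := k) (A := A) U ↔
      ∀ (ψ : A →ₗ[k] k) (v : V), v ∈ U → dualAct V ψ v ∈ U := by
  constructor
  · intro hU ψ v hv
    exact dualAct_mem_of_isSubcomod hU ψ hv
  · intro h v hv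
    rw [mem_range_rTensor_subtype_iff]
    intro ψ
    exact h ψ v hv

theorem isComodHom_iff (f : V →ₗ[k] W) :
    Hoch.IsComodHom A f ↔ ∀ (ψ : A →ₗ[k] k) (v : V), f (dualAct V ψ v) = dualAct W ψ (f v) := by
  constructor
  · intro hf ψ v
    exact dualAct_comodHom hf ψ v
  · intro h
    ext v
    rw [← sub_eq_zero]
    apply eq_zero_of_slice_eq_zero
    intro ψ
    have := h ψ v
    rw [dualAct_apply, dualAct_apply] at this
    rw [map_sub, LinearMap.comp_apply, LinearMap.comp_apply, slice_rTensor_apply, sub_eq_zero]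
    exact this.symm

end Field

end Groth.Agent.H93

namespace Groth.Agent.H93

section Dict

variable {k : Type u} [Field k] {A : Type v} [AddCommGroup A] [Module k A] [Coalgebra k A]
variable {V : Type w} [AddCommGroup V] [Module k V] [HopfRep.Comod k A V]
variable {W : Type w'} [AddCommGroup W] [Module k W] [HopfRep.Comod k A W]

attribute [local instance] dualModule

theorem dual_smul_def (ψ : WithConv (A →ₗ[k] k)) (v : V) : ψ • v = dualAct V ψ.ofConv v := rfl

instance dualModule_isScalarTower : IsScalarTower k (WithConv (A →ₗ[k] k)) V :=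
  ⟨fun c ψ v => by
    rw [dual_smul_def, dual_smul_def, WithConv.ofConv_smul, dualAct_smul]; rfl⟩

/-- a subcomodule as a submodule over the dual algebra. -/
def toDualSub (U : Submodule k V) (hU : HopfRep.IsSubcomod (k := k) (A := A) U) :
    Submodule (WithConv (A →ₗ[k] k)) V :=
  { carrier := U
    add_mem' := U.add_mem
    zero_mem' := U.zero_mem
    smul_mem' := fun ψ _ hv => dualAct_mem_of_isSubcomod hU ψ.ofConv hv }

@[simp] theorem mem_toDualSub {U : Submodule k V} {hU : HopfRep.IsSubcomod (k := k) (A := A) U}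
    {v : V} : v ∈ toDualSub U hU ↔ v ∈ U := Iff.rfl

@[simp] theorem toDualSub_restrictScalars (U : Submodule k V)
    (hU : HopfRep.IsSubcomod (k := k) (A := A) U) : (toDualSub U hU).restrictScalars k = U := by
  ext v; rfl

theorem isSubcomod_restrictScalars (N : Submodule (WithConv (A →ₗ[k] k)) V) :
    HopfRep.IsSubcomod (k := k) (A := A) (N.restrictScalars k) := by
  rw [isSubcomod_iff]
  intro ψ v hv
  exact N.smul_mem (toConv ψ) hv

theorem toDualSub_of_restrictScalars (N : Submodule (WithConv (A →ₗ[k] k)) V) :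
    toDualSub (N.restrictScalars k) (isSubcomod_restrictScalars N) = N := by
  ext v; rfl

theorem isSimpleModule_dual_iff :
    IsSimpleModule (WithConv (A →ₗ[k] k)) V ↔ HopfRep.IsSimpleComod k A V := by
  constructor
  · intro h
    refine ⟨IsSimpleModule.nontrivial (WithConv (A →ₗ[k] k)) V, fun U hU => ?_⟩
    rcases eq_bot_or_eq_top (toDualSub U hU) with h' | h'
    · left
      rw [← toDualSub_restrictScalars U hU, h']; rfl
    · right
      rw [← toDualSub_restrictScalars U hU, h']; rfl
  · rintro ⟨hn, h⟩
    rw [_root_.isSimpleModule_iff]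
    have := hn
    have hnt : Nontrivial (Submodule (WithConv (A →ₗ[k] k)) V) := inferInstance
    refine { toNontrivial := hnt, eq_bot_or_eq_top := fun N => ?_ }
    rcases h _ (isSubcomod_restrictScalars N) with h' | h'
    · left
      rw [← toDualSub_of_restrictScalars N]
      ext v
      rw [mem_toDualSub, h']; rfl
    · right
      rw [← toDualSub_of_restrictScalars N]
      ext v
      rw [mem_toDualSub, h']; simp

theorem isSemisimpleModule_dual_iff :
    IsSemisimpleModule (WithConv (A →ₗ[k] k)) V ↔ HopfRep.IsSemisimpleComod k A V := by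
  constructor
  · intro h U hU
    obtain ⟨N', hN'⟩ := exists_isCompl (toDualSub U hU)
    refine ⟨N'.restrictScalars k, isSubcomod_restrictScalars N', ?_⟩
    constructor
    · rw [disjoint_iff]
      have := hN'.inf_eq_bot
      ext v
      have hv : v ∈ toDualSub U hU ⊓ N' ↔ v ∈ (⊥ : Submodule (WithConv (A →ₗ[k] k)) V) := by
        rw [this]
      simpa using hv
    · rw [codisjoint_iff]
      have := hN'.sup_eq_top
      ext v
      have hv : v ∈ toDualSub U hU ⊔ N' ↔ v ∈ (⊤ : Submodule (WithConv (A →ₗ[k] k)) V) := by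
        rw [this]
      simp only [Submodule.mem_sup, mem_toDualSub, Submodule.mem_top, iff_true] at hv ⊢
      exact hv
  · intro h
    rw [_root_.isSemisimpleModule_iff]
    refine ⟨fun N => ?_⟩
    obtain ⟨U', hU', hc⟩ := h _ (isSubcomod_restrictScalars N)
    refine ⟨toDualSub U' hU', ?_⟩
    constructor
    · rw [disjoint_iff]
      ext v
      have := hc.inf_eq_bot
      have hv : v ∈ N.restrictScalars k ⊓ U' ↔ v ∈ (⊥ : Submodule k V) := by rw [this]
      simpa using hv
    · rw [codisjoint_iff]
      ext v
      have := hc.sup_eq_top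
      have hv : v ∈ N.restrictScalars k ⊔ U' ↔ v ∈ (⊤ : Submodule k V) := by rw [this]
      simp only [Submodule.mem_sup, Submodule.restrictScalars_mem, Submodule.mem_top,
        iff_true, mem_toDualSub] at hv ⊢
      exact hv

theorem isSubcomod_iSup {ι : Sort*} (U : ι → Submodule k V)
    (h : ∀ i, HopfRep.IsSubcomod (k := k) (A := A) (U i)) :
    HopfRep.IsSubcomod (k := k) (A := A) (⨆ i, U i) := by
  have : (⨆ i, U i) = (⨆ i, toDualSub (U i) (h i)).restrictScalars k := by
    rw [Submodule.restrictScalars_iSup]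
    simp only [toDualSub_restrictScalars]
  rw [this]
  exact isSubcomod_restrictScalars _

theorem isSubcomod_inf (U U' : Submodule k V)
    (h : HopfRep.IsSubcomod (k := k) (A := A) U) (h' : HopfRep.IsSubcomod (k := k) (A := A) U') :
    HopfRep.IsSubcomod (k := k) (A := A) (U ⊓ U') := by
  rw [isSubcomod_iff] at h h' ⊢
  intro ψ v hv
  exact ⟨h ψ v hv.1, h' ψ v hv.2⟩

/-- a comodule map as a linear map over the dual algebra. -/
def toDualHom (f : V →ₗ[k] W) (hf : Hoch.IsComodHom A f) : V →ₗ[WithConv (A →ₗ[k] k)] W :=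
  { toFun := f
    map_add' := f.map_add
    map_smul' := fun ψ v => dualAct_comodHom hf ψ.ofConv v }

@[simp] theorem toDualHom_apply (f : V →ₗ[k] W) (hf : Hoch.IsComodHom A f) (v : V) :
    toDualHom f hf v = f v := rfl

theorem isComodHom_restrictScalars (f : V →ₗ[WithConv (A →ₗ[k] k)] W) :
    Hoch.IsComodHom A (f.restrictScalars k) := by
  rw [isComodHom_iff]
  intro ψ v
  exact f.map_smul (toConv ψ) v

end Dict

end Groth.Agent.H93
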