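import Groth.Prelude.Def_ComodTens
import Groth.Prelude.Def_ComodDual
import Groth.Agent.H93.DualMod

/-!
# Matrix coefficients of comodules and generation by tensor powers (helper93)

Explicit-structure comodule homomorphisms `IsHom c d f`, the coefficient maps
`coeffMap c φ : V → A`, `v ↦ (φ ⊗ id)(ρ v)`, the coefficient space `cf c`, its multiplicativity
with respect to tensor products and the resulting statement: if the coefficient space of `U`
generates `A` as an algebra then every finite-dimensional comodule is a subquotient of a finite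
direct sum of tensor powers of `U`.
-/

set_option autoImplicit false

universe u v w w' w''

open TensorProduct

namespace Groth.Agent.H93.TensGen

section Hom

variable {k : Type u} [CommRing k] {A : Type v} [AddCommGroup A] [Module k A] [Coalgebra k A]
variable {V : Type w} [AddCommGroup V] [Module k V]
variable {W : Type w'} [AddCommGroup W] [Module k W]
variable {X : Type w''} [AddCommGroup X] [Module k X]

/-- `f` intertwines the coactions of the explicitly given structures `c` and `d`. -/
def IsHom (c : HopfRep.Comod k A V) (d : HopfRep.Comod k A W) (f : V →ₗ[k] W) : Prop :=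
  d.coact ∘ₗ f = f.rTensor A ∘ₗ c.coact

theorem IsHom.apply {c : HopfRep.Comod k A V} {d : HopfRep.Comod k A W} {f : V →ₗ[k] W}
    (h : IsHom c d f) (v : V) : d.coact (f v) = f.rTensor A (c.coact v) :=
  LinearMap.congr_fun h v

theorem IsHom.comp {c : HopfRep.Comod k A V} {d : HopfRep.Comod k A W} {e : HopfRep.Comod k A X}
    {f : V →ₗ[k] W} {g : W →ₗ[k] X} (hg : IsHom d e g) (hf : IsHom c d f) : IsHom c e (g ∘ₗ f) := by
  unfold IsHom at *
  rw [← LinearMap.comp_assoc, hg, LinearMap.comp_assoc, hf, ← LinearMap.comp_assoc,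
    LinearMap.rTensor_comp]

theorem isHom_zero (c : HopfRep.Comod k A V) (d : HopfRep.Comod k A W) :
    IsHom c d (0 : V →ₗ[k] W) := by
  unfold IsHom
  rw [LinearMap.comp_zero, LinearMap.rTensor_zero, LinearMap.zero_comp]

theorem IsHom.add {c : HopfRep.Comod k A V} {d : HopfRep.Comod k A W} {f g : V →ₗ[k] W}
    (hf : IsHom c d f) (hg : IsHom c d g) : IsHom c d (f + g) := by
  unfold IsHom at *
  rw [LinearMap.comp_add, hf, hg, LinearMap.rTensor_add, LinearMap.add_comp]

theorem isHom_sum {ι : Type*} (s : Finset ι) {c : HopfRep.Comod k A V} {d : HopfRep.Comod k A W}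
    (f : ι → (V →ₗ[k] W)) (hf : ∀ i ∈ s, IsHom c d (f i)) : IsHom c d (∑ i ∈ s, f i) := by
  classical
  induction s using Finset.induction_on with
  | empty => simpa using isHom_zero c d
  | insert a s ha ih =>
    rw [Finset.sum_insert ha]
    exact (hf a (Finset.mem_insert_self a s)).add
      (ih fun i hi => hf i (Finset.mem_insert_of_mem hi))

theorem isHom_id (c : HopfRep.Comod k A V) : IsHom c c LinearMap.id := by
  unfold IsHom
  rw [LinearMap.comp_id, LinearMap.rTensor_id, LinearMap.id_comp]

/-- the transport isomorphism is a homomorphism -/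
theorem isHom_ofEquiv (e : V ≃ₗ[k] W) (c : HopfRep.Comod k A V) :
    IsHom c (ComodTens.Comod.ofEquiv e c) (e : V →ₗ[k] W) := by
  apply LinearMap.ext
  intro v
  exact ComodTens.ofEquiv_coact_apply e c v

end Hom

section Pi

variable {k : Type u} [CommRing k] {A : Type v} [AddCommGroup A] [Module k A] [Coalgebra k A]
variable {ι : Type w'} [Fintype ι] [DecidableEq ι] {X : ι → Type w} [∀ i, AddCommGroup (X i)]
  [∀ i, Module k (X i)]
variable {W : Type w''} [AddCommGroup W] [Module k W]

theorem isHom_single (c : ∀ i, HopfRep.Comod k A (X i)) (i : ι) :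
    IsHom (c i) (ComodTens.Comod.pi c) (LinearMap.single k X i) := by
  apply LinearMap.ext
  intro x
  exact ComodTens.pi_coact_single c i x

/-- a linear map out of a finite direct sum is a homomorphism as soon as its components are -/
theorem isHom_of_single (c : ∀ i, HopfRep.Comod k A (X i)) (d : HopfRep.Comod k A W)
    (P : (∀ i, X i) →ₗ[k] W) (h : ∀ i, IsHom (c i) d (P ∘ₗ LinearMap.single k X i)) :
    IsHom (ComodTens.Comod.pi c) d P := by
  apply LinearMap.pi_ext
  intro i x
  have h1 := (h i).apply x
  simp only [LinearMap.coe_comp, Function.comp_apply, LinearMap.coe_single] at h1 ⊢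
  rw [h1, ComodTens.pi_coact_single, LinearMap.rTensor_comp, LinearMap.comp_apply]

end Pi

section Coeff

variable {k : Type u} [CommRing k] {A : Type v} [CommRing A] [Bialgebra k A]
variable {V : Type w} [AddCommGroup V] [Module k V]
variable {W : Type w'} [AddCommGroup W] [Module k W]

/-- the coefficient map `v ↦ (φ ⊗ id)(ρ v)` of a comodule with respect to a linear form `φ` -/
noncomputable def coeffMap (c : HopfRep.Comod k A V) (φ : Module.Dual k V) : V →ₗ[k] A :=
  (TensorProduct.lid k A).toLinearMap ∘ₗ φ.rTensor A ∘ₗ c.coact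

theorem coeffMap_apply (c : HopfRep.Comod k A V) (φ : Module.Dual k V) (v : V) :
    coeffMap c φ v = TensorProduct.lid k A (φ.rTensor A (c.coact v)) := rfl

theorem coeffMap_add (c : HopfRep.Comod k A V) (φ ψ : Module.Dual k V) :
    coeffMap c (φ + ψ) = coeffMap c φ + coeffMap c ψ := by
  apply LinearMap.ext; intro v
  simp only [coeffMap_apply, LinearMap.add_apply, LinearMap.rTensor_add, map_add]

theorem coeffMap_smul (c : HopfRep.Comod k A V) (r : k) (φ : Module.Dual k V) :
    coeffMap c (r • φ) = r • coeffMap c φ := by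
  apply LinearMap.ext; intro v
  simp only [coeffMap_apply, LinearMap.smul_apply, LinearMap.rTensor_smul, map_smul]

private theorem aux_hom (φ : Module.Dual k V) (x : V ⊗[k] A) :
    ((TensorProduct.lid k A).toLinearMap ∘ₗ φ.rTensor A).rTensor A
      ((TensorProduct.assoc k V A A).symm
        ((CoalgebraStruct.comul (R := k) (A := A)).lTensor V x)) =
    CoalgebraStruct.comul (R := k) (A := A) (TensorProduct.lid k A (φ.rTensor A x)) := by
  induction x using TensorProduct.induction_on with
  | zero => simp only [map_zero]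
  | add x y hx hy => simp only [map_add, hx, hy]
  | tmul v a =>
    rw [LinearMap.lTensor_tmul, LinearMap.rTensor_tmul, TensorProduct.lid_tmul, map_smul]
    induction CoalgebraStruct.comul (R := k) (A := A) a using TensorProduct.induction_on with
    | zero => simp only [TensorProduct.tmul_zero, map_zero, smul_zero]
    | add x y hx hy => simp only [TensorProduct.tmul_add, map_add, hx, hy, smul_add]
    | tmul b b' =>
      rw [TensorProduct.assoc_symm_tmul, LinearMap.rTensor_tmul, LinearMap.comp_apply,
        LinearMap.rTensor_tmul, LinearEquiv.coe_coe, TensorProduct.lid_tmul, TensorProduct.smul_tmul']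

/-- the coefficient maps are homomorphisms to the regular comodule -/
theorem isHom_coeffMap (c : HopfRep.Comod k A V) (φ : Module.Dual k V) :
    IsHom c (HopfRep.Comod.regular (k := k) (A := A)) (coeffMap c φ) := by
  apply LinearMap.ext
  intro v
  have hc := LinearMap.congr_fun c.coassoc v
  simp only [LinearMap.coe_comp, Function.comp_apply, LinearEquiv.coe_coe] at hc
  have hc' : c.coact.rTensor A (c.coact v) =
      (TensorProduct.assoc k V A A).symm
        ((CoalgebraStruct.comul (R := k) (A := A)).lTensor V (c.coact v)) := by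
    rw [← hc, LinearEquiv.symm_apply_apply]
  change CoalgebraStruct.comul (R := k) (A := A) (coeffMap c φ v) =
    (coeffMap c φ).rTensor A (c.coact v)
  rw [coeffMap_apply, ← aux_hom, ← hc']
  unfold coeffMap
  exact (LinearMap.congr_fun (LinearMap.rTensor_comp A
    ((TensorProduct.lid k A).toLinearMap ∘ₗ φ.rTensor A) c.coact) (c.coact v)).symm

/-- the product of two linear forms, a linear form on the tensor product -/
noncomputable def dualTensor (φ : Module.Dual k V) (ψ : Module.Dual k W) : Module.Dual k (V ⊗[k] W) :=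
  (TensorProduct.lid k k).toLinearMap ∘ₗ TensorProduct.map φ ψ

theorem dualTensor_tmul (φ : Module.Dual k V) (ψ : Module.Dual k W) (v : V) (w : W) :
    dualTensor φ ψ (v ⊗ₜ[k] w) = φ v * ψ w := by
  simp [dualTensor]

private theorem aux_mul (φ : Module.Dual k V) (ψ : Module.Dual k W) (x : V ⊗[k] A) (y : W ⊗[k] A) :
    TensorProduct.lid k A ((dualTensor φ ψ).rTensor A
      (TensorProduct.map LinearMap.id (LinearMap.mul' k A)
        (AlgebraTensorModule.tensorTensorTensorComm k k k k V A W A (x ⊗ₜ[k] y)))) =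
    TensorProduct.lid k A (φ.rTensor A x) * TensorProduct.lid k A (ψ.rTensor A y) := by
  induction x using TensorProduct.induction_on with
  | zero => simp only [TensorProduct.zero_tmul, map_zero, zero_mul]
  | add x x' hx hx' => simp only [TensorProduct.add_tmul, map_add, hx, hx', add_mul]
  | tmul v a =>
    induction y using TensorProduct.induction_on with
    | zero => simp only [TensorProduct.tmul_zero, map_zero, mul_zero]
    | add y y' hy hy' => simp only [TensorProduct.tmul_add, map_add, hy, hy', mul_add]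
    | tmul w b =>
      simp only [AlgebraTensorModule.tensorTensorTensorComm_tmul, TensorProduct.map_tmul,
        LinearMap.id_apply, LinearMap.mul'_apply, LinearMap.rTensor_tmul, dualTensor_tmul,
        TensorProduct.lid_tmul]
      rw [smul_mul_smul_comm]

/-- coefficients of a tensor product are products of coefficients -/
theorem coeffMap_tensor_tmul (c : HopfRep.Comod k A V) (d : HopfRep.Comod k A W)
    (φ : Module.Dual k V) (ψ : Module.Dual k W) (v : V) (w : W) :
    coeffMap (ComodTens.Comod.tensor c d) (dualTensor φ ψ) (v ⊗ₜ[k] w) =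
      coeffMap c φ v * coeffMap d ψ w := by
  rw [coeffMap_apply, ComodTens.tensor_coact_tmul, aux_mul]
  rfl

/-- coefficients of a transported structure -/
theorem coeffMap_ofEquiv (e : V ≃ₗ[k] W) (c : HopfRep.Comod k A V) (φ : Module.Dual k V) (v : V) :
    coeffMap (ComodTens.Comod.ofEquiv e c) (φ ∘ₗ (e.symm : W →ₗ[k] V)) (e v) = coeffMap c φ v := by
  rw [coeffMap_apply, ComodTens.ofEquiv_coact_apply, ← LinearMap.comp_apply (LinearMap.rTensor A _),
    ← LinearMap.rTensor_comp]
  have : (φ ∘ₗ (e.symm : W →ₗ[k] V)) ∘ₗ (e : V →ₗ[k] W) = φ := by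
    apply LinearMap.ext; intro x; simp
  rw [this]
  rfl

/-- the coefficient space of a comodule: the span of all its matrix coefficients -/
noncomputable def cf (c : HopfRep.Comod k A V) : Submodule k A :=
  ⨆ φ : Module.Dual k V, LinearMap.range (coeffMap c φ)

theorem coeffMap_mem_cf (c : HopfRep.Comod k A V) (φ : Module.Dual k V) (v : V) :
    coeffMap c φ v ∈ cf c :=
  Submodule.mem_iSup_of_mem φ (LinearMap.mem_range_self _ v)

theorem cf_le_iff (c : HopfRep.Comod k A V) (N : Submodule k A) :
    cf c ≤ N ↔ ∀ φ v, coeffMap c φ v ∈ N := by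
  unfold cf
  rw [iSup_le_iff]
  constructor
  · intro h φ v
    exact h φ (LinearMap.mem_range_self _ v)
  · rintro h φ _ ⟨v, rfl⟩
    exact h φ v

theorem cf_le_cf_ofEquiv (e : V ≃ₗ[k] W) (c : HopfRep.Comod k A V) :
    cf c ≤ cf (ComodTens.Comod.ofEquiv e c) := by
  rw [cf_le_iff]
  intro φ v
  rw [← coeffMap_ofEquiv e c φ v]
  exact coeffMap_mem_cf _ _ _

theorem cf_mul_cf_le (c : HopfRep.Comod k A V) (d : HopfRep.Comod k A W) :
    cf c * cf d ≤ cf (ComodTens.Comod.tensor c d) := by
  rw [Submodule.mul_le]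
  intro a ha b hb
  unfold cf at ha hb
  induction ha using Submodule.iSup_induction' with
  | mem φ a ha =>
    obtain ⟨v, rfl⟩ := ha
    induction hb using Submodule.iSup_induction' with
    | mem ψ b hb =>
      obtain ⟨w, rfl⟩ := hb
      rw [← coeffMap_tensor_tmul]
      exact coeffMap_mem_cf _ _ _
    | zero => rw [mul_zero]; exact Submodule.zero_mem _
    | add x y _ _ hx hy => rw [mul_add]; exact Submodule.add_mem _ hx hy
  | zero => rw [zero_mul]; exact Submodule.zero_mem _
  | add x y _ _ hx hy => rw [add_mul]; exact Submodule.add_mem _ hx hy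

theorem one_mem_cf_tpow_zero (c : HopfRep.Comod k A V) : (1 : A) ∈ cf (ComodTens.Comod.tpow c 0) := by
  have h := coeffMap_ofEquiv (A := A)
    (PiTensorProduct.isEmptyEquiv (Fin 0) (R := k) (s := fun _ : Fin 0 => V)).symm
    (HopfRep.Comod.trivial k A k) (LinearMap.id : k →ₗ[k] k) (1 : k)
  have h1 : coeffMap (HopfRep.Comod.trivial k A k) (LinearMap.id : k →ₗ[k] k) (1 : k) = (1 : A) := by
    rw [coeffMap_apply]
    change TensorProduct.lid k A ((LinearMap.id : k →ₗ[k] k).rTensor A ((1 : k) ⊗ₜ[k] (1 : A))) = 1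
    rw [LinearMap.rTensor_tmul, LinearMap.id_apply, TensorProduct.lid_tmul, one_smul]
  rw [← h1, ← h]
  exact coeffMap_mem_cf _ _ _

theorem cf_pow_le_cf_tpow (c : HopfRep.Comod k A V) (n : ℕ) :
    cf c ^ n ≤ cf (ComodTens.Comod.tpow c n) := by
  induction n with
  | zero =>
    rw [pow_zero, Submodule.one_le]
    exact one_mem_cf_tpow_zero c
  | succ n ih =>
    rw [pow_succ]
    have h1 : cf c ≤ cf (ComodTens.Comod.tpowOne c) :=
      cf_le_cf_ofEquiv
        (PiTensorProduct.subsingletonEquiv (R := k) (s := fun _ : Fin 1 => V) (0 : Fin 1)).symm c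
    refine le_trans (mul_le_mul' ih h1) ?_
    refine le_trans (cf_mul_cf_le (ComodTens.Comod.tpow c n) (ComodTens.Comod.tpowOne c)) ?_
    exact cf_le_cf_ofEquiv (TensorPower.mulEquiv (R := k) (M := V) (n := n) (m := 1))
      (ComodTens.Comod.tensor (ComodTens.Comod.tpow c n) (ComodTens.Comod.tpowOne c))

theorem iSup_cf_tpow_eq_top (c : HopfRep.Comod k A V)
    (hgen : Algebra.adjoin k (cf c : Set A) = ⊤) :
    ⨆ n : ℕ, cf (ComodTens.Comod.tpow c n) = ⊤ := by
  rw [eq_top_iff]
  have hP : ∀ a : A, a ∈ ⨆ n : ℕ, cf c ^ n := by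
    intro a
    have ha : a ∈ Algebra.adjoin k (cf c : Set A) := by rw [hgen]; exact Algebra.mem_top
    induction ha using Algebra.adjoin_induction with
    | mem x hx =>
      refine Submodule.mem_iSup_of_mem 1 ?_
      rw [pow_one]; exact hx
    | algebraMap r =>
      refine Submodule.mem_iSup_of_mem 0 ?_
      rw [pow_zero, Algebra.algebraMap_eq_smul_one]
      exact Submodule.smul_mem _ _ (Submodule.one_le.mp le_rfl)
    | add x y _ _ hx hy => exact Submodule.add_mem _ hx hy
    | mul x y _ _ hx hy =>
      have hxy : x * y ∈ (⨆ n : ℕ, cf c ^ n) * (⨆ n : ℕ, cf c ^ n) := Submodule.mul_mem_mul hx hy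
      refine (?_ : (⨆ n : ℕ, cf c ^ n) * (⨆ n : ℕ, cf c ^ n) ≤ ⨆ n : ℕ, cf c ^ n) hxy
      rw [Submodule.iSup_mul]
      refine iSup_le fun i => ?_
      rw [Submodule.mul_iSup]
      refine iSup_le fun j => ?_
      rw [← pow_add]
      exact le_iSup (fun n => cf c ^ n) (i + j)
  intro a _
  exact (iSup_mono fun n => cf_pow_le_cf_tpow c n) (hP a)

private theorem aux_counit (φ : Module.Dual k V) (x : V ⊗[k] A) :
    CoalgebraStruct.counit (R := k) (A := A) (TensorProduct.lid k A (φ.rTensor A x)) =
      φ (TensorProduct.rid k V ((CoalgebraStruct.counit (R := k) (A := A)).lTensor V x)) := by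
  induction x using TensorProduct.induction_on with
  | zero => simp only [map_zero]
  | add x y hx hy => simp only [map_add, hx, hy]
  | tmul v a =>
    rw [LinearMap.rTensor_tmul, TensorProduct.lid_tmul, LinearMap.lTensor_tmul,
      TensorProduct.rid_tmul, map_smul, map_smul, smul_eq_mul, smul_eq_mul, mul_comm]

/-- the counit recovers the linear form from the coefficient map -/
theorem counit_coeffMap (c : HopfRep.Comod k A V) (φ : Module.Dual k V) (v : V) :
    CoalgebraStruct.counit (R := k) (A := A) (coeffMap c φ v) = φ v := by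
  rw [coeffMap_apply, aux_counit]
  have hc := LinearMap.congr_fun c.counit_comp v
  simp only [LinearMap.coe_comp, Function.comp_apply, LinearMap.flip_apply,
    TensorProduct.mk_apply] at hc
  rw [hc, TensorProduct.rid_tmul, one_smul]

end Coeff

section PiCod

variable {k : Type u} [CommRing k] {A : Type v} [AddCommGroup A] [Module k A] [Coalgebra k A]
variable {ι : Type w'} [Fintype ι] [DecidableEq ι] {X : ι → Type w} [∀ i, AddCommGroup (X i)]
  [∀ i, Module k (X i)]
variable {W : Type w''} [AddCommGroup W] [Module k W]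

omit [Coalgebra k A] [Fintype ι] [DecidableEq ι] in
theorem rTensor_finset_sum {κ : Type*} (s : Finset κ) {V' : Type*} [AddCommGroup V'] [Module k V']
    (f : κ → (W →ₗ[k] V')) :
    (∑ i ∈ s, f i).rTensor A = ∑ i ∈ s, (f i).rTensor A := by
  have := map_sum (LinearMap.rTensorHom (R := k) A (N := W) (P := V')) f s
  simpa only [LinearMap.coe_rTensorHom] using this

/-- a linear map into a finite direct sum is a homomorphism as soon as its components are -/
theorem isHom_of_proj (c : HopfRep.Comod k A W) (d : ∀ i, HopfRep.Comod k A (X i))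
    (P : W →ₗ[k] (∀ i, X i)) (h : ∀ i, IsHom c (d i) (LinearMap.proj i ∘ₗ P)) :
    IsHom c (ComodTens.Comod.pi d) P := by
  apply LinearMap.ext
  intro v
  rw [LinearMap.comp_apply, ComodTens.pi_coact, LinearMap.comp_apply]
  have h1 : ∀ i, (d i).coact (P v i) = (LinearMap.proj i ∘ₗ P).rTensor A (c.coact v) := fun i =>
    (h i).apply v
  simp only [h1]
  have h2 : ∀ i, (LinearMap.single k X i).rTensor A ((LinearMap.proj i ∘ₗ P).rTensor A (c.coact v)) =
      ((LinearMap.single k X i ∘ₗ LinearMap.proj i ∘ₗ P).rTensor A) (c.coact v) := by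
    intro i
    rw [LinearMap.rTensor_comp A (LinearMap.single k X i), LinearMap.comp_apply]
  simp only [h2]
  rw [← LinearMap.sum_apply, ← rTensor_finset_sum]
  congr 2
  apply LinearMap.ext
  intro w
  ext i
  simp only [LinearMap.sum_apply, LinearMap.comp_apply, LinearMap.proj_apply, LinearMap.coe_single,
    Finset.sum_apply]
  rw [Finset.sum_eq_single i]
  · simp
  · intro j _ hj; exact Pi.single_eq_of_ne (Ne.symm hj) _
  · intro hi; exact absurd (Finset.mem_univ i) hi

/-- reindexing a finite direct sum along an equivalence of index types is a homomorphism -/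
theorem isHom_piCongrLeft' {ι' : Type*} [Fintype ι'] [DecidableEq ι']
    (c : ∀ i, HopfRep.Comod k A (X i)) (e : ι ≃ ι') :
    IsHom (ComodTens.Comod.pi c) (ComodTens.Comod.pi fun j : ι' => c (e.symm j))
      (LinearEquiv.piCongrLeft' k X e : (∀ i, X i) →ₗ[k] (∀ j : ι', X (e.symm j))) := by
  apply isHom_of_single
  intro i
  obtain ⟨j, rfl⟩ := e.symm.surjective i
  have : (LinearEquiv.piCongrLeft' k X e : (∀ i, X i) →ₗ[k] (∀ j : ι', X (e.symm j))) ∘ₗ
      LinearMap.single k X (e.symm j) = LinearMap.single k (fun j : ι' => X (e.symm j)) j := by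
    apply LinearMap.ext
    intro x
    ext j'
    simp only [LinearMap.coe_comp, Function.comp_apply, LinearEquiv.coe_coe, LinearMap.coe_single,
      LinearEquiv.piCongrLeft'_apply]
    by_cases hj : j' = j
    · subst hj
      rw [Pi.single_eq_same, Pi.single_eq_same]
    · rw [Pi.single_eq_of_ne hj, Pi.single_eq_of_ne (fun h => hj (e.symm.injective h))]
  rw [this]
  exact isHom_single (fun j : ι' => c (e.symm j)) j

end PiCod

section Equiv

variable {k : Type u} [CommRing k] {A : Type v} [AddCommGroup A] [Module k A] [Coalgebra k A]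
variable {V : Type w} [AddCommGroup V] [Module k V]
variable {W : Type w'} [AddCommGroup W] [Module k W]

/-- the inverse of a bijective homomorphism is a homomorphism -/
theorem IsHom.symm {c : HopfRep.Comod k A V} {d : HopfRep.Comod k A W} (e : V ≃ₗ[k] W)
    (h : IsHom c d (e : V →ₗ[k] W)) : IsHom d c (e.symm : W →ₗ[k] V) := by
  apply LinearMap.ext
  intro w
  obtain ⟨v, rfl⟩ := e.surjective w
  have h1 := h.apply v
  simp only [LinearMap.coe_comp, Function.comp_apply, LinearEquiv.coe_coe,
    LinearEquiv.symm_apply_apply] at h1 ⊢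
  rw [h1, ← LinearMap.comp_apply, ← LinearMap.rTensor_comp]
  have : (e.symm : W →ₗ[k] V) ∘ₗ (e : V →ₗ[k] W) = LinearMap.id := by
    apply LinearMap.ext; intro x; simp
  rw [this, LinearMap.rTensor_id, LinearMap.id_apply]

end Equiv

section Subquot

variable {k : Type u} [Field k] {A : Type v} [AddCommGroup A] [Module k A] [Coalgebra k A]
variable {F : Type w} [AddCommGroup F] [Module k F]
variable {W : Type w'} [AddCommGroup W] [Module k W]
variable {R : Type w''} [AddCommGroup R] [Module k R]

/-- If the image of an injective homomorphism `j : W → R` is contained in the image of a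
homomorphism `Φ : F → R` then `W` is a quotient of a subcomodule of `F`. -/
theorem exists_subquotient (cF : HopfRep.Comod k A F) (σ : HopfRep.Comod k A W)
    (cR : HopfRep.Comod k A R) (Φ : F →ₗ[k] R) (hΦ : IsHom cF cR Φ) (j : W →ₗ[k] R)
    (hj : IsHom σ cR j) (hinj : Function.Injective j)
    (hle : LinearMap.range j ≤ LinearMap.range Φ) :
    ∃ (E' : Submodule k F) (τ : E' →ₗ[k] E' ⊗[k] A) (q : E' →ₗ[k] W), Function.Surjective q ∧
      (E'.subtype.rTensor A) ∘ₗ τ = cF.coact ∘ₗ E'.subtype ∧
      (q.rTensor A) ∘ₗ τ = σ.coact ∘ₗ q := by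
  classical
  let E' : Submodule k F := (LinearMap.range j).comap Φ
  have hsub : ∀ x : E', (cF.coact ∘ₗ E'.subtype) x ∈ LinearMap.range (E'.subtype.rTensor A) := by
    intro x
    rw [mem_range_rTensor_subtype_iff]
    intro ψ
    change Φ (slice F ψ (cF.coact (x : F))) ∈ LinearMap.range j
    obtain ⟨w, hw⟩ : Φ (x : F) ∈ LinearMap.range j := x.2
    rw [← slice_rTensor_apply, ← hΦ.apply, ← hw, hj.apply, slice_rTensor_apply]
    exact LinearMap.mem_range_self _ _
  have hinjE : Function.Injective (E'.subtype.rTensor A) :=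
    Module.Flat.rTensor_preserves_injective_linearMap _ E'.injective_subtype
  have hinjJ : Function.Injective (j.rTensor A) :=
    Module.Flat.rTensor_preserves_injective_linearMap _ hinj
  obtain ⟨τ, hτ⟩ : ∃ τ : E' →ₗ[k] E' ⊗[k] A,
      ∀ x : E', E'.subtype.rTensor A (τ x) = cF.coact (x : F) := by
    refine ⟨(LinearEquiv.ofInjective (E'.subtype.rTensor A) hinjE).symm.toLinearMap ∘ₗ
      LinearMap.codRestrict (LinearMap.range (E'.subtype.rTensor A)) (cF.coact ∘ₗ E'.subtype) hsub,
      ?_⟩
    intro x
    have := congrArg Subtype.val ((LinearEquiv.ofInjective (E'.subtype.rTensor A) hinjE).apply_symm_apply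
      (LinearMap.codRestrict (LinearMap.range (E'.subtype.rTensor A)) (cF.coact ∘ₗ E'.subtype) hsub x))
    rw [LinearEquiv.ofInjective_apply] at this
    exact this
  have hmemq : ∀ x : E', (Φ ∘ₗ E'.subtype) x ∈ LinearMap.range j := fun x => x.2
  obtain ⟨q, hq⟩ : ∃ q : E' →ₗ[k] W, ∀ x : E', j (q x) = Φ (x : F) := by
    refine ⟨(LinearEquiv.ofInjective j hinj).symm.toLinearMap ∘ₗ
      LinearMap.codRestrict (LinearMap.range j) (Φ ∘ₗ E'.subtype) hmemq, ?_⟩
    intro x
    have := congrArg Subtype.val ((LinearEquiv.ofInjective j hinj).apply_symm_apply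
      (LinearMap.codRestrict (LinearMap.range j) (Φ ∘ₗ E'.subtype) hmemq x))
    rw [LinearEquiv.ofInjective_apply] at this
    exact this
  refine ⟨E', τ, q, ?_, ?_, ?_⟩
  · intro w
    obtain ⟨x, hx⟩ : j w ∈ LinearMap.range Φ := hle (LinearMap.mem_range_self _ w)
    have hxE : x ∈ E' := by
      change Φ x ∈ LinearMap.range j
      rw [hx]; exact LinearMap.mem_range_self _ w
    refine ⟨⟨x, hxE⟩, hinj ?_⟩
    rw [hq]; exact hx
  · apply LinearMap.ext
    intro x
    exact hτ x
  · apply LinearMap.ext
    intro x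
    apply hinjJ
    have hjq : j ∘ₗ q = Φ ∘ₗ E'.subtype := by
      apply LinearMap.ext; intro y; exact hq y
    rw [LinearMap.comp_apply, LinearMap.comp_apply, ← LinearMap.comp_apply (j.rTensor A),
      ← LinearMap.rTensor_comp, hjq, LinearMap.rTensor_comp, LinearMap.comp_apply, hτ,
      ← hΦ.apply, ← hq, hj.apply]

end Subquot

section Main

variable {k : Type u} [Field k] {A : Type u} [CommRing A] [Bialgebra k A]
variable {U : Type u} [AddCommGroup U] [Module k U]

variable (k U) in
/-- pairs (exponent, linear form on the tensor power) -/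
abbrev Fn : Type u := Σ n : ℕ, Module.Dual k (TensorPower k n U)

/-- the space of coefficients of one tensor power with respect to one linear form -/
noncomputable def Rng (cU : HopfRep.Comod k A U) (θ : Fn k U) : Submodule k A :=
  LinearMap.range (coeffMap (ComodTens.Comod.tpow cU θ.1) θ.2)

theorem iSup_Rng_eq_top (cU : HopfRep.Comod k A U) (hgen : Algebra.adjoin k (cf cU : Set A) = ⊤) :
    ⨆ θ : Fn k U, Rng cU θ = ⊤ := by
  rw [← iSup_cf_tpow_eq_top cU hgen]
  unfold cf Rng
  rw [iSup_sigma]

/-- the comparison map from a finite direct sum of tensor powers to `r` copies of `A` -/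
noncomputable def bigΦ (cU : HopfRep.Comod k A U) (r : ℕ) (T : Finset (Fn k U)) :
    ((p : Fin r × T) → TensorPower k p.2.1.1 U) →ₗ[k] (Fin r → A) :=
  LinearMap.pi fun s => ∑ θ : T, coeffMap (ComodTens.Comod.tpow cU θ.1.1) θ.1.2 ∘ₗ
    (LinearMap.proj (R := k) (φ := fun p : Fin r × T => TensorPower k p.2.1.1 U) (s, θ))

theorem bigΦ_apply (cU : HopfRep.Comod k A U) (r : ℕ) (T : Finset (Fn k U))
    (x : (p : Fin r × T) → TensorPower k p.2.1.1 U) (s : Fin r) :
    bigΦ cU r T x s = ∑ θ : T, coeffMap (ComodTens.Comod.tpow cU θ.1.1) θ.1.2 (x (s, θ)) := by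
  unfold bigΦ
  rw [LinearMap.pi_apply, LinearMap.sum_apply]
  rfl

theorem isHom_bigΦ [DecidableEq (Fn k U)] (cU : HopfRep.Comod k A U) (r : ℕ) (T : Finset (Fn k U)) :
    IsHom (ComodTens.Comod.pi fun p : Fin r × T => ComodTens.Comod.tpow cU p.2.1.1)
      (ComodTens.Comod.pi fun _ : Fin r => HopfRep.Comod.regular (k := k) (A := A))
      (bigΦ cU r T) := by
  apply isHom_of_single
  rintro ⟨s, θ⟩
  have : bigΦ cU r T ∘ₗ
      LinearMap.single k (fun p : Fin r × T => TensorPower k p.2.1.1 U) (s, θ) =
      LinearMap.single k (fun _ : Fin r => A) s ∘ₗ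
        coeffMap (ComodTens.Comod.tpow cU θ.1.1) θ.1.2 := by
    apply LinearMap.ext
    intro x
    ext s'
    rw [LinearMap.comp_apply, bigΦ_apply, LinearMap.comp_apply, LinearMap.coe_single,
      LinearMap.coe_single]
    by_cases hs : s' = s
    · subst hs
      rw [Pi.single_eq_same, Finset.sum_eq_single θ]
      · rw [Pi.single_eq_same]
      · intro θ' _ hθ'
        rw [Pi.single_eq_of_ne (fun h => hθ' (Prod.mk.inj h).2), map_zero]
      · intro h; exact absurd (Finset.mem_univ θ) h
    · rw [Pi.single_eq_of_ne hs]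
      apply Finset.sum_eq_zero
      intro θ' _
      rw [Pi.single_eq_of_ne (fun h => hs (Prod.mk.inj h).1), map_zero]
  rw [this]
  exact (isHom_single (fun _ : Fin r => HopfRep.Comod.regular (k := k) (A := A)) s).comp
    (isHom_coeffMap _ _)

/-- the embedding of a finite-dimensional comodule in a finite direct sum of copies of `A` -/
noncomputable def embA {W : Type u} [AddCommGroup W] [Module k W] (σ : HopfRep.Comod k A W)
    {r : ℕ} (bW : Module.Basis (Fin r) k W) : W →ₗ[k] (Fin r → A) :=
  LinearMap.pi fun s => coeffMap σ (bW.coord s)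

theorem isHom_embA {W : Type u} [AddCommGroup W] [Module k W] (σ : HopfRep.Comod k A W)
    {r : ℕ} (bW : Module.Basis (Fin r) k W) :
    IsHom σ (ComodTens.Comod.pi fun _ : Fin r => HopfRep.Comod.regular (k := k) (A := A))
      (embA σ bW) := by
  apply isHom_of_proj
  intro s
  have : LinearMap.proj s ∘ₗ embA σ bW = coeffMap σ (bW.coord s) := by
    apply LinearMap.ext; intro w; rfl
  rw [this]
  exact isHom_coeffMap _ _

theorem embA_injective {W : Type u} [AddCommGroup W] [Module k W] (σ : HopfRep.Comod k A W)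
    {r : ℕ} (bW : Module.Basis (Fin r) k W) : Function.Injective (embA σ bW) := by
  rw [← LinearMap.ker_eq_bot, LinearMap.ker_eq_bot']
  intro w hw
  apply bW.ext_elem
  intro s
  have h1 : embA σ bW w s = 0 := by rw [hw]; rfl
  have h2 : embA σ bW w s = coeffMap σ (bW.coord s) w := rfl
  rw [h2] at h1
  have h3 := counit_coeffMap σ (bW.coord s) w
  rw [h1, map_zero] at h3
  rw [map_zero, Finsupp.zero_apply, ← Module.Basis.coord_apply, ← h3]

/-- **Main abstract statement.**  If the matrix coefficients of `U` generate `A` as an algebra,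
every finite-dimensional comodule is a quotient of a subcomodule of a finite direct sum of tensor
powers of `U`. -/
theorem exists_subquotient_pi_tpow (cU : HopfRep.Comod k A U)
    (hgen : Algebra.adjoin k (cf cU : Set A) = ⊤)
    (W : Type u) [AddCommGroup W] [Module k W] [Module.Finite k W] (σ : HopfRep.Comod k A W) :
    ∃ (b : ℕ) (m : Fin b → ℕ) (E' : Submodule k ((i : Fin b) → TensorPower k (m i) U))
      (τ : E' →ₗ[k] E' ⊗[k] A) (q : E' →ₗ[k] W), Function.Surjective q ∧
      (E'.subtype.rTensor A) ∘ₗ τ =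
        (ComodTens.Comod.pi fun i : Fin b => ComodTens.Comod.tpow cU (m i)).coact ∘ₗ E'.subtype ∧
      (q.rTensor A) ∘ₗ τ = σ.coact ∘ₗ q := by
  classical
  obtain ⟨r, ⟨bW⟩⟩ : ∃ r : ℕ, Nonempty (Module.Basis (Fin r) k W) :=
    ⟨Module.finrank k W, ⟨Module.finBasis k W⟩⟩
  have htop := iSup_Rng_eq_top cU hgen
  -- a finite set of coefficient functionals reaching all matrix coefficients of `W`
  obtain ⟨T, hT⟩ : ∃ T : Finset (Fn k U), ∀ s t : Fin r,
      coeffMap σ (bW.coord s) (bW t) ∈ ⨆ θ ∈ T, Rng cU θ := by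
    have h1 : ∀ p : Fin r × Fin r, ∃ T : Finset (Fn k U),
        coeffMap σ (bW.coord p.1) (bW p.2) ∈ ⨆ θ ∈ T, Rng cU θ := by
      intro p
      apply Submodule.mem_iSup_iff_exists_finset.mp
      rw [htop]; exact Submodule.mem_top
    choose Tp hTp using h1
    refine ⟨Finset.univ.biUnion Tp, fun s t => ?_⟩
    have h2 : (⨆ θ ∈ Tp (s, t), Rng cU θ) ≤ ⨆ θ ∈ Finset.univ.biUnion Tp, Rng cU θ := by
      apply biSup_mono
      intro θ hθ
      exact Finset.mem_biUnion.mpr ⟨(s, t), Finset.mem_univ _, hθ⟩
    exact h2 (hTp (s, t))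
  -- the image of the comparison map contains the image of `W`
  have hle : LinearMap.range (embA σ bW) ≤ LinearMap.range (bigΦ cU r T) := by
    rintro _ ⟨w, rfl⟩
    rw [← bW.sum_repr w, map_sum]
    refine Submodule.sum_mem _ fun t _ => ?_
    rw [map_smul]
    refine Submodule.smul_mem _ _ ?_
    have h1 : ∀ s : Fin r, ∃ y : (θ : Fn k U) → TensorPower k θ.1 U,
        ∑ θ ∈ T, coeffMap (ComodTens.Comod.tpow cU θ.1) θ.2 (y θ) =
          coeffMap σ (bW.coord s) (bW t) := by
      intro s
      obtain ⟨μ, hμ⟩ := (Submodule.mem_iSup_finset_iff_exists_sum _ _).mp (hT s t)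
      have h2 : ∀ θ : Fn k U, ∃ y : TensorPower k θ.1 U,
          coeffMap (ComodTens.Comod.tpow cU θ.1) θ.2 y = (μ θ : A) := fun θ => (μ θ).2
      choose y hy using h2
      exact ⟨y, by rw [← hμ]; exact Finset.sum_congr rfl fun θ _ => hy θ⟩
    choose y hy using h1
    refine ⟨fun p => y p.1 p.2.1, ?_⟩
    ext s
    rw [bigΦ_apply]
    change _ = coeffMap σ (bW.coord s) (bW t)
    rw [← hy s]
    exact Finset.sum_coe_sort T fun θ => coeffMap (ComodTens.Comod.tpow cU θ.1) θ.2 (y s θ)
  -- reindex by `Fin b`
  let e : (Fin r × T) ≃ Fin (Fintype.card (Fin r × T)) := Fintype.equivFin _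
  let L := LinearEquiv.piCongrLeft' k (fun p : Fin r × T => TensorPower k p.2.1.1 U) e
  have hL := isHom_piCongrLeft' (A := A)
    (fun p : Fin r × T => ComodTens.Comod.tpow cU p.2.1.1) e
  have hΦ' : IsHom
      (ComodTens.Comod.pi fun j : Fin (Fintype.card (Fin r × T)) =>
        ComodTens.Comod.tpow cU (e.symm j).2.1.1)
      (ComodTens.Comod.pi fun _ : Fin r => HopfRep.Comod.regular (k := k) (A := A))
      (bigΦ cU r T ∘ₗ L.symm.toLinearMap) :=
    (isHom_bigΦ cU r T).comp (IsHom.symm L hL)
  have hle' : LinearMap.range (embA σ bW) ≤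
      LinearMap.range (bigΦ cU r T ∘ₗ L.symm.toLinearMap) := by
    rw [LinearMap.range_comp, LinearEquiv.range, Submodule.map_top]
    exact hle
  obtain ⟨E', τ, q, h1, h2, h3⟩ := exists_subquotient _ σ _ _ hΦ' (embA σ bW) (isHom_embA σ bW)
    (embA_injective σ bW) hle'
  exact ⟨Fintype.card (Fin r × T), fun j => (e.symm j).2.1.1, E', τ, q, h1, h2, h3⟩

end Main

end Groth.Agent.H93.TensGen
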