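import Mathlib

/-!
# Blowing up a two-generated ideal in a one-dimensional Noetherian local ring (helper93)

For a one-dimensional Noetherian local ring `R` and nonzerodivisors `a, b`, we construct a finite
birational extension `R ⊆ R'` (inside the total ring of fractions) in which `(a, b) R'` is
principal.  Ingredients:

* `chain_bound`, `exists_relation`: a homogeneous relation between `a` and `b` with a unit
  coefficient (length count `len (J / a J) = len (R / a R)`).
* `isIntegral_horner`: the Horner partial sums of a polynomial relation are integral.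
* `local_condition`, `exists_generator_of_semilocal`: locally principal (by `a` or `b`) in a
  semilocal ring implies principal.
* `exists_subalgebra_common_factor`: the assembled statement.
-/

set_option autoImplicit false
universe u
open Polynomial Pointwise

namespace Groth.Agent.H93.CycBlow


/-- Chain bound: a strict chain of ideals between `a • J` and `J` has at most
`length (R/aR)` steps. -/
theorem chain_bound {R : Type u} [CommRing R] {a : R} (ha : a ∈ nonZeroDivisors R) (J : Ideal R)
    (hJ : Module.length R (R ⧸ J) ≠ ⊤) (N : ℕ) (F : ℕ → Ideal R)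
    (hF : ∀ i < N, F i < F (i+1)) (h0 : a • J ≤ F 0) (hN : F N ≤ J) :
    (N : ℕ∞) ≤ Module.length R (R ⧸ Ideal.span {a}) := by
  have h1 : Module.length R (R ⧸ a • J) =
      Module.length R (R ⧸ J) + Module.length R (R ⧸ Ideal.span {a}) :=
    Module.length_eq_add_of_exact _ _ (Ideal.mulQuot_injective J ha)
      (Ideal.quotOfMul_surjective J) (Ideal.exact_mulQuot_quotOfMul J)
  rw [Module.length_quotient, Module.length_quotient] at h1
  rw [Module.length_quotient] at hJ
  have h2 : ∀ k ≤ N, Order.coheight (F N) + (k : ℕ∞) ≤ Order.coheight (F (N - k)) := by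
    intro k
    induction k with
    | zero => intro _; simp
    | succ k ih =>
      intro hk
      have hlt : F (N - (k+1)) < F (N - k) := by
        have := hF (N - (k+1)) (by omega)
        rwa [show N - (k+1) + 1 = N - k by omega] at this
      calc Order.coheight (F N) + ((k+1 : ℕ) : ℕ∞)
          = Order.coheight (F N) + (k : ℕ∞) + 1 := by push_cast; rw [add_assoc]
        _ ≤ Order.coheight (F (N - k)) + 1 := by gcongr; exact ih (by omega)
        _ ≤ Order.coheight (F (N - (k+1))) := Order.coheight_add_one_le hlt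
  have h3 := h2 N le_rfl
  rw [Nat.sub_self] at h3
  have h4 : Order.coheight J + (N : ℕ∞) ≤ Order.coheight J + Module.length R (R ⧸ Ideal.span {a}) :=
    calc Order.coheight J + (N : ℕ∞) ≤ Order.coheight (F N) + (N : ℕ∞) := by
          gcongr
      _ ≤ Order.coheight (F 0) := h3
      _ ≤ Order.coheight (a • J) := Order.coheight_anti h0
      _ = _ := h1
  exact (WithTop.add_le_add_iff_left hJ).1 h4


/-- the homogeneous evaluation map `p ↦ ∑_{j ≤ n} p_j b^(n-j) a^j`. -/
noncomputable def homEval {R : Type u} [CommRing R] (a b : R) (n : ℕ) : R[X] →ₗ[R] R :=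
  ∑ j ∈ Finset.range (n+1), (b^(n-j) * a^j) • (Polynomial.lcoeff R j)

lemma homEval_apply {R : Type u} [CommRing R] (a b : R) (n : ℕ) (p : R[X]) :
    homEval a b n p = ∑ j ∈ Finset.range (n+1), p.coeff j * (b^(n-j) * a^j) := by
  simp only [homEval, LinearMap.sum_apply, LinearMap.smul_apply, Polynomial.lcoeff_apply,
    smul_eq_mul]
  exact Finset.sum_congr rfl fun j _ => mul_comm _ _

lemma homEval_X_pow {R : Type u} [CommRing R] (a b : R) (n i : ℕ) (hi : i ≤ n) :
    homEval a b n (X ^ i) = b^(n-i) * a^i := by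
  rw [homEval_apply]
  simp only [Polynomial.coeff_X_pow, ite_mul, one_mul, zero_mul]
  rw [Finset.sum_ite_eq' (Finset.range (n+1)) i]
  simp [Nat.lt_succ_of_le hi]

/-- In a one-dimensional Noetherian local ring, for a nonzerodivisor `a` in the maximal ideal and
any `b` there is a homogeneous relation between `a` and `b` with a unit coefficient. -/
theorem exists_relation {R : Type u} [CommRing R] [IsNoetherianRing R] [IsLocalRing R]
    [Ring.KrullDimLE 1 R] {a : R} (ha : a ∈ nonZeroDivisors R)
    (ham : a ∈ IsLocalRing.maximalIdeal R) (b : R) :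
    ∃ (n : ℕ) (P : R[X]), (∃ i ≤ n, IsUnit (P.coeff i)) ∧
      ∑ j ∈ Finset.range (n+1), P.coeff j * (b^(n-j) * a^j) = 0 := by
  have hfin : Module.length R (R ⧸ Ideal.span {a}) ≠ ⊤ :=
    Module.length_ne_top_iff.2 (isFiniteLength_quotient_span_singleton R ha)
  obtain ⟨n, hn⟩ := ENat.ne_top_iff_exists.1 hfin
  set φ := homEval a b n with hφ
  set J : Ideal R := Submodule.map φ (degreeLT R (n+1)) with hJ
  set F : ℕ → Ideal R := fun i => a • J ⊔ Submodule.map φ (degreeLT R i) with hFdef
  have hXmem : ∀ i, (X : R[X]) ^ i ∈ degreeLT R (i+1) := by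
    intro i
    rw [Polynomial.mem_degreeLT]
    exact lt_of_le_of_lt (Polynomial.degree_X_pow_le i) (by exact_mod_cast Nat.lt_succ_self i)
  have hJfin : Module.length R (R ⧸ J) ≠ ⊤ := by
    have han : a ^ n ∈ J := by
      refine ⟨X ^ n, hXmem n, ?_⟩
      rw [hφ, homEval_X_pow a b n n le_rfl]; simp
    have hle : Ideal.span {a ^ n} ≤ J := (Ideal.span_singleton_le_iff_mem _).2 han
    have h1 : Module.length R (R ⧸ Ideal.span {a ^ n}) ≠ ⊤ :=
      Module.length_ne_top_iff.2 (isFiniteLength_quotient_span_singleton R (pow_mem ha n))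
    have h2 : Module.length R (R ⧸ J) ≤ Module.length R (R ⧸ Ideal.span {a ^ n}) :=
      Module.length_le_of_surjective (Submodule.factor hle) (Submodule.factor_surjective hle)
    exact ne_top_of_le_ne_top h1 h2
  by_contra hcon
  push Not at hcon
  have key : ∀ i < n + 1, F i < F (i+1) := by
    intro i hi
    refine lt_of_le_of_ne (sup_le_sup_left (Submodule.map_mono
      (Polynomial.degreeLT_mono (Nat.le_succ i))) _) ?_
    intro heq
    have hmem : φ (X ^ i) ∈ F i := by
      rw [heq]
      exact (le_sup_right : _ ≤ F (i+1)) ⟨X ^ i, hXmem i, rfl⟩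
    obtain ⟨y, hy, z, hz, hyz⟩ := Submodule.mem_sup.1 hmem
    obtain ⟨y', hy', rfl⟩ := (Submodule.mem_smul_pointwise_iff_exists _ _ _).1 hy
    obtain ⟨p, hp, rfl⟩ := hy'
    obtain ⟨q, hq, rfl⟩ := hz
    have hqi : q.coeff i = 0 := by
      have hq' : q ∈ degreeLT R i := hq
      rw [Polynomial.mem_degreeLT] at hq'
      exact Polynomial.coeff_eq_zero_of_degree_lt hq'
    refine hcon n (X ^ i - a • p - q) ⟨i, by omega, ?_⟩ ?_
    · have : (X ^ i - a • p - q).coeff i = 1 - a * p.coeff i := by
        simp [hqi]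
      rw [this]
      refine IsLocalRing.isUnit_one_sub_self_of_mem_nonunits _ ?_
      exact Ideal.mul_mem_right _ _ ham
    · rw [← homEval_apply, ← hφ, map_sub, map_sub, map_smul, ← hyz]
      simp
  have := chain_bound ha J hJfin (n+1) F key le_sup_left
    (sup_le (by
      intro w hw
      obtain ⟨w', hw', rfl⟩ := (Submodule.mem_smul_pointwise_iff_exists _ _ _).1 hw
      exact Ideal.mul_mem_left _ _ hw') le_rfl)
  rw [← hn] at this
  exact absurd this (by exact_mod_cast Nat.not_succ_le_self n)



section Horner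
variable {A : Type*} {T : Type*} [CommRing A] [CommRing T] [Algebra A T]

/-- Horner sequence: `y_0 = d_0`, `y_{k+1} = x y_k + d_{k+1}`. -/
def horner (x : T) (d : ℕ → T) : ℕ → T
  | 0 => d 0
  | k+1 => x * horner x d k + d (k+1)

@[simp] lemma horner_zero (x : T) (d : ℕ → T) : horner x d 0 = d 0 := rfl
lemma horner_succ (x : T) (d : ℕ → T) (k : ℕ) :
    horner x d (k+1) = x * horner x d k + d (k+1) := rfl

lemma horner_eq_sum (x : T) (d : ℕ → T) (k : ℕ) :
    horner x d k = ∑ j ∈ Finset.range (k+1), d j * x^(k-j) := by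
  induction k with
  | zero => simp
  | succ k ih =>
    rw [horner_succ, ih, Finset.sum_range_succ _ (k+1), Finset.mul_sum]
    congr 1
    · refine Finset.sum_congr rfl fun j hj => ?_
      have hj' : j ≤ k := Nat.lt_succ_iff.1 (Finset.mem_range.1 hj)
      rw [show k + 1 - j = (k - j) + 1 by omega, pow_succ]
      ring
    · simp

/-- Horner polynomial. -/
noncomputable def hornerPoly {B : Type*} [CommRing B] (d : ℕ → B) : ℕ → B[X]
  | 0 => C (d 0)
  | k+1 => X * hornerPoly d k + C (d (k+1))

lemma aeval_hornerPoly {B : Type*} [CommRing B] [Algebra B T] (x : T) (d : ℕ → B) (k : ℕ) :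
    aeval x (hornerPoly d k) = horner x (fun j => algebraMap B T (d j)) k := by
  induction k with
  | zero => simp [hornerPoly]
  | succ k ih => simp [hornerPoly, horner_succ, ih]

lemma natDegree_hornerPoly_le {B : Type*} [CommRing B] (d : ℕ → B) (k : ℕ) :
    (hornerPoly d k).natDegree ≤ k := by
  induction k with
  | zero => simp [hornerPoly]
  | succ k ih =>
    simp only [hornerPoly]
    refine (natDegree_add_le _ _).trans (max_le ?_ (by simp))
    exact natDegree_mul_le.trans ((add_le_add natDegree_X_le ih).trans (by omega))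

lemma coeff_hornerPoly {B : Type*} [CommRing B] (d : ℕ → B) (k : ℕ) :
    (hornerPoly d k).coeff k = d 0 := by
  induction k with
  | zero => simp [hornerPoly]
  | succ k ih => simp [hornerPoly, ih]

lemma isIntegral_mul_of_horner_eq_zero (x : T) (d : ℕ → T) (hd : ∀ j, IsIntegral A (d j))
    (m : ℕ) (h : horner x d m = 0) : IsIntegral A (d 0 * x) := by
  by_cases h0 : d 0 = 0
  · rw [h0, zero_mul]; exact isIntegral_zero
  let d' : ℕ → integralClosure A T := fun j => ⟨d j, hd j⟩
  have hP : aeval x (hornerPoly d' m) = 0 := by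
    rw [aeval_hornerPoly]; exact h
  have hc : (hornerPoly d' m).coeff m = d' 0 := coeff_hornerPoly d' m
  have hd0 : d' 0 ≠ 0 := fun h' => h0 (congrArg Subtype.val h')
  have hdeg : (hornerPoly d' m).natDegree = m :=
    le_antisymm (natDegree_hornerPoly_le d' m) (le_natDegree_of_ne_zero (by rw [hc]; exact hd0))
  have hlc : (hornerPoly d' m).leadingCoeff = d' 0 := by
    rw [leadingCoeff, hdeg, hc]
  have h1 := isIntegral_leadingCoeff_smul (hornerPoly d' m) x hP
  rw [hlc] at h1
  have h2 : d' 0 • x = d 0 * x := by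
    rw [Algebra.smul_def]; rfl
  rw [h2] at h1
  exact isIntegral_trans _ h1

theorem isIntegral_horner (x : T) : ∀ (n : ℕ) (d : ℕ → T), (∀ j, IsIntegral A (d j)) →
    horner x d n = 0 → ∀ k ≤ n, IsIntegral A (horner x d k) := by
  intro n
  induction n with
  | zero =>
    intro d hd _ k hk
    obtain rfl : k = 0 := by omega
    exact hd 0
  | succ n ih =>
    intro d hd h k hk
    let d' : ℕ → T := fun j => Nat.casesOn j (horner x d 1) (fun j => d (j+2))
    have claim : ∀ k, horner x d' k = horner x d (k+1) := by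
      intro k
      induction k with
      | zero => rfl
      | succ k ihk => rw [horner_succ, ihk, horner_succ x d (k+1)]
    have hd' : ∀ j, IsIntegral A (d' j) := by
      intro j
      cases j with
      | zero =>
        change IsIntegral A (x * d 0 + d 1)
        rw [mul_comm]
        exact (isIntegral_mul_of_horner_eq_zero x d hd (n+1) h).add (hd 1)
      | succ j => exact hd (j+2)
    have ih' := ih d' hd' (by rw [claim]; exact h)
    cases k with
    | zero => exact hd 0
    | succ k =>
      rw [← claim]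
      exact ih' k (by omega)

end Horner



section Semilocal
variable {B : Type*} [CommRing B]

/-- local-global principle for divisibility. -/
lemma dvd_of_forall_maximal (t c : B)
    (h : ∀ P : Ideal B, P.IsMaximal → ∃ v, v ∉ P ∧ t ∣ v * c) : t ∣ c := by
  let K : Ideal B := Submodule.comap (LinearMap.toSpanSingleton B B c) (Ideal.span {t})
  have hK : ∀ r, r ∈ K ↔ t ∣ r * c := by
    intro r
    change (LinearMap.toSpanSingleton B B c) r ∈ Ideal.span {t} ↔ _
    rw [LinearMap.toSpanSingleton_apply, Ideal.mem_span_singleton, smul_eq_mul]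
  by_contra hne
  have hKtop : K ≠ ⊤ := by
    intro htop
    apply hne
    have : (1 : B) ∈ K := by rw [htop]; trivial
    simpa using (hK 1).1 this
  obtain ⟨M, hM, hKM⟩ := Ideal.exists_le_maximal K hKtop
  obtain ⟨v, hv, hdv⟩ := h M hM
  exact hv (hKM ((hK v).2 hdv))

/-- In a ring with finitely many maximal ideals, an ideal `(α, β)` that is locally generated by
`α` or by `β` is principal, generated by `α + e β` for a suitable `e`. -/
theorem exists_generator_of_semilocal (hfin : {P : Ideal B | P.IsMaximal}.Finite) (α β : B)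
    (H : ∀ P : Ideal B, P.IsMaximal → ∃ s, s ∉ P ∧ (α ∣ s * β ∨ β ∣ s * α)) :
    ∃ e : B, (α + e * β) ∣ α ∧ (α + e * β) ∣ β := by
  classical
  let Q : Ideal B → Prop := fun P => ∃ s, s ∉ P ∧ α ∣ s * β
  let sA : Finset (Ideal B) := hfin.toFinset.filter Q
  let sB : Finset (Ideal B) := hfin.toFinset.filter (fun P => ¬ Q P)
  let K : Ideal B := sA.inf id
  have hsA : ∀ P, P ∈ sA ↔ P.IsMaximal ∧ Q P := by
    intro P; simp [sA]
  have hsB : ∀ P, P ∈ sB ↔ P.IsMaximal ∧ ¬ Q P := by
    intro P; simp [sB]
  obtain ⟨e, heK, heB⟩ : ∃ e ∈ K, ∀ P ∈ sB, e ∉ P := by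
    by_contra hcon
    push Not at hcon
    have hsub : (K : Set B) ⊆ ⋃ P ∈ (sB : Set (Ideal B)), (id P : Ideal B) := by
      intro e he
      obtain ⟨P, hP, heP⟩ := hcon e he
      exact Set.mem_biUnion (by exact_mod_cast hP) heP
    obtain ⟨P, hP, hKP⟩ := (Ideal.subset_union_prime (⊤ : Ideal B) ⊤ (fun P hP _ _ =>
      ((hsB P).1 hP).1.isPrime)).1 hsub
    have hPmax := ((hsB P).1 hP).1
    obtain ⟨P', hP', hle⟩ := (Ideal.IsPrime.inf_le' hPmax.isPrime).1 hKP
    have hP'max := ((hsA P').1 hP').1
    have : P' = P := hP'max.eq_of_le hPmax.ne_top hle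
    rw [this] at hP'
    exact ((hsB P).1 hP).2 ((hsA P).1 hP').2
  refine ⟨e, ?_, ?_⟩
  · -- divisibility of α
    refine dvd_of_forall_maximal _ _ fun P hP => ?_
    have := hP.isPrime
    by_cases hQ : Q P
    · obtain ⟨s, hs, w, hw⟩ := hQ
      have heP : e ∈ P := (Finset.inf_le ((hsA P).2 ⟨hP, s, hs, w, hw⟩) : K ≤ id P) heK
      refine ⟨s + e * w, ?_, s, ?_⟩
      · intro hmem
        exact hs ((Ideal.add_mem_iff_left P (P.mul_mem_right w heP)).1 hmem)
      · linear_combination (-e) * hw
    · have heP : e ∉ P := heB P ((hsB P).2 ⟨hP, hQ⟩)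
      obtain ⟨s, hs, hdv⟩ := H P hP
      rcases hdv with hdv | hdv
      · exact absurd ⟨s, hs, hdv⟩ hQ
      · obtain ⟨w, hw⟩ := hdv
        have hwP : w ∈ P := by
          by_contra hwP
          exact hQ ⟨w, hwP, s, by linear_combination -hw⟩
        refine ⟨(w + e * s) * s, ?_, s * w, ?_⟩
        · refine fun hmem => (hP.isPrime.mem_or_mem hmem).elim (fun h1 => ?_) hs
          have : e * s ∈ P := (Ideal.add_mem_iff_right P hwP).1 h1
          exact (hP.isPrime.mem_or_mem this).elim heP hs
        · linear_combination (e * s) * hw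
  · refine dvd_of_forall_maximal _ _ fun P hP => ?_
    have := hP.isPrime
    by_cases hQ : Q P
    · obtain ⟨s, hs, w, hw⟩ := hQ
      have heP : e ∈ P := (Finset.inf_le ((hsA P).2 ⟨hP, s, hs, w, hw⟩) : K ≤ id P) heK
      refine ⟨(s + e * w) * s, ?_, s * w, ?_⟩
      · refine fun hmem => (hP.isPrime.mem_or_mem hmem).elim (fun h1 => ?_) hs
        exact hs ((Ideal.add_mem_iff_left P (P.mul_mem_right w heP)).1 h1)
      · linear_combination s * hw
    · have heP : e ∉ P := heB P ((hsB P).2 ⟨hP, hQ⟩)
      obtain ⟨s, hs, hdv⟩ := H P hP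
      rcases hdv with hdv | hdv
      · exact absurd ⟨s, hs, hdv⟩ hQ
      · obtain ⟨w, hw⟩ := hdv
        have hwP : w ∈ P := by
          by_contra hwP
          exact hQ ⟨w, hwP, s, by linear_combination -hw⟩
        refine ⟨w + e * s, ?_, s, ?_⟩
        · intro hmem
          have : e * s ∈ P := (Ideal.add_mem_iff_right P hwP).1 hmem
          exact (hP.isPrime.mem_or_mem this).elim heP hs
        · linear_combination (-1 : B) * hw

end Semilocal



lemma local_condition {B T : Type*} [CommRing B] [CommRing T] (ι : B →+* T)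
    (hι : Function.Injective ι)
    (α β : B) (x : T) (hx : ι α * x = ι β) (n : ℕ) (Y Z D : ℕ → B)
    (hZ : ∀ k < n, ι (Z k) = x * ι (Y k)) (hrec : ∀ k < n, Y (k+1) = Z k + D (k+1))
    (hY0 : Y 0 = D 0) (hYn : Y n = 0) (i : ℕ) (hi : i ≤ n) (hu : IsUnit (D i))
    (P : Ideal B) (hP : P.IsPrime) : ∃ s, s ∉ P ∧ (α ∣ s * β ∨ β ∣ s * α) := by
  by_cases hA : ∃ k < n, Y k ∉ P
  · obtain ⟨k, hk, hYk⟩ := hA
    refine ⟨Y k, hYk, Or.inl ⟨Z k, hι ?_⟩⟩
    rw [map_mul, map_mul, hZ k hk, ← hx]
    ring
  · push Not at hA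
    have hall : ∀ k ≤ n, Y k ∈ P := by
      intro k hk
      rcases Nat.lt_or_eq_of_le hk with h | h
      · exact hA k h
      · rw [h, hYn]; exact zero_mem _
    cases i with
    | zero =>
      exfalso
      apply hP.ne_top
      exact Ideal.eq_top_of_isUnit_mem _ (hY0 ▸ hall 0 (Nat.zero_le _)) hu
    | succ k =>
      have hk : k < n := hi
      have hZk : Z k ∉ P := by
        intro hmem
        apply hP.ne_top
        refine Ideal.eq_top_of_isUnit_mem _ ?_ hu
        have : D (k+1) = Y (k+1) - Z k := by rw [hrec k hk]; ring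
        rw [this]
        exact P.sub_mem (hall (k+1) hi) hmem
      refine ⟨Z k, hZk, Or.inr ⟨Y k, hι ?_⟩⟩
      rw [map_mul, map_mul, hZ k hk, ← hx]
      ring


section Main
variable {R : Type u} [CommRing R] [IsNoetherianRing R] [IsLocalRing R]

lemma prime_eq_maximalIdeal_of_mem [Ring.KrullDimLE 1 R] {s : R} (hs : s ∈ nonZeroDivisors R)
    (p : Ideal R) (hp : p.IsPrime) (hsp : s ∈ p) : p = IsLocalRing.maximalIdeal R := by
  rcases Ring.krullDimLE_one_iff.1 ‹_› p hp with hmin | hmax
  · exact absurd hs (Set.disjoint_left.1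
      (Ideal.disjoint_nonZeroDivisors_of_mem_minimalPrimes hmin) hsp)
  · exact IsLocalRing.eq_maximalIdeal hmax

lemma exists_maximalIdeal_pow_le_span [Ring.KrullDimLE 1 R] {s : R} (hs : s ∈ nonZeroDivisors R) :
    ∃ N : ℕ, IsLocalRing.maximalIdeal R ^ N ≤ Ideal.span {s} := by
  have hrad : IsLocalRing.maximalIdeal R ≤ (Ideal.span {s}).radical := by
    rw [Ideal.radical_eq_sInf]
    refine le_sInf ?_
    rintro p ⟨hsp, hp⟩
    rw [prime_eq_maximalIdeal_of_mem hs p hp (hsp (Ideal.mem_span_singleton_self s))]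
  exact Ideal.exists_pow_le_of_le_radical_of_fg hrad (IsNoetherian.noetherian _)

/-- The assembled statement, with `R'` a subalgebra of the total ring of fractions. -/
theorem exists_subalgebra_common_factor [Ring.KrullDimLE 1 R] (a b : R)
    (ha : a ∈ nonZeroDivisors R) (hb : b ∈ nonZeroDivisors R)
    (ham : a ∈ IsLocalRing.maximalIdeal R) :
    ∃ R' : Subalgebra R (Localization (nonZeroDivisors R)),
      Module.Finite R R' ∧
      (∃ n : ℕ, ∀ r ∈ IsLocalRing.maximalIdeal R ^ n, ∀ z : R', ∃ r' : R,
        algebraMap R R' r' = r • z) ∧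
      ∃ t a' b' : R', t ∈ nonZeroDivisors R' ∧ a' ∈ nonZeroDivisors R' ∧
        b' ∈ nonZeroDivisors R' ∧ algebraMap R R' a = t * a' ∧ algebraMap R R' b = t * b' ∧
        Ideal.span {a', b'} = ⊤ := by
  classical
  set T := Localization (nonZeroDivisors R) with hT
  have hinjT : Function.Injective (algebraMap R T) := IsLocalization.injective T le_rfl
  have haU : IsUnit (algebraMap R T a) := IsLocalization.map_units T ⟨a, ha⟩
  have hbU : IsUnit (algebraMap R T b) := IsLocalization.map_units T ⟨b, hb⟩
  obtain ⟨ainv, hainv⟩ := haU.exists_right_inv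
  set x : T := algebraMap R T b * ainv with hx
  have hax : algebraMap R T a * x = algebraMap R T b := by
    rw [hx, mul_left_comm, hainv, mul_one]
  obtain ⟨n, P, ⟨i, hi, hiu⟩, hrel⟩ := exists_relation ha ham b
  set d : ℕ → T := fun j => algebraMap R T (P.coeff j) with hd
  have hdint : ∀ j, IsIntegral R (d j) := fun j => isIntegral_algebraMap
  set y : ℕ → T := horner x d with hy
  have hyn : y n = 0 := by
    have h1 : algebraMap R T a ^ n * y n = 0 := by
      rw [hy, horner_eq_sum, Finset.mul_sum, ← map_zero (algebraMap R T), ← hrel, map_sum]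
      refine Finset.sum_congr rfl fun j hj => ?_
      have hj' : j ≤ n := Nat.lt_succ_iff.1 (Finset.mem_range.1 hj)
      have h2 : algebraMap R T a ^ n = algebraMap R T a ^ (n - j) * algebraMap R T a ^ j := by
        rw [← pow_add, Nat.sub_add_cancel hj']
      rw [h2, map_mul, map_mul, map_pow, map_pow, ← hax, mul_pow]
      ring
    exact (haU.pow n).mul_right_eq_zero.1 h1
  have hyint : ∀ k ≤ n, IsIntegral R (y k) := isIntegral_horner x n d hdint hyn
  set R' : Subalgebra R T := Algebra.adjoin R (Set.range fun k : Fin (n+1) => y k) with hR'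
  have hfinR' : Module.Finite R R' :=
    Algebra.finite_adjoin_of_finite_of_isIntegral (Set.finite_range _) (by
      rintro _ ⟨k, rfl⟩
      exact hyint k (Nat.lt_succ_iff.1 k.2))
  have hymem : ∀ k ≤ n, y k ∈ R' := fun k hk =>
    Algebra.subset_adjoin ⟨⟨k, Nat.lt_succ_of_le hk⟩, rfl⟩
  have hxy : ∀ k < n, x * y k ∈ R' := by
    intro k hk
    have : x * y k = y (k+1) - algebraMap R T (P.coeff (k+1)) := by
      rw [hy, horner_succ]; ring
    rw [this]
    exact R'.sub_mem (hymem (k+1) hk) (R'.algebraMap_mem _)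
  refine ⟨R', hfinR', ?_, ?_⟩
  · -- conductor
    obtain ⟨G, hG⟩ := (Module.Finite.fg_top : (⊤ : Submodule R R').FG)
    obtain ⟨s, hs⟩ := IsLocalization.exist_integer_multiples_of_finset (nonZeroDivisors R)
      (G.image (Subtype.val : R' → T))
    have hall : ∀ z : R', ∃ r : R, algebraMap R T r = (s : R) • (z : T) := by
      intro z
      have hz : z ∈ Submodule.span R (G : Set R') := by rw [hG]; trivial
      induction hz using Submodule.span_induction with
      | mem z hz =>
        obtain ⟨r, hr⟩ := hs (z : T) (Finset.mem_image.2 ⟨z, hz, rfl⟩)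
        exact ⟨r, hr⟩
      | zero => exact ⟨0, by simp⟩
      | add z w _ _ hz hw =>
        obtain ⟨r1, h1⟩ := hz
        obtain ⟨r2, h2⟩ := hw
        exact ⟨r1 + r2, by rw [map_add, h1, h2]; simp [smul_add]⟩
      | smul c z _ hz =>
        obtain ⟨r1, h1⟩ := hz
        refine ⟨c * r1, ?_⟩
        rw [Subalgebra.coe_smul, map_mul, h1, Algebra.smul_def c, Algebra.smul_def,
          Algebra.smul_def]
        ring
    obtain ⟨N, hN⟩ := exists_maximalIdeal_pow_le_span s.2
    refine ⟨N, fun r hr z => ?_⟩
    obtain ⟨c, hc⟩ := Ideal.mem_span_singleton'.1 (hN hr)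
    obtain ⟨r1, h1⟩ := hall z
    refine ⟨c * r1, Subtype.ext ?_⟩
    change algebraMap R T (c * r1) = r • (z : T)
    rw [map_mul, h1, ← hc]
    simp only [Algebra.smul_def, map_mul]
    ring
  · -- the generator
    have hfinmax : {Q : Ideal R' | Q.IsMaximal}.Finite := by
      refine (Algebra.QuasiFinite.finite_primesOver (S := R')
        (IsLocalRing.maximalIdeal R)).subset ?_
      intro Q hQ
      have hQ' : Q.IsMaximal := hQ
      exact ⟨hQ'.isPrime, ⟨(IsLocalRing.eq_maximalIdeal
        (Ideal.isMaximal_comap_of_isIntegral_of_isMaximal Q)).symm⟩⟩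
    set ι : R' →+* T := R'.val.toRingHom with hι
    have hιinj : Function.Injective ι := Subtype.val_injective
    let Y : ℕ → R' := fun k => if h : k ≤ n then ⟨y k, hymem k h⟩ else 0
    let Z : ℕ → R' := fun k => if h : k < n then ⟨x * y k, hxy k h⟩ else 0
    let D : ℕ → R' := fun k => algebraMap R R' (P.coeff k)
    have hloc : ∀ Q : Ideal R', Q.IsMaximal → ∃ s, s ∉ Q ∧
        (algebraMap R R' a ∣ s * algebraMap R R' b ∨ algebraMap R R' b ∣ s * algebraMap R R' a) := by
      intro Q hQ
      refine local_condition ι hιinj (algebraMap R R' a) (algebraMap R R' b) x hax n Y Z D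
        ?_ ?_ ?_ ?_ i hi (hiu.map _) Q hQ.isPrime
      · intro k hk
        simp only [Y, Z, dif_pos hk, dif_pos hk.le]
        rfl
      · intro k hk
        apply Subtype.ext
        simp only [Y, Z, D, dif_pos hk, dif_pos (Nat.succ_le_of_lt hk)]
        change y (k+1) = x * y k + algebraMap R T (P.coeff (k+1))
        rw [hy, horner_succ]
      · apply Subtype.ext
        simp only [Y, D, dif_pos (Nat.zero_le n)]
        rfl
      · apply Subtype.ext
        simp only [Y, dif_pos le_rfl]
        exact hyn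
    obtain ⟨e, ⟨a', ha'⟩, ⟨b', hb'⟩⟩ := exists_generator_of_semilocal hfinmax _ _ hloc
    set t : R' := algebraMap R R' a + e * algebraMap R R' b with ht
    have hNZD : ∀ c : R, IsUnit (algebraMap R T c) → algebraMap R R' c ∈ nonZeroDivisors R' := by
      intro c hc
      rw [mem_nonZeroDivisors_iff_right]
      intro z hz
      apply hιinj
      have : ι z * algebraMap R T c = 0 := by
        have := congrArg ι hz
        rwa [map_mul, map_zero] at this
      rw [map_zero]
      exact hc.mul_left_eq_zero.1 this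
    have haN := hNZD a haU
    have hbN := hNZD b hbU
    rw [ha'] at haN
    rw [hb'] at hbN
    have htN : t ∈ nonZeroDivisors R' := (mul_mem_nonZeroDivisors.1 haN).1
    refine ⟨t, a', b', htN, (mul_mem_nonZeroDivisors.1 haN).2, (mul_mem_nonZeroDivisors.1 hbN).2,
      ha', hb', ?_⟩
    rw [Ideal.eq_top_iff_one, Ideal.mem_span_pair]
    refine ⟨1, e, ?_⟩
    have h1 : t * (1 * a' + e * b') = t * 1 := by
      rw [mul_one]
      conv_rhs => rw [ht, ha', hb']
      ring
    exact mul_cancel_left_mem_nonZeroDivisors htN |>.1 h1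

end Main

end Groth.Agent.H93.CycBlow
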