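import Groth.Agent.Lead.FittingLoc
import Groth.Agent.H71.FittX.Grass
import Groth.Agent.S6895
import Mathlib

/-!
# Fitting ideals vs. finite projective modules of constant rank (helper93)
-/

set_option autoImplicit false

open TensorProduct Groth.Agent.Lead

namespace Groth.Agent.H93.FittProj

universe u

/-- For a finite projective module of constant rank `r`, the `r`-th Fitting ideal is the unit ideal. -/
theorem fitt_eq_top_of_rankAtStalk {B : Type u} [CommRing B] (N : Type u) [AddCommGroup N]
    [Module B N] [Module.Finite B N] [Module.Projective B N] (r : ℕ)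
    (hr : ∀ p : PrimeSpectrum B, Module.rankAtStalk (R := B) N p = r) :
    Fitt.ideal B N r = ⊤ := by
  by_contra hne
  obtain ⟨p, hpmax, hle⟩ := Ideal.exists_le_maximal _ hne
  have hp := hpmax.isPrime
  have h1 : ¬ Module.finrank p.ResidueField (p.ResidueField ⊗[B] N) ≤ r := fun h =>
    ((not_fitt_ideal_le_iff_finrank N r p).mpr h) hle
  apply h1
  have h2 := Module.rankAtStalk_eq (R := B) (M := N) ⟨p, hp⟩
  rw [hr] at h2
  exact h2.symm.le

/-- Fitting criterion: a finite module is projective of constant rank `r` iff `Fit_k = 0` for
`k < r` and `Fit_r = R`. -/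
theorem projective_rank_iff_fitt {B : Type u} [CommRing B] (N : Type u) [AddCommGroup N]
    [Module B N] [Module.Finite B N] (r : ℕ) :
    (Module.Projective B N ∧ ∀ p : PrimeSpectrum B, Module.rankAtStalk (R := B) N p = r) ↔
      ((∀ k, k < r → Fitt.ideal B N k = ⊥) ∧ Fitt.ideal B N r = ⊤) := by
  constructor
  · rintro ⟨hproj, hr⟩
    exact ⟨fun k hk => Groth.Agent.H71.FittX.fitt_ideal_eq_bot_of_rankAtStalk N r hr k hk,
      fitt_eq_top_of_rankAtStalk N r hr⟩
  · rintro ⟨h0, h1⟩
    have htop : ∀ k, r ≤ k → Fitt.ideal B N k = ⊤ := fun k hk =>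
      top_le_iff.mp (h1 ▸ fitt_ideal_antitone (R := B) (M := N) hk)
    have hloc := (Groth.Agent.S6895.result (R := B) N r).mpr ⟨h0, htop⟩
    -- the set of good elements
    let s : Set B := {f | Module.Free (Localization.Away f) (LocalizedModule (Submonoid.powers f) N)}
    have hs : Ideal.span s = ⊤ := by
      by_contra hne
      obtain ⟨p, hpmax, hle⟩ := Ideal.exists_le_maximal _ hne
      have := hpmax.isPrime
      obtain ⟨f, hf, hfree, -⟩ := hloc p
      exact hf (hle (Ideal.subset_span hfree))
    have hfin : ∀ g : s, Module.Finite (Localization.Away g.1)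
        (LocalizedModule (Submonoid.powers g.1) N) := fun g =>
      Module.Finite.of_isLocalizedModule (Submonoid.powers g.1)
        (LocalizedModule.mkLinearMap (Submonoid.powers g.1) N)
    have hfp : Module.FinitePresentation B N := by
      refine Module.FinitePresentation.of_localizationSpan s hs fun g => ?_
      have hfree : Module.Free (Localization.Away g.1)
          (LocalizedModule (Submonoid.powers g.1) N) := g.2
      have := hfin g
      change Module.FinitePresentation (Localization.Away g.1)
        (LocalizedModule (Submonoid.powers g.1) N)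
      exact Module.finitePresentation_of_projective _ _
    have hflat : Module.Flat B N := by
      refine Module.flat_of_localized_span B N s hs fun g => ?_
      have hfree : Module.Free (Localization.Away g.1)
          (LocalizedModule (Submonoid.powers g.1) N) := g.2
      change Module.Flat B (LocalizedModule (Submonoid.powers g.1) N)
      exact Module.Flat.trans B (Localization.Away g.1) _
    have hproj : Module.Projective B N := Module.Flat.projective_of_finitePresentation
    refine ⟨hproj, fun p => ?_⟩
    rw [Module.rankAtStalk_eq]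
    have hp : p.asIdeal.IsPrime := p.2
    have hle : Module.finrank p.asIdeal.ResidueField (p.asIdeal.ResidueField ⊗[B] N) ≤ r := by
      rw [← not_fitt_ideal_le_iff_finrank N r p.asIdeal, h1]
      intro htop
      exact hp.ne_top (top_le_iff.mp htop)
    have hge : r ≤ Module.finrank p.asIdeal.ResidueField (p.asIdeal.ResidueField ⊗[B] N) := by
      rcases Nat.eq_zero_or_pos r with h | h
      · omega
      · by_contra hlt
        push Not at hlt
        have h2 : Module.finrank p.asIdeal.ResidueField (p.asIdeal.ResidueField ⊗[B] N) ≤ r - 1 := by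
          omega
        rw [← not_fitt_ideal_le_iff_finrank N (r - 1) p.asIdeal, h0 (r - 1) (by omega)] at h2
        exact h2 bot_le
    exact le_antisymm hle hge

/-- Over a domain, every Fitting ideal of a finite projective module is `⊥` or `⊤`. -/
theorem fitt_eq_bot_or_top_of_isDomain {E : Type u} [CommRing E] [IsDomain E] (Q : Type u)
    [AddCommGroup Q] [Module E Q] [Module.Finite E Q] [Module.Projective E Q] (k : ℕ) :
    Fitt.ideal E Q k = ⊥ ∨ Fitt.ideal E Q k = ⊤ := by
  let r := Module.rankAtStalk (R := E) Q ⟨⊥, Ideal.isPrime_bot⟩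
  have hr : ∀ p : PrimeSpectrum E, Module.rankAtStalk (R := E) Q p = r := fun p =>
    (Module.rankAtStalk_eq_of_le_of_finite_of_flat Q
      (show (⟨⊥, Ideal.isPrime_bot⟩ : PrimeSpectrum E) ≤ p from bot_le)).symm
  rcases lt_or_ge k r with hk | hk
  · exact Or.inl (Groth.Agent.H71.FittX.fitt_ideal_eq_bot_of_rankAtStalk Q r hr k hk)
  · right
    have h1 := fitt_eq_top_of_rankAtStalk Q r hr
    exact top_le_iff.mp (h1 ▸ fitt_ideal_antitone (R := E) (M := Q) hk)

end Groth.Agent.H93.FittProj
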