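import Groth.Agent.H93.PointExt
import Groth.Agent.H82.Cartier
import Groth.Agent.H93.DualMod

/-! Rational points separate elements of a commutative Hopf algebra over an algebraically closed
field of characteristic zero (no finiteness hypothesis). -/

set_option autoImplicit false
universe u v

open TensorProduct

namespace Groth.Agent.H93.PointExt

open Groth.Agent.H93.HopfSub

variable {k : Type u} [Field k] {A : Type v} [CommRing A] [HopfAlgebra k A]

/-- density of rational points: an element vanishing at every `k`-point is zero. -/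
theorem eq_zero_of_forall_point [IsAlgClosed k] [CharZero k] (a : A)
    (h : ∀ g : A →ₐ[k] k, g a = 0) : a = 0 := by
  classical
  obtain ⟨F, haF, hFfg, hF⟩ := Groth.Agent.H83.HopfFG.exists_fg_hopfSub (k := k) ({a} : Finset A)
  have haF' : a ∈ F := haF (by simp)
  letI := HopfSub.hopfAlgebra hF
  haveI : Algebra.FiniteType k ↥F := (Subalgebra.fg_iff_finiteType F).mp hFfg
  haveI : IsReduced ↥F := Groth.Agent.H82.Cartier.isReduced (k := k)
  by_contra hne
  have hne' : (⟨a, haF'⟩ : ↥F) ≠ 0 := fun h0 => hne (congrArg Subtype.val h0)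
  have hnil : ¬ IsNilpotent (⟨a, haF'⟩ : ↥F) := fun hn => hne' hn.eq_zero
  obtain ⟨g, hg⟩ := Groth.Agent.H48.exists_algHom_apply_ne_zero (k := k) _ hnil
  obtain ⟨g', hg'⟩ := exists_extend hF g
  apply hg
  rw [← hg' ⟨a, haF'⟩]
  exact h g'

/-- a tensor `y ∈ U ⊗ A` all of whose slices by rational points vanish is zero. -/
theorem tensor_eq_zero_of_forall_point [IsAlgClosed k] [CharZero k] {U : Type*} [AddCommGroup U]
    [Module k U] (y : U ⊗[k] A)
    (hpt : ∀ g : A →ₐ[k] k, Groth.Agent.H93.slice U g.toLinearMap y = 0) : y = 0 := by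
  have hcomm : TensorProduct.comm k U A y = 0 := by
    apply Groth.Agent.H93.eq_zero_of_slice_eq_zero
    intro φ
    apply eq_zero_of_forall_point (k := k)
    intro g
    have key : ∀ z : U ⊗[k] A, g (Groth.Agent.H93.slice A φ (TensorProduct.comm k U A z)) =
        φ (Groth.Agent.H93.slice U g.toLinearMap z) := by
      intro z
      induction z using TensorProduct.induction_on with
      | zero => simp
      | tmul w a =>
        rw [TensorProduct.comm_tmul, Groth.Agent.H93.slice_tmul,
          Groth.Agent.H93.slice_tmul, map_smul, map_smul, smul_eq_mul, smul_eq_mul, mul_comm]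
        rfl
      | add s t hs ht => simp only [map_add, hs, ht]
    rw [key, hpt g, map_zero]
  have := congrArg (TensorProduct.comm k U A).symm hcomm
  simpa using this

/-- a subspace of a comodule stable under all rational points is a subcomodule. -/
theorem isSubcomod_of_stable [IsAlgClosed k] [CharZero k] {V : Type*} [AddCommGroup V]
    [Module k V] [HopfRep.Comod k A V] (W : Submodule k V)
    (hW : ∀ g : A →ₐ[k] k, W.map (HopfRep.Comod.act k A V g) ≤ W) :
    HopfRep.IsSubcomod (k := k) (A := A) W := by
  intro w hw
  have hex : Function.Exact (W.subtype.rTensor A) (W.mkQ.rTensor A) :=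
    rTensor_exact A (LinearMap.exact_subtype_mkQ W) (Submodule.mkQ_surjective W)
  rw [← LinearMap.exact_iff.mp hex, LinearMap.mem_ker]
  apply tensor_eq_zero_of_forall_point (k := k)
  intro g
  rw [Groth.Agent.H93.slice_rTensor_apply, Submodule.mkQ_apply, Submodule.Quotient.mk_eq_zero]
  exact hW g ⟨w, hw, rfl⟩

end Groth.Agent.H93.PointExt
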