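import Groth.Agent.H93.Integral
import Groth.Agent.H40.LinRed
import Groth.Agent.H40.Retract
import Mathlib.RingTheory.HopfAlgebra.TensorProduct

set_option autoImplicit false
universe u v w

open TensorProduct

namespace Groth.Agent.H93

section IsInt

variable {k : Type u} [CommRing k] {A : Type v} [CommRing A] [Bialgebra k A]

/-- the integral identity `Σ α(a₁) a₂ = α(a) 1` -/
def IsInt (α : A →ₗ[k] k) : Prop :=
  ∀ a : A, TensorProduct.lid k A (α.rTensor A (Coalgebra.comul (R := k) a)) = α a • (1 : A)

theorem isComodHom_iff_isInt (α : A →ₗ[k] k) :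
    @Hoch.IsComodHom k _ A _ _ _ A _ _ _ k _ _ (HopfRep.Comod.trivial k A k) α ↔ IsInt α := by
  constructor
  · intro hα a
    have h := LinearMap.congr_fun hα a
    simp only [LinearMap.comp_apply] at h
    have h' : α.rTensor A (Coalgebra.comul (R := k) a) = α a ⊗ₜ[k] (1 : A) := h.symm
    rw [h']
    simp
  · intro hα
    apply LinearMap.ext
    intro a
    apply (TensorProduct.lid k A).injective
    simp only [LinearMap.comp_apply]
    change TensorProduct.lid k A (α a ⊗ₜ[k] (1 : A)) = _
    rw [TensorProduct.lid_tmul]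
    exact (hα a).symm

end IsInt

section LinRed

variable {k : Type u} [Field k] {A : Type v} [CommRing A] [HopfAlgebra k A]

theorem exists_integral_of_linRed (hG : HopfRep.IsLinearlyReductive k A) :
    ∃ α : A →ₗ[k] k, IsInt α ∧ α 1 = 1 := by
  letI : HopfRep.Comod k A k := HopfRep.Comod.trivial k A k
  have hss : HopfRep.IsSemisimpleComod k A A :=
    H40.isSemisimpleComod_of_isLinearlyReductive hG
  have hi : Hoch.IsComodHom A (Algebra.linearMap k A) := by
    unfold Hoch.IsComodHom
    apply LinearMap.ext
    intro c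
    simp only [LinearMap.comp_apply]
    change Coalgebra.comul (R := k) (algebraMap k A c) = (Algebra.linearMap k A).rTensor A (c ⊗ₜ[k] (1 : A))
    rw [LinearMap.rTensor_tmul, Algebra.linearMap_apply, Bialgebra.comul_algebraMap,
      Algebra.TensorProduct.algebraMap_apply]
  have hinj : Function.Injective (Algebra.linearMap k A) := by
    have : Nontrivial A := by
      refine ⟨⟨0, 1, fun h => ?_⟩⟩
      have := congrArg (Coalgebra.counit (R := k)) h
      simp at this
    exact (algebraMap k A).injective
  have hU : HopfRep.IsSubcomod (k := k) (A := A) (LinearMap.range (Algebra.linearMap k A)) := by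
    rw [← Submodule.map_top]
    exact H40.isSubcomod_map hi (by rw [H40.isSubcomod_iff_slice]; intro _ _ _; trivial)
  obtain ⟨K, hK, hc⟩ := hss _ hU
  obtain ⟨r, hr, hri⟩ := H40.exists_retraction (Algebra.linearMap k A) hi hinj K hK hc
  refine ⟨r, (isComodHom_iff_isInt r).1 hr, ?_⟩
  have := LinearMap.congr_fun hri 1
  simpa using this

theorem linRed_iff_exists_integral :
    HopfRep.IsLinearlyReductive k A ↔ ∃ α : A →ₗ[k] k, IsInt α ∧ α 1 = 1 := by
  constructor
  · exact exists_integral_of_linRed
  · rintro ⟨α, hα, h1⟩ V _ _ _ _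
    exact isSemisimpleComod_of_integral α ((isComodHom_iff_isInt α).2 hα) h1

end LinRed

section BC


variable {k : Type u} [Field k] {K : Type v} [Field K] [Algebra k K]
variable {A : Type w} [CommRing A] [HopfAlgebra k A]

/-- base change of a functional -/
noncomputable def bcFun (α : A →ₗ[k] k) : K ⊗[k] A →ₗ[K] K :=
  LinearMap.liftBaseChange K (Algebra.linearMap k K ∘ₗ α)

theorem bcFun_tmul (α : A →ₗ[k] k) (c : K) (a : A) :
    bcFun (K := K) α (c ⊗ₜ a) = c * algebraMap k K (α a) := by
  simp [bcFun]

theorem isInt_bcFun (α : A →ₗ[k] k) (hα : IsInt α) : IsInt (bcFun (K := K) α) := by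
  intro x
  induction x using TensorProduct.induction_on with
  | zero => simp
  | add x y hx hy => simp only [map_add, hx, hy, add_smul]
  | tmul c a =>
    have e : ∀ (r : k) (c : K) (a : A), (c * algebraMap k K r) ⊗ₜ[k] a = c ⊗ₜ[k] (r • a) := by
      intro r c a
      rw [mul_comm, ← Algebra.smul_def, TensorProduct.smul_tmul]
    have key : ∀ t : A ⊗[k] A,
        TensorProduct.lid K (K ⊗[k] A) ((bcFun (K := K) α).rTensor (K ⊗[k] A)
          (AlgebraTensorModule.tensorTensorTensorComm k K k K K K A A
            (((1 : K) ⊗ₜ[K] c) ⊗ₜ[k] t))) =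
        c ⊗ₜ[k] (TensorProduct.lid k A (α.rTensor A t)) := by
      intro t
      induction t using TensorProduct.induction_on with
      | zero => simp
      | add x y hx hy => simp only [tmul_add, map_add, hx, hy]
      | tmul a₁ a₂ =>
        simp only [AlgebraTensorModule.tensorTensorTensorComm_tmul, LinearMap.rTensor_tmul,
          bcFun_tmul, one_mul, TensorProduct.lid_tmul, TensorProduct.smul_tmul', smul_eq_mul]
        rw [mul_comm, e]
    rw [TensorProduct.comul_tmul, CommSemiring.comul_apply, key, hα a, bcFun_tmul,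
      Algebra.TensorProduct.one_def, TensorProduct.smul_tmul', smul_eq_mul, mul_one, e]




theorem isInt_descend (π : K →ₗ[k] k) (β : K ⊗[k] A →ₗ[K] K) (hβ : IsInt β) :
    IsInt (π ∘ₗ β.restrictScalars k ∘ₗ (TensorProduct.mk k K A 1)) := by
  intro a
  have key : ∀ t : A ⊗[k] A,
      TensorProduct.lid K (K ⊗[k] A) (β.rTensor (K ⊗[k] A)
        (AlgebraTensorModule.tensorTensorTensorComm k K k K K K A A
          (((1 : K) ⊗ₜ[K] (1 : K)) ⊗ₜ[k] t))) =
      (β.restrictScalars k ∘ₗ (TensorProduct.mk k K A 1)).rTensor A t := by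
    intro t
    induction t using TensorProduct.induction_on with
    | zero => simp
    | add x y hx hy => simp only [tmul_add, map_add, hx, hy]
    | tmul a₁ a₂ =>
      simp only [AlgebraTensorModule.tensorTensorTensorComm_tmul, LinearMap.rTensor_tmul,
        TensorProduct.lid_tmul, TensorProduct.smul_tmul', smul_eq_mul, mul_one,
        LinearMap.comp_apply, TensorProduct.mk_apply, LinearMap.restrictScalars_apply]
  have h := hβ ((1 : K) ⊗ₜ[k] a)
  rw [TensorProduct.comul_tmul, CommSemiring.comul_apply, key] at h
  rw [LinearMap.rTensor_comp, LinearMap.comp_apply, h, Algebra.TensorProduct.one_def,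
    TensorProduct.smul_tmul', smul_eq_mul, mul_one, LinearMap.rTensor_tmul, TensorProduct.lid_tmul]
  rfl


theorem linRed_iff_baseChange :
    HopfRep.IsLinearlyReductive k A ↔ HopfRep.IsLinearlyReductive K (K ⊗[k] A) := by
  rw [linRed_iff_exists_integral, linRed_iff_exists_integral]
  constructor
  · rintro ⟨α, hα, h1⟩
    refine ⟨bcFun α, isInt_bcFun α hα, ?_⟩
    rw [Algebra.TensorProduct.one_def, bcFun_tmul, h1, map_one, mul_one]
  · rintro ⟨β, hβ, h1⟩
    obtain ⟨π, hπ⟩ := LinearMap.exists_leftInverse_of_injective (Algebra.linearMap k K)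
      (LinearMap.ker_eq_bot.2 (algebraMap k K).injective)
    refine ⟨_, isInt_descend π β hβ, ?_⟩
    simp only [LinearMap.comp_apply, TensorProduct.mk_apply, LinearMap.restrictScalars_apply]
    rw [← Algebra.TensorProduct.one_def, h1]
    have := LinearMap.congr_fun hπ 1
    simpa using this

end BC

end Groth.Agent.H93
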