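import Groth.Agent.H93.Reynolds
import Groth.Agent.H93.LinRedInt
import Groth.Prelude.Def_GLin

set_option autoImplicit false
universe u v w

open TensorProduct

namespace Groth.Agent.H93

section ReynoldsAlg

variable {k : Type u} [Field k] {A : Type v} [CommRing A] [HopfAlgebra k A]
variable {R : Type w} [CommRing R] [Algebra k R] [HopfRep.Comod k A R] [GLin.IsCoactAlg k A R]

omit [GLin.IsCoactAlg k A R] in
theorem slice_tmul_one_mul (ψ : A →ₗ[k] k) (f : R) (x : R ⊗[k] A) :
    slice R ψ ((f ⊗ₜ[k] (1 : A)) * x) = f * slice R ψ x := by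
  induction x using TensorProduct.induction_on with
  | zero => simp
  | add x y hx hy => simp only [mul_add, map_add, hx, hy]
  | tmul r a =>
    rw [Algebra.TensorProduct.tmul_mul_tmul, one_mul, slice_tmul, slice_tmul, mul_smul_comm]

/-- the Reynolds operator is linear over the invariants -/
theorem reyn_mul_of_mem_invariants (α : A →ₗ[k] k) (f : R) (hf : f ∈ GLin.invariants k A R)
    (r : R) : reyn R α (f * r) = f * reyn R α r := by
  have hf' : HopfRep.Comod.coact (k := k) (A := A) f = f ⊗ₜ[k] (1 : A) := hf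
  change slice R (reynFun k A α) (HopfRep.Comod.coact (k := k) (A := A) (f * r)) =
    f * slice R (reynFun k A α) (HopfRep.Comod.coact (k := k) (A := A) r)
  rw [GLin.IsCoactAlg.coact_mul, hf', slice_tmul_one_mul]

/-- existence of a Reynolds operator for a linearly reductive group acting on an algebra -/
theorem exists_reynolds (hG : HopfRep.IsLinearlyReductive k A) :
    ∃ E : R →ₗ[k] R, (∀ r, E r ∈ GLin.invariants k A R) ∧
      (∀ r ∈ GLin.invariants k A R, E r = r) ∧
      (∀ f ∈ GLin.invariants k A R, ∀ r, E (f * r) = f * E r) ∧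
      (∀ U : Submodule k R, HopfRep.IsSubcomod (k := k) (A := A) U → ∀ r ∈ U, E r ∈ U) := by
  obtain ⟨α, hαint, h1⟩ := exists_integral_of_linRed hG
  have hα := (isComodHom_iff_isInt α).2 hαint
  refine ⟨reyn R α, fun r => reyn_mem_fixedPts α hα r, fun r hr => reyn_of_mem_fixedPts α h1 r hr,
    fun f hf r => reyn_mul_of_mem_invariants α f hf r, fun U hU r hr => ?_⟩
  exact dualAct_mem_of_isSubcomod hU _ hr

end ReynoldsAlg

end Groth.Agent.H93
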