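import Mathlib
import Groth.Prelude.Def_CAlg
import Groth.Agent.H15.Depth

/-!
# Depth of a retract (direct summand) is at least the depth of the module
-/

set_option autoImplicit false
universe u v w

open RingTheory.Sequence

namespace Groth.Agent.H93

section Retract

variable {R : Type u} [CommRing R]

theorem isWeaklyRegular_of_retract (rs : List R) :
    ∀ {N : Type v} {M : Type w} [AddCommGroup N] [Module R N] [AddCommGroup M] [Module R M]
      (i : N →ₗ[R] M) (e : M →ₗ[R] N) (_ : e ∘ₗ i = LinearMap.id),
      IsWeaklyRegular M rs → IsWeaklyRegular N rs := by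
  induction rs with
  | nil => intro N M _ _ _ _ i e h _; exact IsWeaklyRegular.nil R N
  | cons r rs ih =>
    intro N M _ _ _ _ i e h hM
    rw [isWeaklyRegular_cons_iff] at hM ⊢
    have hinj : Function.Injective i := by
      intro x y hxy
      have := congrArg e hxy
      have h1 := LinearMap.congr_fun h x
      have h2 := LinearMap.congr_fun h y
      simp only [LinearMap.comp_apply, LinearMap.id_apply] at h1 h2
      rw [h1, h2] at this
      exact this
    refine ⟨?_, ?_⟩
    · intro x y hxy
      apply hinj
      apply hM.1
      simp only at hxy ⊢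
      rw [← map_smul, ← map_smul, hxy]
    · apply ih (QuotSMulTop.map r i) (QuotSMulTop.map r e) _ hM.2
      rw [← QuotSMulTop.map_comp, h, QuotSMulTop.map_id]

theorem idealDepth_le_of_retract (I : Ideal R) {N : Type v} {M : Type w} [AddCommGroup N]
    [Module R N] [AddCommGroup M] [Module R M] (i : N →ₗ[R] M) (e : M →ₗ[R] N)
    (h : e ∘ₗ i = LinearMap.id) : LocCoh.idealDepth I M ≤ LocCoh.idealDepth I N := by
  by_cases hN : I • (⊤ : Submodule R N) = ⊤
  · rw [Groth.Agent.H15.idealDepth_eq_top_of_smul_top_eq I N hN]
    exact le_top
  · have hM : I • (⊤ : Submodule R M) ≠ ⊤ := by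
      intro hM
      apply hN
      rw [eq_top_iff]
      intro n _
      have h1 : i n ∈ I • (⊤ : Submodule R M) := by rw [hM]; trivial
      have h2 : e (i n) ∈ (I • (⊤ : Submodule R M)).map e := Submodule.mem_map_of_mem h1
      rw [Submodule.map_smul''] at h2
      have h3 := LinearMap.congr_fun h n
      simp only [LinearMap.comp_apply, LinearMap.id_apply] at h3
      rw [h3] at h2
      exact Submodule.smul_mono le_rfl le_top h2
    apply Groth.Agent.H15.idealDepth_le_of_forall I M hM
    intro rs hrs hmem
    exact Groth.Agent.H15.le_idealDepth I N (isWeaklyRegular_of_retract rs i e h hrs) hmem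

end Retract

end Groth.Agent.H93
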