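import Groth.Agent.H93.PointDense
import Mathlib

open CategoryTheory MonoidalCategory CartesianMonoidalCategory MonObj GrpObj AlgebraicGeometry

universe u

namespace Groth.Agent.H93.PointScheme

variable (k : Type u) [Field k] (G : Over (Spec (CommRingCat.of k))) [IsAffine G.left]

/-- the `k`-algebra structure on the global sections of an affine `k`-scheme. -/
@[reducible] noncomputable def algΓ' : Algebra k Γ(G.left, ⊤) :=
  @AlgebraicGeometry.instAlgebraCarrierObjOppositeOpensCarrierCarrierCommRingCatPresheafOpOpensTopOfOverSpecOfIsAffine (CommRingCat.of k) G.left ⟨G.hom⟩ _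

/-- the Hopf algebra structure on the global sections of an affine group scheme over `k`. -/
@[reducible] noncomputable def hopfΓ [GrpObj G] : HopfAlgebra k Γ(G.left, ⊤) :=
  @AlgebraicGeometry.instHopfAlgebraCarrierObjOppositeOpensCarrierCarrierCommRingCatPresheafOpOpensTopOfGrpObjOverSchemeSpecAsOverOfIsAffine (CommRingCat.of k) G.left ⟨G.hom⟩ (inferInstance : GrpObj G) _

theorem toAlgebra_eq [GrpObj G] : (hopfΓ k G).toAlgebra = algΓ' k G := rfl

theorem algebraMap_eq :
    Spec.map (CommRingCat.ofHom (@algebraMap k Γ(G.left, ⊤) _ _ (algΓ' k G))) =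
      G.left.isoSpec.inv ≫ G.hom := by
  have h := @algebraMap_presheafObj (R := CommRingCat.of k) (X := G.left) ⟨G.hom⟩ _
  have h2 : CommRingCat.ofHom (@algebraMap k Γ(G.left, ⊤) _ _ (algΓ' k G)) =
    (Spec.fullyFaithful.preimage (X := Opposite.op Γ(G.left, ⊤))
      (Y := Opposite.op (CommRingCat.of k)) (G.left.isoSpec.inv ≫ G.hom)).unop := by
    ext x
    exact congrFun (congrArg DFunLike.coe h) x
  rw [h2]
  exact Spec.fullyFaithful.map_preimage _

/-- the rational point of `G` attached to a `k`-algebra map `Γ(G) → k`. -/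
noncomputable def pointOf (g : @AlgHom k Γ(G.left, ⊤) k _ _ _ (algΓ' k G) _) :
    𝟙_ (Over (Spec (CommRingCat.of k))) ⟶ G :=
  Over.homMk (Spec.map (CommRingCat.ofHom (g : Γ(G.left, ⊤) →+* k)) ≫ G.left.isoSpec.inv) (by
    rw [Category.assoc, ← algebraMap_eq, ← Spec.map_comp, ← CommRingCat.ofHom_comp]
    let _ := algΓ' k G
    have : (g : Γ(G.left, ⊤) →+* k).comp (algebraMap k Γ(G.left, ⊤)) = RingHom.id k := by
      ext x
      exact g.commutes x
    rw [this]
    exact Spec.map_id _)

theorem pointOf_base (g : @AlgHom k Γ(G.left, ⊤) k _ _ _ (algΓ' k G) _) :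
    (pointOf k G g).left.base (IsLocalRing.closedPoint k) =
      G.left.isoSpec.inv.base (PrimeSpectrum.comap (g : Γ(G.left, ⊤) →+* k)
        (IsLocalRing.closedPoint k)) := rfl

/-- rational points of an affine group scheme over an algebraically closed field are dense. -/
theorem dense_points [GrpObj G] [IsAlgClosed k] :
    Dense {x : ↥G.left | ∃ g : 𝟙_ (Over (Spec (CommRingCat.of k))) ⟶ G,
      g.left.base (IsLocalRing.closedPoint k) = x} := by
  let _ := hopfΓ k G
  have hd := Groth.Agent.H93.PointExt.dense_points (k := k) (A := Γ(G.left, ⊤))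
  have hsurj : Function.Surjective G.left.isoSpec.inv.base :=
    (Scheme.homeoOfIso G.left.isoSpec.symm).surjective
  have hcont : Continuous G.left.isoSpec.inv.base := G.left.isoSpec.inv.continuous
  have h2 := hsurj.denseRange.dense_image hcont hd
  refine h2.mono ?_
  rintro _ ⟨x, ⟨g, rfl⟩, rfl⟩
  exact ⟨pointOf k G g, pointOf_base k G g⟩

end Groth.Agent.H93.PointScheme
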