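import Groth.Agent.H93.DualMod

set_option autoImplicit false
universe u v v' w
open TensorProduct

namespace Groth.Agent.H93

section

variable {k : Type u} [Field k]
variable {C : Type v} [AddCommGroup C] [Module k C] [Coalgebra k C]
variable {D : Type v'} [AddCommGroup D] [Module k D] [Coalgebra k D]
variable {V : Type w} [AddCommGroup V] [Module k V]

omit [Coalgebra k C] [Coalgebra k D] in
theorem slice_comp_lTensor (U : Type*) [AddCommGroup U] [Module k U] (φ : D →ₗ[k] k)
    (i : C →ₗ[k] D) : slice U (φ ∘ₗ i) = slice U φ ∘ₗ i.lTensor U := by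
  ext u c
  simp

omit [Coalgebra k C] [Coalgebra k D] in
theorem exists_extend_functional (i : C →ₗ[k] D) (hi : Function.Injective i) (ψ : C →ₗ[k] k) :
    ∃ φ : D →ₗ[k] k, φ ∘ₗ i = ψ := by
  obtain ⟨g, hg⟩ := i.exists_leftInverse_of_injective (LinearMap.ker_eq_bot.2 hi)
  exact ⟨ψ ∘ₗ g, by rw [LinearMap.comp_assoc, hg, LinearMap.comp_id]⟩

/-- compatibility of the dual-algebra operators along a coalgebra map. -/
theorem dualAct_comp (i : C →ₗ[k] D) [HopfRep.Comod k C V] [HopfRep.Comod k D V]
    (hcd : i.lTensor V ∘ₗ HopfRep.Comod.coact (k := k) (A := C) =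
      HopfRep.Comod.coact (k := k) (A := D) (V := V)) (φ : D →ₗ[k] k) :
    dualAct (A := C) V (φ ∘ₗ i) = dualAct (A := D) V φ := by
  ext v
  rw [dualAct_apply, dualAct_apply, slice_comp_lTensor, ← hcd]
  rfl

theorem isSubcomod_of_isSubcomod_of_injective (i : C →ₗ[k] D) (hi : Function.Injective i)
    [HopfRep.Comod k C V] [HopfRep.Comod k D V]
    (hcd : i.lTensor V ∘ₗ HopfRep.Comod.coact (k := k) (A := C) =
      HopfRep.Comod.coact (k := k) (A := D) (V := V))
    (W : Submodule k V) (hW : HopfRep.IsSubcomod (k := k) (A := D) W) :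
    HopfRep.IsSubcomod (k := k) (A := C) W := by
  rw [isSubcomod_iff] at hW ⊢
  intro ψ v hv
  obtain ⟨φ, rfl⟩ := exists_extend_functional i hi ψ
  rw [dualAct_comp i hcd]
  exact hW φ v hv

theorem isSubcomod_push (i : C →ₗ[k] D)
    [HopfRep.Comod k C V] [HopfRep.Comod k D V]
    (hcd : i.lTensor V ∘ₗ HopfRep.Comod.coact (k := k) (A := C) =
      HopfRep.Comod.coact (k := k) (A := D) (V := V))
    (W : Submodule k V) (hW : HopfRep.IsSubcomod (k := k) (A := C) W) :
    HopfRep.IsSubcomod (k := k) (A := D) W := by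
  rw [isSubcomod_iff] at hW ⊢
  intro φ v hv
  rw [← dualAct_comp i hcd]
  exact hW _ v hv

omit [Coalgebra k C] [Coalgebra k D] in
/-- membership in the image of `U ⊗ C → U ⊗ D` is detected by the functionals killing `C`. -/
theorem mem_range_lTensor_iff (i : C →ₗ[k] D) (U : Type*) [AddCommGroup U] [Module k U]
    (y : U ⊗[k] D) :
    y ∈ LinearMap.range (i.lTensor U) ↔ ∀ φ : D →ₗ[k] k, φ ∘ₗ i = 0 → slice U φ y = 0 := by
  constructor
  · rintro ⟨z, rfl⟩ φ hφ
    have := LinearMap.congr_fun (slice_comp_lTensor U φ i) z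
    rw [LinearMap.comp_apply] at this
    rw [← this, hφ]
    have h0 : slice U (0 : C →ₗ[k] k) = 0 := by
      ext u c; simp
    rw [h0, LinearMap.zero_apply]
  · intro h
    have hex : Function.Exact (i.lTensor U) ((LinearMap.range i).mkQ.lTensor U) :=
      lTensor_exact U (LinearMap.exact_map_mkQ_range i) (Submodule.mkQ_surjective _)
    rw [← LinearMap.exact_iff.mp hex, LinearMap.mem_ker]
    apply eq_zero_of_slice_eq_zero
    intro ψ
    have := LinearMap.congr_fun (slice_comp_lTensor U ψ (LinearMap.range i).mkQ) y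
    rw [LinearMap.comp_apply] at this
    rw [← this]
    apply h
    ext c
    have hc : i c ∈ LinearMap.range i := ⟨c, rfl⟩
    rw [LinearMap.comp_apply, LinearMap.comp_apply, Submodule.mkQ_apply,
      (Submodule.Quotient.mk_eq_zero _).2 hc, map_zero, LinearMap.zero_apply]

end

section Push

variable {k : Type u} [CommRing k]
variable {C : Type v} [AddCommGroup C] [Module k C] [Coalgebra k C]
variable {D : Type v'} [AddCommGroup D] [Module k D] [Coalgebra k D]
variable {V : Type w} [AddCommGroup V] [Module k V]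

omit [Coalgebra k C] [Coalgebra k D] in
theorem lTensor_map_comp_assoc (i : C →ₗ[k] D) :
    (TensorProduct.map i i).lTensor V ∘ₗ (TensorProduct.assoc k V C C).toLinearMap =
      (TensorProduct.assoc k V D D).toLinearMap ∘ₗ TensorProduct.map (i.lTensor V) i := by
  apply TensorProduct.ext_threefold
  intro v c c'
  simp

theorem lTensor_map_comp_comul (i : C →ₗc[k] D) :
    (TensorProduct.map (i : C →ₗ[k] D) (i : C →ₗ[k] D)).lTensor V ∘ₗ
        (Coalgebra.comul (R := k) (A := C)).lTensor V =
      (Coalgebra.comul (R := k) (A := D)).lTensor V ∘ₗ (i : C →ₗ[k] D).lTensor V := by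
  rw [← LinearMap.lTensor_comp, ← LinearMap.lTensor_comp]
  congr 1
  exact i.map_comp_comul

omit [Coalgebra k C] [Coalgebra k D] in
theorem map_lTensor_comp_rTensor (i : C →ₗ[k] D) (c : V →ₗ[k] V ⊗[k] C) :
    TensorProduct.map (i.lTensor V) i ∘ₗ c.rTensor C =
      (i.lTensor V ∘ₗ c).rTensor D ∘ₗ i.lTensor V := by
  apply TensorProduct.ext'
  intro x c'
  simp

/-- push a comodule structure forward along a coalgebra map. -/
@[reducible] noncomputable def pushComod (i : C →ₗc[k] D) [HopfRep.Comod k C V] :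
    HopfRep.Comod k D V where
  coact := (i : C →ₗ[k] D).lTensor V ∘ₗ HopfRep.Comod.coact (k := k) (A := C)
  coassoc := by
    have hco := HopfRep.Comod.coassoc (k := k) (A := C) (V := V)
    have h1 := lTensor_map_comp_assoc (V := V) (i : C →ₗ[k] D)
    have h3 := lTensor_map_comp_comul (V := V) i
    have h2 := map_lTensor_comp_rTensor (V := V) (i : C →ₗ[k] D)
      (HopfRep.Comod.coact (k := k) (A := C))
    ext v
    have e1 := LinearMap.congr_fun hco v
    have e2 := LinearMap.congr_fun h1
      ((HopfRep.Comod.coact (k := k) (A := C)).rTensor C (HopfRep.Comod.coact (k := k) (A := C) v))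
    have e3 := LinearMap.congr_fun h3 (HopfRep.Comod.coact (k := k) (A := C) v)
    have e4 := LinearMap.congr_fun h2 (HopfRep.Comod.coact (k := k) (A := C) v)
    simp only [LinearMap.comp_apply, LinearEquiv.coe_coe] at e1 e2 e3 e4 ⊢
    rw [← e3, ← e1, e2, e4]
  counit_comp := by
    have hcu := HopfRep.Comod.counit_comp (k := k) (A := C) (V := V)
    rw [← hcu, ← LinearMap.comp_assoc, ← LinearMap.lTensor_comp]
    congr 2
    exact i.counit_comp

end Push

end Groth.Agent.H93
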