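import Groth.Agent.H93.ReynoldsAlg
import Groth.Agent.H59.Orbit

set_option autoImplicit false
universe u

open TensorProduct

namespace Groth.Agent.H93

section OrbitClosure

variable {k : Type u} [Field k] {A : Type u} [CommRing A] [Bialgebra k A]
variable {R : Type u} [CommRing R] [Algebra k R] [HopfRep.Comod k A R] [GLin.IsCoactAlg k A R]

theorem orbitHom_eq_theta (x : R →ₐ[k] k) (f : R) :
    GLin.orbitHom k A x f = Groth.Agent.H59.Orbit.theta (A := A) x f := by
  change (Algebra.TensorProduct.lid k A) ((Algebra.TensorProduct.map x (AlgHom.id k A))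
    (HopfRep.Comod.coact (k := k) (A := A) f)) = _
  rw [Groth.Agent.H59.Orbit.theta_apply]
  generalize HopfRep.Comod.coact (k := k) (A := A) f = t
  induction t using TensorProduct.induction_on with
  | zero => simp
  | add s t hs ht => simp only [map_add, hs, ht]
  | tmul r a => simp

theorem mem_ker_orbitHom_iff (x : R →ₐ[k] k) (f : R) :
    f ∈ RingHom.ker (GLin.orbitHom k A x) ↔
      f ∈ LinearMap.ker (Groth.Agent.H59.Orbit.theta (A := A) x) := by
  rw [RingHom.mem_ker, LinearMap.mem_ker, orbitHom_eq_theta]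

theorem isSubcomod_ker_theta (x : R →ₐ[k] k) : HopfRep.IsSubcomod (k := k) (A := A)
    (LinearMap.ker (Groth.Agent.H59.Orbit.theta (A := A) x)) :=
  isSubcomod_ker (Groth.Agent.H59.Orbit.theta_isComodHom x)

theorem apply_eq_zero_of_mem_ker_orbitHom (x : R →ₐ[k] k) (f : R)
    (hf : f ∈ RingHom.ker (GLin.orbitHom k A x)) : x f = 0 := by
  rw [RingHom.mem_ker, orbitHom_eq_theta] at hf
  rw [← Groth.Agent.H59.Orbit.counit_theta (A := A) x f, hf, map_zero]

theorem apply_eq_of_inOrbitClosure (x z : R →ₐ[k] k) (hz : GLin.InOrbitClosure k A x z)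
    (f : R) (hf : f ∈ GLin.invariants k A R) : z f = x f := by
  have hf' : HopfRep.Comod.coact (k := k) (A := A) f = f ⊗ₜ[k] (1 : A) := hf
  have h1 : GLin.orbitHom k A x f = algebraMap k A (x f) := by
    rw [orbitHom_eq_theta, Groth.Agent.H59.Orbit.theta_apply, hf', Groth.Agent.H59.Orbit.ev_tmul,
      Algebra.algebraMap_eq_smul_one]
  have h2 : f - algebraMap k R (x f) ∈ RingHom.ker (GLin.orbitHom k A x) := by
    rw [RingHom.mem_ker, map_sub, h1, AlgHom.commutes, sub_self]
  have h3 := hz h2
  rw [RingHom.mem_ker, map_sub, AlgHom.commutes, sub_eq_zero] at h3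
  rw [h3]
  rfl

end OrbitClosure

section Dual

variable {k : Type u} [Field k] {A : Type u} [CommRing A] [HopfAlgebra k A]
variable {R : Type u} [CommRing R] [Algebra k R] [HopfRep.Comod k A R] [GLin.IsCoactAlg k A R]

/-- the Reynolds operator in the form `dualAct R ψ` -/
theorem exists_reynolds_dualAct (hG : HopfRep.IsLinearlyReductive k A) :
    ∃ ψ : A →ₗ[k] k, (∀ r, dualAct R ψ r ∈ GLin.invariants k A R) ∧
      (∀ r ∈ GLin.invariants k A R, dualAct R ψ r = r) ∧
      (∀ f ∈ GLin.invariants k A R, ∀ r, dualAct R ψ (f * r) = f * dualAct R ψ r) := by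
  obtain ⟨α, hαint, h1⟩ := exists_integral_of_linRed hG
  have hα := (isComodHom_iff_isInt α).2 hαint
  exact ⟨reynFun k A α, fun r => reyn_mem_fixedPts α hα r,
    fun r hr => reyn_of_mem_fixedPts α h1 r hr,
    fun f hf r => reyn_mul_of_mem_invariants α f hf r⟩

end Dual

end Groth.Agent.H93
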