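import Groth.Agent.H93.HopfMod
import Mathlib.LinearAlgebra.Basis.VectorSpace
import Mathlib.LinearAlgebra.FreeModule.Basic

/-!
# Hopf modules over a field are free (helper93)

Universe-polymorphic form of the fundamental theorem of Hopf modules: a `k`-basis of the
coinvariants is an `A`-basis, hence every `(A, A)`-Hopf module is free.
-/

set_option autoImplicit false

universe u v w w'

open TensorProduct

namespace Groth.Agent.H93.HopfModFree

theorem basis_of_fixedPts (k : Type u) [Field k]
    (A : Type v) [CommRing A] [HopfAlgebra k A]
    (M : Type w) [AddCommGroup M] [Module k M] [Module A M] [IsScalarTower k A M]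
    [HopfRep.Comod k A M] [TameAct.IsHopfMod k A A M]
    (ι : Type w') (v : ι → M) (hli : LinearIndependent k v)
    (hsp : Submodule.span k (Set.range v) = HopfRep.fixedPts k A M) :
    LinearIndependent A v ∧ Submodule.span A (Set.range v) = ⊤ := by
  classical
  have hfix : ∀ i, v i ∈ HopfRep.fixedPts k A M := by
    intro i
    rw [← hsp]
    exact Submodule.subset_span (Set.mem_range_self i)
  constructor
  · rw [linearIndependent_iff']
    intro s g hg i hi
    have h1 : (Groth.Agent.H93.HopfMod.P k A M).rTensor A
        (HopfRep.Comod.coact (k := k) (A := A) (∑ j ∈ s, g j • v j)) = ∑ j ∈ s, v j ⊗ₜ[k] g j := by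
      rw [map_sum, map_sum]
      exact Finset.sum_congr rfl fun j _ =>
        Groth.Agent.H93.HopfMod.P_rTensor_coact_smul k A M (g j) (v j) (hfix j)
    rw [hg, map_zero, map_zero] at h1
    obtain ⟨φ, hφ⟩ := LinearMap.exists_extend ((Finsupp.lapply i : (ι →₀ k) →ₗ[k] k) ∘ₗ hli.repr)
    have hφv : ∀ j, φ (v j) = if j = i then 1 else 0 := by
      intro j
      have h := LinearMap.congr_fun hφ ⟨v j, Submodule.subset_span (Set.mem_range_self j)⟩
      simp only [LinearMap.coe_comp, Function.comp_apply, Submodule.coe_subtype,
        Finsupp.lapply_apply] at h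
      rw [h, hli.repr_eq_single j _ rfl, Finsupp.single_apply]
    have h2 := congrArg (fun z => TensorProduct.lid k A (φ.rTensor A z)) h1
    simp only [map_sum, LinearMap.rTensor_tmul, TensorProduct.lid_tmul, map_zero] at h2
    rw [Finset.sum_eq_single i] at h2
    · rw [hφv i, if_pos rfl, one_smul] at h2
      exact h2.symm
    · intro j _ hj
      rw [hφv j, if_neg hj, zero_smul]
    · intro h; exact absurd hi h
  · rw [eq_top_iff]
    intro m _
    have key : ∀ y : M ⊗[k] A, Groth.Agent.H93.HopfMod.act k A M
        ((Groth.Agent.H93.HopfMod.P k A M).rTensor A y) ∈ Submodule.span A (Set.range v) := by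
      intro y
      induction y using TensorProduct.induction_on with
      | zero => simp only [map_zero]; exact Submodule.zero_mem _
      | add x y hx hy => simp only [map_add]; exact Submodule.add_mem _ hx hy
      | tmul m' a =>
        rw [LinearMap.rTensor_tmul, Groth.Agent.H93.HopfMod.act_tmul]
        refine Submodule.smul_mem _ a ?_
        have hP : Groth.Agent.H93.HopfMod.P k A M m' ∈ Submodule.span k (Set.range v) := by
          rw [hsp]; exact Groth.Agent.H93.HopfMod.P_mem_fixedPts k A M m'
        exact Submodule.span_le_restrictScalars k A (Set.range v) hP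
    rw [← Groth.Agent.H93.HopfMod.act_P_coact k A M m]
    exact key _

/-- Every `(A, A)`-Hopf module over a field is a free `A`-module. -/
theorem free (k : Type u) [Field k]
    (A : Type v) [CommRing A] [HopfAlgebra k A]
    (M : Type w) [AddCommGroup M] [Module k M] [Module A M] [IsScalarTower k A M]
    [HopfRep.Comod k A M] [TameAct.IsHopfMod k A A M] : Module.Free A M := by
  classical
  let b := Module.Free.chooseBasis k (HopfRep.fixedPts k A M)
  let v : Module.Free.ChooseBasisIndex k (HopfRep.fixedPts k A M) → M := fun i => (b i : M)
  have hli : LinearIndependent k v :=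
    b.linearIndependent.map' (HopfRep.fixedPts k A M).subtype (Submodule.ker_subtype _)
  have hsp : Submodule.span k (Set.range v) = HopfRep.fixedPts k A M := by
    have : Set.range v = (HopfRep.fixedPts k A M).subtype '' Set.range b := by
      rw [← Set.range_comp]; rfl
    rw [this, ← Submodule.map_span, b.span_eq, Submodule.map_top, Submodule.range_subtype]
  obtain ⟨h1, h2⟩ := basis_of_fixedPts k A M _ v hli hsp
  exact Module.Free.of_basis (Module.Basis.mk h1 h2.ge)

end Groth.Agent.H93.HopfModFree
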