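import Mathlib

set_option autoImplicit false
universe u v

namespace Groth.Agent.H93.NormalKer

theorem exists_dual_vanishing {k : Type u} [Field k] {M : Type v} [AddCommGroup M] [Module k M]
    [Module.Finite k M]
    (S : Set (Module.End k M)) (hS : ∀ a ∈ S, ∀ b ∈ S, a * b = b * a) (v : M) (hv : v ≠ 0)
    (hv0 : ∀ a ∈ S, a v = 0) : ∃ μ : M →ₗ[k] k, μ ≠ 0 ∧ ∀ a ∈ S, μ ∘ₗ a = 0 := by
  letI : CommRing (Algebra.adjoin k S) := Algebra.adjoinCommRingOfComm k hS
  let N := Algebra.adjoin k S
  let 𝔞 : Ideal N := Ideal.span {x : N | (x : Module.End k M) ∈ S}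
  have h𝔞 : ∀ t ∈ 𝔞, (t : Module.End k M) v = 0 := by
    intro t ht
    induction ht using Submodule.span_induction with
    | mem x hx => exact hv0 _ hx
    | zero => simp
    | add x y _ _ hx hy => simp [hx, hy]
    | smul a x _ hx =>
      rw [smul_eq_mul]
      simp [hx]
  have hfin : Module.Finite N M := Module.Finite.of_restrictScalars_finite k N M
  have hne : 𝔞 • (⊤ : Submodule N M) ≠ ⊤ := by
    intro htop
    obtain ⟨r, hr, hr0⟩ := Submodule.exists_sub_one_mem_and_smul_eq_zero_of_fg_of_le_smul 𝔞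
      (⊤ : Submodule N M) Module.Finite.fg_top (by rw [htop])
    have h1 : (r : Module.End k M) v = 0 := hr0 v trivial
    have h2 := h𝔞 _ hr
    simp [h1] at h2
    exact hv h2
  let W : Submodule k M := (𝔞 • (⊤ : Submodule N M)).restrictScalars k
  have hW : W < ⊤ := by
    rw [lt_top_iff_ne_top]
    intro h
    apply hne
    rw [eq_top_iff]
    intro x _
    have : x ∈ W := by rw [h]; trivial
    exact this
  obtain ⟨μ, hμ, hle⟩ := Submodule.exists_le_ker_of_lt_top W hW
  refine ⟨μ, hμ, fun a ha => ?_⟩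
  ext m
  have hmem : a m ∈ W := by
    have : (⟨a, Algebra.subset_adjoin ha⟩ : N) • m ∈ 𝔞 • (⊤ : Submodule N M) :=
      Submodule.smul_mem_smul (Ideal.subset_span ha) trivial
    exact this
  exact hle hmem

end Groth.Agent.H93.NormalKer
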