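import Groth.Agent.H93.NormalKerComm
import Groth.Agent.H93.NormalKerLA

/-! For a normal subgroup `N` of `G`: if a character `χ` of `N` occurs on a line of a
`G`-representation then so does `χ⁻¹` (in the regular representation). -/

set_option autoImplicit false
universe u v

open TensorProduct HopfRep WithConv

namespace Groth.Agent.H93.NormalKer

open Groth.Agent.H83 (ptAct ptAct_apply map_ptAct_coact)
open Groth.Agent.H82.Chev

section Coef

variable {k : Type u} [Field k] {A : Type u} [AddCommGroup A] [Module k A] [Coalgebra k A]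
  {V : Type v} [AddCommGroup V] [Module k V] [Comod k A V]

/-- the matrix coefficient map `w ↦ (μ ⊗ id) (ρ w)`. -/
noncomputable def coefMap (μ : V →ₗ[k] k) : V →ₗ[k] A :=
  (TensorProduct.lid k A).toLinearMap ∘ₗ μ.rTensor A ∘ₗ Comod.coact (k := k) (A := A)

theorem coefMap_apply (μ : V →ₗ[k] k) (w : V) :
    coefMap (A := A) μ w = TensorProduct.lid k A (μ.rTensor A (Comod.coact (k := k) (A := A) w)) :=
  rfl

theorem functional_coef_aux (μ : V →ₗ[k] k) (θ : A →ₗ[k] k) (y : V ⊗[k] A) :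
    θ (TensorProduct.lid k A (μ.rTensor A y)) = μ (slice V θ y) := by
  induction y with
  | zero => simp
  | tmul w a => simp [mul_comm]
  | add x y hx hy => simp only [map_add, hx, hy]

theorem functional_coefMap (μ : V →ₗ[k] k) (θ : A →ₗ[k] k) (w : V) :
    θ (coefMap (A := A) μ w) = μ (slice V θ (Comod.coact (k := k) (A := A) w)) :=
  functional_coef_aux μ θ _

theorem comul_lid_aux (μ : V →ₗ[k] k) (y : V ⊗[k] A) :
    Coalgebra.comul (R := k) (TensorProduct.lid k A (μ.rTensor A y)) =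
      TensorProduct.lid k (A ⊗[k] A) (μ.rTensor (A ⊗[k] A)
        ((Coalgebra.comul (R := k) (A := A)).lTensor V y)) := by
  induction y with
  | zero => simp
  | tmul w a => simp
  | add x y hx hy => simp only [map_add, hx, hy]

theorem lid_assoc_aux (μ : V →ₗ[k] k) (x : V ⊗[k] A) (a : A) :
    TensorProduct.lid k (A ⊗[k] A) (μ.rTensor (A ⊗[k] A)
      (TensorProduct.assoc k V A A (x ⊗ₜ[k] a))) =
      TensorProduct.lid k A (μ.rTensor A x) ⊗ₜ[k] a := by
  induction x with
  | zero => simp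
  | tmul w b => simp [TensorProduct.smul_tmul']
  | add x y hx hy => simp only [TensorProduct.add_tmul, map_add, hx, hy]

theorem lid_assoc_aux2 (μ : V →ₗ[k] k) (z : V ⊗[k] A) :
    TensorProduct.lid k (A ⊗[k] A) (μ.rTensor (A ⊗[k] A)
      (TensorProduct.assoc k V A A ((Comod.coact (k := k) (A := A)).rTensor A z))) =
      (coefMap (A := A) μ).rTensor A z := by
  induction z with
  | zero => simp
  | tmul w a =>
    rw [LinearMap.rTensor_tmul, lid_assoc_aux, LinearMap.rTensor_tmul, coefMap_apply]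
  | add x y hx hy => simp only [map_add, hx, hy]

/-- the coefficient map is a comodule map to the regular comodule. -/
theorem comul_coefMap (μ : V →ₗ[k] k) (w : V) :
    Coalgebra.comul (R := k) (coefMap (A := A) μ w) =
      (coefMap (A := A) μ).rTensor A (Comod.coact (k := k) (A := A) w) := by
  rw [coefMap_apply, comul_lid_aux, ← coassoc_apply, lid_assoc_aux2]

end Coef

section Ops

variable {k : Type u} [Field k] {A : Type u} [CommRing A] [HopfAlgebra k A]
  {V : Type v} [AddCommGroup V] [Module k V] [Comod k A V]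
  (I : Ideal A) [I.IsHopfIdeal k]

/-- the operator of a functional on a comodule. -/
noncomputable def T (θ : A →ₗ[k] k) : V →ₗ[k] V :=
  slice V θ ∘ₗ Comod.coact (k := k) (A := A)

theorem T_apply (θ : A →ₗ[k] k) (w : V) :
    T θ w = slice V θ (Comod.coact (k := k) (A := A) w) := rfl

theorem T_T_slice (θ θ' ψ : A →ₗ[k] k) (v : V) :
    T θ (T θ' (slice V ψ (Comod.coact (k := k) (A := A) v))) =
      slice V (conv k A θ (conv k A θ' ψ)) (Comod.coact (k := k) (A := A) v) := by
  rw [T_apply, T_apply, slice_rho_slice_rho θ' ψ, slice_rho_slice_rho]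

theorem T_mem_cyc (θ : A →ₗ[k] k) (v : V) {m : V} (hm : m ∈ cyc k A v) :
    T θ m ∈ cyc k A v :=
  (isSubcomod_iff_slice (cyc k A v)).1 (isSubcomod_cyc v) m hm θ

theorem T_comm (hI : SGA3.IsNormalHopfIdeal k A I) (v : V) (χ : A ⧸ I)
    (hχ : (Ideal.Quotient.mkₐ k I).toLinearMap.lTensor V (Comod.coact (k := k) (A := A) v) =
      v ⊗ₜ[k] χ)
    (φ φ' : (A ⧸ I) →ₗ[k] k) {m : V} (hm : m ∈ cyc k A v) :
    T (φ ∘ₗ (Ideal.Quotient.mkₐ k I).toLinearMap) (T (φ' ∘ₗ (Ideal.Quotient.mkₐ k I).toLinearMap) m) =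
      T (φ' ∘ₗ (Ideal.Quotient.mkₐ k I).toLinearMap)
        (T (φ ∘ₗ (Ideal.Quotient.mkₐ k I).toLinearMap) m) := by
  unfold cyc at hm
  induction hm using Submodule.span_induction with
  | mem x hx =>
    obtain ⟨ψ, rfl⟩ := hx
    change T _ (T _ (slice V ψ (Comod.coact (k := k) (A := A) v))) =
      T _ (T _ (slice V ψ (Comod.coact (k := k) (A := A) v)))
    rw [T_T_slice, T_T_slice]
    exact slice_comm I hI v χ hχ φ φ' ψ
  | zero => simp
  | add x y _ _ hx hy => simp only [map_add, hx, hy]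
  | smul a x _ hx => simp only [map_smul, hx]

theorem T_eigen (v : V) (χ : A ⧸ I)
    (hχ : (Ideal.Quotient.mkₐ k I).toLinearMap.lTensor V (Comod.coact (k := k) (A := A) v) =
      v ⊗ₜ[k] χ) (φ : (A ⧸ I) →ₗ[k] k) :
    T (φ ∘ₗ (Ideal.Quotient.mkₐ k I).toLinearMap) v = φ χ • v := by
  rw [T_apply, ← slice_lTensor, hχ, slice_tmul]

theorem exists_semiinvariant (hI : SGA3.IsNormalHopfIdeal k A I) (v : V) (hv : v ≠ 0) (χ : A ⧸ I)
    (hχ : (Ideal.Quotient.mkₐ k I).toLinearMap.lTensor V (Comod.coact (k := k) (A := A) v) =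
      v ⊗ₜ[k] χ) :
    ∃ μ : V →ₗ[k] k, (∃ m ∈ cyc k A v, μ m ≠ 0) ∧ ∀ m ∈ cyc k A v, ∀ φ : (A ⧸ I) →ₗ[k] k,
      μ (T (φ ∘ₗ (Ideal.Quotient.mkₐ k I).toLinearMap) m) = φ χ * μ m := by
  classical
  have hfin : Module.Finite k (cyc k A v) := finite_cyc v
  let Tr : ((A ⧸ I) →ₗ[k] k) → Module.End k (cyc k A v) := fun φ =>
    (T (φ ∘ₗ (Ideal.Quotient.mkₐ k I).toLinearMap)).restrict
      (fun m hm => T_mem_cyc _ v hm)
  let E : ((A ⧸ I) →ₗ[k] k) → Module.End k (cyc k A v) := fun φ => Tr φ - φ χ • 1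
  have hTr : ∀ φ φ', Commute (Tr φ) (Tr φ') := by
    intro φ φ'
    apply LinearMap.ext
    intro m
    apply Subtype.ext
    exact T_comm I hI v χ hχ φ φ' m.2
  have hE : ∀ a ∈ Set.range E, ∀ b ∈ Set.range E, a * b = b * a := by
    rintro _ ⟨φ, rfl⟩ _ ⟨φ', rfl⟩
    have h1 : Commute (E φ) (E φ') := by
      apply Commute.sub_left
      · apply Commute.sub_right (hTr φ φ')
        exact (Commute.one_right _).smul_right _
      · apply Commute.sub_right
        · exact (Commute.one_left _).smul_left _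
        · exact ((Commute.one_left _).smul_left _).smul_right _
    exact h1
  let v' : cyc k A v := ⟨v, mem_cyc_self v⟩
  have hv' : v' ≠ 0 := by
    intro h
    exact hv (congrArg Subtype.val h)
  have hE0 : ∀ a ∈ Set.range E, a v' = 0 := by
    rintro _ ⟨φ, rfl⟩
    apply Subtype.ext
    change T (φ ∘ₗ (Ideal.Quotient.mkₐ k I).toLinearMap) v - φ χ • v = 0
    rw [T_eigen I v χ hχ, sub_self]
  obtain ⟨μ₀, hμ₀, hμE⟩ := exists_dual_vanishing (Set.range E) hE v' hv' hE0
  obtain ⟨μ, hμ⟩ := LinearMap.exists_extend μ₀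
  refine ⟨μ, ?_, ?_⟩
  · by_contra hcon
    push Not at hcon
    apply hμ₀
    apply LinearMap.ext
    intro m
    rw [← hμ]
    exact hcon m m.2
  · intro m hm φ
    have h1 := LinearMap.congr_fun (hμE (E φ) ⟨φ, rfl⟩) ⟨m, hm⟩
    rw [← hμ] at h1
    simp only [LinearMap.comp_apply, LinearMap.zero_apply, Submodule.subtype_apply, E, Tr] at h1
    have h2 : μ (T (φ ∘ₗ (Ideal.Quotient.mkₐ k I).toLinearMap) m - φ χ • m) = 0 := h1
    rw [map_sub, map_smul, sub_eq_zero] at h2
    rw [h2, smul_eq_mul]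

theorem antipode_swap_aux (z : A ⊗[k] A) :
    (Ideal.Quotient.mkₐ k I).toLinearMap.lTensor A
      (TensorProduct.map (HopfAlgebra.antipode k) (HopfAlgebra.antipode k)
        (TensorProduct.comm k A A z)) =
    TensorProduct.map (HopfAlgebra.antipode k) (HopfAlgebra.antipode k)
      (TensorProduct.comm k (A ⧸ I) A ((Ideal.Quotient.mkₐ k I).toLinearMap.rTensor A z)) := by
  induction z with
  | zero => simp
  | tmul x y => simp
  | add x y hx hy => simp only [map_add, hx, hy]

theorem exists_inverse_eigen (hI : SGA3.IsNormalHopfIdeal k A I) (v : V) (hv : v ≠ 0) (χ : A ⧸ I)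
    (hχ : (Ideal.Quotient.mkₐ k I).toLinearMap.lTensor V (Comod.coact (k := k) (A := A) v) =
      v ⊗ₜ[k] χ) :
    ∃ a : A, a ≠ 0 ∧ (Ideal.Quotient.mkₐ k I).toLinearMap.lTensor A (Coalgebra.comul (R := k) a) =
      a ⊗ₜ[k] (HopfAlgebra.antipode k χ) := by
  obtain ⟨μ, ⟨m₀, hm₀, hμm₀⟩, hμ⟩ := exists_semiinvariant I hI v hv χ hχ
  let π : A →ₐ[k] A ⧸ I := Ideal.Quotient.mkₐ k I
  -- (ii)
  have hii : ∀ m ∈ cyc k A v, π (coefMap (A := A) μ m) = μ m • χ := by
    intro m hm
    rw [← sub_eq_zero, ← Module.forall_dual_apply_eq_zero_iff k]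
    intro φ
    rw [map_sub, sub_eq_zero, map_smul, smul_eq_mul, mul_comm, ← hμ m hm φ]
    exact functional_coefMap μ (φ ∘ₗ π.toLinearMap) m
  set p : A := coefMap (A := A) μ m₀ with hp
  -- (v)
  have hv5 : π.toLinearMap.rTensor A (Coalgebra.comul (R := k) p) = χ ⊗ₜ[k] p := by
    rw [hp, comul_coefMap]
    obtain ⟨y, hy⟩ := isSubcomod_cyc (k := k) (C := A) v m₀ hm₀
    have h1 : π.toLinearMap ∘ₗ coefMap (A := A) μ ∘ₗ (cyc k A v).subtype =
        LinearMap.toSpanSingleton k (A ⧸ I) χ ∘ₗ μ ∘ₗ (cyc k A v).subtype := by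
      apply LinearMap.ext
      intro m
      simp only [LinearMap.comp_apply, Submodule.subtype_apply, LinearMap.toSpanSingleton_apply]
      exact hii m m.2
    have h2 : π.toLinearMap.rTensor A ((coefMap (A := A) μ).rTensor A
        (Comod.coact (k := k) (A := A) m₀)) =
        (LinearMap.toSpanSingleton k (A ⧸ I) χ).rTensor A
          (μ.rTensor A (Comod.coact (k := k) (A := A) m₀)) := by
      rw [← hy, ← LinearMap.comp_apply, ← LinearMap.comp_apply, ← LinearMap.rTensor_comp,
        ← LinearMap.rTensor_comp, LinearMap.comp_assoc, h1, LinearMap.rTensor_comp,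
        LinearMap.rTensor_comp]
      rfl
    rw [h2]
    have h3 : μ.rTensor A (Comod.coact (k := k) (A := A) m₀) = (1 : k) ⊗ₜ[k] p := by
      apply (TensorProduct.lid k A).injective
      rw [TensorProduct.lid_tmul, one_smul]
      rfl
    rw [h3, LinearMap.rTensor_tmul, LinearMap.toSpanSingleton_apply, one_smul]
  refine ⟨HopfAlgebra.antipode k p, ?_, ?_⟩
  · intro h0
    have h1 : Coalgebra.counit (R := k) p = μ m₀ := by
      have := functional_coefMap (A := A) μ (Coalgebra.counit (R := k) (A := A)) m₀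
      rw [this]
      congr 1
      exact slice_counit_rho m₀
    have h2 := HopfAlgebra.counit_antipode (R := k) p
    rw [h0, map_zero, h1] at h2
    exact hμm₀ h2.symm
  · rw [Groth.Agent.H83.comul_antipode, antipode_swap_aux, hv5]
    simp

end Ops

end Groth.Agent.H93.NormalKer
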