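import Groth.Agent.H93.NormalKerMain
import Groth.Agent.H78.HopfExt.Normal

/-! Normality of a Hopf ideal as a tensor identity; restriction to Hopf subalgebras. -/

set_option autoImplicit false
universe u v

open TensorProduct HopfRep WithConv

namespace Groth.Agent.H93.Takeuchi

section Antipode

variable {k : Type u} [Field k] {A' A : Type v} [CommRing A'] [HopfAlgebra k A'] [CommRing A]
  [HopfAlgebra k A]

/-- bialgebra maps commute with antipodes. -/
theorem bialgHom_antipode (ι : A' →ₐc[k] A) :
    (ι : A' →ₐ[k] A).comp (HopfAlgebra.antipodeAlgHom k A') =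
      (HopfAlgebra.antipodeAlgHom k A).comp (ι : A' →ₐ[k] A) := by
  have h1 : toConv ((HopfAlgebra.antipodeAlgHom k A).comp (ι : A' →ₐ[k] A)) *
      toConv (ι : A' →ₐ[k] A) = (1 : WithConv (A' →ₐ[k] A)) := by
    have h := AlgHom.convMul_comp_bialgHom_distrib
      (toConv (HopfAlgebra.antipodeAlgHom k A)) (toConv (AlgHom.id k A)) ι
    rw [AlgHom.antipode_id_cancel] at h
    apply WithConv.ofConv_injective
    refine Eq.trans ?_ (Eq.trans h.symm ?_)
    · simp only [ofConv_toConv, AlgHom.id_comp]
    · ext a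
      simp
  have h2 := eq_inv_of_mul_eq_one_left h1
  exact (WithConv.toConv_injective h2).symm

theorem bialgHom_antipode_apply (ι : A' →ₐc[k] A) (a : A') :
    ι (HopfAlgebra.antipode k a) = HopfAlgebra.antipode k (ι a) :=
  AlgHom.congr_fun (bialgHom_antipode ι) a

end Antipode

section Conj

variable {k : Type u} [Field k] {A : Type u} [CommRing A] [HopfAlgebra k A]

/-- the universal conjugate `(n, g) ↦ g n g⁻¹` as an algebra map `A → A ⊗ A`
(first factor: `n`, second factor: `g`). -/
noncomputable def conjMap : A →ₐ[k] A ⊗[k] A :=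
  (toConv (Algebra.TensorProduct.includeRight : A →ₐ[k] A ⊗[k] A) *
    toConv (Algebra.TensorProduct.includeLeft : A →ₐ[k] A ⊗[k] A) *
    toConv ((Algebra.TensorProduct.includeRight : A →ₐ[k] A ⊗[k] A).comp
      (HopfAlgebra.antipodeAlgHom k A))).ofConv

theorem comp_conv3 {R R' : Type*} [CommRing R] [Algebra k R] [CommRing R'] [Algebra k R']
    (Ψ : R →ₐ[k] R') (f g h : WithConv (A →ₐ[k] R)) :
    Ψ.comp (f * g * h).ofConv =
      (toConv (Ψ.comp f.ofConv) * toConv (Ψ.comp g.ofConv) * toConv (Ψ.comp h.ofConv)).ofConv := by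
  rw [AlgHom.comp_convMul_distrib, AlgHom.comp_convMul_distrib]

theorem conv3_eq_lift_conjMap {R : Type u} [CommRing R] [Algebra k R] (g h : A →ₐ[k] R) :
    Dyn.conv3 k A g h (g.comp (HopfAlgebra.antipodeAlgHom k A)) =
      (Algebra.TensorProduct.lift h g (fun _ _ => Commute.all _ _)).comp (conjMap (k := k)) := by
  rw [Groth.Agent.H78.HopfExt.conv3_eq, conjMap, comp_conv3]
  have e1 : (Algebra.TensorProduct.lift h g (fun _ _ => Commute.all _ _)).comp
      (Algebra.TensorProduct.includeRight : A →ₐ[k] A ⊗[k] A) = g := by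
    ext; simp
  have e2 : (Algebra.TensorProduct.lift h g (fun _ _ => Commute.all _ _)).comp
      (Algebra.TensorProduct.includeLeft : A →ₐ[k] A ⊗[k] A) = h := by
    ext; simp
  simp only [ofConv_toConv, ← AlgHom.comp_assoc, e1, e2]

theorem normal_iff (I : Ideal A) :
    SGA3.IsNormalHopfIdeal k A I ↔ ∀ a ∈ I,
      (Algebra.TensorProduct.map (Ideal.Quotient.mkₐ k I) (AlgHom.id k A))
        (conjMap (k := k) a) = 0 := by
  constructor
  · intro hI a ha
    have h1 := hI ((A ⧸ I) ⊗[k] A)
      (Algebra.TensorProduct.includeRight : A →ₐ[k] (A ⧸ I) ⊗[k] A)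
      ((Algebra.TensorProduct.includeLeft : (A ⧸ I) →ₐ[k] (A ⧸ I) ⊗[k] A).comp
        (Ideal.Quotient.mkₐ k I))
      (by
        intro b hb
        have : Ideal.Quotient.mk I b = 0 := Ideal.Quotient.eq_zero_iff_mem.mpr hb
        simp [this]) a ha
    rw [conv3_eq_lift_conjMap] at h1
    have h2 : Algebra.TensorProduct.lift
        ((Algebra.TensorProduct.includeLeft : (A ⧸ I) →ₐ[k] (A ⧸ I) ⊗[k] A).comp
          (Ideal.Quotient.mkₐ k I))
        (Algebra.TensorProduct.includeRight : A →ₐ[k] (A ⧸ I) ⊗[k] A)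
        (fun _ _ => Commute.all _ _) =
        Algebra.TensorProduct.map (Ideal.Quotient.mkₐ k I) (AlgHom.id k A) := by
      ext <;> simp
    rw [h2] at h1
    exact h1
  · intro h R _ _ g hh hker a ha
    rw [conv3_eq_lift_conjMap]
    have h2 : Algebra.TensorProduct.lift hh g (fun _ _ => Commute.all _ _) =
        (Algebra.TensorProduct.lift (Ideal.Quotient.liftₐ I hh hker) g
          (fun _ _ => Commute.all _ _)).comp
          (Algebra.TensorProduct.map (Ideal.Quotient.mkₐ k I) (AlgHom.id k A)) := by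
      ext <;> simp
    rw [h2, AlgHom.comp_apply, AlgHom.comp_apply, h a ha, map_zero]

end Conj

section Restrict

variable {k : Type u} [Field k] {A' A : Type u} [CommRing A'] [HopfAlgebra k A'] [CommRing A]
  [HopfAlgebra k A] (ι : A' →ₐc[k] A) (I : Ideal A) [I.IsHopfIdeal k]

theorem conjMap_comp :
    (conjMap (k := k) (A := A)).comp (ι : A' →ₐ[k] A) =
      (Algebra.TensorProduct.map (ι : A' →ₐ[k] A) (ι : A' →ₐ[k] A)).comp
        (conjMap (k := k) (A := A')) := by
  unfold conjMap
  rw [comp_conv3, AlgHom.convMul_comp_bialgHom_distrib, AlgHom.convMul_comp_bialgHom_distrib]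
  have e1 : (Algebra.TensorProduct.map (ι : A' →ₐ[k] A) (ι : A' →ₐ[k] A)).comp
      (Algebra.TensorProduct.includeRight : A' →ₐ[k] A' ⊗[k] A') =
      (Algebra.TensorProduct.includeRight : A →ₐ[k] A ⊗[k] A).comp (ι : A' →ₐ[k] A) := by
    ext; simp
  have e2 : (Algebra.TensorProduct.map (ι : A' →ₐ[k] A) (ι : A' →ₐ[k] A)).comp
      (Algebra.TensorProduct.includeLeft : A' →ₐ[k] A' ⊗[k] A') =
      (Algebra.TensorProduct.includeLeft : A →ₐ[k] A ⊗[k] A).comp (ι : A' →ₐ[k] A) := by
    ext; simp
  simp only [ofConv_toConv, ← AlgHom.comp_assoc, e1, e2]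
  simp only [AlgHom.comp_assoc, bialgHom_antipode]

/-- the restriction of a Hopf ideal along a bialgebra map is a Hopf ideal. -/
theorem isHopfIdeal_comap : (I.comap (ι : A' →+* A)).IsHopfIdeal k := by
  have hmem : ∀ x : A', x ∈ I.comap (ι : A' →+* A) ↔ ι x ∈ I := fun x => Iff.rfl
  let p : Submodule k A' := (I.comap (ι : A' →+* A)).restrictScalars k
  let q : Submodule k A := I.restrictScalars k
  have hpq : p ≤ q.comap ι.toLinearMap := fun x hx => hx
  let j : (A' ⧸ p) →ₗ[k] (A ⧸ q) := Submodule.mapQ p q ι.toLinearMap hpq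
  have hj : Function.Injective j := by
    rw [injective_iff_map_eq_zero]
    intro x hx
    obtain ⟨a, rfl⟩ := Submodule.Quotient.mk_surjective p x
    rw [Submodule.mapQ_apply, Submodule.Quotient.mk_eq_zero] at hx
    rw [Submodule.Quotient.mk_eq_zero]
    exact hx
  have hjj : Function.Injective (TensorProduct.map j j) := by
    have h1 : TensorProduct.map j j = j.rTensor (A ⧸ q) ∘ₗ j.lTensor (A' ⧸ p) := by
      apply TensorProduct.ext'
      intro x y
      simp
    rw [h1]
    exact (Module.Flat.rTensor_preserves_injective_linearMap j hj).comp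
      (Module.Flat.lTensor_preserves_injective_linearMap j hj)
  refine { counit_eq_zero := ?_, map_mkQ_comul_eq_zero := ?_, antipode_mem := ?_ }
  · intro x hx
    have h1 : Coalgebra.counit (R := k) (ι x) = 0 :=
      Submodule.IsCoideal.counit_eq_zero (I := I.restrictScalars k) hx
    rw [← h1]
    exact (CoalgHomClass.counit_comp_apply ι x).symm
  · intro x hx
    apply hjj
    rw [map_zero]
    have h1 : TensorProduct.map q.mkQ q.mkQ (Coalgebra.comul (R := k) (ι x)) = 0 :=
      Submodule.IsCoideal.map_mkQ_comul_eq_zero (I := I.restrictScalars k) hx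
    rw [← CoalgHomClass.map_comp_comul_apply ι x] at h1
    rw [← h1]
    have key : ∀ t : A' ⊗[k] A', TensorProduct.map j j (TensorProduct.map p.mkQ p.mkQ t) =
        TensorProduct.map q.mkQ q.mkQ (TensorProduct.map (ι : A' →ₗ[k] A) (ι : A' →ₗ[k] A) t) := by
      intro t
      induction t with
      | zero => simp
      | tmul a b => rfl
      | add s t hs ht => simp only [map_add, hs, ht]
    exact key _
  · intro x hx
    rw [hmem, bialgHom_antipode_apply]
    exact Ideal.IsHopfIdeal.antipode_mem (R := k) hx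

/-- the induced map on quotients. -/
noncomputable def quotMap : (A' ⧸ I.comap (ι : A' →+* A)) →ₐ[k] A ⧸ I :=
  Ideal.quotientMapₐ I (ι : A' →ₐ[k] A) le_rfl

theorem quotMap_injective : Function.Injective (quotMap ι I) :=
  Ideal.quotientMap_injective (I := I) (f := (ι : A' →+* A))

theorem quotMap_comp_mk :
    (quotMap ι I).comp (Ideal.Quotient.mkₐ k (I.comap (ι : A' →+* A))) =
      (Ideal.Quotient.mkₐ k I).comp (ι : A' →ₐ[k] A) :=
  Ideal.quotient_map_comp_mkₐ I (ι : A' →ₐ[k] A) le_rfl

/-- the restriction of a normal Hopf ideal to a Hopf subalgebra is normal. -/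
theorem isNormal_comap (hinj : Function.Injective ι) (hI : SGA3.IsNormalHopfIdeal k A I) :
    SGA3.IsNormalHopfIdeal k A' (I.comap (ι : A' →+* A)) := by
  rw [normal_iff] at hI ⊢
  intro x hx
  have hinj2 : Function.Injective
      (Algebra.TensorProduct.map (quotMap ι I) (ι : A' →ₐ[k] A)) := by
    have := TensorProduct.map_injective_of_flat_flat (quotMap ι I).toLinearMap
      (ι : A' →ₐ[k] A).toLinearMap (quotMap_injective ι I) hinj
    exact this
  apply hinj2
  rw [map_zero]
  have h1 := hI (ι x) hx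
  have h2 := AlgHom.congr_fun (conjMap_comp (k := k) ι) x
  rw [AlgHom.comp_apply, AlgHom.comp_apply] at h2
  change conjMap (k := k) (ι x) = _ at h2
  rw [h2] at h1
  rw [← h1]
  have key : ∀ t : A' ⊗[k] A',
      (Algebra.TensorProduct.map (quotMap ι I) (ι : A' →ₐ[k] A))
        ((Algebra.TensorProduct.map (Ideal.Quotient.mkₐ k (I.comap (ι : A' →+* A)))
          (AlgHom.id k A')) t) =
      (Algebra.TensorProduct.map (Ideal.Quotient.mkₐ k I) (AlgHom.id k A))
        ((Algebra.TensorProduct.map (ι : A' →ₐ[k] A) (ι : A' →ₐ[k] A)) t) := by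
    intro t
    induction t with
    | zero => simp
    | tmul a b => rfl
    | add s t hs ht => simp only [map_add, hs, ht]
  exact key _

end Restrict

end Groth.Agent.H93.Takeuchi
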