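import Groth.Agent.H93.Twist

set_option autoImplicit false
universe u v w w'
open TensorProduct

namespace Groth.Agent.H93

section Hopf

variable {k : Type u} [CommRing k] {A : Type v} [CommRing A] [HopfAlgebra k A]
variable {V : Type w} [AddCommGroup V] [Module k V] [HopfRep.Comod k A V]

variable (k A) in
/-- `b ⊗ a ↦ S b * a` -/
noncomputable def mS : A ⊗[k] A →ₗ[k] A :=
  LinearMap.mul' k A ∘ₗ (HopfAlgebra.antipode k (A := A)).rTensor A

@[simp] theorem mS_tmul (b a : A) : mS k A (b ⊗ₜ a) = HopfAlgebra.antipode k b * a := by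
  simp [mS]

theorem star_mul_mS : star (LinearMap.mul' k A) (mS k A) = kε (k := k) (A := A) := by
  apply TensorProduct.ext'
  intro b a
  have h1 : ∀ z : A ⊗[k] A, LinearMap.mul' k A ((mS k A).lTensor A
      (TensorProduct.assoc k A A A (z ⊗ₜ a))) =
      LinearMap.mul' k A ((HopfAlgebra.antipode k (A := A)).lTensor A z) * a := by
    intro z
    induction z using TensorProduct.induction_on with
    | zero => simp
    | tmul b' b'' => simp [mul_assoc]
    | add z z' hz hz' => simp only [add_tmul, map_add, hz, hz', add_mul]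
  simp only [star, LinearMap.comp_apply, LinearMap.rTensor_tmul, LinearEquiv.coe_coe, h1,
    HopfAlgebra.mul_antipode_lTensor_comul_apply, kε_tmul, Algebra.smul_def]

theorem star_mS_mul : star (mS k A) (LinearMap.mul' k A) = kε (k := k) (A := A) := by
  apply TensorProduct.ext'
  intro b a
  have h1 : ∀ z : A ⊗[k] A, mS k A ((LinearMap.mul' k A).lTensor A
      (TensorProduct.assoc k A A A (z ⊗ₜ a))) =
      LinearMap.mul' k A ((HopfAlgebra.antipode k (A := A)).rTensor A z) * a := by
    intro z
    induction z using TensorProduct.induction_on with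
    | zero => simp
    | tmul b' b'' => simp [mul_assoc]
    | add z z' hz hz' => simp only [add_tmul, map_add, hz, hz', add_mul]
  simp only [star, LinearMap.comp_apply, LinearMap.rTensor_tmul, LinearEquiv.coe_coe, h1,
    HopfAlgebra.mul_antipode_rTensor_comul_apply, kε_tmul, Algebra.smul_def]

theorem tw_mul_comp_tw_mS : tw V (LinearMap.mul' k A) ∘ₗ tw V (mS k A) = LinearMap.id := by
  rw [tw_comp, star_mul_mS, tw_kε]

theorem tw_mS_comp_tw_mul : tw V (mS k A) ∘ₗ tw V (LinearMap.mul' k A) = LinearMap.id := by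
  rw [tw_comp, star_mS_mul, tw_kε]

theorem tw_mul_tmul_one (v : V) :
    tw V (LinearMap.mul' k A) (v ⊗ₜ (1 : A)) = HopfRep.Comod.coact (k := k) (A := A) v := by
  have h1 : ∀ y : V ⊗[k] A, (LinearMap.mul' k A).lTensor V
      (TensorProduct.assoc k V A A (y ⊗ₜ (1 : A))) = y := by
    intro y
    induction y using TensorProduct.induction_on with
    | zero => simp
    | tmul x b => simp
    | add y y' hy hy' => simp only [add_tmul, map_add, hy, hy']
  rw [tw_tmul, h1]

/-- `c ⊗ a ↦ ∑ a₁ ψ (c a₂)` -/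
noncomputable def lamψ (ψ : A →ₗ[k] k) : A ⊗[k] A →ₗ[k] A :=
  slice A ψ ∘ₗ LinearMap.mul' k (A ⊗[k] A) ∘ₗ
    TensorProduct.map (Algebra.TensorProduct.includeRight (R := k) (A := A) (B := A)).toLinearMap
      (Coalgebra.comul (R := k) (A := A))

theorem lamψ_tmul (ψ : A →ₗ[k] k) (c a : A) :
    lamψ ψ (c ⊗ₜ a) = slice A ψ (((1 : A) ⊗ₜ[k] c) * Coalgebra.comul (R := k) a) := by
  simp [lamψ]

theorem dualAct_comp_mul (ψ : A →ₗ[k] k) :
    dualAct A ψ ∘ₗ LinearMap.mul' k A = star (LinearMap.mul' k A) (lamψ ψ) := by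
  apply TensorProduct.ext'
  intro b a
  have h0 : ∀ (b' b'' : A) (w : A ⊗[k] A),
      b' * slice A ψ (((1 : A) ⊗ₜ[k] b'') * w) = slice A ψ ((b' ⊗ₜ[k] b'') * w) := by
    intro b' b'' w
    induction w using TensorProduct.induction_on with
    | zero => simp
    | tmul a' a'' => simp [Algebra.TensorProduct.tmul_mul_tmul]
    | add w w' hw hw' => simp only [mul_add, map_add, hw, hw']
  have h1 : ∀ z : A ⊗[k] A, LinearMap.mul' k A ((lamψ ψ).lTensor A
      (TensorProduct.assoc k A A A (z ⊗ₜ a))) =
      slice A ψ (z * Coalgebra.comul (R := k) a) := by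
    intro z
    induction z using TensorProduct.induction_on with
    | zero => simp
    | tmul b' b'' =>
      simp only [assoc_tmul, LinearMap.lTensor_tmul, LinearMap.mul'_apply, lamψ_tmul, h0]
    | add z z' hz hz' => simp only [add_tmul, map_add, hz, hz', add_mul]
  simp only [star, LinearMap.comp_apply, LinearMap.rTensor_tmul, LinearEquiv.coe_coe, h1,
    LinearMap.mul'_apply, dualAct_apply]
  change slice A ψ (Coalgebra.comul (R := k) (b * a)) = _
  rw [Bialgebra.comul_mul]

/-- (b): `L_ψ ∘ Ψ = Ψ ∘ D_ψ`. -/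
theorem lTensor_dualAct_comp_tw_mul (ψ : A →ₗ[k] k) :
    (dualAct A ψ).lTensor V ∘ₗ tw V (LinearMap.mul' k A) =
      tw V (LinearMap.mul' k A) ∘ₗ tw V (lamψ ψ) := by
  rw [tw_comp, ← dualAct_comp_mul, tw_lTensor_comp]

/-- (K3): `ρ ∘ T_ψ = L_ψ ∘ ρ`. -/
theorem coact_comp_dualAct (ψ : A →ₗ[k] k) :
    HopfRep.Comod.coact (k := k) (A := A) (V := V) ∘ₗ dualAct V ψ =
      (dualAct A ψ).lTensor V ∘ₗ HopfRep.Comod.coact (k := k) (A := A) (V := V) := by
  have hco := HopfRep.Comod.coassoc (k := k) (A := A) (V := V)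
  have h1 : slice (V ⊗[k] A) ψ ∘ₗ (TensorProduct.assoc k V A A).symm.toLinearMap =
      (slice A ψ).lTensor V := by
    ext v a b
    simp [TensorProduct.tmul_smul]
  ext v
  have h3 := LinearMap.congr_fun hco v
  simp only [LinearMap.comp_apply, LinearEquiv.coe_coe] at h3
  have h4 := LinearMap.congr_fun h1 ((Coalgebra.comul (R := k) (A := A)).lTensor V
    (HopfRep.Comod.coact (k := k) (A := A) v))
  simp only [LinearMap.comp_apply, LinearEquiv.coe_coe] at h4
  rw [LinearMap.comp_apply, LinearMap.comp_apply, dualAct_apply, ← slice_rTensor_apply]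
  rw [← h3, LinearEquiv.symm_apply_apply] at h4
  rw [h4]
  change _ = (slice A ψ ∘ₗ Coalgebra.comul (R := k) (A := A)).lTensor V _
  rw [LinearMap.lTensor_comp, LinearMap.comp_apply, h3]

section Integral

variable (α : A →ₗ[k] k)
  (hα : @Hoch.IsComodHom k _ A _ _ _ A _ _ _ k _ _ (HopfRep.Comod.trivial k A k) α)

include hα in
theorem lid_rTensor_comul (a : A) :
    TensorProduct.lid k A (α.rTensor A (Coalgebra.comul (R := k) a)) = α a • (1 : A) := by
  have h := LinearMap.congr_fun hα a
  simp only [LinearMap.comp_apply] at h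
  have h' : α.rTensor A (Coalgebra.comul (R := k) a) = α a ⊗ₜ[k] (1 : A) := h.symm
  rw [h']
  simp

include hα in
/-- (c): `slice α ∘ D_ψ = T_ψ ∘ slice α`. -/
theorem slice_comp_tw_lamψ (ψ : A →ₗ[k] k) :
    slice V α ∘ₗ tw V (lamψ ψ) = dualAct V ψ ∘ₗ slice V α := by
  apply TensorProduct.ext'
  intro v a
  have h0 : ∀ (b : A) (w : A ⊗[k] A), α (slice A ψ (((1 : A) ⊗ₜ[k] b) * w)) =
      ψ (b * TensorProduct.lid k A (α.rTensor A w)) := by
    intro b w
    induction w using TensorProduct.induction_on with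
    | zero => simp
    | tmul a' a'' => simp [Algebra.TensorProduct.tmul_mul_tmul, mul_comm]
    | add w w' hw hw' => simp only [mul_add, map_add, hw, hw']
  have h1 : ∀ y : V ⊗[k] A, slice V α ((lamψ ψ).lTensor V
      (TensorProduct.assoc k V A A (y ⊗ₜ a))) = α a • slice V ψ y := by
    intro y
    induction y using TensorProduct.induction_on with
    | zero => simp
    | tmul x b =>
      simp only [assoc_tmul, LinearMap.lTensor_tmul, slice_tmul, lamψ_tmul, h0,
        lid_rTensor_comul α hα, mul_smul_comm, mul_one, map_smul, smul_eq_mul, mul_smul]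
    | add y y' hy hy' => simp only [add_tmul, map_add, hy, hy', smul_add]
  rw [LinearMap.comp_apply, tw_tmul, h1, LinearMap.comp_apply, slice_tmul, map_smul, dualAct_apply]

/-- the retraction `r = slice α ∘ Φ` of the coaction -/
noncomputable def retr : V ⊗[k] A →ₗ[k] V := slice V α ∘ₗ tw V (mS k A)

theorem retr_coact (h1 : α 1 = 1) (v : V) :
    retr (V := V) α (HopfRep.Comod.coact (k := k) (A := A) v) = v := by
  rw [← tw_mul_tmul_one, retr, LinearMap.comp_apply, ← LinearMap.comp_apply (tw V (mS k A)),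
    tw_mS_comp_tw_mul, LinearMap.id_apply, slice_tmul, h1, one_smul]

include hα in
theorem retr_comp_lTensor (ψ : A →ₗ[k] k) :
    retr (V := V) α ∘ₗ (dualAct A ψ).lTensor V = dualAct V ψ ∘ₗ retr (V := V) α := by
  have hsurj : Function.Surjective (tw V (LinearMap.mul' k A)) := by
    intro x
    exact ⟨tw V (mS k A) x, LinearMap.congr_fun tw_mul_comp_tw_mS x⟩
  apply LinearMap.ext
  intro x
  obtain ⟨y, rfl⟩ := hsurj x
  have e1 : (dualAct A ψ).lTensor V (tw V (LinearMap.mul' k A) y) =
      tw V (LinearMap.mul' k A) (tw V (lamψ ψ) y) :=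
    LinearMap.congr_fun (lTensor_dualAct_comp_tw_mul ψ) y
  have e2 : ∀ z, tw V (mS k A) (tw V (LinearMap.mul' k A) z) = z :=
    fun z => LinearMap.congr_fun tw_mS_comp_tw_mul z
  have e3 : slice V α (tw V (lamψ ψ) y) = dualAct V ψ (slice V α y) :=
    LinearMap.congr_fun (slice_comp_tw_lamψ α hα ψ) y
  simp only [LinearMap.comp_apply, retr, e1, e2, e3]

theorem retr_tmul (v : V) (a : A) :
    retr (V := V) α (v ⊗ₜ a) =
      dualAct V (α ∘ₗ mS k A ∘ₗ (TensorProduct.mk k A A).flip a) v := by
  have h1 : ∀ y : V ⊗[k] A, slice V α ((mS k A).lTensor V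
      (TensorProduct.assoc k V A A (y ⊗ₜ a))) =
      slice V (α ∘ₗ mS k A ∘ₗ (TensorProduct.mk k A A).flip a) y := by
    intro y
    induction y using TensorProduct.induction_on with
    | zero => simp
    | tmul x b => simp
    | add y y' hy hy' => simp only [add_tmul, map_add, hy, hy']
  rw [retr, LinearMap.comp_apply, tw_tmul, h1, dualAct_apply]

theorem retr_mem (W : Submodule k V) (hW : HopfRep.IsSubcomod (k := k) (A := A) W)
    (x : V ⊗[k] A) (hx : x ∈ LinearMap.range (W.subtype.rTensor A)) :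
    retr (V := V) α x ∈ W := by
  obtain ⟨y, rfl⟩ := hx
  induction y using TensorProduct.induction_on with
  | zero => simp
  | tmul w a =>
    rw [LinearMap.rTensor_tmul, retr_tmul]
    exact dualAct_mem_of_isSubcomod hW _ w.2
  | add y y' hy hy' => rw [map_add, map_add]; exact add_mem hy hy'

end Integral

end Hopf

section Main

variable {k : Type u} [Field k] {A : Type v} [CommRing A] [HopfAlgebra k A]
variable {V : Type w} [AddCommGroup V] [Module k V] [HopfRep.Comod k A V]

theorem isSemisimpleComod_of_integral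
    (α : A →ₗ[k] k)
    (hα : @Hoch.IsComodHom k _ A _ _ _ A _ _ _ k _ _ (HopfRep.Comod.trivial k A k) α)
    (h1 : α 1 = 1) : HopfRep.IsSemisimpleComod k A V := by
  intro W hW
  obtain ⟨g, hg⟩ := LinearMap.exists_leftInverse_of_injective W.subtype (Submodule.ker_subtype W)
  have hg' : ∀ w : W, g (w : V) = w := fun w => LinearMap.congr_fun hg w
  let q : V →ₗ[k] V := W.subtype ∘ₗ g
  let P : V →ₗ[k] V := retr (V := V) α ∘ₗ q.rTensor A ∘ₗ HopfRep.Comod.coact (k := k) (A := A)
  have hPmem : ∀ v, P v ∈ W := by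
    intro v
    apply retr_mem α W hW
    refine ⟨g.rTensor A (HopfRep.Comod.coact (k := k) (A := A) v), ?_⟩
    rw [← LinearMap.comp_apply, ← LinearMap.rTensor_comp]
    rfl
  have hPW : ∀ w ∈ W, P w = w := by
    intro w hw
    obtain ⟨y, hy⟩ := hW w hw
    have : q.rTensor A (HopfRep.Comod.coact (k := k) (A := A) w) =
        HopfRep.Comod.coact (k := k) (A := A) w := by
      rw [← hy, ← LinearMap.comp_apply, ← LinearMap.rTensor_comp]
      have : q ∘ₗ W.subtype = W.subtype := by
        ext x
        simp [q, hg']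
      rw [this]
    simp only [P, LinearMap.comp_apply, this, retr_coact α h1]
  have hPcomm : ∀ (ψ : A →ₗ[k] k) (v : V), P (dualAct V ψ v) = dualAct V ψ (P v) := by
    intro ψ v
    have e1 := LinearMap.congr_fun (coact_comp_dualAct (V := V) ψ) v
    have e2 : ∀ x, q.rTensor A ((dualAct A ψ).lTensor V x) =
        (dualAct A ψ).lTensor V (q.rTensor A x) := by
      intro x
      rw [← LinearMap.comp_apply, ← LinearMap.comp_apply, LinearMap.rTensor_comp_lTensor,
        LinearMap.lTensor_comp_rTensor]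
    have e3 := fun x => LinearMap.congr_fun (retr_comp_lTensor (V := V) α hα ψ) x
    simp only [LinearMap.comp_apply] at e1 e3
    simp only [P, LinearMap.comp_apply, e1, e2, e3]
  have hPhom : Hoch.IsComodHom A P := (isComodHom_iff P).2 hPcomm
  refine ⟨LinearMap.ker P, isSubcomod_ker hPhom, ?_⟩
  constructor
  · rw [Submodule.disjoint_def]
    intro x hx hx'
    rw [← hPW x hx]
    exact hx'
  · rw [codisjoint_iff, eq_top_iff]
    intro v _
    have : v = P v + (v - P v) := by abel
    rw [this]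
    refine Submodule.add_mem_sup (hPmem v) ?_
    rw [LinearMap.mem_ker, map_sub, hPW _ (hPmem v), sub_self]

end Main

end Groth.Agent.H93
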