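import Groth.Agent.H93.ReynoldsAlg
import Mathlib.RingTheory.MvPolynomial.Homogeneous

set_option autoImplicit false
universe u v w

open TensorProduct

namespace Groth.Agent.H93

section LinCoact

variable {k : Type u} [Field k] {A : Type v} [CommRing A] [Bialgebra k A]
variable {ι : Type w} [Fintype ι] [HopfRep.Comod k A (MvPolynomial ι k)]
  [GLin.IsCoactAlg k A (MvPolynomial ι k)]

variable (k A ι) in
/-- the degree-`e` part of `k[x] ⊗ A` -/
noncomputable def degPart (e : ℕ) : Submodule k (MvPolynomial ι k ⊗[k] A) :=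
  Submodule.span k {t | ∃ r ∈ MvPolynomial.homogeneousSubmodule ι k e, ∃ a : A, t = r ⊗ₜ[k] a}

omit [Fintype ι] [HopfRep.Comod k A (MvPolynomial ι k)] [GLin.IsCoactAlg k A (MvPolynomial ι k)] in
theorem degPart_mul {e e' : ℕ} {s t : MvPolynomial ι k ⊗[k] A} (hs : s ∈ degPart k A ι e)
    (ht : t ∈ degPart k A ι e') : s * t ∈ degPart k A ι (e + e') := by
  have h : degPart k A ι e * degPart k A ι e' ≤ degPart k A ι (e + e') := by
    rw [degPart, degPart, Submodule.span_mul_span]
    apply Submodule.span_le.2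
    rintro _ ⟨_, ⟨r, hr, a, rfl⟩, _, ⟨r', hr', a', rfl⟩, rfl⟩
    apply Submodule.subset_span
    refine ⟨r * r', MvPolynomial.IsHomogeneous.mul hr hr', a * a', ?_⟩
    exact Algebra.TensorProduct.tmul_mul_tmul _ _ _ _
  exact h (Submodule.mul_mem_mul hs ht)

omit [Fintype ι] [HopfRep.Comod k A (MvPolynomial ι k)] [GLin.IsCoactAlg k A (MvPolynomial ι k)] in
theorem rTensor_homogeneousComponent_of_mem {e : ℕ} {t : MvPolynomial ι k ⊗[k] A}
    (ht : t ∈ degPart k A ι e) (d : ℕ) :
    (MvPolynomial.homogeneousComponent d).rTensor A t = if d = e then t else 0 := by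
  induction ht using Submodule.span_induction with
  | mem t ht =>
    obtain ⟨r, hr, a, rfl⟩ := ht
    rw [LinearMap.rTensor_tmul, MvPolynomial.homogeneousComponent_of_mem hr]
    split_ifs <;> simp
  | zero => simp
  | add s t _ _ hs ht => rw [map_add, hs, ht]; split_ifs <;> simp
  | smul c t _ ht => rw [map_smul, ht]; split_ifs <;> simp

theorem coact_monomial_mem (hlin : GLin.IsLinear k A ι) (s : ι →₀ ℕ) (c : k) :
    ∃ e, (MvPolynomial.monomial s c).IsHomogeneous e ∧
      HopfRep.Comod.coact (k := k) (A := A) (MvPolynomial.monomial s c) ∈ degPart k A ι e := by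
  refine MvPolynomial.induction_on_monomial (motive := fun p => ∃ e, p.IsHomogeneous e ∧
      HopfRep.Comod.coact (k := k) (A := A) p ∈ degPart k A ι e) ?_ ?_ s c
  · intro a
    refine ⟨0, MvPolynomial.isHomogeneous_C _ a, ?_⟩
    rw [MvPolynomial.C_eq_smul_one, map_smul,
      GLin.IsCoactAlg.coact_one (k := k) (A := A) (R := MvPolynomial ι k),
      Algebra.TensorProduct.one_def]
    apply Submodule.smul_mem
    apply Submodule.subset_span
    exact ⟨1, MvPolynomial.isHomogeneous_one _ _, 1, rfl⟩
  · intro p n ih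
    obtain ⟨e, hp, hρ⟩ := ih
    refine ⟨e + 1, MvPolynomial.IsHomogeneous.mul hp (MvPolynomial.isHomogeneous_X _ n), ?_⟩
    rw [GLin.IsCoactAlg.coact_mul]
    apply degPart_mul hρ
    obtain ⟨m, hm⟩ := hlin n
    rw [hm]
    apply Submodule.sum_mem
    intro j _
    apply Submodule.subset_span
    exact ⟨MvPolynomial.X j, MvPolynomial.isHomogeneous_X _ j, m j, rfl⟩

/-- a linear coaction preserves degrees -/
theorem rTensor_homogeneousComponent_coact (hlin : GLin.IsLinear k A ι) (d : ℕ)
    (F : MvPolynomial ι k) :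
    (MvPolynomial.homogeneousComponent d).rTensor A (HopfRep.Comod.coact (k := k) (A := A) F) =
      HopfRep.Comod.coact (k := k) (A := A) (MvPolynomial.homogeneousComponent d F) := by
  induction F using MvPolynomial.induction_on' with
  | monomial s c =>
    obtain ⟨e, hp, hρ⟩ := coact_monomial_mem (A := A) hlin s c
    rw [rTensor_homogeneousComponent_of_mem hρ, MvPolynomial.homogeneousComponent_of_mem hp]
    split_ifs <;> simp
  | add p q hp hq => simp only [map_add, hp, hq]

theorem homogeneousComponent_mem_invariants (hlin : GLin.IsLinear k A ι) (d : ℕ)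
    (F : MvPolynomial ι k) (hF : F ∈ GLin.invariants k A (MvPolynomial ι k)) :
    MvPolynomial.homogeneousComponent d F ∈ GLin.invariants k A (MvPolynomial ι k) := by
  have hF' : HopfRep.Comod.coact (k := k) (A := A) F = F ⊗ₜ[k] (1 : A) := hF
  change HopfRep.Comod.coact (k := k) (A := A) (MvPolynomial.homogeneousComponent d F) = _
  rw [← rTensor_homogeneousComponent_coact hlin, hF', LinearMap.rTensor_tmul]

theorem homogeneousComponent_dualAct (hlin : GLin.IsLinear k A ι) (d : ℕ) (ψ : A →ₗ[k] k)
    (F : MvPolynomial ι k) :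
    MvPolynomial.homogeneousComponent d (dualAct (MvPolynomial ι k) ψ F) =
      dualAct (MvPolynomial ι k) ψ (MvPolynomial.homogeneousComponent d F) := by
  rw [dualAct_apply, dualAct_apply, ← rTensor_homogeneousComponent_coact hlin,
    slice_rTensor_apply]

end LinCoact

end Groth.Agent.H93
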