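import Mathlib
import Groth.Agent.H74.Cosemisimple

/-!
# Double commutant criterion for semisimplicity of a comodule (helper93)

If a finite-dimensional comodule `T` over a coalgebra `C` over a field carries a semisimple module
structure over a ring `R` such that the operators `act f` (`f` a functional on `C`) are exactly the
`R`-linear endomorphisms, then `T` is semisimple as a module over the dual algebra, i.e. as a
comodule.  Group version: `R = K[G]` for a finite group of order invertible in `K`, and a version
for a comodule with a basis whose matrix of coefficients is invariant under a group of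
permutations of the index set.
-/

namespace Groth.Agent.H93.DblComm

open TensorProduct Groth.Agent.H74.Comod

universe u v w

section Abstract

variable {K : Type u} [Field K] {C : Type v} [AddCommGroup C] [Module K C] [Coalgebra K C]
variable {T : Type w} [AddCommGroup T] [Module K T] [HopfRep.Comod K C T]

attribute [local instance] module

theorem isSemisimpleModule_of_commutant (R : Type*) [Ring R] [Module R T]
    [IsSemisimpleModule R T] [Module.Finite R T]
    (h1 : ∀ (f : C →ₗ[K] K) (r : R) (t : T), act f (r • t) = r • act f t)
    (h2 : ∀ b : Module.End R T, ∃ f : C →ₗ[K] K, ∀ t, b t = act f t) :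
    IsSemisimpleModule (Dual K C) T := by
  haveI : IsSemisimpleRing (Module.End R T) := IsSemisimpleRing.moduleEnd R T
  rw [isSemisimpleModule_iff]
  refine ⟨fun N => ?_⟩
  let NB : Submodule (Module.End R T) T :=
    { carrier := N
      add_mem' := N.add_mem
      zero_mem' := N.zero_mem
      smul_mem' := by
        intro b x hx
        obtain ⟨f, hf⟩ := h2 b
        change b x ∈ N
        rw [hf]
        exact N.smul_mem (WithConv.toConv f) hx }
  obtain ⟨NB', hc⟩ := exists_isCompl NB
  let N' : Submodule (Dual K C) T :=
    { carrier := NB'
      add_mem' := NB'.add_mem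
      zero_mem' := NB'.zero_mem
      smul_mem' := by
        intro f x hx
        let bf : Module.End R T :=
          { toFun := act f.ofConv
            map_add' := map_add _
            map_smul' := fun r t => h1 f.ofConv r t }
        exact NB'.smul_mem bf hx }
  refine ⟨N', ?_⟩
  rw [isCompl_iff] at hc ⊢
  obtain ⟨hd, hcd⟩ := hc
  constructor
  · rw [Submodule.disjoint_def] at hd ⊢
    exact fun x hx hx' => hd x hx hx'
  · rw [Submodule.codisjoint_iff_exists_add_eq] at hcd ⊢
    exact fun z => hcd z

/-- group version: the operators `act f` are exactly the endomorphisms commuting with a finite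
group of order invertible in `K` -/
theorem isSemisimpleModule_of_group_commutant {G : Type*} [Group G] [Finite G]
    [NeZero (Nat.card G : K)] [Module.Finite K T] (ρ : Representation K G T)
    (h1 : ∀ (f : C →ₗ[K] K) (g : G) (t : T), act f (ρ g t) = ρ g (act f t))
    (h2 : ∀ b : T →ₗ[K] T, (∀ g t, b (ρ g t) = ρ g (b t)) →
      ∃ f : C →ₗ[K] K, ∀ t, b t = act f t) :
    IsSemisimpleModule (Dual K C) T := by
  letI : Module (MonoidAlgebra K G) T := Module.compHom T (ρ.asAlgebraHom).toRingHom
  have hsm : ∀ (r : MonoidAlgebra K G) (t : T), r • t = ρ.asAlgebraHom r t := fun _ _ => rfl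
  haveI : IsScalarTower K (MonoidAlgebra K G) T := ⟨fun c r t => by
    rw [hsm, hsm, map_smul]; rfl⟩
  haveI : Module.Finite (MonoidAlgebra K G) T := Module.Finite.of_restrictScalars_finite K _ T
  have hof : ∀ (g : G) (t : T), (MonoidAlgebra.of K G g) • t = ρ g t := by
    intro g t
    rw [hsm, Representation.asAlgebraHom_of]
  apply isSemisimpleModule_of_commutant (MonoidAlgebra K G)
  · intro f r t
    induction r using MonoidAlgebra.induction_on with
    | of g => rw [hof, hof, h1]
    | add x y hx hy => rw [add_smul, map_add, hx, hy, add_smul]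
    | smul c x hx => rw [smul_assoc, map_smul, hx, smul_assoc]
  · intro b
    obtain ⟨f, hf⟩ := h2 (b.restrictScalars K) (by
      intro g t
      rw [← hof, ← hof]
      exact b.map_smul _ _)
    exact ⟨f, hf⟩

end Abstract

section Basis

variable {K : Type u} [Field K] {C : Type v} [AddCommGroup C] [Module K C] [Coalgebra K C]
variable {T : Type w} [AddCommGroup T] [Module K T]
variable {ι : Type*} [Fintype ι] [DecidableEq ι]

omit [Coalgebra K C] in
/-- expansion of an element of `T ⊗ C` along a basis of `T` -/
theorem sum_basis_tmul_coord (b : Module.Basis ι K T) (t : T ⊗[K] C) :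
    t = ∑ J, b J ⊗ₜ[K] (TensorProduct.lid K C ((b.coord J).rTensor C t)) := by
  induction t using TensorProduct.induction_on with
  | zero => simp
  | add x y hx hy =>
    simp only [map_add, TensorProduct.tmul_add, Finset.sum_add_distrib]
    rw [← hx, ← hy]
  | tmul v c =>
    simp only [LinearMap.rTensor_tmul, TensorProduct.lid_tmul, Module.Basis.coord_apply]
    conv_lhs => rw [← b.sum_repr v, TensorProduct.sum_tmul]
    refine Finset.sum_congr rfl fun J _ => ?_
    rw [TensorProduct.smul_tmul]

variable [HopfRep.Comod K C T]

theorem act_basis (b : Module.Basis ι K T) (x : ι → ι → C)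
    (hx : ∀ I, HopfRep.Comod.coact (k := K) (A := C) (b I) = ∑ J, b J ⊗ₜ[K] x J I)
    (f : C →ₗ[K] K) (I : ι) : act f (b I) = ∑ J, f (x J I) • b J := by
  rw [act_apply, hx, map_sum, map_sum]
  refine Finset.sum_congr rfl fun J _ => ?_
  rw [LinearMap.lTensor_tmul, TensorProduct.rid_tmul]

attribute [local instance] module

/-- A comodule with a basis whose matrix of coefficients is invariant under a group `H` of
permutations of the index set, such that every `H`-invariant matrix of scalars is obtained by
applying a functional to the matrix of coefficients, is semisimple (characteristic zero). -/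
theorem isSemisimpleModule_of_basis [CharZero K] (b : Module.Basis ι K T) (x : ι → ι → C)
    (hx : ∀ I, HopfRep.Comod.coact (k := K) (A := C) (b I) = ∑ J, b J ⊗ₜ[K] x J I)
    (H : Subgroup (Equiv.Perm ι)) (hH : ∀ τ ∈ H, ∀ J I, x (τ J) (τ I) = x J I)
    (h2 : ∀ β : ι → ι → K, (∀ τ ∈ H, ∀ J I, β (τ J) (τ I) = β J I) →
      ∃ f : C →ₗ[K] K, ∀ J I, f (x J I) = β J I) :
    IsSemisimpleModule (Dual K C) T := by
  classical
  haveI : Module.Finite K T := Module.Finite.of_basis b
  haveI : NeZero (Nat.card H) := NeZero.of_pos Nat.card_pos
  haveI : NeZero (Nat.card H : K) := NeZero.charZero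
  let ρ : Representation K H T :=
    { toFun := fun τ => b.constr K (fun I => b (τ.1 I))
      map_one' := by
        apply b.ext
        intro I
        simp only [Module.Basis.constr_basis]
        rfl
      map_mul' := by
        intro τ τ'
        apply b.ext
        intro I
        rw [Module.End.mul_apply]
        simp only [Module.Basis.constr_basis]
        rfl }
  have hρ : ∀ (τ : H) (I : ι), ρ τ (b I) = b (τ.1 I) := by
    intro τ I
    change b.constr K (fun I => b (τ.1 I)) (b I) = _
    rw [Module.Basis.constr_basis]
  have hcoord : ∀ (τ : H) (J : ι), (b.coord (τ.1 J)) ∘ₗ ρ τ = b.coord J := by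
    intro τ J
    apply b.ext
    intro L
    rw [LinearMap.comp_apply, hρ, Module.Basis.coord_apply, Module.Basis.coord_apply,
      Module.Basis.repr_self, Module.Basis.repr_self, Finsupp.single_apply, Finsupp.single_apply]
    simp only [EmbeddingLike.apply_eq_iff_eq]
  apply isSemisimpleModule_of_group_commutant ρ
  · intro f τ t
    have : (act (V := T) f) ∘ₗ ρ τ = ρ τ ∘ₗ act f := by
      apply b.ext
      intro I
      rw [LinearMap.comp_apply, LinearMap.comp_apply, hρ, act_basis b x hx, act_basis b x hx,
        map_sum]
      rw [← Equiv.sum_comp τ.1 (fun J => f (x J (τ.1 I)) • b J)]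
      refine Finset.sum_congr rfl fun J _ => ?_
      rw [map_smul, hρ, hH τ.1 τ.2]
    exact LinearMap.congr_fun this t
  · intro b' hb'
    obtain ⟨f, hf⟩ := h2 (fun J I => b.repr (b' (b I)) J) (by
      intro τ hτ J I
      have h1 := hb' ⟨τ, hτ⟩ (b I)
      rw [hρ] at h1
      change b.repr (b' (b (τ I))) (τ J) = b.repr (b' (b I)) J
      rw [h1]
      have h2 := LinearMap.congr_fun (hcoord ⟨τ, hτ⟩ J) (b' (b I))
      rw [LinearMap.comp_apply, Module.Basis.coord_apply, Module.Basis.coord_apply] at h2
      exact h2)
    refine ⟨f, fun t => ?_⟩
    have : b' = act f := by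
      apply b.ext
      intro I
      rw [act_basis b x hx, ← b.sum_repr (b' (b I))]
      refine Finset.sum_congr rfl fun J _ => ?_
      rw [hf]
    rw [this]

end Basis

end Groth.Agent.H93.DblComm
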