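import Groth.Agent.H93.TensGen
import Groth.Prelude.Def_GLin5

/-!
# The standard representation of a closed subgroup of `GL_n` and its dual generate (helper93)
-/

set_option autoImplicit false

universe u v w w'

open TensorProduct

namespace Groth.Agent.H93.TensGen

section General

variable {k : Type u} [CommRing k] {A : Type v} [CommRing A] [Bialgebra k A]
variable {V : Type w} [AddCommGroup V] [Module k V]
variable {W : Type w'} [AddCommGroup W] [Module k W]

theorem coeffMap_of_isHom {c : HopfRep.Comod k A V} {d : HopfRep.Comod k A W} {f : V →ₗ[k] W}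
    (hf : IsHom c d f) (φ : Module.Dual k W) (v : V) :
    coeffMap d φ (f v) = coeffMap c (φ ∘ₗ f) v := by
  rw [coeffMap_apply, hf.apply, ← LinearMap.comp_apply (φ.rTensor A), ← LinearMap.rTensor_comp]
  rfl

theorem cf_le_of_isHom_of_leftInverse {c : HopfRep.Comod k A V} {d : HopfRep.Comod k A W}
    {f : V →ₗ[k] W} (hf : IsHom c d f) (g : W →ₗ[k] V) (hg : g ∘ₗ f = LinearMap.id) :
    cf c ≤ cf d := by
  rw [cf_le_iff]
  intro φ v
  have : coeffMap c φ v = coeffMap d (φ ∘ₗ g) (f v) := by
    rw [coeffMap_of_isHom hf, LinearMap.comp_assoc, hg, LinearMap.comp_id]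
  rw [this]
  exact coeffMap_mem_cf _ _ _

theorem isHom_inl (c : HopfRep.Comod k A V) (d : HopfRep.Comod k A W) :
    IsHom c (ComodTens.Comod.prod c d) (LinearMap.inl k V W) := by
  apply LinearMap.ext
  intro v
  change (ComodTens.Comod.prod c d).coact (v, 0) = _
  rw [ComodTens.prod_coact, map_zero, map_zero, add_zero]
  rfl

theorem isHom_inr (c : HopfRep.Comod k A V) (d : HopfRep.Comod k A W) :
    IsHom d (ComodTens.Comod.prod c d) (LinearMap.inr k V W) := by
  apply LinearMap.ext
  intro w
  change (ComodTens.Comod.prod c d).coact (0, w) = _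
  rw [ComodTens.prod_coact, map_zero, map_zero, zero_add]
  rfl

theorem cf_le_cf_prod_left (c : HopfRep.Comod k A V) (d : HopfRep.Comod k A W) :
    cf c ≤ cf (ComodTens.Comod.prod c d) :=
  cf_le_of_isHom_of_leftInverse (isHom_inl c d) (LinearMap.fst k V W) (LinearMap.fst_comp_inl k V W)

theorem cf_le_cf_prod_right (c : HopfRep.Comod k A V) (d : HopfRep.Comod k A W) :
    cf d ≤ cf (ComodTens.Comod.prod c d) :=
  cf_le_of_isHom_of_leftInverse (isHom_inr c d) (LinearMap.snd k V W) (LinearMap.snd_comp_inr k V W)

end General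

section Dual

variable {k : Type u} [CommRing k] {A : Type v} [CommRing A] [HopfAlgebra k A]
variable {V : Type w} [AddCommGroup V] [Module k V]

private theorem aux_eval (v : V) (z : Module.Dual k V ⊗[k] A) :
    TensorProduct.lid k A ((Module.Dual.eval k V v).rTensor A z) = dualTensorHom k V A z v := by
  induction z using TensorProduct.induction_on with
  | zero => simp only [map_zero, LinearMap.zero_apply]
  | add x y hx hy => simp only [map_add, LinearMap.add_apply, hx, hy]
  | tmul f a =>
    rw [LinearMap.rTensor_tmul, TensorProduct.lid_tmul, dualTensorHom_apply, Module.Dual.eval_apply]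

/-- the coefficients of the contragredient comodule are the antipodes of the coefficients -/
theorem coeffMap_dual {c : HopfRep.Comod k A V} {d : HopfRep.Comod k A (Module.Dual k V)}
    (hd : ComodTens.Comod.IsDual c d) (v : V) (f : Module.Dual k V) :
    coeffMap d (Module.Dual.eval k V v) f = ComodTens.dualCoactFun c f v := by
  rw [coeffMap_apply, aux_eval, hd f]

end Dual

section GLsec

open CoordGrp

variable {k : Type u} [CommRing k] {A : Type u} [CommRing A] [HopfAlgebra k A]
variable (n : ℕ) (π : CoordGrp.GLn n k →ₐc[k] A)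

/-- the standard representation of `GL_n` restricted along `π` -/
@[reducible] noncomputable def stdC : HopfRep.Comod k A (Fin n → k) :=
  GLin.comodAlong π (GLin.comodAlong (CoordGrp.Mat.toGLn n k) (ComodTens.stdVec n k))

theorem stdC_coact_single (j : Fin n) :
    (stdC n π).coact (Pi.single j 1) =
      ∑ i : Fin n, (Pi.single i (1 : k) : Fin n → k) ⊗ₜ[k] π (GLn.X i j) := by
  rw [GLin.comodAlong_coact, GLin.comodAlong_coact, ComodTens.stdVec_coact_single, map_sum, map_sum]
  refine Finset.sum_congr rfl fun i _ => ?_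
  rw [TensorProduct.map_tmul, TensorProduct.map_tmul, LinearMap.id_apply, LinearMap.id_apply]
  congr 1
  change π (CoordGrp.Mat.toGLn n k (Mat.X i j)) = _
  rw [Mat.toGLn_X]

theorem piX_mem_cf (i j : Fin n) : π (GLn.X i j) ∈ cf (stdC n π) := by
  have h : coeffMap (stdC n π) (LinearMap.proj i : (Fin n → k) →ₗ[k] k) (Pi.single j 1) =
      π (GLn.X i j) := by
    rw [coeffMap_apply, stdC_coact_single, map_sum, map_sum, Finset.sum_eq_single i]
    · rw [LinearMap.rTensor_tmul, TensorProduct.lid_tmul, LinearMap.proj_apply, Pi.single_eq_same,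
        one_smul]
    · intro l _ hl
      rw [LinearMap.rTensor_tmul, TensorProduct.lid_tmul, LinearMap.proj_apply,
        Pi.single_eq_of_ne (Ne.symm hl), zero_smul]
    · intro h; exact absurd (Finset.mem_univ i) h
  rw [← h]
  exact coeffMap_mem_cf _ _ _

theorem antipode_piX_mem_cf (d : HopfRep.Comod k A (Module.Dual k (Fin n → k)))
    (hd : ComodTens.Comod.IsDual (stdC n π) d) (i j : Fin n) :
    HopfAlgebraStruct.antipode (R := k) (π (GLn.X i j)) ∈ cf d := by
  have h : coeffMap d (Module.Dual.eval k (Fin n → k) (Pi.single j 1))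
      (LinearMap.proj i : (Fin n → k) →ₗ[k] k) =
      HopfAlgebraStruct.antipode (R := k) (π (GLn.X i j)) := by
    rw [coeffMap_dual hd, ComodTens.dualCoactFun_apply_of_sum (stdC n π) _ Finset.univ _ _ _
      (stdC_coact_single n π j), Finset.sum_eq_single i]
    · rw [LinearMap.proj_apply, Pi.single_eq_same, one_smul]
    · intro l _ hl
      rw [LinearMap.proj_apply, Pi.single_eq_of_ne (Ne.symm hl), zero_smul]
    · intro h; exact absurd (Finset.mem_univ i) h
  rw [← h]
  exact coeffMap_mem_cf _ _ _

/-- the matrix of images of the coordinate functions times the matrix of their antipodes is one -/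
theorem piX_mul_antipode (i l : Fin n) :
    ∑ j : Fin n, π (GLn.X i j) * HopfAlgebraStruct.antipode (R := k) (π (GLn.X j l)) =
      if i = l then (1 : A) else 0 := by
  have h := HopfAlgebra.mul_antipode_lTensor_comul_apply (R := k) (π (GLn.X i l))
  have hcomul : CoalgebraStruct.comul (R := k) (π (GLn.X i l)) =
      ∑ j : Fin n, π (GLn.X i j) ⊗ₜ[k] π (GLn.X j l) := by
    have := LinearMap.congr_fun (CoalgHomClass.map_comp_comul π) (GLn.X i l)
    simp only [LinearMap.coe_comp, Function.comp_apply] at this
    rw [GLn.comul_X, map_sum] at this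
    simp only [TensorProduct.map_tmul] at this
    exact this.symm
  have hcounit : CoalgebraStruct.counit (R := k) (π (GLn.X i l)) = if i = l then (1 : k) else 0 := by
    have := LinearMap.congr_fun (CoalgHomClass.counit_comp π) (GLn.X i l)
    simp only [LinearMap.coe_comp, Function.comp_apply] at this
    rw [GLn.counit_X] at this
    exact this
  rw [hcomul, map_sum, map_sum, hcounit] at h
  simp only [LinearMap.lTensor_tmul, LinearMap.mul'_apply] at h
  rw [h]
  split_ifs
  · rw [map_one]
  · rw [map_zero]

theorem pi_Dinv_mem (B : Subalgebra k A)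
    (hS : ∀ i j : Fin n, HopfAlgebraStruct.antipode (R := k) (π (GLn.X i j)) ∈ B) :
    π (GLn.Dinv : GLn n k) ∈ B := by
  classical
  let M : Matrix (Fin n) (Fin n) A := fun i j => π (GLn.X i j)
  let N' : Matrix (Fin n) (Fin n) B := fun i j =>
    ⟨HopfAlgebraStruct.antipode (R := k) (π (GLn.X i j)), hS i j⟩
  let N : Matrix (Fin n) (Fin n) A := B.val.mapMatrix N'
  have hMN : M * N = 1 := by
    ext i l
    rw [Matrix.mul_apply, Matrix.one_apply]
    exact piX_mul_antipode n π i l
  have hdet : M.det * N.det = 1 := by rw [← Matrix.det_mul, hMN, Matrix.det_one]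
  have hM : M.det = π (GLn.det : GLn n k) := by
    rw [GLn.det_eq, ← AlgHom.coe_coe π, AlgHom.map_det]
    rfl
  have hN : N.det ∈ B := by
    have : N.det = B.val N'.det := (AlgHom.map_det B.val N').symm
    rw [this]
    exact (N'.det).2
  have h1 : π (GLn.Dinv : GLn n k) = N.det := by
    calc π (GLn.Dinv : GLn n k) = π GLn.Dinv * (M.det * N.det) := by rw [hdet, mul_one]
      _ = π ((GLn.Dinv : GLn n k) * GLn.det) * N.det := by rw [hM, map_mul, mul_assoc]
      _ = N.det := by rw [GLn.Dinv_mul_det, map_one, one_mul]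
  rw [h1]
  exact hN

/-- the images of the coordinate functions, their antipodes generate `A` when `π` is surjective -/
theorem adjoin_eq_top_of_surjective (hπ : Function.Surjective π) (B : Subalgebra k A)
    (hX : ∀ i j : Fin n, π (GLn.X i j) ∈ B)
    (hS : ∀ i j : Fin n, HopfAlgebraStruct.antipode (R := k) (π (GLn.X i j)) ∈ B) : B = ⊤ := by
  rw [eq_top_iff]
  intro a _
  obtain ⟨g, rfl⟩ := hπ a
  obtain ⟨p, rfl⟩ := Ideal.Quotient.mkₐ_surjective k (GLb.relIdeal n k) g
  let ψ : MvPolynomial (GLPoly.Idx n) k →ₐ[k] A :=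
    (π : GLn n k →ₐ[k] A).comp
      (show MvPolynomial (GLPoly.Idx n) k →ₐ[k] GLn n k from GLn.mk n k)
  have hψX : ∀ i j : Fin n, ψ (MvPolynomial.X (Sum.inl (i, j))) = π (GLn.X i j) := fun i j => rfl
  have hψD : ψ (MvPolynomial.X (Sum.inr ())) = π (GLn.Dinv : GLn n k) := rfl
  have key : ∀ p : MvPolynomial (GLPoly.Idx n) k, ψ p ∈ B := by
    intro p
    induction p using MvPolynomial.induction_on with
    | C r =>
      rw [← MvPolynomial.algebraMap_eq, AlgHom.commutes]
      exact B.algebraMap_mem r
    | add p q hp hq =>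
      rw [map_add]
      exact B.add_mem hp hq
    | mul_X p i hp =>
      rw [map_mul]
      refine B.mul_mem hp ?_
      rcases i with ⟨i, j⟩ | ⟨⟩
      · rw [hψX]; exact hX i j
      · rw [hψD]; exact pi_Dinv_mem n π B hS
  exact key p

theorem adjoin_cf_prod_eq_top (hπ : Function.Surjective π)
    (d : HopfRep.Comod k A (Module.Dual k (Fin n → k)))
    (hd : ComodTens.Comod.IsDual (stdC n π) d) :
    Algebra.adjoin k (cf (ComodTens.Comod.prod (stdC n π) d) : Set A) = ⊤ := by
  apply adjoin_eq_top_of_surjective n π hπ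
  · intro i j
    exact Algebra.subset_adjoin (cf_le_cf_prod_left _ _ (piX_mem_cf n π i j))
  · intro i j
    exact Algebra.subset_adjoin (cf_le_cf_prod_right _ _ (antipode_piX_mem_cf n π d hd i j))

end GLsec

end Groth.Agent.H93.TensGen
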