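import Mathlib
import Groth.Agent.H93.DblComm
import Groth.Agent.H93.TensGenGL

/-!
# Semisimplicity of the tensor powers of the standard representation (helper93)

For a bialgebra map `π : Mat n k → A` (`A` commutative) the tensor powers of the standard comodule
`k^n` pushed along `π` are semisimple comodules in characteristic zero, as soon as `π` is injective
on homogeneous polynomials of each degree (in the form: it has a linear retraction there).
Proof: double commutant with the symmetric group (`DblComm`).
-/

set_option autoImplicit false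

namespace Groth.Agent.H93.SchurWeyl

open TensorProduct PiTensorProduct Groth.Agent.H93.TensGen CoordGrp

universe u v

/-! ### combinatorics -/

theorem exists_perm_comp_eq {α β : Type*} [Fintype α] [DecidableEq α] [DecidableEq β]
    (f g : α → β)
    (h : ∀ b, Fintype.card {a // f a = b} = Fintype.card {a // g a = b}) :
    ∃ σ : Equiv.Perm α, g ∘ σ = f := by
  let F : ∀ b, {a // f a = b} ≃ {a // g a = b} := fun b => Fintype.equivOfCardEq (h b)
  let σ : Equiv.Perm α :=
    (Equiv.sigmaFiberEquiv f).symm.trans
      ((Equiv.sigmaCongrRight F).trans (Equiv.sigmaFiberEquiv g))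
  refine ⟨σ, ?_⟩
  funext a
  change g ((Equiv.sigmaFiberEquiv g) ((Equiv.sigmaCongrRight F)
    ((Equiv.sigmaFiberEquiv f).symm a))) = f a
  simp only [Equiv.sigmaCongrRight_apply, Equiv.sigmaFiberEquiv_apply]
  exact (F (f a) ⟨a, rfl⟩).2

theorem sum_single_apply_eq_card {α P : Type*} [Fintype α] [DecidableEq α] [DecidableEq P]
    (p : α → P) (q : P) :
    (∑ t, Finsupp.single (p t) (1 : ℕ)) q = Fintype.card {a // p a = q} := by
  rw [Finsupp.finsetSum_apply, Fintype.card_subtype]
  simp only [Finsupp.single_apply]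
  rw [Finset.sum_boole]
  simp

/-- two tuples with the same multiset of values differ by a permutation -/
theorem exists_perm_of_sum_single_eq {α P : Type*} [Fintype α] [DecidableEq α] [DecidableEq P]
    (p p' : α → P)
    (h : (∑ t, Finsupp.single (p t) (1 : ℕ)) = ∑ t, Finsupp.single (p' t) (1 : ℕ)) :
    ∃ σ : Equiv.Perm α, p' ∘ σ = p := by
  apply exists_perm_comp_eq
  intro b
  have := DFunLike.congr_fun h b
  rw [sum_single_apply_eq_card, sum_single_apply_eq_card] at this
  exact_mod_cast this

/-! ### the basis of the tensor power and the matrix coefficients -/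

section Coeff

variable {k : Type u} [CommRing k] {A : Type v} [CommRing A] [Bialgebra k A]
variable (n : ℕ) (π : Mat n k →ₐc[k] A)

/-- the standard comodule `k^n` pushed along `π` -/
noncomputable abbrev cstd : HopfRep.Comod k A (Fin n → k) :=
  GLin.comodAlong π (ComodTens.stdVec n k)

variable (k) in
/-- the standard basis of the tensor power -/
noncomputable def bT (a : ℕ) : Module.Basis (Fin a → Fin n) k (TensorPower k a (Fin n → k)) :=
  Basis.piTensorProduct (fun _ : Fin a => Pi.basisFun k (Fin n))

theorem bT_apply (a : ℕ) (I : Fin a → Fin n) :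
    bT k n a I = tprod k (fun t => Pi.basisFun k (Fin n) (I t)) :=
  Basis.piTensorProduct_apply _ _

theorem bT_add (a m : ℕ) (I : Fin (a + m) → Fin n) :
    bT k n (a + m) I = TensorPower.mulEquiv (R := k) (M := Fin n → k) (n := a) (m := m)
      (bT k n a (fun t => I (Fin.castAdd m t)) ⊗ₜ[k] bT k n m (fun t => I (Fin.natAdd a t))) := by
  rw [bT_apply, bT_apply, bT_apply, ← TensorPower.gMul_def, TensorPower.tprod_mul_tprod]
  congr 1
  exact (Fin.append_castAdd_natAdd (f := fun t => Pi.basisFun k (Fin n) (I t))).symm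

theorem coord_comp_mulEquiv (a m : ℕ) (J : Fin (a + m) → Fin n) :
    (bT k n (a + m)).coord J ∘ₗ
      (TensorPower.mulEquiv (R := k) (M := Fin n → k) (n := a) (m := m)).toLinearMap =
    dualTensor ((bT k n a).coord (fun t => J (Fin.castAdd m t)))
      ((bT k n m).coord (fun t => J (Fin.natAdd a t))) := by
  classical
  apply (Module.Basis.tensorProduct (bT k n a) (bT k n m)).ext
  rintro ⟨I₁, I₂⟩
  rw [Module.Basis.tensorProduct_apply, dualTensor_tmul, LinearMap.comp_apply, LinearEquiv.coe_coe]
  have h1 : bT k n a I₁ ⊗ₜ[k] bT k n m I₂ =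
      bT k n a (fun t => (Fin.append I₁ I₂) (Fin.castAdd m t)) ⊗ₜ[k]
        bT k n m (fun t => (Fin.append I₁ I₂) (Fin.natAdd a t)) := by
    simp only [Fin.append_left, Fin.append_right]
  rw [h1, ← bT_add]
  simp only [Module.Basis.coord_apply, Module.Basis.repr_self, Finsupp.single_apply]
  by_cases h : Fin.append I₁ I₂ = J
  · subst h
    simp only [Fin.append_left, Fin.append_right, if_true, mul_one]
  · rw [if_neg h]
    by_cases h2 : I₁ = fun t => J (Fin.castAdd m t)
    · rw [if_pos h2, one_mul, if_neg]
      intro h3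
      apply h
      rw [h2, h3]
      exact Fin.append_castAdd_natAdd
    · rw [if_neg h2, zero_mul]

theorem cstd_coact_single (j : Fin n) :
    (cstd n π).coact (Pi.single j 1) =
      ∑ i : Fin n, (Pi.single i (1 : k) : Fin n → k) ⊗ₜ[k] π (Mat.X i j) := by
  rw [GLin.comodAlong_coact, ComodTens.stdVec_coact_single, map_sum]
  refine Finset.sum_congr rfl fun i _ => ?_
  rw [TensorProduct.map_tmul, LinearMap.id_apply]
  rfl

theorem coeffMap_cstd (i j : Fin n) :
    coeffMap (cstd n π) ((Pi.basisFun k (Fin n)).coord i) (Pi.basisFun k (Fin n) j) =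
      π (Mat.X i j) := by
  classical
  rw [Pi.basisFun_apply, coeffMap_apply, cstd_coact_single, map_sum, map_sum,
    Finset.sum_eq_single i]
  · rw [LinearMap.rTensor_tmul, TensorProduct.lid_tmul, ← Pi.basisFun_apply,
      Module.Basis.coord_apply, Module.Basis.repr_self, Finsupp.single_eq_same, one_smul]
  · intro l _ hl
    rw [LinearMap.rTensor_tmul, TensorProduct.lid_tmul, ← Pi.basisFun_apply,
      Module.Basis.coord_apply, Module.Basis.repr_self, Finsupp.single_apply, if_neg hl, zero_smul]
  · intro h; exact absurd (Finset.mem_univ i) h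

/-- the matrix of coefficients of the tensor power in the standard basis -/
noncomputable def xm (a : ℕ) (J I : Fin a → Fin n) : A := ∏ t, π (Mat.X (J t) (I t))

theorem coeffMap_tpowOne (J I : Fin 1 → Fin n) :
    coeffMap (ComodTens.Comod.tpowOne (cstd n π)) ((bT k n 1).coord J) (bT k n 1 I) =
      π (Mat.X (J 0) (I 0)) := by
  classical
  set S := (PiTensorProduct.subsingletonEquiv (R := k) (s := fun _ : Fin 1 => (Fin n → k))
    (0 : Fin 1)) with hS
  have hb : ∀ I' : Fin 1 → Fin n, bT k n 1 I' = S.symm (Pi.basisFun k (Fin n) (I' 0)) := by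
    intro I'
    rw [bT_apply, hS, PiTensorProduct.subsingletonEquiv_symm_apply']
    congr 1
    funext t
    rw [Subsingleton.elim t 0]
  have hφ : (bT k n 1).coord J =
      ((Pi.basisFun k (Fin n)).coord (J 0)) ∘ₗ S.symm.symm.toLinearMap := by
    apply (bT k n 1).ext
    intro I'
    rw [LinearMap.comp_apply, LinearEquiv.coe_coe, hb I', LinearEquiv.symm_symm,
      LinearEquiv.apply_symm_apply, ← hb I']
    simp only [Module.Basis.coord_apply, Module.Basis.repr_self, Finsupp.single_apply]
    by_cases h : I' = J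
    · subst h; simp
    · rw [if_neg h, if_neg]
      intro h2
      apply h
      funext t
      rw [Subsingleton.elim t 0, h2]
  rw [hb I, hφ]
  change coeffMap (ComodTens.Comod.ofEquiv S.symm (cstd n π)) _ _ = _
  rw [coeffMap_ofEquiv, coeffMap_cstd]

theorem coeffMap_tpow_bT (a : ℕ) (J I : Fin a → Fin n) :
    coeffMap (ComodTens.Comod.tpow (cstd n π) a) ((bT k n a).coord J) (bT k n a I) =
      xm n π a J I := by
  classical
  induction a with
  | zero =>
    set E := (PiTensorProduct.isEmptyEquiv (Fin 0) (R := k) (s := fun _ : Fin 0 => (Fin n → k)))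
      with hE
    have hb : bT k n 0 I = E.symm 1 := by
      rw [bT_apply, LinearEquiv.eq_symm_apply, hE, PiTensorProduct.isEmptyEquiv_apply_tprod]
    have hφ : (bT k n 0).coord J =
        (((bT k n 0).coord J) ∘ₗ E.symm.toLinearMap) ∘ₗ E.symm.symm.toLinearMap := by
      apply LinearMap.ext
      intro x
      simp
    rw [ComodTens.tpow_zero, ← hE, hφ, hb, coeffMap_ofEquiv, coeffMap_apply]
    change TensorProduct.lid k A ((((bT k n 0).coord J) ∘ₗ E.symm.toLinearMap).rTensor A
      ((1 : k) ⊗ₜ[k] (1 : A))) = _
    rw [LinearMap.rTensor_tmul, TensorProduct.lid_tmul, LinearMap.comp_apply, LinearEquiv.coe_coe,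
      ← hb, Subsingleton.elim I J, Module.Basis.coord_apply, Module.Basis.repr_self,
      Finsupp.single_eq_same, one_smul]
    simp [xm]
  | succ a ih =>
    set M := (TensorPower.mulEquiv (R := k) (M := Fin n → k) (n := a) (m := 1)) with hM
    have hφ : (bT k n (a + 1)).coord J =
        (((bT k n (a + 1)).coord J) ∘ₗ M.toLinearMap) ∘ₗ M.symm.toLinearMap := by
      apply LinearMap.ext
      intro x
      simp
    rw [ComodTens.tpow_succ, ← hM, bT_add, ← hM, hφ, coeffMap_ofEquiv, hM, coord_comp_mulEquiv,
      coeffMap_tensor_tmul, ih, coeffMap_tpowOne]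
    unfold xm
    rw [Fin.prod_univ_castSucc]
    rfl

end Coeff

/-! ### semisimplicity of the tensor powers -/

section Semisimple

open Groth.Agent.H74.Comod

variable {k : Type u} [Field k] {A : Type v} [CommRing A] [Bialgebra k A]
variable (n : ℕ) (π : Mat n k →ₐc[k] A)

/-- the exponent vector of the monomial `∏ t, X (J t) (I t)` -/
noncomputable def mon (a : ℕ) (J I : Fin a → Fin n) : (Fin n × Fin n) →₀ ℕ :=
  ∑ t, Finsupp.single (J t, I t) 1

theorem xm_eq (a : ℕ) (J I : Fin a → Fin n) :
    xm n π a J I = π ((Mat.toPoly n k).symm (MvPolynomial.monomial (mon n a J I) (1 : k))) := by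
  unfold xm mon
  rw [MvPolynomial.monomial_sum_one, map_prod, map_prod]
  rfl

theorem coact_bT (a : ℕ) (I : Fin a → Fin n) :
    (ComodTens.Comod.tpow (cstd n π) a).coact (bT k n a I) =
      ∑ J, bT k n a J ⊗ₜ[k] xm n π a J I := by
  conv_lhs => rw [DblComm.sum_basis_tmul_coord (bT k n a)
    ((ComodTens.Comod.tpow (cstd n π) a).coact (bT k n a I))]
  refine Finset.sum_congr rfl fun J _ => ?_
  rw [← coeffMap_apply, coeffMap_tpow_bT]

attribute [local instance] module

/-- The tensor powers of the standard comodule are semisimple in characteristic zero, provided the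
monomials of degree `a` in the matrix entries can be recovered linearly from their images in `A`. -/
theorem isSemisimpleModule_tpow [CharZero k] (a : ℕ)
    (hr : ∃ r : A →ₗ[k] MvPolynomial (Fin n × Fin n) k, ∀ J I : Fin a → Fin n,
      r (xm n π a J I) = MvPolynomial.monomial (mon n a J I) 1) :
    letI := ComodTens.Comod.tpow (cstd n π) a
    IsSemisimpleModule (Dual k A) (TensorPower k a (Fin n → k)) := by
  classical
  letI := ComodTens.Comod.tpow (cstd n π) a
  obtain ⟨r, hr⟩ := hr
  let H : Subgroup (Equiv.Perm (Fin a → Fin n)) :=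
    { carrier := {τ | ∀ J I, xm n π a (τ J) (τ I) = xm n π a J I}
      mul_mem' := by
        intro τ τ' h h' J I
        rw [Equiv.Perm.mul_apply, Equiv.Perm.mul_apply, h, h']
      one_mem' := fun J I => rfl
      inv_mem' := by
        intro τ h J I
        have e : ∀ L, τ (τ⁻¹ L) = L := fun L => by
          rw [← Equiv.Perm.mul_apply, mul_inv_cancel, Equiv.Perm.one_apply]
        have := h (τ⁻¹ J) (τ⁻¹ I)
        rw [e, e] at this
        exact this.symm }
  have hmem : ∀ σ : Equiv.Perm (Fin a),
      (Equiv.arrowCongr σ (Equiv.refl (Fin n)) : Equiv.Perm (Fin a → Fin n)) ∈ H := by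
    intro σ J I
    change ∏ t, π (Mat.X (J (σ.symm t)) (I (σ.symm t))) = ∏ t, π (Mat.X (J t) (I t))
    exact Equiv.prod_comp σ.symm (fun t => π (Mat.X (J t) (I t)))
  refine DblComm.isSemisimpleModule_of_basis (bT k n a) (xm n π a) (coact_bT n π a) H
    (fun τ hτ J I => hτ J I) ?_
  intro β hβ
  let γ : ((Fin n × Fin n) →₀ ℕ) → k := fun m =>
    if h : ∃ JI : (Fin a → Fin n) × (Fin a → Fin n), mon n a JI.1 JI.2 = m then
      β h.choose.1 h.choose.2 else 0
  refine ⟨((MvPolynomial.basisMonomials (Fin n × Fin n) k).constr k γ) ∘ₗ r, ?_⟩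
  intro J I
  rw [LinearMap.comp_apply, hr]
  have hb : (MvPolynomial.monomial (mon n a J I) (1 : k) : MvPolynomial (Fin n × Fin n) k) =
      MvPolynomial.basisMonomials (Fin n × Fin n) k (mon n a J I) := by
    rw [MvPolynomial.coe_basisMonomials]
  rw [hb, Module.Basis.constr_basis]
  have hex : ∃ JI : (Fin a → Fin n) × (Fin a → Fin n), mon n a JI.1 JI.2 = mon n a J I :=
    ⟨(J, I), rfl⟩
  change (if h : ∃ JI : (Fin a → Fin n) × (Fin a → Fin n), mon n a JI.1 JI.2 = mon n a J I then
      β h.choose.1 h.choose.2 else 0) = β J I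
  rw [dif_pos hex]
  have hch := hex.choose_spec
  obtain ⟨σ, hσ⟩ := exists_perm_of_sum_single_eq
    (fun t => (hex.choose.1 t, hex.choose.2 t)) (fun t => (J t, I t)) hch
  have h1 : hex.choose.1 = (Equiv.arrowCongr σ.symm (Equiv.refl (Fin n))) J := by
    funext t
    have := congrFun hσ t
    simp only [Function.comp_apply, Prod.mk.injEq] at this
    simp [Equiv.arrowCongr, this.1]
  have h2 : hex.choose.2 = (Equiv.arrowCongr σ.symm (Equiv.refl (Fin n))) I := by
    funext t
    have := congrFun hσ t
    simp only [Function.comp_apply, Prod.mk.injEq] at this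
    simp [Equiv.arrowCongr, this.2]
  rw [h1, h2]
  exact hβ _ (hmem σ.symm) J I

end Semisimple

end Groth.Agent.H93.SchurWeyl
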