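import Mathlib
import Groth.Agent.H93.SchurWeyl

/-!
# Linear reductivity of `GL_n` in characteristic zero (helper93)

General lemmas (socle of the regular comodule, twists) and the proof that every finite-dimensional
comodule over the coordinate ring of `GL_n` over a field of characteristic zero is semisimple.
-/

set_option autoImplicit false

namespace Groth.Agent.H93.GLRed

open TensorProduct Groth.Agent.H93.TensGen Groth.Agent.H93.SchurWeyl CoordGrp
open Groth.Agent.H74.Comod

universe u v w

attribute [local instance] module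

section General

variable {k : Type u} [Field k] {A : Type v} [CommRing A] [Bialgebra k A]

variable (k A) in
/-- the sum of all semisimple subcomodules of the regular comodule -/
noncomputable def soc : Submodule (Dual k A) A :=
  ⨆ S ∈ {S : Submodule (Dual k A) A | IsSemisimpleModule (Dual k A) S}, S

instance : IsSemisimpleModule (Dual k A) (soc k A) :=
  isSemisimpleModule_biSup_of_isSemisimpleModule_submodule (fun _ h => h)

theorem le_soc (S : Submodule (Dual k A) A) [h : IsSemisimpleModule (Dual k A) S] : S ≤ soc k A :=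
  le_biSup (fun S => S) (show S ∈ {S : Submodule (Dual k A) A | IsSemisimpleModule (Dual k A) S} from h)

/-- coefficients of a semisimple comodule lie in the socle -/
theorem coeffMap_mem_soc {T : Type w} [AddCommGroup T] [Module k T] (c : HopfRep.Comod k A T)
    (hss : letI := c; IsSemisimpleModule (Dual k A) T) (ψ : Module.Dual k T) (v : T) :
    coeffMap c ψ v ∈ soc k A := by
  letI := c
  let f : T →ₗ[Dual k A] A := ofComodHom (coeffMap c ψ) (isHom_coeffMap c ψ)
  haveI : IsSemisimpleModule (Dual k A) (LinearMap.range f) := IsSemisimpleModule.range f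
  exact le_soc (LinearMap.range f) ⟨v, rfl⟩

theorem cf_le_soc {T : Type w} [AddCommGroup T] [Module k T] (c : HopfRep.Comod k A T)
    (hss : letI := c; IsSemisimpleModule (Dual k A) T) :
    cf c ≤ (soc k A).restrictScalars k := by
  rw [cf_le_iff]
  intro φ v
  exact coeffMap_mem_soc c hss φ v

/-- a finite-dimensional comodule whose matrix coefficients (in some basis) lie in the socle of
the regular comodule is semisimple -/
theorem isSemisimpleModule_of_coeff_mem_soc {V : Type w} [AddCommGroup V] [Module k V]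
    (ρ : HopfRep.Comod k A V) {ι : Type*} [Fintype ι] [DecidableEq ι] (b : Module.Basis ι k V)
    (h : ∀ i j, coeffMap ρ (b.coord i) (b j) ∈ soc k A) :
    letI := ρ; IsSemisimpleModule (Dual k A) V := by
  letI := ρ
  have hmem : ∀ i v, coeffMap ρ (b.coord i) v ∈ soc k A := by
    intro i v
    rw [← b.sum_repr v, map_sum]
    refine Submodule.sum_mem _ fun j _ => ?_
    rw [map_smul]
    exact ((soc k A).restrictScalars k).smul_mem _ (h i j)
  let f : ι → (V →ₗ[Dual k A] soc k A) := fun i =>
    LinearMap.codRestrict (soc k A)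
      (ofComodHom (coeffMap ρ (b.coord i)) (isHom_coeffMap ρ (b.coord i))) (hmem i)
  let j : V →ₗ[Dual k A] (ι → soc k A) := LinearMap.pi f
  refine IsSemisimpleModule.of_injective (R := Dual k A) (M := ι → soc k A) (N := V) j ?_
  intro v w hvw
  apply b.ext_elem
  intro i
  have h1 : coeffMap ρ (b.coord i) v = coeffMap ρ (b.coord i) w :=
    congrArg Subtype.val (congrFun hvw i)
  have h2 := congrArg (CoalgebraStruct.counit (R := k) (A := A)) h1
  rw [counit_coeffMap, counit_coeffMap] at h2
  exact h2

/-! ### twists -/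

private theorem aux_twist {V : Type w} [AddCommGroup V] [Module k V] (φ : Module.Dual k V) (g : A)
    (x : V ⊗[k] A) :
    TensorProduct.lid k A (φ.rTensor A ((LinearMap.mulRight k g).lTensor V x)) =
      TensorProduct.lid k A (φ.rTensor A x) * g := by
  induction x using TensorProduct.induction_on with
  | zero => simp only [map_zero, zero_mul]
  | add x y hx hy => simp only [map_add, hx, hy, add_mul]
  | tmul v a =>
    rw [LinearMap.lTensor_tmul, LinearMap.rTensor_tmul, LinearMap.rTensor_tmul,
      TensorProduct.lid_tmul, TensorProduct.lid_tmul, LinearMap.mulRight_apply, smul_mul_assoc]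

theorem coeffMap_twist {V : Type w} [AddCommGroup V] [Module k V] (c : HopfRep.Comod k A V)
    (g : A) (hg : IsGroupLikeElem k g) (φ : Module.Dual k V) (v : V) :
    coeffMap (ComodTens.Comod.twist c g hg) φ v = coeffMap c φ v * g := by
  rw [coeffMap_apply, ComodTens.twist_coact, aux_twist]
  rfl

private theorem aux_twist_range {V : Type w} [AddCommGroup V] [Module k V] (W : Submodule k V) (g : A)
    (x : V ⊗[k] A) (hx : x ∈ LinearMap.range (W.subtype.rTensor A)) :
    (LinearMap.mulRight k g).lTensor V x ∈ LinearMap.range (W.subtype.rTensor A) := by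
  obtain ⟨y, rfl⟩ := hx
  refine ⟨(LinearMap.mulRight k g).lTensor W y, ?_⟩
  rw [← LinearMap.comp_apply, ← LinearMap.comp_apply, LinearMap.rTensor_comp_lTensor,
    LinearMap.lTensor_comp_rTensor]

theorem isSubcomod_twist {V : Type w} [AddCommGroup V] [Module k V] (c : HopfRep.Comod k A V)
    (g : A) (hg : IsGroupLikeElem k g) (W : Submodule k V)
    (hW : @HopfRep.IsSubcomod k A _ _ _ _ V _ _ c W) :
    @HopfRep.IsSubcomod k A _ _ _ _ V _ _ (ComodTens.Comod.twist c g hg) W := by
  intro w hw
  exact aux_twist_range W g _ (hW w hw)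

private theorem aux_twist_inv {V : Type w} [AddCommGroup V] [Module k V] (g g' : A) (h : g * g' = 1)
    (x : V ⊗[k] A) :
    (LinearMap.mulRight k g').lTensor V ((LinearMap.mulRight k g).lTensor V x) = x := by
  rw [← LinearMap.comp_apply, ← LinearMap.lTensor_comp]
  have : LinearMap.mulRight k g' ∘ₗ LinearMap.mulRight k g = LinearMap.id := by
    apply LinearMap.ext
    intro a
    simp only [LinearMap.comp_apply, LinearMap.mulRight_apply, LinearMap.id_apply, mul_assoc, h,
      mul_one]
  rw [this, LinearMap.lTensor_id, LinearMap.id_apply]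

/-- a comodule is semisimple as soon as one of its twists by an invertible character is -/
theorem isSemisimpleComod_of_twist {V : Type w} [AddCommGroup V] [Module k V]
    (c : HopfRep.Comod k A V) (g g' : A) (hg : IsGroupLikeElem k g) (hg' : IsGroupLikeElem k g')
    (h : g * g' = 1)
    (hss : @HopfRep.IsSemisimpleComod k A _ _ _ _ V _ _ (ComodTens.Comod.twist c g hg)) :
    @HopfRep.IsSemisimpleComod k A _ _ _ _ V _ _ c := by
  intro W hW
  obtain ⟨W', hW', hc⟩ := hss W (isSubcomod_twist c g hg W hW)
  refine ⟨W', ?_, hc⟩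
  have h2 := isSubcomod_twist (ComodTens.Comod.twist c g hg) g' hg' W' hW'
  intro w hw
  have h3 := h2 w hw
  rw [ComodTens.twist_coact, ComodTens.twist_coact, aux_twist_inv g g' h] at h3
  exact h3

/-- the subalgebra generated by the coefficient space lies in the sum of the coefficient spaces of
the tensor powers -/
theorem adjoin_cf_le {V : Type w} [AddCommGroup V] [Module k V] (c : HopfRep.Comod k A V) (a : A)
    (ha : a ∈ Algebra.adjoin k (cf c : Set A)) : a ∈ ⨆ n : ℕ, cf (ComodTens.Comod.tpow c n) := by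
  have hP : a ∈ ⨆ n : ℕ, cf c ^ n := by
    induction ha using Algebra.adjoin_induction with
    | mem x hx =>
      refine Submodule.mem_iSup_of_mem 1 ?_
      rw [pow_one]; exact hx
    | algebraMap r =>
      refine Submodule.mem_iSup_of_mem 0 ?_
      rw [pow_zero, Algebra.algebraMap_eq_smul_one]
      exact Submodule.smul_mem _ _ (Submodule.one_le.mp le_rfl)
    | add x y _ _ hx hy => exact Submodule.add_mem _ hx hy
    | mul x y _ _ hx hy =>
      have hxy : x * y ∈ (⨆ n : ℕ, cf c ^ n) * (⨆ n : ℕ, cf c ^ n) := Submodule.mul_mem_mul hx hy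
      refine (?_ : (⨆ n : ℕ, cf c ^ n) * (⨆ n : ℕ, cf c ^ n) ≤ ⨆ n : ℕ, cf c ^ n) hxy
      rw [Submodule.iSup_mul]
      refine iSup_le fun i => ?_
      rw [Submodule.mul_iSup]
      refine iSup_le fun j => ?_
      rw [← pow_add]
      exact le_iSup (fun n => cf c ^ n) (i + j)
  exact (iSup_mono fun n => cf_pow_le_cf_tpow c n) hP

end General

/-! ### the general linear group -/

section GLnSec

variable {k : Type u} [Field k] (n : ℕ)

theorem toGLn_injective : Function.Injective (Mat.toGLn n k) := by
  classical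
  let P := MvPolynomial (Fin n × Fin n) k
  let K := FractionRing P
  let M : Matrix (Fin n) (Fin n) K := (Matrix.mvPolynomialX (Fin n) (Fin n) k).map (algebraMap P K)
  have hdet : M.det ≠ 0 := by
    have h1 : M.det = algebraMap P K (Matrix.mvPolynomialX (Fin n) (Fin n) k).det := by
      rw [RingHom.map_det]; rfl
    rw [h1]
    intro h
    exact Matrix.det_mvPolynomialX_ne_zero (Fin n) k
      ((IsFractionRing.injective P K) (by rw [h, map_zero]))
  let pt : GLn n k →ₐ[k] K := GLn.pt n k M (M.det)⁻¹ (mul_inv_cancel₀ hdet)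
  have hcomp : (pt.comp (Mat.toGLn n k : Mat n k →ₐ[k] GLn n k)) =
      (IsScalarTower.toAlgHom k P K).comp (Mat.toPoly n k : Mat n k →ₐ[k] P) := by
    apply Mat.algHom_ext
    intro i j
    change pt (Mat.toGLn n k (Mat.X i j)) = algebraMap P K (MvPolynomial.X (i, j))
    rw [Mat.toGLn_X, GLn.pt_X]
    rfl
  intro x y hxy
  have h1 := DFunLike.congr_fun hcomp x
  have h2 := DFunLike.congr_fun hcomp y
  simp only [AlgHom.comp_apply] at h1 h2
  have h3 : algebraMap P K (Mat.toPoly n k x) = algebraMap P K (Mat.toPoly n k y) := by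
    have e1 : pt (Mat.toGLn n k x) = algebraMap P K (Mat.toPoly n k x) := h1
    have e2 : pt (Mat.toGLn n k y) = algebraMap P K (Mat.toPoly n k y) := h2
    rw [← e1, ← e2, hxy]
  exact (Mat.toPoly n k).injective (IsFractionRing.injective P K h3)

theorem exists_retraction : ∃ r : GLn n k →ₗ[k] MvPolynomial (Fin n × Fin n) k,
    ∀ q : Mat n k, r (Mat.toGLn n k q) = Mat.toPoly n k q := by
  obtain ⟨g, hg⟩ := LinearMap.exists_leftInverse_of_injective
    ((Mat.toGLn n k : Mat n k →ₐ[k] GLn n k).toLinearMap)
    (LinearMap.ker_eq_bot.mpr (toGLn_injective n))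
  refine ⟨(Mat.toPoly n k).toLinearMap ∘ₗ g, fun q => ?_⟩
  have := LinearMap.congr_fun hg q
  simp only [LinearMap.comp_apply, LinearMap.id_apply] at this
  rw [LinearMap.comp_apply]
  exact congrArg _ this

theorem isSemisimpleModule_tpow_GLn [CharZero k] (a : ℕ) :
    letI := ComodTens.Comod.tpow (cstd n (Mat.toGLn n k)) a
    IsSemisimpleModule (Dual k (GLn n k)) (TensorPower k a (Fin n → k)) := by
  apply isSemisimpleModule_tpow
  obtain ⟨r, hr⟩ := exists_retraction (k := k) n
  refine ⟨r, fun J I => ?_⟩
  rw [xm_eq, hr]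
  exact (Mat.toPoly n k).apply_symm_apply _

theorem toGLn_mem_soc [CharZero k] (q : Mat n k) : Mat.toGLn n k q ∈ soc k (GLn n k) := by
  let F : MvPolynomial (Fin n × Fin n) k →ₐ[k] GLn n k :=
    (Mat.toGLn n k : Mat n k →ₐ[k] GLn n k).comp
      ((Mat.toPoly n k).symm : MvPolynomial (Fin n × Fin n) k →ₐ[k] Mat n k)
  have hF : ∀ q' : MvPolynomial (Fin n × Fin n) k,
      F q' ∈ Algebra.adjoin k (cf (cstd n (Mat.toGLn n k)) : Set (GLn n k)) := by
    intro q'
    induction q' using MvPolynomial.induction_on with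
    | C r =>
      rw [MvPolynomial.algHom_C]
      exact Subalgebra.algebraMap_mem _ r
    | add p q hp hq => rw [map_add]; exact Subalgebra.add_mem _ hp hq
    | mul_X p s hp =>
      rw [map_mul]
      refine Subalgebra.mul_mem _ hp (Algebra.subset_adjoin ?_)
      obtain ⟨i, j⟩ := s
      have := coeffMap_cstd n (Mat.toGLn n k) i j
      change (Mat.toGLn n k) (Mat.X i j) ∈ cf (cstd n (Mat.toGLn n k))
      rw [← this]
      exact coeffMap_mem_cf _ _ _
  have h1 : Mat.toGLn n k q ∈ Algebra.adjoin k (cf (cstd n (Mat.toGLn n k)) : Set (GLn n k)) :=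
    hF (Mat.toPoly n k q)
  have h2 := adjoin_cf_le (cstd n (Mat.toGLn n k)) _ h1
  have h3 : (⨆ a : ℕ, cf (ComodTens.Comod.tpow (cstd n (Mat.toGLn n k)) a)) ≤
      (soc k (GLn n k)).restrictScalars k :=
    iSup_le fun a => cf_le_soc _ (isSemisimpleModule_tpow_GLn n a)
  exact h3 h2

theorem toGLn_det : Mat.toGLn n k (Mat.det n k) = (GLn.det : GLn n k) := by
  rw [GLn.det_eq]
  change (Mat.toGLn n k : Mat n k →ₐ[k] GLn n k) (Mat.genMat n k).det = _
  rw [AlgHom.map_det]
  congr 1
  ext i j
  exact Mat.toGLn_X i j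

/-- every element of the coordinate ring of `GL_n` becomes polynomial after multiplication by a
power of the determinant -/
theorem exists_pow_mul (y : GLn n k) :
    ∃ (c : ℕ) (p : Mat n k), y * GLn.det ^ c = Mat.toGLn n k p := by
  let E : MvPolynomial (GLPoly.Idx n) k ≃ₐ[k] GLb n k := AlgEquiv.refl
  let G : MvPolynomial (GLPoly.Idx n) k →ₐ[k] GLn n k :=
    (GLn.mk n k).comp (E : MvPolynomial (GLPoly.Idx n) k →ₐ[k] GLb n k)
  have hG : ∀ q : MvPolynomial (GLPoly.Idx n) k,
      ∃ (c : ℕ) (p : Mat n k), G q * GLn.det ^ c = Mat.toGLn n k p := by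
    intro q
    induction q using MvPolynomial.induction_on with
    | C r =>
      refine ⟨0, algebraMap k (Mat n k) r, ?_⟩
      rw [pow_zero, mul_one, MvPolynomial.algHom_C]
      change (algebraMap k (GLn n k) r) =
        (Mat.toGLn n k : Mat n k →ₐ[k] GLn n k) (algebraMap k _ r)
      rw [AlgHom.commutes]
    | add p q hp hq =>
      obtain ⟨c, p', hp'⟩ := hp
      obtain ⟨c', q', hq'⟩ := hq
      refine ⟨c + c', p' * Mat.det n k ^ c' + q' * Mat.det n k ^ c, ?_⟩
      rw [map_add, map_add, map_mul, map_mul, map_pow, map_pow, toGLn_det, ← hp', ← hq', pow_add]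
      ring
    | mul_X p s hp =>
      obtain ⟨c, p', hp'⟩ := hp
      rw [map_mul]
      rcases s with ⟨i, j⟩ | ⟨⟩
      · refine ⟨c, p' * Mat.X i j, ?_⟩
        rw [map_mul, ← hp', Mat.toGLn_X]
        change _ * GLn.X i j * _ = _
        ring
      · refine ⟨c + 1, p', ?_⟩
        rw [← hp']
        change _ * GLn.Dinv * _ = _
        rw [pow_succ]
        have := GLn.Dinv_mul_det (n := n) (k := k)
        calc _ = G p * GLn.det ^ c * (GLn.Dinv * GLn.det) := by ring
          _ = _ := by rw [this, mul_one]
  obtain ⟨q, rfl⟩ := Ideal.Quotient.mk_surjective (I := GLb.relIdeal n k) y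
  exact hG (E.symm q)

/-- `GL_n` is linearly reductive in characteristic zero -/
theorem isLinearlyReductive_GLn [CharZero k] : HopfRep.IsLinearlyReductive k (GLn n k) := by
  intro V _ _ ρ hfin
  classical
  let b := Module.finBasis k V
  have h1 : ∀ ij : Fin (Module.finrank k V) × Fin (Module.finrank k V),
      ∃ (c : ℕ) (p : Mat n k),
        coeffMap ρ (b.coord ij.1) (b ij.2) * GLn.det ^ c = Mat.toGLn n k p :=
    fun ij => exists_pow_mul n _
  choose c' p hp using h1
  let c := ∑ ij, c' ij
  have hdet : IsGroupLikeElem k (GLn.det ^ c : GLn n k) :=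
    IsGroupLikeElem.pow ⟨GLn.counit_det, GLn.comul_det⟩
  have hDinv : IsGroupLikeElem k (GLn.Dinv ^ c : GLn n k) :=
    IsGroupLikeElem.pow ⟨GLn.counit_Dinv, GLn.comul_Dinv⟩
  refine isSemisimpleComod_of_twist ρ (GLn.det ^ c) (GLn.Dinv ^ c) hdet hDinv
    (by rw [← mul_pow, GLn.det_mul_Dinv, one_pow]) ?_
  refine (@isSemisimpleComod_iff k _ (GLn n k) _ _ _ V _ _
    (ComodTens.Comod.twist ρ (GLn.det ^ c) hdet)).mpr ?_
  refine isSemisimpleModule_of_coeff_mem_soc (ComodTens.Comod.twist ρ (GLn.det ^ c) hdet) b ?_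
  intro i j
  rw [coeffMap_twist]
  have hle : c' (i, j) ≤ c := Finset.single_le_sum (f := c') (fun _ _ => Nat.zero_le _)
    (Finset.mem_univ (i, j))
  have h2 : coeffMap ρ (b.coord i) (b j) * GLn.det ^ c =
      Mat.toGLn n k (p (i, j) * Mat.det n k ^ (c - c' (i, j))) := by
    rw [map_mul, map_pow, toGLn_det, ← hp (i, j), mul_assoc, ← pow_add, Nat.add_sub_cancel' hle]
  rw [h2]
  exact toGLn_mem_soc n _

end GLnSec

end Groth.Agent.H93.GLRed
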