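import Mathlib
import Groth.Agent.H93.GLRed

/-!
# Linear reductivity of `SL_n` in characteristic zero (helper93)
-/

set_option autoImplicit false

namespace Groth.Agent.H93.SLRed

open TensorProduct Groth.Agent.H93.TensGen Groth.Agent.H93.SchurWeyl Groth.Agent.H93.GLRed CoordGrp
open Groth.Agent.H74.Comod

universe u v w

attribute [local instance] module

section General

variable {k : Type u} [Field k] {A : Type v} [CommRing A] [Bialgebra k A]
variable (n : ℕ) (π : Mat n k →ₐc[k] A)

/-- polynomial functions lie in the socle as soon as the tensor powers are semisimple -/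
theorem pi_mem_soc
    (hss : ∀ a : ℕ, letI := ComodTens.Comod.tpow (cstd n π) a
      IsSemisimpleModule (Dual k A) (TensorPower k a (Fin n → k)))
    (q : Mat n k) : π q ∈ soc k A := by
  let F : MvPolynomial (Fin n × Fin n) k →ₐ[k] A :=
    (π : Mat n k →ₐ[k] A).comp
      ((Mat.toPoly n k).symm : MvPolynomial (Fin n × Fin n) k →ₐ[k] Mat n k)
  have hF : ∀ q' : MvPolynomial (Fin n × Fin n) k,
      F q' ∈ Algebra.adjoin k (TensGen.cf (cstd n π) : Set A) := by
    intro q'
    induction q' using MvPolynomial.induction_on with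
    | C r =>
      rw [MvPolynomial.algHom_C]
      exact Subalgebra.algebraMap_mem _ r
    | add p q hp hq => rw [map_add]; exact Subalgebra.add_mem _ hp hq
    | mul_X p s hp =>
      rw [map_mul]
      refine Subalgebra.mul_mem _ hp (Algebra.subset_adjoin ?_)
      obtain ⟨i, j⟩ := s
      have := coeffMap_cstd n π i j
      change π (Mat.X i j) ∈ TensGen.cf (cstd n π)
      rw [← this]
      exact coeffMap_mem_cf _ _ _
  have h1 : π q ∈ Algebra.adjoin k (TensGen.cf (cstd n π) : Set A) := hF (Mat.toPoly n k q)
  have h2 := adjoin_cf_le (cstd n π) _ h1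
  have h3 : (⨆ a : ℕ, TensGen.cf (ComodTens.Comod.tpow (cstd n π) a)) ≤
      (soc k A).restrictScalars k :=
    iSup_le fun a => cf_le_soc _ (hss a)
  exact h3 h2

/-- if moreover `π` is surjective, the bialgebra is linearly reductive -/
theorem isLinearlyReductive_of_surjective {A : Type u} [CommRing A] [Bialgebra k A]
    (π : Mat n k →ₐc[k] A)
    (hss : ∀ a : ℕ, letI := ComodTens.Comod.tpow (cstd n π) a
      IsSemisimpleModule (Dual k A) (TensorPower k a (Fin n → k)))
    (hsurj : Function.Surjective π) : HopfRep.IsLinearlyReductive k A := by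
  intro V _ _ ρ hfin
  classical
  refine (@isSemisimpleComod_iff k _ A _ _ _ V _ _ ρ).mpr ?_
  refine isSemisimpleModule_of_coeff_mem_soc ρ (Module.finBasis k V) ?_
  intro i j
  obtain ⟨q, hq⟩ := hsurj (coeffMap ρ ((Module.finBasis k V).coord i) (Module.finBasis k V j))
  rw [← hq]
  exact pi_mem_soc n π hss q

end General

/-! ### the special linear group -/

section SL

variable {k : Type u} [Field k] (n : ℕ)

variable (k) in
/-- restriction of polynomial functions on matrices to `SL_n` -/
noncomputable def piSL : Mat n k →ₐc[k] SLn n k := (SLn.mkHom n k).comp (Mat.toGLn n k)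

theorem piSL_apply (q : Mat n k) : piSL k n q = SLn.mk n k (Mat.toGLn n k q) := rfl

theorem piSL_surjective : Function.Surjective (piSL k n) := by
  intro z
  obtain ⟨y, rfl⟩ := Ideal.Quotient.mk_surjective (I := GLn.slIdeal n k) z
  obtain ⟨c, p, hp⟩ := exists_pow_mul n y
  refine ⟨p, ?_⟩
  rw [piSL_apply, ← hp, map_mul, map_pow, SLn.det_eq_one, one_pow, mul_one]
  rfl

/-- a point of `SL_n` over a field in which homogeneous polynomials of a given degree are
separated: the generic matrix divided by an `n`-th root of its determinant -/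
theorem exists_ev : ∃ (L : Type u) (_ : Field L) (_ : Algebra k L)
    (ev : SLn n k →ₐ[k] L) (j : MvPolynomial (Fin n × Fin n) k →ₐ[k] L) (t : L),
    Function.Injective j ∧ t ≠ 0 ∧
    ∀ q : MvPolynomial (Fin n × Fin n) k,
      ev (piSL k n ((Mat.toPoly n k).symm q)) =
        MvPolynomial.aeval (fun p => t * j (MvPolynomial.X p)) q := by
  classical
  let P := MvPolynomial (Fin n × Fin n) k
  let K := FractionRing P
  let L := AlgebraicClosure K
  let j : P →ₐ[k] L := IsScalarTower.toAlgHom k P L
  have hj : Function.Injective j := by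
    have : (algebraMap P L) = (algebraMap K L).comp (algebraMap P K) :=
      IsScalarTower.algebraMap_eq P K L
    change Function.Injective (algebraMap P L)
    rw [this]
    exact (algebraMap K L).injective.comp (IsFractionRing.injective P K)
  let N : Matrix (Fin n) (Fin n) L := (Matrix.mvPolynomialX (Fin n) (Fin n) k).map j
  have hNdet : N.det = j (Matrix.mvPolynomialX (Fin n) (Fin n) k).det := by
    change ((j : P →+* L).mapMatrix (Matrix.mvPolynomialX (Fin n) (Fin n) k)).det = _
    rw [← RingHom.map_det]
    rfl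
  have hNdet0 : N.det ≠ 0 := by
    rw [hNdet]
    intro h
    exact Matrix.det_mvPolynomialX_ne_zero (Fin n) k (hj (by rw [h, map_zero]))
  obtain ⟨s, hs0, hs⟩ : ∃ s : L, s ≠ 0 ∧ s ^ n = N.det := by
    rcases Nat.eq_zero_or_pos n with h0 | hpos
    · subst h0
      exact ⟨1, one_ne_zero, by simp⟩
    · obtain ⟨s, hs⟩ := IsAlgClosed.exists_pow_nat_eq N.det hpos
      refine ⟨s, ?_, hs⟩
      intro h
      rw [h, zero_pow hpos.ne'] at hs
      exact hNdet0 hs.symm
  let M' : Matrix (Fin n) (Fin n) L := s⁻¹ • N
  have hM' : M'.det * 1 = 1 := by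
    rw [mul_one, Matrix.det_smul, Fintype.card_fin, inv_pow, hs, inv_mul_cancel₀ hNdet0]
  let pt : GLn n k →ₐ[k] L := GLn.pt n k M' 1 hM'
  have hkill : ∀ a ∈ GLn.slIdeal n k, pt a = 0 := by
    intro a ha
    obtain ⟨b, rfl⟩ := Ideal.mem_span_singleton'.mp ha
    rw [map_mul, GLn.slRel, map_sub, map_one, GLn.pt_det, ← mul_one M'.det, hM', sub_self,
      mul_zero]
  let ev : SLn n k →ₐ[k] L := Ideal.Quotient.liftₐ (GLn.slIdeal n k) pt hkill
  refine ⟨L, inferInstance, inferInstance, ev, j, s⁻¹, hj, inv_ne_zero hs0, ?_⟩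
  intro q
  have hcomp : ((ev.comp (piSL k n : Mat n k →ₐ[k] SLn n k)).comp
      ((Mat.toPoly n k).symm : P →ₐ[k] Mat n k)) =
      MvPolynomial.aeval (fun p => s⁻¹ * j (MvPolynomial.X p)) := by
    apply MvPolynomial.algHom_ext
    intro p
    rw [MvPolynomial.aeval_X]
    change pt (Mat.toGLn n k (Mat.X p.1 p.2)) = _
    rw [Mat.toGLn_X, GLn.pt_X]
    rfl
  exact DFunLike.congr_fun hcomp q

theorem aeval_monomial_scaled {L : Type u} [Field L] [Algebra k L]
    (j : MvPolynomial (Fin n × Fin n) k →ₐ[k] L) (t : L) (m : (Fin n × Fin n) →₀ ℕ) (c : k) :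
    MvPolynomial.aeval (fun p => t * j (MvPolynomial.X p)) (MvPolynomial.monomial m c) =
      t ^ m.degree * j (MvPolynomial.monomial m c) := by
  induction m using Finsupp.induction with
  | zero =>
    rw [map_zero, pow_zero, one_mul]
    change MvPolynomial.aeval _ (MvPolynomial.C c) = j (MvPolynomial.C c)
    rw [MvPolynomial.aeval_C, MvPolynomial.algHom_C]
  | single_add p e m' _ _ ih =>
    rw [MvPolynomial.monomial_single_add, map_mul, map_pow, MvPolynomial.aeval_X, ih, map_mul,
      map_pow, map_add, Finsupp.degree_single, pow_add, mul_pow]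
    ring

/-- the monomials of degree `a` can be recovered linearly from their restrictions to `SL_n` -/
theorem exists_retraction_SL (a : ℕ) :
    ∃ r : SLn n k →ₗ[k] MvPolynomial (Fin n × Fin n) k, ∀ J I : Fin a → Fin n,
      r (xm n (piSL k n) a J I) = MvPolynomial.monomial (mon n a J I) 1 := by
  classical
  obtain ⟨L, _, _, ev, j, t, hj, ht, hev⟩ := exists_ev (k := k) n
  let S := MvPolynomial.homogeneousSubmodule (Fin n × Fin n) k a
  let f : S →ₗ[k] SLn n k :=
    ((piSL k n : Mat n k →ₐ[k] SLn n k).toLinearMap ∘ₗ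
      ((Mat.toPoly n k).symm : MvPolynomial (Fin n × Fin n) k →ₐ[k] Mat n k).toLinearMap) ∘ₗ
      S.subtype
  have hf : LinearMap.ker f = ⊥ := by
    rw [LinearMap.ker_eq_bot']
    rintro ⟨q, hq⟩ h0
    have hq' : q.IsHomogeneous a := (MvPolynomial.mem_homogeneousSubmodule a q).mp hq
    have h1 : ev (piSL k n ((Mat.toPoly n k).symm q)) = 0 := by
      have : piSL k n ((Mat.toPoly n k).symm q) = 0 := h0
      rw [this, map_zero]
    rw [hev] at h1
    have h2 : MvPolynomial.aeval (fun p => t * j (MvPolynomial.X p)) q = t ^ a * j q := by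
      conv_lhs => rw [← MvPolynomial.support_sum_monomial_coeff q, map_sum]
      conv_rhs => rw [← MvPolynomial.support_sum_monomial_coeff q, map_sum, Finset.mul_sum]
      refine Finset.sum_congr rfl fun m hm => ?_
      rw [aeval_monomial_scaled]
      have hdeg : m.degree = a := by
        have := hq'.degree_eq_sum_deg_support hm
        rw [this]
        rfl
      rw [hdeg]
    rw [h2] at h1
    have h3 : j q = 0 := by
      rcases mul_eq_zero.mp h1 with h | h
      · exact absurd h (pow_ne_zero _ ht)
      · exact h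
    have h4 : q = 0 := hj (by rw [h3, map_zero])
    exact Subtype.ext h4
  obtain ⟨g, hg⟩ := LinearMap.exists_leftInverse_of_injective f hf
  refine ⟨S.subtype ∘ₗ g, fun J I => ?_⟩
  have hmem : (MvPolynomial.monomial (mon n a J I) (1 : k) : MvPolynomial (Fin n × Fin n) k) ∈ S := by
    rw [MvPolynomial.mem_homogeneousSubmodule]
    apply MvPolynomial.isHomogeneous_monomial
    unfold mon
    rw [map_sum]
    simp [Finsupp.degree_single]
  have h1 : xm n (piSL k n) a J I = f ⟨_, hmem⟩ := xm_eq n (piSL k n) a J I
  rw [h1, LinearMap.comp_apply]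
  have := LinearMap.congr_fun hg ⟨_, hmem⟩
  rw [LinearMap.comp_apply, LinearMap.id_apply] at this
  rw [this]
  rfl

/-- `SL_n` is linearly reductive in characteristic zero -/
theorem isLinearlyReductive_SLn [CharZero k] : HopfRep.IsLinearlyReductive k (SLn n k) :=
  isLinearlyReductive_of_surjective n (piSL k n)
    (fun a => isSemisimpleModule_tpow n (piSL k n) a (exists_retraction_SL n a))
    (piSL_surjective n)

end SL

end Groth.Agent.H93.SLRed
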