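import Groth.Prelude.Def_HopfRep
import Groth.Prelude.Def_Hoch
import Mathlib.RingTheory.Flat.Basic
import Mathlib.RingTheory.Coalgebra.Hom
import Mathlib.LinearAlgebra.TensorProduct.RightExactness

set_option autoImplicit false
universe u v w w'
open TensorProduct

namespace Groth.Agent.H93

section Basic

variable {k : Type u} [CommRing k] {A : Type v} [AddCommGroup A] [Module k A] [Coalgebra k A]
variable {V : Type w} [AddCommGroup V] [Module k V] [HopfRep.Comod k A V]
variable {W : Type w'} [AddCommGroup W] [Module k W] [HopfRep.Comod k A W]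

theorem comodHom_apply {f : V →ₗ[k] W} (hf : Hoch.IsComodHom A f) (v : V) :
    HopfRep.Comod.coact (k := k) (A := A) (f v) =
      f.rTensor A (HopfRep.Comod.coact (k := k) (A := A) v) :=
  LinearMap.congr_fun hf v

theorem isSubcomod_range {f : V →ₗ[k] W} (hf : Hoch.IsComodHom A f) :
    HopfRep.IsSubcomod (k := k) (A := A) (LinearMap.range f) := by
  rintro w ⟨v, rfl⟩
  rw [comodHom_apply hf]
  have h : f.rTensor A = (LinearMap.range f).subtype.rTensor A ∘ₗ f.rangeRestrict.rTensor A := by
    rw [← LinearMap.rTensor_comp]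
    rfl
  rw [h]
  exact ⟨_, rfl⟩

theorem isSubcomod_bot : HopfRep.IsSubcomod (k := k) (A := A) (⊥ : Submodule k V) := by
  intro w hw
  rw [Submodule.mem_bot] at hw
  subst hw
  rw [map_zero]
  exact Submodule.zero_mem _

theorem isSubcomod_top : HopfRep.IsSubcomod (k := k) (A := A) (⊤ : Submodule k V) := by
  intro w _
  have hs : Function.Surjective ((⊤ : Submodule k V).subtype.rTensor A) :=
    LinearMap.rTensor_surjective A (fun x => ⟨⟨x, trivial⟩, rfl⟩)
  exact LinearMap.mem_range.2 (hs _)

end Basic

section Field

variable {k : Type u} [Field k] {A : Type v} [AddCommGroup A] [Module k A] [Coalgebra k A]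
variable {V : Type w} [AddCommGroup V] [Module k V] [HopfRep.Comod k A V]
variable {W : Type w'} [AddCommGroup W] [Module k W] [HopfRep.Comod k A W]

theorem isSubcomod_ker {f : V →ₗ[k] W} (hf : Hoch.IsComodHom A f) :
    HopfRep.IsSubcomod (k := k) (A := A) (LinearMap.ker f) := by
  intro v hv
  have hex : Function.Exact (LinearMap.ker f).subtype f := LinearMap.exact_subtype_ker_map f
  have hex' := Module.Flat.rTensor_exact A hex
  rw [← LinearMap.exact_iff.mp hex']
  rw [LinearMap.mem_ker, ← comodHom_apply hf, LinearMap.mem_ker.1 hv, map_zero]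

end Field

end Groth.Agent.H93
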