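import Mathlib.RingTheory.TensorProduct.Basic
import Mathlib.FieldTheory.IsAlgClosed.AlgebraicClosure
import Mathlib.FieldTheory.IntermediateField.Adjoin.Basic
import Mathlib.LinearAlgebra.TensorProduct.Finiteness
import Mathlib.LinearAlgebra.Basis.VectorSpace
import Mathlib.RingTheory.Flat.Basic
import Mathlib.RingTheory.Flat.FaithfullyFlat.Basic

set_option autoImplicit false
set_option linter.style.haveILetI false
universe u v w u' u''
open scoped TensorProduct

namespace Groth.Agent.H93.DefMod

open TensorProduct

section

variable (K : Type u) [Field K] (D : Type v) [Ring D] [Algebra K D]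
  (E : Type w) [AddCommGroup E] [Module K E] [Module D E] [IsScalarTower K D E]

/-- `L ⊗_K E` is irreducible as a module over `L ⊗_K D`. -/
def Irr (L : Type u') [Field L] [Algebra K L] : Prop :=
  Nontrivial (L ⊗[K] E) ∧ ∀ N : Submodule L (L ⊗[K] E),
    (∀ (d : D) (x : L ⊗[K] E), x ∈ N → (DistribSMul.toLinearMap K E d).baseChange L x ∈ N) →
      N = ⊥ ∨ N = ⊤

variable {K D E}

omit [IsScalarTower K D E] [Module D E] in
theorem nontrivial_of_nontrivial_tensor (L : Type u') [Field L] [Algebra K L]
    (h : Nontrivial (L ⊗[K] E)) : Nontrivial E := by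
  by_contra hE
  rw [not_nontrivial_iff_subsingleton] at hE
  obtain ⟨x, hx⟩ := exists_ne (0 : L ⊗[K] E)
  apply hx
  induction x using TensorProduct.induction_on with
  | zero => rfl
  | tmul l e => rw [Subsingleton.elim e 0, TensorProduct.tmul_zero]
  | add x y hx' hy' => 
    by_cases h1 : x = 0
    · by_cases h2 : y = 0
      · rw [h1, h2, add_zero]
      · exact absurd (hy' h2) h2
    · exact absurd (hx' h1) h1

/-- the comparison map `L ⊗ E → M ⊗ E` -/
noncomputable def iota {L : Type u'} [Field L] [Algebra K L] {M : Type u''} [Field M] [Algebra K M]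
    (σ : L →ₐ[K] M) : L ⊗[K] E →ₗ[K] M ⊗[K] E := σ.toLinearMap.rTensor E

omit [IsScalarTower K D E] [Module D E] in
@[simp] theorem iota_tmul {L : Type u'} [Field L] [Algebra K L] {M : Type u''} [Field M]
    [Algebra K M] (σ : L →ₐ[K] M) (l : L) (e : E) : iota σ (l ⊗ₜ[K] e) = σ l ⊗ₜ e := rfl

omit [IsScalarTower K D E] [Module D E] in
theorem iota_smul {L : Type u'} [Field L] [Algebra K L] {M : Type u''} [Field M]
    [Algebra K M] (σ : L →ₐ[K] M) (l : L) (y : L ⊗[K] E) : iota σ (l • y) = σ l • iota σ y := by
  induction y using TensorProduct.induction_on with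
  | zero => simp
  | tmul a e => simp [TensorProduct.smul_tmul']
  | add x y hx hy => simp only [smul_add, map_add, hx, hy]

theorem iota_act {L : Type u'} [Field L] [Algebra K L] {M : Type u''} [Field M]
    [Algebra K M] (σ : L →ₐ[K] M) (d : D) (y : L ⊗[K] E) :
    iota σ ((DistribSMul.toLinearMap K E d).baseChange L y) =
      (DistribSMul.toLinearMap K E d).baseChange M (iota σ y) := by
  induction y using TensorProduct.induction_on with
  | zero => simp
  | tmul a e => simp
  | add x y hx hy => simp only [map_add, hx, hy]

omit [IsScalarTower K D E] [Module D E] in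
theorem iota_injective {L : Type u'} [Field L] [Algebra K L] {M : Type u''} [Field M]
    [Algebra K M] (σ : L →ₐ[K] M) : Function.Injective (iota (E := E) σ) :=
  Module.Flat.rTensor_preserves_injective_linearMap σ.toLinearMap σ.toRingHom.injective

/-- irreducibility descends along field embeddings -/
theorem Irr.descend {L : Type u'} [Field L] [Algebra K L] {M : Type u''} [Field M]
    [Algebra K M] (σ : L →ₐ[K] M) (h : Irr K D E M) : Irr K D E L := by
  obtain ⟨hnt, hirr⟩ := h
  haveI : Nontrivial E := nontrivial_of_nontrivial_tensor M hnt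
  refine ⟨inferInstance, fun N hN => ?_⟩
  letI : Algebra L M := σ.toRingHom.toAlgebra
  haveI : IsScalarTower K L M := IsScalarTower.of_algebraMap_eq (fun x => (σ.commutes x).symm)
  have hsmul : ∀ (l : L) (c : M), l • c = σ l * c := fun l c => rfl
  obtain ⟨lam, hlam⟩ := LinearMap.exists_leftInverse_of_injective (Algebra.linearMap L M)
    (LinearMap.ker_eq_bot.2 (algebraMap L M).injective)
  have hlam1 : ∀ l : L, lam (σ l) = l := fun l => LinearMap.congr_fun hlam l
  let pi0 : M ⊗[K] E →ₗ[K] L ⊗[K] E := (lam.restrictScalars K).rTensor E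
  have hpi0 : ∀ (c : M) (n : L ⊗[K] E), pi0 (c • iota σ n) = lam c • n := by
    intro c n
    induction n using TensorProduct.induction_on with
    | zero => simp
    | tmul l e =>
      have : lam (c * σ l) = lam c * l := by
        rw [mul_comm, ← hsmul, map_smul, smul_eq_mul, mul_comm]
      simp [pi0, TensorProduct.smul_tmul', this]
    | add x y hx hy => simp only [map_add, smul_add, hx, hy]
  let N' : Submodule M (M ⊗[K] E) := Submodule.span M (iota σ '' (N : Set (L ⊗[K] E)))
  have hN' : ∀ (d : D) (x : M ⊗[K] E), x ∈ N' →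
      (DistribSMul.toLinearMap K E d).baseChange M x ∈ N' := by
    intro d x hx
    induction hx using Submodule.span_induction with
    | mem x hx =>
      obtain ⟨y, hy, rfl⟩ := hx
      rw [← iota_act]
      exact Submodule.subset_span ⟨_, hN d y hy, rfl⟩
    | zero => simp
    | add x y _ _ hx hy => rw [map_add]; exact add_mem hx hy
    | smul c x _ hx => rw [map_smul]; exact Submodule.smul_mem _ _ hx
  rcases hirr N' hN' with h | h
  · left
    rw [eq_bot_iff]
    intro y hy
    have : iota σ y ∈ N' := Submodule.subset_span ⟨y, hy, rfl⟩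
    rw [h, Submodule.mem_bot] at this
    rw [Submodule.mem_bot]
    exact iota_injective σ (this.trans (map_zero _).symm)
  · right
    rw [eq_top_iff]
    intro x _
    have key : ∀ z ∈ N', ∀ c : M, pi0 (c • z) ∈ N := by
      intro z hz
      induction hz using Submodule.span_induction with
      | mem z hz =>
        obtain ⟨n, hn, rfl⟩ := hz
        intro c
        rw [hpi0]
        exact N.smul_mem _ hn
      | zero => intro c; simp
      | add x y _ _ hx hy => intro c; rw [smul_add, map_add]; exact add_mem (hx c) (hy c)
      | smul c' z _ hz => intro c; rw [← mul_smul]; exact hz _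
    have h1 := key (iota σ x) (h ▸ Submodule.mem_top) 1
    rw [hpi0, ← map_one σ, hlam1, one_smul] at h1
    exact h1

/-- irreducibility of `M ⊗ E` follows from irreducibility over all finite subextensions. -/
theorem Irr.of_finite_subextensions {M : Type u''} [Field M] [Algebra K M]
    [Algebra.IsAlgebraic K M]
    (h : ∀ L : IntermediateField K M, FiniteDimensional K L → Irr K D E L) : Irr K D E M := by
  classical
  haveI : Nontrivial E :=
    nontrivial_of_nontrivial_tensor (⊥ : IntermediateField K M)
      (h ⊥ inferInstance).1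
  refine ⟨inferInstance, fun N hN => ?_⟩
  by_cases hbot : N = ⊥
  · exact Or.inl hbot
  right
  obtain ⟨x, hxN, hx0⟩ := (Submodule.ne_bot_iff N).1 hbot
  obtain ⟨S, hS⟩ := TensorProduct.exists_finset x
  let T : Set M := ((S.image Prod.fst : Finset M) : Set M)
  let L : IntermediateField K M := IntermediateField.adjoin K T
  haveI : FiniteDimensional K L :=
    IntermediateField.finiteDimensional_adjoin
      (fun a _ => (Algebra.IsAlgebraic.isAlgebraic a).isIntegral)
  have hmem : ∀ i ∈ S, i.1 ∈ L := fun i hi =>
    IntermediateField.subset_adjoin K T (Finset.mem_coe.2 (Finset.mem_image_of_mem _ hi))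
  obtain ⟨_, hirr⟩ := h L inferInstance
  let xL : L ⊗[K] E := ∑ i ∈ S.attach, (⟨i.1.1, hmem i.1 i.2⟩ : L) ⊗ₜ[K] i.1.2
  have hxL : iota L.val xL = x := by
    rw [hS, map_sum, ← Finset.sum_attach S]
    rfl
  let NL : Submodule L (L ⊗[K] E) :=
    { carrier := {y | iota L.val y ∈ N}
      add_mem' := fun {a b} ha hb => by
        simp only [Set.mem_ofPred_eq] at *
        rw [map_add]; exact add_mem ha hb
      zero_mem' := by simp
      smul_mem' := fun l y hy => by
        simp only [Set.mem_ofPred_eq] at *
        rw [iota_smul]; exact N.smul_mem _ hy }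
  have hNL : ∀ (d : D) (y : L ⊗[K] E), y ∈ NL →
      (DistribSMul.toLinearMap K E d).baseChange L y ∈ NL := by
    intro d y hy
    change iota L.val _ ∈ N
    rw [iota_act]
    exact hN d _ hy
  have hxLmem : xL ∈ NL := by
    change iota L.val xL ∈ N
    rw [hxL]; exact hxN
  have hxL0 : xL ≠ 0 := by
    intro h0
    apply hx0
    rw [← hxL, h0, map_zero]
  rcases hirr NL hNL with h' | h'
  · exfalso
    rw [h', Submodule.mem_bot] at hxLmem
    exact hxL0 hxLmem
  · rw [eq_top_iff]
    intro y _
    clear * - h' N
    induction y using TensorProduct.induction_on with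
    | zero => exact zero_mem _
    | tmul m e =>
      have h1 : ((1 : L) ⊗ₜ[K] e) ∈ NL := h' ▸ Submodule.mem_top
      have h2 : iota L.val ((1 : L) ⊗ₜ[K] e) ∈ N := h1
      have h3 : m ⊗ₜ[K] e = m • iota L.val ((1 : L) ⊗ₜ[K] e) := by
        simp [TensorProduct.smul_tmul']
      rw [h3]
      exact N.smul_mem _ h2
    | add a b ha hb => exact add_mem ha hb

end

end Groth.Agent.H93.DefMod
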