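import Groth.Prelude.Def_AlgGrp
import Mathlib.AlgebraicGeometry.Morphisms.ClosedImmersion
import Mathlib.AlgebraicGeometry.PullbackCarrier

set_option autoImplicit false
universe u
open CategoryTheory MonoidalCategory CartesianMonoidalCategory AlgebraicGeometry

namespace Groth.Agent.H93.AlgGrp

set_option backward.isDefEq.respectTransparency false in
theorem surjective_whiskerLeft {S : Scheme.{u}} (M : Over S) {Z X : Over S} (z : Z ⟶ X)
    [Surjective z.left] : Surjective (M ◁ z).left := by
  rw [Over.whiskerLeft_left]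
  exact MorphismProperty.pullbackMap (P := @Surjective.{u}) (inferInstance : Surjective (𝟙 M.left))
    (inferInstance : Surjective z.left) (by simp) (by simp)

theorem stable_iff (k : Type u) [Field k]
    (M X Z : Over (Spec (CommRingCat.of k))) (a : M ⊗ X ⟶ X) (aZ : M ⊗ Z ⟶ Z) (z : Z ⟶ X)
    [Surjective z.left] (hz : (M ◁ z) ≫ a = aZ ≫ z) (U : X.left.Opens) :
    (CartesianMonoidalCategory.snd M X).left ⁻¹ᵁ U ≤ a.left ⁻¹ᵁ U ↔
      (CartesianMonoidalCategory.snd M Z).left ⁻¹ᵁ (z.left ⁻¹ᵁ U) ≤ aZ.left ⁻¹ᵁ (z.left ⁻¹ᵁ U) := by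
  have hsurj := surjective_whiskerLeft M z
  have h1 : (M ◁ z).left ≫ a.left = aZ.left ≫ z.left := by
    rw [← Over.comp_left, hz, Over.comp_left]
  have h2 : (M ◁ z).left ≫ (CartesianMonoidalCategory.snd M X).left =
      (CartesianMonoidalCategory.snd M Z).left ≫ z.left := by
    rw [← Over.comp_left, whiskerLeft_snd, Over.comp_left]
  have e1 : ∀ p, a.left ((M ◁ z).left p) = z.left (aZ.left p) := by
    intro p
    rw [← Scheme.Hom.comp_apply, h1, Scheme.Hom.comp_apply]
  have e2 : ∀ p, (CartesianMonoidalCategory.snd M X).left ((M ◁ z).left p) =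
      z.left ((CartesianMonoidalCategory.snd M Z).left p) := by
    intro p
    rw [← Scheme.Hom.comp_apply, h2, Scheme.Hom.comp_apply]
  constructor
  · intro h p hp
    simp only [Scheme.Hom.mem_preimage] at hp ⊢
    have := h (x := (M ◁ z).left p) (by simp only [Scheme.Hom.mem_preimage]; rw [e2]; exact hp)
    simp only [Scheme.Hom.mem_preimage] at this
    rw [e1] at this
    exact this
  · intro h q hq
    obtain ⟨p, rfl⟩ := (M ◁ z).left.surjective q
    simp only [Scheme.Hom.mem_preimage] at hq ⊢
    rw [e2] at hq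
    rw [e1]
    have := h (x := p) (by simp only [Scheme.Hom.mem_preimage]; exact hq)
    simpa only [Scheme.Hom.mem_preimage] using this

end Groth.Agent.H93.AlgGrp
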