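import Mathlib

/-!
# Factoring a chain map through an acyclic subcomplex (helper93)

For a cochain complex `Y` of `A`-modules and a family of submodules `C q ≤ Y.X q` stable under the
differential, we build the subcomplex `subCx Y C hC`, its inclusion into `Y`, and show that a chain
map `X ⟶ Y` whose image lies in an *exact* such family is zero in the derived category.
-/

set_option autoImplicit false

open CategoryTheory Limits ZeroObject

namespace Groth.Agent.H93.AcyclicSub

universe w u v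

section General

variable {B : Type u} [Category.{v} B] [Abelian B] [HasDerivedCategory.{w} B]

lemma isZero_Q_obj_of_exactAt (L : CochainComplex B ℤ) (hL : ∀ m, L.ExactAt m) :
    IsZero (DerivedCategory.Q.obj L) := by
  have hz : IsZero (0 : CochainComplex B ℤ) := isZero_zero _
  have : QuasiIso (0 : L ⟶ (0 : CochainComplex B ℤ)) := by
    rw [quasiIso_iff]
    intro i
    rw [quasiIsoAt_iff_exactAt _ _ (hL i)]
    exact ShortComplex.exact_of_isZero_X₂ _
      ((HomologicalComplex.eval B (ComplexShape.up ℤ) i).map_isZero hz)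
  exact IsZero.of_iso (DerivedCategory.Q.map_isZero hz)
    (asIso (DerivedCategory.Q.map (0 : L ⟶ (0 : CochainComplex B ℤ))))

lemma Q_map_comp_eq_zero_of_exactAt {X C Y : CochainComplex B ℤ} (α : X ⟶ C) (β : C ⟶ Y)
    (hC : ∀ m, C.ExactAt m) : DerivedCategory.Q.map (α ≫ β) = 0 := by
  rw [Functor.map_comp]
  have h := isZero_Q_obj_of_exactAt C hC
  rw [h.eq_of_tgt (DerivedCategory.Q.map α) 0, zero_comp]

end General

section Mod

variable {A : Type u} [CommRing A]

/-- The subcomplex of `Y` given by a family of submodules stable under the differential. -/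
noncomputable def subCx (Y : CochainComplex (ModuleCat.{u} A) ℤ) (C : ∀ q, Submodule A (Y.X q))
    (hC : ∀ q, ∀ y ∈ C q, (Y.d q (q + 1)).hom y ∈ C (q + 1)) :
    CochainComplex (ModuleCat.{u} A) ℤ :=
  CochainComplex.of (fun q => ModuleCat.of A (C q))
    (fun q => ModuleCat.ofHom ((Y.d q (q + 1)).hom.restrict (hC q)))
    (by
      intro q
      ext x
      simp only [ModuleCat.hom_comp, ModuleCat.hom_ofHom, LinearMap.comp_apply,
        LinearMap.restrict_coe_apply, ModuleCat.hom_zero, LinearMap.zero_apply,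
        ZeroMemClass.coe_zero]
      have := Y.d_comp_d q (q + 1) (q + 1 + 1)
      exact congrArg (fun f => f.hom x.1) this)

variable (Y : CochainComplex (ModuleCat.{u} A) ℤ) (C : ∀ q, Submodule A (Y.X q))
    (hC : ∀ q, ∀ y ∈ C q, (Y.d q (q + 1)).hom y ∈ C (q + 1))

lemma subCx_d (q : ℤ) : (subCx Y C hC).d q (q + 1) =
    ModuleCat.ofHom ((Y.d q (q + 1)).hom.restrict (hC q)) := by
  unfold subCx
  exact CochainComplex.of_d (V := ModuleCat.{u} A) (fun q => ModuleCat.of A (C q))
    (fun q => ModuleCat.ofHom ((Y.d q (q + 1)).hom.restrict (hC q))) q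

/-- The inclusion of the subcomplex. -/
noncomputable def subCxι : subCx Y C hC ⟶ Y where
  f q := ModuleCat.ofHom (C q).subtype
  comm' := by
    rintro i j (rfl : i + 1 = j)
    rw [subCx_d]
    ext x
    rfl

/-- A chain map with image in the subcomplex factors through it. -/
noncomputable def subCxLift {X : CochainComplex (ModuleCat.{u} A) ℤ} (f : X ⟶ Y)
    (hf : ∀ q x, (f.f q).hom x ∈ C q) : X ⟶ subCx Y C hC where
  f q := ModuleCat.ofHom (LinearMap.codRestrict (C q) (f.f q).hom (hf q))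
  comm' := by
    rintro i j (rfl : i + 1 = j)
    rw [subCx_d]
    ext x
    apply Subtype.ext
    exact LinearMap.congr_fun (congrArg ModuleCat.Hom.hom (f.comm i (i + 1))) x

lemma subCxLift_ι {X : CochainComplex (ModuleCat.{u} A) ℤ} (f : X ⟶ Y)
    (hf : ∀ q x, (f.f q).hom x ∈ C q) : subCxLift Y C hC f hf ≫ subCxι Y C hC = f := by
  ext q x
  rfl

lemma subCx_exactAt
    (hex : ∀ q, ∀ y ∈ C (q + 1), (Y.d (q + 1) (q + 1 + 1)).hom y = 0 →
      ∃ w ∈ C q, (Y.d q (q + 1)).hom w = y) (q : ℤ) : (subCx Y C hC).ExactAt q := by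
  obtain ⟨p, rfl⟩ : ∃ p, q = p + 1 := ⟨q - 1, by ring⟩
  rw [HomologicalComplex.exactAt_iff' _ p (p + 1) (p + 1 + 1) (by simp) (by simp),
    ShortComplex.moduleCat_exact_iff]
  intro x hx
  have hx' : ((subCx Y C hC).d (p + 1) (p + 1 + 1)).hom x = 0 := hx
  rw [subCx_d] at hx'
  obtain ⟨w, hw, hwx⟩ := hex p x.1 x.2 (congrArg Subtype.val hx')
  refine ⟨⟨w, hw⟩, ?_⟩
  show ((subCx Y C hC).d p (p + 1)).hom ⟨w, hw⟩ = x
  rw [subCx_d]
  apply Subtype.ext
  exact hwx

variable [HasDerivedCategory.{w} (ModuleCat.{u} A)]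

/-- A chain map whose image lies in an exact family of submodules is zero in the derived
category. -/
theorem Q_map_eq_zero_of_range_le_exact {X : CochainComplex (ModuleCat.{u} A) ℤ} (f : X ⟶ Y)
    (hC : ∀ q, ∀ y ∈ C q, (Y.d q (q + 1)).hom y ∈ C (q + 1))
    (hex : ∀ q, ∀ y ∈ C (q + 1), (Y.d (q + 1) (q + 1 + 1)).hom y = 0 →
      ∃ w ∈ C q, (Y.d q (q + 1)).hom w = y)
    (hf : ∀ q x, (f.f q).hom x ∈ C q) : DerivedCategory.Q.map f = 0 := by
  rw [← subCxLift_ι Y C hC f hf]
  exact Q_map_comp_eq_zero_of_exactAt _ _ (subCx_exactAt Y C hC hex)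

end Mod

end Groth.Agent.H93.AcyclicSub
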