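import Groth.Agent.H93.CMMGl

/-! Base change of the dual algebra and of the conilpotent part. -/

set_option autoImplicit false
universe u v w

open TensorProduct WithConv

namespace Groth.Agent.H93.CMM

attribute [local instance] dualModule

noncomputable section

variable {k : Type u} [Field k] {A : Type v} [CommRing A] [Bialgebra k A]
  (K : Type w) [Field K] [Algebra k K]

/-- base change of a functional. -/
def bcL (F : A →ₗ[k] k) : K ⊗[k] A →ₗ[K] K :=
  (TensorProduct.AlgebraTensorModule.rid k K K).toLinearMap ∘ₗ F.baseChange K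

@[simp] theorem bcL_tmul (F : A →ₗ[k] k) (c : K) (a : A) : bcL K F (c ⊗ₜ[k] a) = F a • c := by
  simp [bcL]

theorem bcL_add (F G : A →ₗ[k] k) : bcL K (F + G) = bcL K F + bcL K G := by
  apply LinearMap.ext
  intro y
  induction y using TensorProduct.induction_on with
  | zero => simp
  | tmul c a => simp [add_smul]
  | add s t hs ht => simp only [map_add, hs, ht]

theorem bc_mul_apply (F G : Dual k A) (c : K) (a : A) :
    (toConv (bcL K F.ofConv) * toConv (bcL K G.ofConv) : Dual K (K ⊗[k] A)) (c ⊗ₜ[k] a) =
      bcL K (F * G).ofConv (c ⊗ₜ[k] a) := by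
  rw [LinearMap.convMul_apply, TensorProduct.comul_tmul, bcL_tmul,
    (Coalgebra.Repr.arbitrary k a).convMul_apply, ← (Coalgebra.Repr.arbitrary k a).eq]
  simp [TensorProduct.tmul_sum, Finset.sum_smul, mul_smul]
  refine Finset.sum_congr rfl fun i _ => ?_
  rw [smul_comm]

variable [Coalgebra.IsCocomm k A]

/-- base change of functionals, as a ring homomorphism of dual algebras. -/
def bc : Dual k A →+* Dual K (K ⊗[k] A) where
  toFun F := toConv (bcL K F.ofConv)
  map_one' := by
    apply WithConv.ext
    apply LinearMap.ext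
    intro y
    induction y using TensorProduct.induction_on with
    | zero => simp
    | tmul c a =>
      change bcL K (1 : Dual k A).ofConv (c ⊗ₜ[k] a) = (1 : Dual K (K ⊗[k] A)) (c ⊗ₜ[k] a)
      rw [bcL_tmul]
      have h1 : (1 : Dual k A).ofConv a = Coalgebra.counit (R := k) a := one_apply a
      have h2 : (1 : Dual K (K ⊗[k] A)) (c ⊗ₜ[k] a) =
          Coalgebra.counit (R := K) (c ⊗ₜ[k] a) := one_apply _
      rw [h1, h2, TensorProduct.counit_tmul]
      rfl
    | add s t hs ht => simp only [map_add, hs, ht]
  map_mul' F G := by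
    apply WithConv.ext
    apply LinearMap.ext
    intro y
    induction y using TensorProduct.induction_on with
    | zero => simp
    | tmul c a => exact (bc_mul_apply K F G c a).symm
    | add s t hs ht => simp only [map_add, hs, ht]
  map_zero' := by
    apply WithConv.ext
    apply LinearMap.ext
    intro y
    induction y using TensorProduct.induction_on with
    | zero => simp
    | tmul c a => simp
    | add s t hs ht => simp only [map_add, hs, ht]
  map_add' F G := by
    apply WithConv.ext
    change bcL K (F.ofConv + G.ofConv) = bcL K F.ofConv + bcL K G.ofConv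
    exact bcL_add K _ _

@[simp] theorem bc_tmul (F : Dual k A) (c : K) (a : A) : bc K F (c ⊗ₜ[k] a) = F a • c :=
  bcL_tmul K F.ofConv c a

theorem bc_mem_aug {F : Dual k A} (hF : F ∈ aug k A) : bc K F ∈ aug K (K ⊗[k] A) := by
  rw [mem_aug, Algebra.TensorProduct.one_def, bc_tmul]
  have : F 1 = 0 := hF
  rw [this, zero_smul]

theorem bc_mem_aug_pow (n : ℕ) {F : Dual k A} (hF : F ∈ (aug k A) ^ n) :
    bc K F ∈ (aug K (K ⊗[k] A)) ^ n := by
  have h1 : Ideal.map (bc K) (aug k A) ≤ aug K (K ⊗[k] A) := by
    rw [Ideal.map_le_iff_le_comap]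
    intro g hg
    exact bc_mem_aug K hg
  have h2 : Ideal.map (bc K) ((aug k A) ^ n) ≤ (aug K (K ⊗[k] A)) ^ n := by
    rw [Ideal.map_pow]
    exact Ideal.pow_right_mono h1 n
  exact h2 (Ideal.mem_map_of_mem _ hF)

/-- slices of an element of the filtration of the base change lie in the filtration. -/
theorem slice_mem_perp {n : ℕ} {y : K ⊗[k] A} (hy : y ∈ perp ((aug K (K ⊗[k] A)) ^ n))
    (lam : K →ₗ[k] k) :
    TensorProduct.lid k A (lam.rTensor A y) ∈ perp ((aug k A) ^ n) := by
  intro F hF
  have key : ∀ z : K ⊗[k] A, F (TensorProduct.lid k A (lam.rTensor A z)) = lam (bc K F z) := by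
    intro z
    induction z using TensorProduct.induction_on with
    | zero => simp
    | tmul c a =>
      rw [LinearMap.rTensor_tmul, TensorProduct.lid_tmul, bc_tmul]
      change F (lam c • a) = lam (F a • c)
      rw [map_smul, map_smul, smul_eq_mul, smul_eq_mul, mul_comm]
    | add s t hs ht => simp only [map_add, hs, ht]
  rw [key, hy _ (bc_mem_aug_pow K n hF), map_zero]

/-- the conilpotent part of the base change is contained in the base change of the conilpotent
part. -/
theorem conil_baseChange_le {y : K ⊗[k] A} (hy : y ∈ conil K (K ⊗[k] A)) :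
    y ∈ LinearMap.range ((Subalgebra.toSubmodule (conil k A)).subtype.lTensor K) := by
  obtain ⟨n, hn⟩ := hy
  rw [Takeuchi.mem_range_lTensor_subtype_iff]
  intro lam
  exact ⟨n, slice_mem_perp K hn lam⟩

end

end Groth.Agent.H93.CMM
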