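import Groth.Agent.H93.CMMUnip

/-! The conilpotent part as a unipotent cocommutative Hopf algebra. -/

set_option autoImplicit false
universe u v w

open TensorProduct WithConv

namespace Groth.Agent.H93.CMM

attribute [local instance] dualModule

noncomputable section

variable {k : Type u} [Field k] {A : Type v} [CommRing A] [HopfAlgebra k A]
  [Coalgebra.IsCocomm k A]

theorem ii_comm (B : Subalgebra k A) (t : ↥B ⊗[k] ↥B) :
    HopfSub.ii B (TensorProduct.comm k ↥B ↥B t) = TensorProduct.comm k A A (HopfSub.ii B t) := by
  induction t using TensorProduct.induction_on with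
  | zero => simp
  | tmul a b => rfl
  | add s t hs ht => simp only [map_add, hs, ht]

/-- a Hopf subalgebra of a cocommutative Hopf algebra is cocommutative. -/
theorem isCocomm_hopfSub {B : Subalgebra k A} (h : HopfSub.IsHopfSub B) :
    letI := HopfSub.hopfAlgebra h
    Coalgebra.IsCocomm k ↥B := by
  letI := HopfSub.hopfAlgebra h
  constructor
  apply LinearMap.ext
  intro b
  apply HopfSub.ii_injective B
  rw [LinearMap.comp_apply, LinearEquiv.coe_coe, ii_comm]
  change TensorProduct.comm k A A (HopfSub.ii B (HopfSub.comulB h b)) =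
    HopfSub.ii B (HopfSub.comulB h b)
  rw [HopfSub.ii_comulB, Coalgebra.comm_comul]

theorem isUCoalgMap_val {B : Subalgebra k A} (h : HopfSub.IsHopfSub B) :
    letI := HopfSub.hopfAlgebra h
    IsUCoalgMap (B.val.toLinearMap) := by
  letI := HopfSub.hopfAlgebra h
  refine ⟨⟨?_, ?_⟩, rfl⟩
  · intro b
    exact (HopfSub.ii_comulB h b).symm
  · intro b
    rfl

/-- every element of the conilpotent part is conilpotent for its own Hopf structure. -/
theorem conil_conil :
    letI := HopfSub.hopfAlgebra (isHopfSub_conil (k := k) (A := A))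
    haveI := isCocomm_hopfSub (isHopfSub_conil (k := k) (A := A))
    ∀ b : ↥(conil k A), ∃ n : ℕ, b ∈ perp ((aug k ↥(conil k A)) ^ n) := by
  letI := HopfSub.hopfAlgebra (isHopfSub_conil (k := k) (A := A))
  haveI := isCocomm_hopfSub (isHopfSub_conil (k := k) (A := A))
  intro b
  obtain ⟨n, hn⟩ := b.2
  exact ⟨n, mem_perp_of_injective _ (isUCoalgMap_val isHopfSub_conil) Subtype.val_injective hn⟩

theorem isUnipotent_conil :
    letI := HopfSub.hopfAlgebra (isHopfSub_conil (k := k) (A := A))
    HopfRep.IsUnipotent k ↥(conil k A) := by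
  letI := HopfSub.hopfAlgebra (isHopfSub_conil (k := k) (A := A))
  haveI := isCocomm_hopfSub (isHopfSub_conil (k := k) (A := A))
  exact isUnipotent_of_conil conil_conil

end

end Groth.Agent.H93.CMM
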