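import Groth.Agent.H93.CMMFunct
import Groth.Agent.H93.HopfSub
import Groth.Agent.H83.Antipode

/-! The conilpotent part of a commutative cocommutative Hopf algebra is a Hopf subalgebra. -/

set_option autoImplicit false
universe u v w

open TensorProduct WithConv

namespace Groth.Agent.H93.CMM

attribute [local instance] dualModule

noncomputable section

section General

variable {k : Type u} [Field k] {H : Type v} [Ring H] [Bialgebra k H] [Coalgebra.IsCocomm k H]

theorem smul_mem_perp_self {I : Ideal (Dual k H)} {x : H} (hx : x ∈ perp I) (f : Dual k H) :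
    f • x ∈ perp I := by
  intro ψ hψ
  rw [apply_smul, mul_comm]
  exact hx _ (I.mul_mem_left f hψ)

theorem perp_isSubcomod (I : Ideal (Dual k H)) :
    HopfRep.IsSubcomod (k := k) (A := H) (perp I) := by
  rw [isSubcomod_iff]
  intro ψ v hv
  exact smul_mem_perp_self hv (toConv ψ)

theorem perp_top : perp (⊤ : Ideal (Dual k H)) = ⊥ := by
  rw [eq_bot_iff]
  intro x hx
  rw [Submodule.mem_bot, ← Module.forall_dual_apply_eq_zero_iff k]
  intro φ
  exact hx (toConv φ) trivial

theorem mem_perp_succ_iff {n : ℕ} {x : H} :
    x ∈ perp ((aug k H) ^ (n + 1)) ↔ ∀ g ∈ aug k H, g • x ∈ perp ((aug k H) ^ n) := by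
  have hpow := pow_succ (aug k H) n
  constructor
  · intro hx g hg
    apply smul_mem_perp (J := aug k H) _ hg
    rw [← hpow]; exact hx
  · intro h F hF
    have hF' : F ∈ (aug k H) ^ n * aug k H := by rw [← hpow]; exact hF
    refine Submodule.mul_induction_on hF' ?_ ?_
    · intro f hf g hg
      rw [← apply_smul]
      exact h g hg f hf
    · intro F₁ F₂ h1 h2
      rw [ofConv_add, LinearMap.add_apply, h1, h2, add_zero]

theorem perp_pow_mono {m n : ℕ} (h : m ≤ n) :
    perp ((aug k H) ^ m) ≤ perp ((aug k H) ^ n) :=
  perp_anti (Ideal.pow_le_pow_right h)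

/-- right translate of a functional: `(rtr g y) a = g (a * y)`. -/
def rtr (g : Dual k H) : H →ₗ[k] Dual k H where
  toFun y := toConv (g.ofConv ∘ₗ LinearMap.mulRight k y)
  map_add' y z := by
    apply WithConv.ext
    ext a
    simp [mul_add]
  map_smul' c y := by
    apply WithConv.ext
    ext a
    simp

omit [Coalgebra.IsCocomm k H] in
@[simp] theorem rtr_apply (g : Dual k H) (y a : H) : rtr g y a = g (a * y) := rfl

/-- `b' ↦ (rtr g b') • x`. -/
def Rmap (g : Dual k H) (x : H) : H →ₗ[k] H where
  toFun b' := rtr g b' • x
  map_add' y z := by rw [map_add, add_smul]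
  map_smul' c y := by rw [map_smul, smul_assoc]; rfl

omit [Coalgebra.IsCocomm k H] in
theorem Rmap_apply (g : Dual k H) (x b' : H) : Rmap g x b' = rtr g b' • x := rfl

omit [Coalgebra.IsCocomm k H] in
/-- the action of a functional on a product. -/
theorem smul_mul_eq (g : Dual k H) (x y : H) :
    g • (x * y) = LinearMap.mul' k H ((TensorProduct.comm k H H)
      ((Rmap g x).lTensor H (Coalgebra.comul (R := k) y))) := by
  rw [smul_def, Bialgebra.comul_mul]
  have key : ∀ t : H ⊗[k] H, slice H g.ofConv (Coalgebra.comul (R := k) x * t) =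
      LinearMap.mul' k H ((TensorProduct.comm k H H) ((Rmap g x).lTensor H t)) := by
    intro t
    induction t using TensorProduct.induction_on with
    | zero => simp
    | tmul b b' =>
      simp only [LinearMap.lTensor_tmul, TensorProduct.comm_tmul, LinearMap.mul'_apply,
        Rmap_apply, smul_def]
      have key2 : ∀ s : H ⊗[k] H, slice H g.ofConv (s * b ⊗ₜ[k] b') =
          slice H (rtr g b').ofConv s * b := by
        intro s
        induction s using TensorProduct.induction_on with
        | zero => simp
        | tmul a a' =>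
          simp only [Algebra.TensorProduct.tmul_mul_tmul, slice_tmul, smul_mul_assoc]
          rfl
        | add s t hs ht => simp only [add_mul, map_add, hs, ht]
      exact key2 _
    | add s t hs ht => simp only [mul_add, map_add, hs, ht]
  exact key _

/-- the filtration is multiplicative. -/
theorem mul_mem_perp_add : ∀ (s m n : ℕ), m + n = s → ∀ x ∈ perp ((aug k H) ^ m),
    ∀ y ∈ perp ((aug k H) ^ n), x * y ∈ perp ((aug k H) ^ (m + n)) := by
  intro s
  induction s using Nat.strong_induction_on with
  | _ s ih =>
    intro m n hmn x hx y hy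
    rcases Nat.eq_zero_or_pos m with hm | hm
    · subst hm
      have : x = 0 := by
        have h := hx
        have h0 : aug k H ^ 0 = ⊤ := by simp
        rw [h0, perp_top] at h
        exact h
      rw [this, zero_mul]; exact Submodule.zero_mem _
    rcases Nat.eq_zero_or_pos n with hn | hn
    · subst hn
      have : y = 0 := by
        have h := hy
        have h0 : aug k H ^ 0 = ⊤ := by simp
        rw [h0, perp_top] at h
        exact h
      rw [this, mul_zero]; exact Submodule.zero_mem _
    obtain ⟨m', rfl⟩ := Nat.exists_eq_succ_of_ne_zero (Nat.pos_iff_ne_zero.mp hm)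
    obtain ⟨n', rfl⟩ := Nat.exists_eq_succ_of_ne_zero (Nat.pos_iff_ne_zero.mp hn)
    have hidx : m' + 1 + (n' + 1) = (m' + n' + 1) + 1 := by omega
    rw [hidx, mem_perp_succ_iff]
    intro g hg
    rw [smul_mul_eq]
    -- split `Rmap g x`
    set R0 : H →ₗ[k] H := Rmap g x - (LinearMap.toSpanSingleton k H x) ∘ₗ g.ofConv with hR0
    have hsplit : Rmap g x = R0 + (LinearMap.toSpanSingleton k H x) ∘ₗ g.ofConv := by
      rw [hR0]; abel
    have hR0mem : ∀ b' : H, R0 b' ∈ perp ((aug k H) ^ m') := by
      intro b'
      have h1 : R0 b' = (rtr g b' - algebraMap k (Dual k H) (g b')) • x := by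
        rw [hR0, LinearMap.sub_apply, Rmap_apply, sub_smul, LinearMap.comp_apply,
          LinearMap.toSpanSingleton_apply, algebraMap_smul]
      rw [h1]
      have h2 : (rtr g b' - algebraMap k (Dual k H) (g b')) ∈ aug k H := by
        rw [mem_aug, ofConv_sub, LinearMap.sub_apply, rtr_apply, one_mul,
          Algebra.algebraMap_eq_smul_one, ofConv_smul, LinearMap.smul_apply, one_apply,
          Bialgebra.counit_one]
        simp
      exact (mem_perp_succ_iff.mp hx) _ h2
    have hysub := perp_isSubcomod ((aug k H) ^ (n' + 1)) y hy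
    obtain ⟨t, ht⟩ := hysub
    have ht' : Coalgebra.comul (R := k) y =
        (perp ((aug k H) ^ (n' + 1))).subtype.rTensor H t := ht.symm
    rw [hsplit, LinearMap.lTensor_add, LinearMap.add_apply, map_add, map_add]
    refine Submodule.add_mem _ ?_ ?_
    · -- the `R0` part, termwise
      rw [ht']
      have key : ∀ t : ↥(perp ((aug k H) ^ (n' + 1))) ⊗[k] H,
          LinearMap.mul' k H ((TensorProduct.comm k H H) (R0.lTensor H
            ((perp ((aug k H) ^ (n' + 1))).subtype.rTensor H t))) ∈
            perp ((aug k H) ^ (m' + n' + 1)) := by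
        intro t
        induction t using TensorProduct.induction_on with
        | zero => simp
        | tmul b b' =>
          simp only [LinearMap.rTensor_tmul, Submodule.subtype_apply, LinearMap.lTensor_tmul,
            TensorProduct.comm_tmul, LinearMap.mul'_apply]
          have := ih (m' + (n' + 1)) (by omega) m' (n' + 1) rfl (R0 b') (hR0mem b') b b.2
          have hidx2 : m' + (n' + 1) = m' + n' + 1 := by omega
          rw [hidx2] at this
          exact this
        | add s t hs ht =>
          simp only [map_add]
          exact Submodule.add_mem _ hs ht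
      exact key t
    · -- the main part: `x * (g • y)`
      have h3 : LinearMap.mul' k H ((TensorProduct.comm k H H)
          (((LinearMap.toSpanSingleton k H x) ∘ₗ g.ofConv).lTensor H
            (Coalgebra.comul (R := k) y))) = x * (g • y) := by
        rw [smul_def]
        induction (Coalgebra.comul (R := k) y : H ⊗[k] H) using TensorProduct.induction_on with
        | zero => simp
        | tmul b b' =>
          simp only [LinearMap.lTensor_tmul, LinearMap.comp_apply,
            LinearMap.toSpanSingleton_apply, TensorProduct.comm_tmul, LinearMap.mul'_apply,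
            slice_tmul, smul_mul_assoc, mul_smul_comm]
        | add s t hs ht => simp only [map_add, hs, ht, mul_add]
      rw [h3]
      have h4 : g • y ∈ perp ((aug k H) ^ n') := (mem_perp_succ_iff.mp hy) g hg
      have := ih (m' + 1 + n') (by omega) (m' + 1) n' rfl x hx (g • y) h4
      have hidx3 : m' + 1 + n' = m' + n' + 1 := by omega
      rw [hidx3] at this
      exact this

/-- the conilpotent part: elements orthogonal to some power of the augmentation ideal. -/
def conil (k : Type u) [Field k] (H : Type v) [Ring H] [Bialgebra k H] [Coalgebra.IsCocomm k H] :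
    Subalgebra k H where
  carrier := {x | ∃ n : ℕ, x ∈ perp ((aug k H) ^ n)}
  mul_mem' := by
    rintro x y ⟨m, hm⟩ ⟨n, hn⟩
    exact ⟨m + n, mul_mem_perp_add (m + n) m n rfl x hm y hn⟩
  one_mem' := ⟨1, one_mem_perp_aug_pow 0⟩
  add_mem' := by
    rintro x y ⟨m, hm⟩ ⟨n, hn⟩
    exact ⟨max m n, Submodule.add_mem _ (perp_pow_mono (le_max_left m n) hm)
      (perp_pow_mono (le_max_right m n) hn)⟩
  zero_mem' := ⟨0, Submodule.zero_mem _⟩
  algebraMap_mem' := by
    intro c
    refine ⟨1, ?_⟩
    rw [Algebra.algebraMap_eq_smul_one]
    exact Submodule.smul_mem _ _ (one_mem_perp_aug_pow 0)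

theorem mem_conil {x : H} : x ∈ conil k H ↔ ∃ n : ℕ, x ∈ perp ((aug k H) ^ n) := Iff.rfl

theorem perp_le_conil (n : ℕ) : perp ((aug k H) ^ n) ≤ Subalgebra.toSubmodule (conil k H) :=
  fun _ hx => ⟨n, hx⟩

end General

section Comm

variable {k : Type u} [Field k] {A : Type v} [CommRing A] [HopfAlgebra k A]
  [Coalgebra.IsCocomm k A]

theorem isUCoalgMap_antipode :
    IsUCoalgMap (HopfAlgebraStruct.antipode (R := k) (A := A)) where
  comul a := by
    have h := Groth.Agent.H83.comul_antipode (k := k) a
    rw [Coalgebra.comm_comul] at h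
    exact h
  counit a := HopfAlgebra.counit_antipode a
  one := HopfAlgebra.antipode_one

theorem isHopfSub_conil : HopfSub.IsHopfSub (conil k A) := by
  constructor
  · rintro b ⟨n, hn⟩
    obtain ⟨t, ht⟩ := comul_mem_of_isSubcomod (perp_isSubcomod ((aug k A) ^ n)) b hn
    rw [← ht]
    -- factor through `conil`
    let j : ↥(perp ((aug k A) ^ n)) →ₗ[k] ↥(conil k A) :=
      Submodule.inclusion (perp_le_conil n)
    refine ⟨TensorProduct.map j j t, ?_⟩
    rw [← LinearMap.comp_apply, ← TensorProduct.map_comp]
    rfl
  · rintro b ⟨n, hn⟩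
    exact ⟨n, map_mem_perp _ isUCoalgMap_antipode hn⟩

end Comm

end

end Groth.Agent.H93.CMM
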