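import Groth.Agent.H93.CMMConil

/-! Functoriality of the filtration `(𝔪^n)^⊥` under unital coalgebra maps. -/

set_option autoImplicit false
universe u v w

open TensorProduct WithConv

namespace Groth.Agent.H93.CMM

attribute [local instance] dualModule

noncomputable section

variable {k : Type u} [Field k] {H : Type v} [Ring H] [Bialgebra k H] [Coalgebra.IsCocomm k H]
  {H' : Type w} [Ring H'] [Bialgebra k H'] [Coalgebra.IsCocomm k H']

/-- a linear map compatible with comultiplication and counit. -/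
structure IsCoalgMap (θ : H →ₗ[k] H') : Prop where
  comul : ∀ a, Coalgebra.comul (R := k) (θ a) =
    TensorProduct.map θ θ (Coalgebra.comul (R := k) a)
  counit : ∀ a, Coalgebra.counit (R := k) (θ a) = Coalgebra.counit (R := k) a

/-- a linear map compatible with comultiplication, counit and unit. -/
structure IsUCoalgMap (θ : H →ₗ[k] H') : Prop extends IsCoalgMap θ where
  one : θ 1 = 1

/-- precomposition with a coalgebra map, as a ring hom of dual algebras. -/
def precomp (θ : H →ₗ[k] H') (hθ : IsCoalgMap θ) : Dual k H' →+* Dual k H where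
  toFun f := toConv (f.ofConv ∘ₗ θ)
  map_one' := by
    apply WithConv.ext
    ext a
    change (1 : Dual k H') (θ a) = (1 : Dual k H) a
    rw [one_apply, one_apply, hθ.counit]
  map_mul' f g := by
    apply WithConv.ext
    ext a
    change (f * g) (θ a) = (toConv (f.ofConv ∘ₗ θ) * toConv (g.ofConv ∘ₗ θ) : Dual k H) a
    rw [LinearMap.convMul_apply, LinearMap.convMul_apply, hθ.comul]
    simp only [ofConv_toConv, TensorProduct.map_comp, LinearMap.comp_apply]
  map_zero' := by
    apply WithConv.ext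
    simp
  map_add' f g := by
    apply WithConv.ext
    simp [LinearMap.add_comp]

omit [Coalgebra.IsCocomm k H] [Coalgebra.IsCocomm k H'] in
@[simp] theorem precomp_apply (θ : H →ₗ[k] H') (hθ : IsCoalgMap θ) (f : Dual k H') (a : H) :
    precomp θ hθ f a = f (θ a) := rfl

/-- coalgebra maps transport orthogonals of powers of ideals. -/
theorem map_mem_perp_of_le (θ : H →ₗ[k] H') (hθ : IsCoalgMap θ) {I : Ideal (Dual k H)}
    {I' : Ideal (Dual k H')} (h : ∀ f ∈ I', precomp θ hθ f ∈ I) {n : ℕ} {x : H}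
    (hx : x ∈ perp (I ^ n)) : θ x ∈ perp (I' ^ n) := by
  have h1 : Ideal.map (precomp θ hθ) I' ≤ I := by
    rw [Ideal.map_le_iff_le_comap]
    intro g hg
    exact h g hg
  have h2 : Ideal.map (precomp θ hθ) (I' ^ n) ≤ I ^ n := by
    rw [Ideal.map_pow]
    exact Ideal.pow_right_mono h1 n
  intro F hF
  have := hx _ (h2 (Ideal.mem_map_of_mem _ hF))
  rwa [precomp_apply] at this

theorem precomp_mem_aug (θ : H →ₗ[k] H') (hθ : IsUCoalgMap θ) {f : Dual k H'}
    (hf : f ∈ aug k H') : precomp θ hθ.toIsCoalgMap f ∈ aug k H := by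
  rw [mem_aug, precomp_apply, hθ.one]
  exact hf

theorem precomp_mem_aug_pow (θ : H →ₗ[k] H') (hθ : IsUCoalgMap θ) (n : ℕ) {f : Dual k H'}
    (hf : f ∈ (aug k H') ^ n) : precomp θ hθ.toIsCoalgMap f ∈ (aug k H) ^ n := by
  have h1 : Ideal.map (precomp θ hθ.toIsCoalgMap) (aug k H') ≤ aug k H := by
    rw [Ideal.map_le_iff_le_comap]
    intro g hg
    exact precomp_mem_aug θ hθ hg
  have h2 : Ideal.map (precomp θ hθ.toIsCoalgMap) ((aug k H') ^ n) ≤ (aug k H) ^ n := by
    rw [Ideal.map_pow]
    exact Ideal.pow_right_mono h1 n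
  exact h2 (Ideal.mem_map_of_mem _ hf)

/-- unital coalgebra maps preserve the filtration. -/
theorem map_mem_perp (θ : H →ₗ[k] H') (hθ : IsUCoalgMap θ) {n : ℕ} {x : H}
    (hx : x ∈ perp ((aug k H) ^ n)) : θ x ∈ perp ((aug k H') ^ n) := by
  intro F hF
  have := hx _ (precomp_mem_aug_pow θ hθ n hF)
  rwa [precomp_apply] at this

/-- injective unital coalgebra maps reflect the filtration. -/
theorem mem_perp_of_injective (θ : H →ₗ[k] H') (hθ : IsUCoalgMap θ)
    (hinj : Function.Injective θ) {n : ℕ} {x : H}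
    (hx : θ x ∈ perp ((aug k H') ^ n)) : x ∈ perp ((aug k H) ^ n) := by
  obtain ⟨r, hr⟩ := LinearMap.exists_leftInverse_of_injective θ (LinearMap.ker_eq_bot.mpr hinj)
  have hr' : ∀ a, r (θ a) = a := fun a => LinearMap.congr_fun hr a
  have hsurj : Function.Surjective (precomp θ hθ.toIsCoalgMap) := by
    intro f
    refine ⟨toConv (f.ofConv ∘ₗ r), ?_⟩
    apply WithConv.ext
    ext a
    change f (r (θ a)) = f a
    rw [hr']
  have h1 : aug k H ≤ Ideal.map (precomp θ hθ.toIsCoalgMap) (aug k H') := by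
    intro f hf
    rw [Ideal.mem_map_iff_of_surjective _ hsurj]
    refine ⟨toConv (f.ofConv ∘ₗ r), ?_, ?_⟩
    · rw [mem_aug]
      change f (r 1) = 0
      rw [← hθ.one, hr']
      exact hf
    · apply WithConv.ext
      ext a
      change f (r (θ a)) = f a
      rw [hr']
  intro F hF
  have h2 : F ∈ Ideal.map (precomp θ hθ.toIsCoalgMap) ((aug k H') ^ n) := by
    rw [Ideal.map_pow]
    exact Ideal.pow_right_mono h1 n hF
  rw [Ideal.mem_map_iff_of_surjective _ hsurj] at h2
  obtain ⟨F', hF', rfl⟩ := h2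
  rw [precomp_apply]
  exact hx _ hF'

end

end Groth.Agent.H93.CMM
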