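import Groth.Agent.H93.CMMConilSub
import Groth.Agent.H82.CocommDiag
import Groth.Agent.H40.SubComod

/-! Decomposition of a commutative cocommutative Hopf algebra over an algebraically closed field
into translates of its conilpotent part by group-like elements. -/

set_option autoImplicit false
universe u v w

open TensorProduct WithConv

namespace Groth.Agent.H93.CMM

attribute [local instance] dualModule

noncomputable section

section General

variable {k : Type u} [Field k] {H : Type v} [Ring H] [Bialgebra k H] [Coalgebra.IsCocomm k H]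

/-- evaluation at a group-like element is an algebra homomorphism. -/
def evAt (g : H) (hg : IsGroupLikeElem k g) : Dual k H →ₐ[k] k :=
  AlgHom.ofLinearMap (evL g) (by simp [one_apply, hg.counit_eq_one]) (fun f f' => by
    rw [evL_apply, evL_apply, evL_apply, LinearMap.convMul_apply, hg.comul_eq_tmul_self]
    simp)

/-- functionals vanishing at a group-like element. -/
def augAt (g : H) (hg : IsGroupLikeElem k g) : Ideal (Dual k H) := RingHom.ker (evAt g hg)

theorem mem_augAt {g : H} {hg : IsGroupLikeElem k g} {f : Dual k H} :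
    f ∈ augAt g hg ↔ f g = 0 := Iff.rfl

theorem act_pow (F : Dual k H) (m : ℕ) (w : H) : ((act F) ^ m) w = F ^ m • w := by
  induction m generalizing w with
  | zero => simp
  | succ m ih =>
    rw [pow_succ, Module.End.mul_apply, ih, act_apply, pow_succ, mul_smul]

/-- Nakayama: an ideal acting locally nilpotently on a finite-dimensional submodule has a power
killing it. -/
theorem nak (I : Ideal (Dual k H)) (N₀ : Submodule (Dual k H) H)
    [hfd : FiniteDimensional k (N₀.restrictScalars k)]
    (hnil : ∀ F ∈ I, ∀ w ∈ N₀, ∃ m : ℕ, F ^ m • w = 0) :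
    ∃ n : ℕ, ∀ F ∈ I ^ n, ∀ w ∈ N₀, F • w = 0 := by
  classical
  let W : ℕ → Submodule (Dual k H) H := fun n => (I ^ n) • N₀
  have hWle : ∀ n, (W n).restrictScalars k ≤ N₀.restrictScalars k := by
    intro n y hy
    have : y ∈ N₀ := Submodule.smul_le_right hy
    exact this
  have hWfin : ∀ n, FiniteDimensional k ((W n).restrictScalars k) := fun n =>
    Submodule.finiteDimensional_of_le (hWle n)
  let d : ℕ → ℕ := fun n => Module.finrank k ((W n).restrictScalars k)
  obtain ⟨v, ⟨n, rfl⟩, hmin⟩ := (wellFounded_lt (α := ℕ)).has_min (Set.range d) ⟨_, 0, rfl⟩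
  have hsucc : W (n + 1) = I • W n := by
    change (I ^ (n + 1)) • N₀ = I • ((I ^ n) • N₀)
    have := pow_succ' I n
    rw [this, Submodule.mul_smul]
  have hle : W (n + 1) ≤ W n := by
    rw [hsucc]
    exact Submodule.smul_le_right
  have heq : (W (n + 1)).restrictScalars k = (W n).restrictScalars k := by
    haveI := hWfin n
    refine Submodule.eq_of_le_of_finrank_le (fun y hy => hle hy) ?_
    have := hmin (d (n + 1)) ⟨n + 1, rfl⟩
    exact not_lt.mp this
  have heq' : W n ≤ I • W n := by
    rw [← hsucc]
    intro y hy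
    have : y ∈ (W n).restrictScalars k := hy
    rw [← heq] at this
    exact this
  have hfg : (W n).FG := by
    refine Submodule.FG.of_restrictScalars k ?_
    haveI := hWfin n
    exact (Submodule.fg_top _).mp (Module.Finite.fg_top (R := k)
      (M := (W n).restrictScalars k))
  obtain ⟨r, hr1, hr2⟩ :=
    Submodule.exists_sub_one_mem_and_smul_eq_zero_of_fg_of_le_smul I (W n) hfg heq'
  have hbot : ∀ w ∈ W n, w = 0 := by
    intro w hw
    have hwN : w ∈ N₀ := Submodule.smul_le_right hw
    have hF : (1 - r) ∈ I := by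
      have : -(r - 1) ∈ I := I.neg_mem hr1
      rwa [neg_sub] at this
    have h1 : (1 - r) • w = w := by
      rw [sub_smul, one_smul, hr2 w hw, sub_zero]
    obtain ⟨m, hm⟩ := hnil _ hF w hwN
    have h2 : ∀ j : ℕ, (1 - r) ^ j • w = w := by
      intro j
      induction j with
      | zero => simp
      | succ j ih => rw [pow_succ, mul_smul, h1, ih]
    rw [← h2 m, hm]
  refine ⟨n, fun F hF w hw => ?_⟩
  exact hbot _ (Submodule.smul_mem_smul hF hw)

end General

section AlgClosed

variable {K : Type u} [Field K] {H : Type v} [Ring H] [Bialgebra K H] [Coalgebra.IsCocomm K H]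

/-- the span of the primary parts at the group-like elements. -/
def glPrim (K : Type u) [Field K] (H : Type v) [Ring H] [Bialgebra K H]
    [Coalgebra.IsCocomm K H] : Submodule K H :=
  Submodule.span K {z | ∃ (g : H) (hg : IsGroupLikeElem K g) (n : ℕ),
    z ∈ perp ((augAt g hg) ^ n)}

theorem act_comm (f f' : Dual K H) : Commute (act f) (act f') := by
  change act f * act f' = act f' * act f
  apply LinearMap.ext
  intro v
  change f • f' • v = f' • f • v
  exact smul_comm f f' v

theorem jointGen_le [IsAlgClosed K] (N : Submodule K H)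
    (hN : HopfRep.IsSubcomod (k := K) (A := H) N) [FiniteDimensional K N]
    (χ : Dual K H → K) :
    N ⊓ ⨅ f : Dual K H, Module.End.maxGenEigenspace (act f) (χ f) ≤ glPrim K H := by
  classical
  set Nχ := N ⊓ ⨅ f : Dual K H, Module.End.maxGenEigenspace (act f) (χ f) with hNχ
  by_cases hbot : Nχ = ⊥
  · rw [hbot]; exact bot_le
  have hsub : HopfRep.IsSubcomod (k := K) (A := H) Nχ := by
    rw [isSubcomod_iff]
    intro ψ v hv
    refine ⟨(isSubcomod_iff N).mp hN ψ v hv.1, ?_⟩
    change dualAct H ψ v ∈ ⨅ f : Dual K H, Module.End.maxGenEigenspace (act f) (χ f)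
    rw [Submodule.mem_iInf]
    intro f
    have hv2 := (Submodule.mem_iInf _).mp hv.2 f
    exact Module.End.mapsTo_maxGenEigenspace_of_comm (act_comm f (toConv ψ)) (χ f) hv2
  letI := Groth.Agent.H40.subComod Nχ hsub
  haveI : Module.Finite K Nχ := Submodule.finiteDimensional_of_le inf_le_left
  haveI : Nontrivial Nχ := Submodule.nontrivial_iff_ne_bot.mpr hbot
  obtain ⟨m, hm0, g, hg⟩ :=
    Groth.Agent.H82.CocommDiag.exists_eigenvector (K := K) (B := H) (Q := ↥Nχ)
  have hgl : IsGroupLikeElem K g := Groth.Agent.H82.CocommDiag.isGroupLikeElem_of_eigen hm0 hg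
  have hΔ : Coalgebra.comul (R := K) (m : H) = (m : H) ⊗ₜ[K] g := by
    have h1 := Groth.Agent.H40.subtype_rTensor_subCoact Nχ hsub m
    have h2 : Groth.Agent.H40.subCoact Nχ hsub m = m ⊗ₜ[K] g := hg
    rw [h2] at h1
    exact h1.symm
  have hact : ∀ f : Dual K H, f • (m : H) = f g • (m : H) := by
    intro f
    rw [smul_def, hΔ, slice_tmul]
  have hmne : (m : H) ≠ 0 := fun h => hm0 (Subtype.ext h)
  have hχ : ∀ f : Dual K H, χ f = f g := by
    intro f
    by_contra hne
    have h1 : (m : H) ∈ Module.End.maxGenEigenspace (act f) (χ f) :=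
      (Submodule.mem_iInf _).mp m.2.2 f
    have h2 : (m : H) ∈ Module.End.maxGenEigenspace (act f) (f g) := by
      apply Module.End.eigenspace_le_maxGenEigenspace
      rw [Module.End.mem_eigenspace_iff]
      exact hact f
    have hdis := Module.End.disjoint_genEigenspace (act f) hne ⊤ ⊤
    exact hmne (Submodule.disjoint_def.mp hdis _ h1 h2)
  have hnil : ∀ F ∈ augAt g hgl, ∀ w ∈ toDualSub Nχ hsub, ∃ j : ℕ, F ^ j • w = 0 := by
    intro F hF w hw
    have hw' : w ∈ Nχ := hw
    have h1 := (Submodule.mem_iInf _).mp hw'.2 F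
    rw [hχ F, mem_augAt.mp hF, Module.End.mem_maxGenEigenspace] at h1
    obtain ⟨j, hj⟩ := h1
    refine ⟨j, ?_⟩
    rw [zero_smul, sub_zero, act_pow] at hj
    exact hj
  haveI : FiniteDimensional K ((toDualSub Nχ hsub).restrictScalars K) := by
    rw [toDualSub_restrictScalars]; infer_instance
  obtain ⟨n, hn⟩ := nak (augAt g hgl) (toDualSub Nχ hsub) hnil
  intro w hw
  apply Submodule.subset_span
  refine ⟨g, hgl, n, fun F hF => ?_⟩
  rw [← counit_smul, hn F hF w hw, map_zero]

/-- over an algebraically closed field, a cocommutative bialgebra is the sum of its primary parts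
at group-like elements. -/
theorem glPrim_eq_top [IsAlgClosed K] : glPrim K H = ⊤ := by
  classical
  rw [eq_top_iff]
  intro x _
  set N := Groth.Agent.H82.Chev.cyc K H x with hNdef
  have hN : HopfRep.IsSubcomod (k := K) (A := H) N := Groth.Agent.H82.Chev.isSubcomod_cyc x
  haveI hfin : Module.Finite K N := Groth.Agent.H82.Chev.finite_cyc x
  have hxN : x ∈ N := Groth.Agent.H82.Chev.mem_cyc_self x
  have hfp : ∀ f : Dual K H, Set.MapsTo (act f) N N := fun f v hv =>
    (isSubcomod_iff N).mp hN f.ofConv v hv
  let fam : Dual K H → Module.End K ↥N := fun f => (act f).restrict (hfp f)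
  have hcomm : Pairwise fun f f' => Commute (fam f) (fam f') := by
    intro f f' _
    change fam f * fam f' = fam f' * fam f
    apply LinearMap.ext
    intro v
    apply Subtype.ext
    change f • f' • (v : H) = f' • f • (v : H)
    exact smul_comm f f' (v : H)
  have htop := Module.End.iSup_iInf_maxGenEigenspace_eq_top_of_iSup_maxGenEigenspace_eq_top_of_commute
    fam hcomm (fun f => Module.End.iSup_maxGenEigenspace_eq_top (fam f))
  have hx1 : (⟨x, hxN⟩ : ↥N) ∈ (⊤ : Submodule K ↥N) := trivial
  rw [← htop] at hx1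
  have hx2 : x ∈ (⨆ χ : Dual K H → K,
      ⨅ f, Module.End.maxGenEigenspace (fam f) (χ f)).map N.subtype := ⟨_, hx1, rfl⟩
  rw [Submodule.map_iSup] at hx2
  refine (iSup_le fun χ => ?_ : _ ≤ glPrim K H) hx2
  have := Submodule.inf_iInf_maxGenEigenspace_of_forall_mapsTo (fun f : Dual K H => act f)
    (μ := χ) N hfp
  rw [← this]
  exact jointGen_le N hN χ

end AlgClosed

section Translate

variable {k : Type u} [Field k] {H : Type v} [CommRing H] [HopfAlgebra k H]
  [Coalgebra.IsCocomm k H]

theorem isCoalgMap_mulLeft {s : H} (hs : IsGroupLikeElem k s) :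
    IsCoalgMap (LinearMap.mulLeft k s) where
  comul a := by
    rw [LinearMap.mulLeft_apply, Bialgebra.comul_mul, hs.comul_eq_tmul_self]
    induction (Coalgebra.comul (R := k) a : H ⊗[k] H) using TensorProduct.induction_on with
    | zero => simp
    | tmul b b' => simp [Algebra.TensorProduct.tmul_mul_tmul]
    | add t t' ht ht' => rw [mul_add, map_add, ht, ht']
  counit a := by
    rw [LinearMap.mulLeft_apply, Bialgebra.counit_mul, hs.counit_eq_one, one_mul]

theorem antipode_mul_mem_perp {g : H} (hg : IsGroupLikeElem k g) {n : ℕ} {y : H}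
    (hy : y ∈ perp ((augAt g hg) ^ n)) :
    HopfAlgebraStruct.antipode (R := k) g * y ∈ perp ((aug k H) ^ n) := by
  have h := map_mem_perp_of_le (LinearMap.mulLeft k (HopfAlgebraStruct.antipode (R := k) g))
    (isCoalgMap_mulLeft hg.antipode) (I := augAt g hg) (I' := aug k H) (by
      intro f hf
      rw [mem_augAt, precomp_apply, LinearMap.mulLeft_apply, hg.antipode_mul_cancel]
      exact hf) hy
  exact h

/-- over an algebraically closed field, every element is a combination of products of a
group-like element and a conilpotent element. -/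
theorem mem_span_gl_mul_conil [IsAlgClosed k] (x : H) :
    x ∈ Submodule.span k {z : H | ∃ g y : H, IsGroupLikeElem k g ∧ y ∈ conil k H ∧ z = g * y} := by
  have hx : x ∈ glPrim k H := by rw [glPrim_eq_top]; trivial
  refine Submodule.span_le.mpr ?_ hx
  rintro z ⟨g, hg, n, hz⟩
  apply Submodule.subset_span
  refine ⟨g, HopfAlgebraStruct.antipode (R := k) g * z, hg, ⟨n, antipode_mul_mem_perp hg hz⟩, ?_⟩
  rw [← mul_assoc, hg.mul_antipode_cancel, one_mul]

end Translate

end

end Groth.Agent.H93.CMM
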