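import Groth.Agent.H93.CMMMult
import Groth.Prelude.Def_SGA3b

/-! Minimality: the augmentation ideal of the conilpotent part lies in every Hopf ideal with
quotient of multiplicative type. -/

set_option autoImplicit false
universe u

open TensorProduct WithConv

namespace Groth.Agent.H93.CMM

noncomputable section

theorem monoidAlgebra_primitive_eq_zero {R M : Type*} [CommRing R] [Monoid M]
    (y : MonoidAlgebra R M)
    (hy : Coalgebra.comul (R := R) y =
      y ⊗ₜ[R] (1 : MonoidAlgebra R M) + (1 : MonoidAlgebra R M) ⊗ₜ[R] y) : y = 0 := by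
  classical
  apply MonoidAlgebra.ext
  apply Finsupp.ext
  intro m₀
  let lam : MonoidAlgebra R M →ₗ[R] R :=
    Finsupp.lapply m₀ ∘ₗ (MonoidAlgebra.coeffLinearEquiv R).toLinearMap
  have hlam : ∀ z : MonoidAlgebra R M, lam z = z.coeff m₀ := fun z => rfl
  let Φ : MonoidAlgebra R M ⊗[R] MonoidAlgebra R M →ₗ[R] R :=
    LinearMap.mul' R R ∘ₗ TensorProduct.map lam lam
  have h1 : Φ ∘ₗ Coalgebra.comul (R := R) = lam := by
    apply MonoidAlgebra.lhom_ext'
    intro m
    apply LinearMap.ext_ring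
    simp [Φ, hlam]
    by_cases hm : m = m₀
    · subst hm; simp
    · simp [Finsupp.single_eq_of_ne' hm]
  have h2 := congrArg Φ hy
  have h3 : Φ (Coalgebra.comul (R := R) y) = lam y := LinearMap.congr_fun h1 y
  rw [h3] at h2
  simp only [Φ, map_add, LinearMap.comp_apply, TensorProduct.map_tmul, LinearMap.mul'_apply,
    hlam] at h2
  rw [MonoidAlgebra.coeff_zero, Finsupp.zero_apply]
  rw [MonoidAlgebra.one_def, MonoidAlgebra.coeff_single] at h2
  by_cases hm : (1 : M) = m₀
  · subst hm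
    simp at h2
    exact h2
  · simp [Finsupp.single_eq_of_ne' hm] at h2
    exact h2

variable (k A : Type u) [Field k] [CommRing A] [HopfAlgebra k A] [Coalgebra.IsCocomm k A]

theorem sub_counit_mem_of_isMultTypeConst (I : Ideal A) [I.IsHopfIdeal k]
    (hI : SGA3b.IsMultTypeConst k (A ⧸ I)) :
    ∀ b ∈ conil k A, b - algebraMap k A (Coalgebra.counit (R := k) b) ∈ I := by
  intro b hb
  obtain ⟨R', _, _, hff, M, _, ⟨e⟩⟩ := hI
  letI := HopfSub.hopfAlgebra (isHopfSub_conil (k := k) (A := A))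
  let ψ : ↥(conil k A) →ₐc[k] A := HopfSub.incl isHopfSub_conil
  let ψ' : ↥(conil k A) →ₐc[k] A ⧸ I := (Bialgebra.Quotient.mkBialgHom (R := k) I).comp ψ
  let φ : R' ⊗[k] ↥(conil k A) →ₐc[R'] R' ⊗[k] (A ⧸ I) :=
    Bialgebra.TensorProduct.map (BialgHom.id R' R') ψ'
  have hP : ∀ y : R' ⊗[k] (A ⧸ I), Coalgebra.comul (R := R') y =
      y ⊗ₜ[R'] (1 : R' ⊗[k] (A ⧸ I)) + (1 : R' ⊗[k] (A ⧸ I)) ⊗ₜ[R'] y → y = 0 := by
    intro y hy
    have hey : e y = 0 := by
      apply monoidAlgebra_primitive_eq_zero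
      have h0 := CoalgHomClass.map_comp_comul_apply e y
      rw [← h0, hy, map_add, TensorProduct.map_tmul, TensorProduct.map_tmul]
      change (e y) ⊗ₜ[R'] (e 1) + (e 1) ⊗ₜ[R'] (e y) = _
      rw [map_one]
    have h00 : e y = e 0 := by rw [hey, map_zero]
    exact EquivLike.injective e h00
  have h1 := Groth.Agent.H82.MultUnip.apply_one_tmul (isUnipotent_conil (k := k) (A := A)) hP φ
    ⟨b, hb⟩
  have h2 : φ ((1 : R') ⊗ₜ[k] (⟨b, hb⟩ : ↥(conil k A))) =
      (1 : R') ⊗ₜ[k] (Ideal.Quotient.mk I b) := rfl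
  have h3 : Coalgebra.counit (R := k) (⟨b, hb⟩ : ↥(conil k A)) =
      Coalgebra.counit (R := k) b := rfl
  rw [h2, h3] at h1
  have h4 : (1 : R') ⊗ₜ[k] (Ideal.Quotient.mk I b) =
      (1 : R') ⊗ₜ[k] (Ideal.Quotient.mk I (algebraMap k A (Coalgebra.counit (R := k) b))) := by
    have h6 : Ideal.Quotient.mk I (algebraMap k A (Coalgebra.counit (R := k) b)) =
        algebraMap k (A ⧸ I) (Coalgebra.counit (R := k) b) := rfl
    rw [h1, h6, Algebra.algebraMap_eq_smul_one, TensorProduct.tmul_smul,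
      Algebra.TensorProduct.one_def]
  have h5 := Module.FaithfullyFlat.tensorProduct_mk_injective (A := k) (B := R') (A ⧸ I) h4
  rw [← Ideal.Quotient.eq_zero_iff_mem, map_sub, sub_eq_zero]
  exact h5

end

end Groth.Agent.H93.CMM
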