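import Groth.Agent.H93.CMMBC
import Groth.Agent.H93.CMMConilHopf
import Groth.Agent.H26.DiagField
import Groth.Agent.H82.TrigStruct2

/-! The quotient by the conilpotent part is of multiplicative type. -/

set_option autoImplicit false
universe u

open TensorProduct WithConv

namespace Groth.Agent.H93.CMM

attribute [local instance] dualModule

noncomputable section

variable (k A : Type u) [Field k] [CommRing A] [HopfAlgebra k A] [Coalgebra.IsCocomm k A]

theorem span_groupLike_quot (K : Type u) [Field K] [Algebra k K] [IsAlgClosed K]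
    (J : Ideal A) [J.IsHopfIdeal k]
    (hJ : ∀ b ∈ conil k A, b - algebraMap k A (Coalgebra.counit (R := k) b) ∈ J) :
    Submodule.span K {a : K ⊗[k] (A ⧸ J) | IsGroupLikeElem K a} = ⊤ := by
  classical
  set πK : K ⊗[k] A →ₐc[K] K ⊗[k] (A ⧸ J) :=
    Bialgebra.TensorProduct.map (BialgHom.id K K) (Bialgebra.Quotient.mkBialgHom (R := k) J)
    with hπ
  have hπt : ∀ (c : K) (a : A), πK (c ⊗ₜ[k] a) = c ⊗ₜ[k] (Ideal.Quotient.mk J a) := fun c a => rfl
  have hsurj : Function.Surjective πK := by
    intro z
    induction z using TensorProduct.induction_on with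
    | zero => exact ⟨0, map_zero _⟩
    | tmul c a' =>
      obtain ⟨a, rfl⟩ := Ideal.Quotient.mk_surjective a'
      exact ⟨c ⊗ₜ[k] a, hπt c a⟩
    | add s t hs ht =>
      obtain ⟨s', rfl⟩ := hs
      obtain ⟨t', rfl⟩ := ht
      exact ⟨s' + t', map_add _ _ _⟩
  have key : ∀ y ∈ conil K (K ⊗[k] A),
      πK y = Coalgebra.counit (R := K) y • (1 : K ⊗[k] (A ⧸ J)) := by
    intro y hy
    obtain ⟨t, rfl⟩ := conil_baseChange_le K hy
    clear hy
    induction t using TensorProduct.induction_on with
    | zero => simp
    | tmul c b =>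
      rw [LinearMap.lTensor_tmul, Submodule.subtype_apply, hπt, TensorProduct.counit_tmul]
      have h1 : Ideal.Quotient.mk J (b : A) =
          algebraMap k (A ⧸ J) (Coalgebra.counit (R := k) (b : A)) := by
        have := hJ (b : A) b.2
        rw [← Ideal.Quotient.eq_zero_iff_mem, map_sub, sub_eq_zero] at this
        rw [this]
        rfl
      rw [h1, Algebra.algebraMap_eq_smul_one, TensorProduct.tmul_smul,
        Algebra.TensorProduct.one_def, TensorProduct.smul_tmul', TensorProduct.smul_tmul']
      congr 1
      change _ = (Coalgebra.counit (R := k) (b : A) • c) • (1 : K)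
      rw [smul_eq_mul, mul_one]
    | add s t hs ht => rw [map_add, map_add, map_add, add_smul, hs, ht]
  have hall : ∀ x : K ⊗[k] A,
      πK x ∈ Submodule.span K {a : K ⊗[k] (A ⧸ J) | IsGroupLikeElem K a} := by
    intro x
    have hx := mem_span_gl_mul_conil (k := K) x
    induction hx using Submodule.span_induction with
    | mem z hz =>
      obtain ⟨g, y, hg, hy, rfl⟩ := hz
      rw [map_mul, key y hy, mul_smul_comm, mul_one]
      exact Submodule.smul_mem _ _ (Submodule.subset_span (hg.map πK))
    | zero => rw [map_zero]; exact Submodule.zero_mem _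
    | add s t _ _ hs ht => rw [map_add]; exact Submodule.add_mem _ hs ht
    | smul c s _ hs => rw [map_smul]; exact Submodule.smul_mem _ c hs
  rw [eq_top_iff]
  intro z _
  obtain ⟨x, rfl⟩ := hsurj z
  exact hall x

end

end Groth.Agent.H93.CMM
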