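import Groth.Agent.H93.CMMConilSub

/-! Conilpotent cocommutative bialgebras are unipotent; the conilpotent part of a commutative
cocommutative Hopf algebra is a unipotent Hopf subalgebra. -/

set_option autoImplicit false
universe u v w

open TensorProduct WithConv

namespace Groth.Agent.H93.CMM

attribute [local instance] dualModule

noncomputable section

section General

variable {k : Type u} [Field k] {H : Type v} [Ring H] [Bialgebra k H] [Coalgebra.IsCocomm k H]

theorem aug_pow_zero : aug k H ^ 0 = ⊤ := by simp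

theorem sub_algebraMap_mem_aug (ψ : Dual k H) :
    ψ - algebraMap k (Dual k H) (ψ 1) ∈ aug k H := by
  rw [mem_aug, ofConv_sub, LinearMap.sub_apply, Algebra.algebraMap_eq_smul_one, ofConv_smul,
    LinearMap.smul_apply, one_apply, Bialgebra.counit_one]
  simp

/-- every nonzero comodule over a conilpotent cocommutative bialgebra has a nonzero fixed
vector. -/
theorem exists_fixed_of_conil (hc : ∀ x : H, ∃ n : ℕ, x ∈ perp ((aug k H) ^ n))
    (V : Type w) [AddCommGroup V] [Module k V] [HopfRep.Comod k H V] [Nontrivial V] :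
    HopfRep.fixedPts k H V ≠ ⊥ := by
  classical
  -- step 1: every vector is killed by a power of the augmentation ideal
  have h1 : ∀ t : V ⊗[k] H, ∃ n : ℕ, ∀ F ∈ (aug k H) ^ n, slice V F.ofConv t = 0 := by
    intro t
    induction t using TensorProduct.induction_on with
    | zero => exact ⟨0, fun F _ => map_zero _⟩
    | tmul v b =>
      obtain ⟨n, hn⟩ := hc b
      refine ⟨n, fun F hF => ?_⟩
      rw [slice_tmul]
      have : F b = 0 := hn F hF
      change F b • v = 0
      rw [this, zero_smul]
    | add s t hs ht =>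
      obtain ⟨m, hm⟩ := hs
      obtain ⟨n, hn⟩ := ht
      refine ⟨max m n, fun F hF => ?_⟩
      rw [map_add, hm F (Ideal.pow_le_pow_right (le_max_left m n) hF),
        hn F (Ideal.pow_le_pow_right (le_max_right m n) hF), add_zero]
  have h2 : ∀ v : V, ∃ n : ℕ, ∀ F ∈ (aug k H) ^ n, F • v = 0 := by
    intro v
    obtain ⟨n, hn⟩ := h1 (HopfRep.Comod.coact (k := k) (A := H) v)
    exact ⟨n, fun F hF => hn F hF⟩
  obtain ⟨v, hv⟩ := exists_ne (0 : V)
  have hex := h2 v
  set n₀ := Nat.find hex with hn₀
  have hP : ∀ F ∈ (aug k H) ^ n₀, F • v = 0 := Nat.find_spec hex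
  have hn0 : n₀ ≠ 0 := by
    intro h0
    rw [h0, aug_pow_zero] at hP
    have := hP 1 trivial
    rw [one_smul] at this
    exact hv this
  obtain ⟨m, hm⟩ := Nat.exists_eq_succ_of_ne_zero hn0
  have hnot : ¬ ∀ F ∈ (aug k H) ^ m, F • v = 0 := by
    apply Nat.find_min hex
    rw [← hn₀, hm]
    exact Nat.lt_succ_self m
  push_neg at hnot
  obtain ⟨F, hF, hFv⟩ := hnot
  -- `w = F • v` is killed by the augmentation ideal
  have hw : ∀ g ∈ aug k H, g • (F • v) = 0 := by
    intro g hg
    rw [← mul_smul]
    apply hP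
    rw [hm]
    have := pow_succ' (aug k H) m
    rw [this]
    exact Ideal.mul_mem_mul hg hF
  -- hence `w` is fixed
  have hfix : F • v ∈ HopfRep.fixedPts k H V := by
    change HopfRep.Comod.coact (k := k) (A := H) (F • v) = (F • v) ⊗ₜ[k] (1 : H)
    rw [← sub_eq_zero]
    apply eq_zero_of_slice_eq_zero
    intro ψ
    rw [map_sub, slice_tmul]
    have h3 := hw _ (sub_algebraMap_mem_aug (toConv ψ))
    rw [sub_smul, algebraMap_smul, sub_eq_zero] at h3
    rw [sub_eq_zero]
    exact h3
  intro hbot
  rw [hbot, Submodule.mem_bot] at hfix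
  exact hFv hfix

end General

section Comm

variable {k : Type u} [Field k] {A : Type v} [CommRing A] [Bialgebra k A]
  [Coalgebra.IsCocomm k A]

theorem isUnipotent_of_conil (hc : ∀ x : A, ∃ n : ℕ, x ∈ perp ((aug k A) ^ n)) :
    HopfRep.IsUnipotent k A := by
  intro V _ _ _ _ hnt
  exact exists_fixed_of_conil hc V

end Comm

end

end Groth.Agent.H93.CMM
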