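import Mathlib
import Groth.Agent.H98.Ver.CanonPair
import Groth.Agent.H98.Canon.ToSelf
import Groth.Agent.H81.CanonPieces
import Groth.Agent.H85.GrLCBridge
import Groth.Agent.H85.SegreOneCMC
import Groth.Agent.H98.Canon.StarGV

/-!
# Dimensions of the pieces of a *canonical module (helper93)

Graded Matlis duality in dimension form: for a *canonical module `C` of a positively graded
Noetherian ring `R` with `R_0` a field, `dim (C_j) = dim H^n_m(R)_{-j}`.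
-/

set_option autoImplicit false
set_option linter.unusedSectionVars false
set_option linter.style.haveILetI false

universe u

namespace Groth.Agent.H93.CanonDim

open Groth.Agent.H98.Ver Groth.Agent.H98.GrStar

section Pair

variable {R : Type u} [CommRing R] (𝒜 : ℤ → AddSubgroup R) [GradedRing 𝒜]
variable {H : Type u} [AddCommGroup H] [Module R H] (𝓗 : ℤ → AddSubgroup H)
variable {C : Type u} [AddCommGroup C] [Module R C] (𝒞 : ℤ → AddSubgroup C)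
variable {P : H →+ C →+ R}
variable [SetLike.GradedSMul 𝒜 𝓗] [SetLike.GradedSMul 𝒜 𝒞]

/-- a graded Matlis pairing identifies the dimensions of `H_{-j}` and `C_j` -/
theorem MPair.finrank_eq (hP : MPair 𝒜 𝓗 𝒞 P) (h0 : IsField (GrLC.deg0 𝒜)) (j : ℤ)
    (hfin : letI : Field (GrLC.deg0 𝒜) := h0.toField
      Module.Finite (GrLC.deg0 𝒜) (GrLC.comp 𝒜 𝒞 j)) :
    Module.finrank (GrLC.deg0 𝒜) (GrLC.comp 𝒜 𝒞 j) =
      Module.finrank (GrLC.deg0 𝒜) (GrLC.comp 𝒜 𝓗 (-j)) := by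
  letI : Field (GrLC.deg0 𝒜) := h0.toField
  haveI := hfin
  let p : GrLC.comp 𝒜 𝓗 (-j) →ₗ[GrLC.deg0 𝒜] GrLC.comp 𝒜 𝒞 j →ₗ[GrLC.deg0 𝒜] GrLC.deg0 𝒜 :=
    LinearMap.mk₂ (GrLC.deg0 𝒜) (fun h c => ⟨P (h : H) (c : C), hP.val0 _ _⟩)
      (fun h₁ h₂ c => Subtype.ext (by
        change P ((h₁ : H) + (h₂ : H)) (c : C) = P (h₁ : H) (c : C) + P (h₂ : H) (c : C)
        rw [map_add, AddMonoidHom.add_apply]))
      (fun a h c => Subtype.ext (by
        change P ((a : R) • (h : H)) (c : C) = (a : R) * P (h : H) (c : C)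
        exact hP.lin0 _ a.2 _ _))
      (fun h c₁ c₂ => Subtype.ext (by
        change P (h : H) ((c₁ : C) + (c₂ : C)) = P (h : H) (c₁ : C) + P (h : H) (c₂ : C)
        rw [map_add]))
      (fun a h c => Subtype.ext (by
        change P (h : H) ((a : R) • (c : C)) = (a : R) * P (h : H) (c : C)
        rw [← hP.bal]
        exact hP.lin0 _ a.2 _ _))
  have hp : ∀ (h : GrLC.comp 𝒜 𝓗 (-j)) (c : GrLC.comp 𝒜 𝒞 j),
      ((p h c : GrLC.deg0 𝒜) : R) = P (h : H) (c : C) := fun _ _ => rfl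
  have hinj : Function.Injective p := by
    rw [injective_iff_map_eq_zero]
    intro h hh
    apply Subtype.ext
    apply hP.nondegH j _ h.2
    intro c hc
    have := congrArg (fun F => ((F ⟨c, hc⟩ : GrLC.deg0 𝒜) : R)) hh
    simpa [hp] using this
  have hinj' : Function.Injective p.flip := by
    rw [injective_iff_map_eq_zero]
    intro c hc
    apply Subtype.ext
    apply hP.nondegC j _ c.2
    intro h hh
    have := congrArg (fun F => ((F ⟨h, hh⟩ : GrLC.deg0 𝒜) : R)) hc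
    simpa [hp] using this
  haveI : p.IsPerfPair := LinearMap.IsPerfPair.of_injective' hinj hinj'
  haveI : p.flip.IsPerfPair := LinearMap.IsPerfPair.flip inferInstance
  exact Module.finrank_of_isPerfPair (p := p.flip)

end Pair

section Canon

variable {R : Type u} [CommRing R] [IsNoetherianRing R] (𝒜 : ℤ → AddSubgroup R) [GradedRing 𝒜]
  (hpos : ∀ n : ℤ, n < 0 → 𝒜 n = ⊥) (h0 : IsField (GrLC.deg0 𝒜))
  {m : HomogeneousIdeal 𝒜} (hm : GrLC.IsStarLocal 𝒜 m)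
  (hmsp : m.toIdeal = Ideal.span (⋃ n ∈ Set.Ioi (0 : ℤ), (𝒜 n : Set R)))
variable {E' : Type u} [AddCommGroup E'] [Module R E'] (𝓔 : ℤ → AddSubgroup E')
  [DirectSum.Decomposition 𝓔] [SetLike.GradedSMul 𝒜 𝓔]
  (e : (R ⧸ m.toIdeal) →ₗ[R] E') (he : GrLC.IsStarInjHull 𝒜 (GrLC.quotGr 𝒜 m) 𝓔 e)
variable {C : Type u} [AddCommGroup C] [Module R C] (𝒞 : ℤ → AddSubgroup C)
  [DirectSum.Decomposition 𝒞] [SetLike.GradedSMul 𝒜 𝒞]

include hpos h0 hm hmsp he in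
/-- **graded Matlis duality, dimension form**: `dim C_j = dim H^n_m(R)_{-j}` for a *canonical
module `C` -/
theorem finrank_comp_canonical (n : ℕ) (I : GrLC.StarInjRes 𝒜 𝒜)
    (hC : GrLC.IsStarCanonical 𝒜 𝒞 𝓔 m n I) (j : ℤ) :
    Module.finrank (GrLC.deg0 𝒜) (GrLC.comp 𝒜 𝒞 j) =
      Module.finrank (GrLC.deg0 𝒜) (I.Hcomp m n (-j)) := by
  classical
  letI decH : DirectSum.Decomposition (I.Hgr m n) :=
    (Groth.Agent.H98.GrStar.Hgr_isInternal 𝒜 𝒜 I m n).chooseDecomposition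
  haveI : SetLike.GradedSMul 𝒜 (I.Hgr m n) := ⟨fun {d k r z} hr hz => by
    have := Groth.Agent.H98.GrStar.smul_mem_Hgr I m hr n z hz
    rwa [← vadd_eq_add] at this⟩
  obtain ⟨hCfin, Φ, hΦ⟩ := hC
  haveI := hCfin
  obtain ⟨P, hP⟩ := Groth.Agent.H98.Ver.exists_mpair 𝒜 hpos h0 hm hmsp 𝓔 e he 𝒞 (I.Hgr m n) Φ hΦ
  have h1 := MPair.finrank_eq 𝒜 (I.Hgr m n) 𝒞 hP h0 j
    (Groth.Agent.H81.CanonPieces.finite_comp 𝒜 hpos h0 𝒞 j)
  rw [h1]
  rfl

end Canon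

section Sub

open Groth.Agent.H98.Canon

variable {k : Type u} [Field k] {R : Type u} [CommRing R] [Nontrivial R] [Algebra k R]
  (𝒜 : ℤ → Submodule k R) [GradedAlgebra 𝒜] (hpos : ∀ n : ℤ, n < 0 → 𝒜 n = ⊥)
  (h0 : 𝒜 0 = Submodule.span k {(1 : R)}) [Algebra.FiniteType k R]
  (m : HomogeneousIdeal 𝒜)
  (hmsp : m.toIdeal = Ideal.span (⋃ n ∈ Set.Ioi (0 : ℤ), (𝒜 n : Set R)))
variable {E' : Type u} [AddCommGroup E'] [Module R E'] (𝓔 : ℤ → AddSubgroup E')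
  [DirectSum.Decomposition 𝓔] [SetLike.GradedSMul 𝒜 𝓔]
  (e : (R ⧸ m.toIdeal) →ₗ[R] E') (he : GrLC.IsStarInjHull 𝒜 (GrLC.quotGr 𝒜 m) 𝓔 e)
variable {C : Type u} [AddCommGroup C] [Module R C] (𝒞 : ℤ → AddSubgroup C)
  [DirectSum.Decomposition 𝒞] [SetLike.GradedSMul 𝒜 𝒞]

include hpos h0 hmsp in
theorem isStarLocal_toSelf_of_span :
    GrLC.IsStarLocal (Groth.Agent.H98.GrStar.selfGr 𝒜) (toSelfIdeal 𝒜 m) := by
  have hpos' := Groth.Agent.H85.SegreOneCM.selfGr_neg 𝒜 hpos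
  have h0' := Groth.Agent.H85.SegreOneCM.isField_deg0_selfGr 𝒜 h0
  have hm' := Groth.Agent.H85.GrLCBridge.isStarLocal_irrH (Groth.Agent.H98.GrStar.selfGr 𝒜)
    hpos' h0'
  have : toSelfIdeal 𝒜 m = Groth.Agent.H85.GrLCBridge.irrH (Groth.Agent.H98.GrStar.selfGr 𝒜) := by
    apply HomogeneousIdeal.toIdeal_injective
    exact hmsp
  rw [this]
  exact hm'

include hpos h0 hmsp he in
/-- **graded Matlis duality, dimension form**, for a ring graded by `k`-subspaces: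
`dim C_j = dim H^n_m(R)_{-j}` for a *canonical module `C` -/
theorem finrank_comp_canonical_sub (n : ℕ) (I : GrLC.StarInjRes 𝒜 𝒜)
    (hC : GrLC.IsStarCanonical 𝒜 𝒞 𝓔 m n I) (j : ℤ) :
    Module.finrank (GrLC.deg0 𝒜) (GrLC.comp 𝒜 𝒞 j) =
      Module.finrank (GrLC.deg0 𝒜) (I.Hcomp m n (-j)) := by
  haveI : IsNoetherianRing R := Algebra.FiniteType.isNoetherianRing k R
  have hpos' := Groth.Agent.H85.SegreOneCM.selfGr_neg 𝒜 hpos
  have h0' := Groth.Agent.H85.SegreOneCM.isField_deg0_selfGr 𝒜 h0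
  haveI : SetLike.GradedSMul (Groth.Agent.H98.GrStar.selfGr 𝒜) 𝓔 := gradedSMul_toSelf 𝒜 𝓔
  haveI : SetLike.GradedSMul (Groth.Agent.H98.GrStar.selfGr 𝒜) 𝒞 := gradedSMul_toSelf 𝒜 𝒞
  have hm' := isStarLocal_toSelf_of_span 𝒜 hpos h0 m hmsp
  have he' := isStarInjHull_toSelf 𝒜 m 𝓔 e he
  have hC' := isStarCanonical_toSelf 𝒜 m 𝓔 𝒞 n I hC
  exact finrank_comp_canonical (Groth.Agent.H98.GrStar.selfGr 𝒜) hpos' h0' hm' hmsp 𝓔 e he' 𝒞 n
    (resToSelf 𝒜 I) hC' j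

end Sub

section GV

open Groth.Agent.H98.Canon

variable {k : Type u} [Field k] {R : Type u} [CommRing R] [Nontrivial R] [Algebra k R]
  (𝒜 : ℤ → Submodule k R) [GradedAlgebra 𝒜] (hpos : ∀ n : ℤ, n < 0 → 𝒜 n = ⊥)
  (h0 : 𝒜 0 = Submodule.span k {(1 : R)}) [Algebra.FiniteType k R]
  (m : HomogeneousIdeal 𝒜)
  (hmsp : m.toIdeal = Ideal.span (⋃ n ∈ Set.Ioi (0 : ℤ), (𝒜 n : Set R)))

include hpos h0 hmsp in
/-- **Grothendieck vanishing**, graded form for a ring graded by `k`-subspaces: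
`H^i_m(R)_d = 0` for `i > dim R`. -/
theorem Hcomp_eq_bot_of_dim_lt (r : ℕ) (hr : ringKrullDim R = r) (I : GrLC.StarInjRes 𝒜 𝒜)
    (i : ℕ) (hi : r < i) (d : ℤ) : I.Hcomp m i d = ⊥ := by
  haveI : IsNoetherianRing R := Algebra.FiniteType.isNoetherianRing k R
  have hpos' := Groth.Agent.H85.SegreOneCM.selfGr_neg 𝒜 hpos
  have hm' := isStarLocal_toSelf_of_span 𝒜 hpos h0 m hmsp
  haveI hmax : (toSelfIdeal 𝒜 m).toIdeal.IsMaximal :=
    Groth.Agent.H98.GrHt.isMaximal_of_isStarLocal (Groth.Agent.H98.GrStar.selfGr 𝒜) hpos' hm'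
  haveI : (toSelfIdeal 𝒜 m).toIdeal.IsPrime := hmax.isPrime
  have hht : (toSelfIdeal 𝒜 m).toIdeal.height = r := by
    have h1 := Groth.Agent.H98.GrHt.height_eq_ringKrullDim_of_isStarLocal
      (Groth.Agent.H98.GrStar.selfGr 𝒜) hpos' hm'
    rw [hr] at h1
    exact_mod_cast h1
  have hsub : Subsingleton ((resToSelf 𝒜 I).H (toSelfIdeal 𝒜 m) i) :=
    H_subsingleton_of_height_lt (Groth.Agent.H98.GrStar.selfGr 𝒜) hm' (resToSelf 𝒜 I) r hht i hi
  have hsub' : Subsingleton (I.H m i) := hsub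
  rw [eq_bot_iff]
  intro x _
  rw [Submodule.mem_bot]
  exact Subsingleton.elim _ _

end GV

end Groth.Agent.H93.CanonDim
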