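import Mathlib

/-!
# Divided power polynomial algebras: abstract data and basic facts

`Datum R ι P`: `P` is a commutative `R`-algebra with elements `x i n` ("`X_i^[n]`") satisfying
`x i 0 = 1`, `x i n * x i m = C(n+m,n) x i (n+m)` and such that the monomials
`∏ x i (e i)` form an `R`-basis.
-/

set_option autoImplicit false

namespace Groth.Agent.H93.DPModel

open Finset

section Multi

variable {ι : Type*}

/-- multi-factorial -/
noncomputable def mfact (e : ι →₀ ℕ) : ℕ := e.prod fun _ k => k.factorial

lemma mfact_ne_zero (e : ι →₀ ℕ) : mfact e ≠ 0 :=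
  Finset.prod_ne_zero_iff.mpr (fun _ _ => Nat.factorial_ne_zero _)

open Classical in
/-- multi-binomial coefficient -/
noncomputable def mchoose (e e' : ι →₀ ℕ) : ℕ :=
  ∏ i ∈ e.support ∪ e'.support, (e i + e' i).choose (e i)

lemma mfact_zero : mfact (0 : ι →₀ ℕ) = 1 := by
  simp [mfact]

lemma mfact_single (i : ι) (n : ℕ) : mfact (Finsupp.single i n) = n.factorial := by
  unfold mfact
  rw [Finsupp.prod_single_index]
  exact Nat.factorial_zero

lemma mfact_add (e e' : ι →₀ ℕ) : mfact (e + e') = mchoose e e' * (mfact e * mfact e') := by
  classical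
  have h1 : mfact (e + e') = ∏ i ∈ e.support ∪ e'.support, (e i + e' i).factorial := by
    unfold mfact
    rw [Finsupp.prod_of_support_subset _ Finsupp.support_add _ (fun _ _ => Nat.factorial_zero)]
    rfl
  have h2 : mfact e = ∏ i ∈ e.support ∪ e'.support, (e i).factorial := by
    unfold mfact
    rw [Finsupp.prod_of_support_subset _ Finset.subset_union_left _ (fun _ _ => Nat.factorial_zero)]
  have h3 : mfact e' = ∏ i ∈ e.support ∪ e'.support, (e' i).factorial := by
    unfold mfact
    rw [Finsupp.prod_of_support_subset _ Finset.subset_union_right _ (fun _ _ => Nat.factorial_zero)]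
  rw [h1, h2, h3, mchoose, ← Finset.prod_mul_distrib, ← Finset.prod_mul_distrib]
  refine Finset.prod_congr rfl fun i _ => ?_
  rw [← mul_assoc, Nat.choose_symm_add]
  exact (Nat.add_choose_mul_factorial_mul_factorial (e i) (e' i)).symm

lemma mchoose_single (i : ι) (n m : ℕ) :
    mchoose (Finsupp.single i n) (Finsupp.single i m) = (n + m).choose n := by
  classical
  have h := mfact_add (Finsupp.single i n) (Finsupp.single i m)
  rw [← Finsupp.single_add, mfact_single, mfact_single, mfact_single] at h
  have h2 := Nat.add_choose_mul_factorial_mul_factorial n m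
  rw [← Nat.choose_symm_add] at h2
  have hpos : 0 < n.factorial * m.factorial := Nat.mul_pos n.factorial_pos m.factorial_pos
  apply Nat.eq_of_mul_eq_mul_right hpos
  rw [← h, ← h2, mul_assoc]

end Multi

/-- Abstract presentation of a divided power polynomial algebra. -/
structure Datum (R : Type*) [CommRing R] (ι : Type*) (P : Type*) [CommRing P] [Algebra R P] where
  x : ι → ℕ → P
  x_zero : ∀ i, x i 0 = 1
  x_mul : ∀ i n m, x i n * x i m = ((n + m).choose n : P) * x i (n + m)
  b : Module.Basis (ι →₀ ℕ) R P
  b_eq : ∀ e : ι →₀ ℕ, b e = e.prod (fun i k => x i k)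

namespace Datum

variable {R : Type*} [CommRing R] {ι : Type*} {P : Type*} [CommRing P] [Algebra R P]
  (D : Datum R ι P)

/-- The augmentation ideal. -/
def aug : Ideal P := Ideal.span {y : P | ∃ (i : ι) (n : ℕ), 1 ≤ n ∧ y = D.x i n}

lemma b_zero : D.b 0 = 1 := by
  rw [D.b_eq]; simp

lemma b_single (i : ι) (n : ℕ) : D.b (Finsupp.single i n) = D.x i n := by
  rw [D.b_eq, Finsupp.prod_single_index (D.x_zero i)]

lemma b_mul (e e' : ι →₀ ℕ) : D.b e * D.b e' = (mchoose e e' : P) * D.b (e + e') := by
  classical
  rw [D.b_eq, D.b_eq, D.b_eq, mchoose]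
  rw [Finsupp.prod_of_support_subset e Finset.subset_union_left _ (fun i _ => D.x_zero i),
    Finsupp.prod_of_support_subset e' Finset.subset_union_right _ (fun i _ => D.x_zero i),
    Finsupp.prod_of_support_subset (e + e') Finsupp.support_add _ (fun i _ => D.x_zero i),
    Nat.cast_prod, ← Finset.prod_mul_distrib, ← Finset.prod_mul_distrib]
  refine Finset.prod_congr rfl fun i _ => ?_
  rw [D.x_mul]
  rfl

lemma x_mem_aug (i : ι) {n : ℕ} (hn : 1 ≤ n) : D.x i n ∈ D.aug :=
  Ideal.subset_span ⟨i, n, hn, rfl⟩

lemma b_mem_aug {e : ι →₀ ℕ} (he : e ≠ 0) : D.b e ∈ D.aug := by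
  classical
  obtain ⟨i, hi⟩ : ∃ i, e i ≠ 0 := by
    by_contra h
    push_neg at h
    exact he (Finsupp.ext h)
  rw [D.b_eq, Finsupp.prod, ← Finset.mul_prod_erase _ _ (Finsupp.mem_support_iff.mpr hi)]
  exact Ideal.mul_mem_right _ _ (D.x_mem_aug i (Nat.one_le_iff_ne_zero.mpr hi))

/-- The augmentation ideal consists of the elements with zero constant coordinate. -/
lemma mem_aug_iff (y : P) : y ∈ D.aug ↔ D.b.repr y 0 = 0 := by
  classical
  constructor
  · intro hy
    -- the set of elements with vanishing constant coordinate is an ideal containing the generators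
    let K : Ideal P :=
      { carrier := {y | D.b.repr y 0 = 0}
        add_mem' := by
          intro a c ha hc
          simp only [Set.mem_setOf_eq] at ha hc ⊢
          rw [map_add, Finsupp.add_apply, ha, hc, add_zero]
        zero_mem' := by simp
        smul_mem' := by
          intro c a ha
          simp only [Set.mem_setOf_eq, smul_eq_mul] at ha ⊢
          -- expand `c` and `a` in the basis
          rw [← D.b.linearCombination_repr c, ← D.b.linearCombination_repr a,
            Finsupp.linearCombination_apply, Finsupp.linearCombination_apply, Finsupp.sum,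
            Finsupp.sum, Finset.sum_mul_sum, map_sum, Finsupp.finset_sum_apply]
          refine Finset.sum_eq_zero fun e _ => ?_
          rw [map_sum, Finsupp.finset_sum_apply]
          refine Finset.sum_eq_zero fun e' he' => ?_
          rw [smul_mul_smul_comm, D.b_mul, ← nsmul_eq_mul, map_smul, map_nsmul,
            Finsupp.smul_apply, Finsupp.smul_apply, D.b.repr_self]
          by_cases h0 : e + e' = 0
          · have he0 : e' = 0 := by
              ext i
              have := congrArg (fun f => f i) h0
              simp only [Finsupp.add_apply, Finsupp.coe_zero, Pi.zero_apply] at this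
              simpa using (Nat.add_eq_zero_iff.mp this).2
            rw [he0, ha]
            simp
          · rw [Finsupp.single_apply, if_neg h0]
            simp }
    have hle : D.aug ≤ K := by
      rw [aug, Ideal.span_le]
      rintro _ ⟨i, n, hn, rfl⟩
      change D.b.repr (D.x i n) 0 = 0
      rw [← D.b_single, D.b.repr_self, Finsupp.single_apply, if_neg]
      intro h
      have := congrArg (fun f => f i) h
      simp only [Finsupp.single_eq_same, Finsupp.coe_zero, Pi.zero_apply] at this
      omega
    exact hle hy
  · intro hy
    rw [← D.b.linearCombination_repr y, Finsupp.linearCombination_apply, Finsupp.sum]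
    refine Ideal.sum_mem _ fun e _ => ?_
    by_cases he : e = 0
    · rw [he, hy, zero_smul]
      exact Ideal.zero_mem _
    · rw [Algebra.smul_def]
      exact Ideal.mul_mem_left _ _ (D.b_mem_aug he)

lemma x_one_pow (i : ι) (n : ℕ) : D.x i 1 ^ n = (n.factorial : P) * D.x i n := by
  induction n with
  | zero => simp [D.x_zero]
  | succ n ih =>
    rw [pow_succ, ih, mul_assoc, D.x_mul, Nat.choose_symm_add, Nat.choose_one_right,
      Nat.factorial_succ]
    push_cast
    ring

lemma x_pow (i : ι) (n m : ℕ) (hn : n ≠ 0) :
    D.x i n ^ m = ((m.factorial * Nat.uniformBell m n : ℕ) : P) * D.x i (m * n) := by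
  induction m with
  | zero => simp [D.x_zero, Nat.uniformBell_zero_left]
  | succ m ih =>
    rw [pow_succ, ih, mul_assoc, D.x_mul]
    have key : m.factorial * Nat.uniformBell m n * (m * n + n).choose (m * n) =
        (m + 1).factorial * Nat.uniformBell (m + 1) n := by
      have h1 := Nat.uniformBell_mul_eq m hn
      have h2 := Nat.uniformBell_mul_eq (m + 1) hn
      have h3 := Nat.add_choose_mul_factorial_mul_factorial (m * n) n
      rw [← Nat.choose_symm_add] at h3
      have hpos : 0 < n.factorial ^ (m + 1) * (m.factorial) := by positivity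
      apply Nat.eq_of_mul_eq_mul_right hpos
      have e1 : m.factorial * Nat.uniformBell m n * (m * n + n).choose (m * n) *
          (n.factorial ^ (m + 1) * m.factorial) =
          ((m * n + n).choose (m * n) * (m * n).factorial * n.factorial) * m.factorial := by
        rw [← h1]; ring
      have e2 : (m + 1).factorial * Nat.uniformBell (m + 1) n *
          (n.factorial ^ (m + 1) * m.factorial) = ((m + 1) * n).factorial * m.factorial := by
        rw [← h2]; ring
      rw [e1, e2, h3, add_mul, one_mul]
    rw [show (m + 1) * n = m * n + n by ring, ← mul_assoc, ← Nat.cast_mul, key,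
      show m * n + n = (m + 1) * n by ring]

end Datum

end Groth.Agent.H93.DPModel
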