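import Groth.Agent.H93.DPDatum

/-!
# A concrete model of the divided power polynomial algebra

`PZ ι ⊆ ℚ[X_i]` is the `ℤ`-span of the monomials `X^e / e!`; `Model R ι = R ⊗[ℤ] PZ ι`.
-/

set_option autoImplicit false

namespace Groth.Agent.H93.DPModel

open MvPolynomial TensorProduct

variable (ι : Type*)

/-- The divided monomials `X^e / e!`. -/
noncomputable def vmon (e : ι →₀ ℕ) : MvPolynomial ι ℚ := monomial e ((mfact e : ℚ)⁻¹)

variable {ι}

lemma vmon_mul (e e' : ι →₀ ℕ) :
    vmon ι e * vmon ι e' = (mchoose e e' : ℤ) • vmon ι (e + e') := by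
  unfold vmon
  rw [monomial_mul, zsmul_eq_mul, Int.cast_natCast, ← C_eq_coe_nat, C_mul_monomial, mfact_add]
  congr 1
  have h1 : (mfact e : ℚ) ≠ 0 := by exact_mod_cast mfact_ne_zero e
  have h2 : (mfact e' : ℚ) ≠ 0 := by exact_mod_cast mfact_ne_zero e'
  have h3 : (mchoose e e' : ℚ) ≠ 0 := by
    have := mfact_ne_zero (e + e')
    rw [mfact_add] at this
    exact_mod_cast (mul_ne_zero_iff.mp this).1
  push_cast
  field_simp

lemma vmon_zero : vmon ι (0 : ι →₀ ℕ) = 1 := by
  unfold vmon
  rw [mfact_zero]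
  simp

variable (ι)

/-- The `ℤ`-linear parametrization of the span of the divided monomials. -/
noncomputable def Phi : ((ι →₀ ℕ) →₀ ℤ) →ₗ[ℤ] MvPolynomial ι ℚ :=
  Finsupp.linearCombination ℤ (vmon ι)

variable {ι}

lemma coeff_Phi (c : (ι →₀ ℕ) →₀ ℤ) (e : ι →₀ ℕ) :
    coeff e (Phi ι c) = (c e : ℚ) * (mfact e : ℚ)⁻¹ := by
  classical
  unfold Phi vmon
  rw [Finsupp.linearCombination_apply, Finsupp.sum, coeff_sum]
  simp only [coeff_smul, coeff_monomial]
  rw [Finset.sum_eq_single e]
  · rw [if_pos rfl, zsmul_eq_mul]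
  · intro e' _ hne
    rw [if_neg hne, smul_zero]
  · intro h
    rw [Finsupp.notMem_support_iff.mp h, zero_smul]

lemma Phi_injective : Function.Injective (Phi ι) := by
  rw [← LinearMap.ker_eq_bot, LinearMap.ker_eq_bot']
  intro c hc
  ext e
  have h := coeff_Phi c e
  rw [hc, coeff_zero] at h
  have h1 : (mfact e : ℚ)⁻¹ ≠ 0 := inv_ne_zero (by exact_mod_cast mfact_ne_zero e)
  have := (mul_eq_zero.mp h.symm).resolve_right h1
  exact_mod_cast this

lemma linearIndependent_vmon : LinearIndependent ℤ (vmon ι) := Phi_injective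

variable (ι)

/-- The divided power polynomial algebra over `ℤ`, inside `ℚ[X]`. -/
noncomputable def PZ : Subalgebra ℤ (MvPolynomial ι ℚ) :=
  (LinearMap.range (Phi ι)).toSubalgebra
    (by
      refine ⟨Finsupp.single 0 1, ?_⟩
      unfold Phi
      rw [Finsupp.linearCombination_single, one_smul, vmon_zero])
    (by
      intro a c ha hc
      have hspan : LinearMap.range (Phi ι) = Submodule.span ℤ (Set.range (vmon ι)) :=
        Finsupp.range_linearCombination _
      rw [hspan] at ha hc ⊢
      have hmul : Submodule.span ℤ (Set.range (vmon ι)) * Submodule.span ℤ (Set.range (vmon ι)) ≤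
          Submodule.span ℤ (Set.range (vmon ι)) := by
        rw [Submodule.span_mul_span, Submodule.span_le]
        rintro _ ⟨_, ⟨e, rfl⟩, _, ⟨e', rfl⟩, rfl⟩
        change vmon ι e * vmon ι e' ∈ _
        rw [vmon_mul]
        exact Submodule.smul_mem _ _ (Submodule.subset_span ⟨_, rfl⟩)
      exact hmul (Submodule.mul_mem_mul ha hc))

variable {ι}

lemma mem_PZ_iff (f : MvPolynomial ι ℚ) : f ∈ PZ ι ↔ f ∈ LinearMap.range (Phi ι) := Iff.rfl

lemma vmon_mem (e : ι →₀ ℕ) : vmon ι e ∈ PZ ι := by
  rw [mem_PZ_iff]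
  refine ⟨Finsupp.single e 1, ?_⟩
  unfold Phi
  rw [Finsupp.linearCombination_single, one_smul]

variable (ι)

/-- The basis of divided monomials of `PZ`. -/
noncomputable def bZ : Module.Basis (ι →₀ ℕ) ℤ (PZ ι) :=
  Module.Basis.mk (v := fun e => (⟨vmon ι e, vmon_mem e⟩ : PZ ι))
    (by
      refine LinearIndependent.of_comp (PZ ι).val.toLinearMap ?_
      exact linearIndependent_vmon)
    (by
      rintro ⟨y, hy⟩ -
      obtain ⟨c, rfl⟩ := (mem_PZ_iff y).mp hy
      have : (⟨Phi ι c, hy⟩ : PZ ι) = ∑ e ∈ c.support, c e • (⟨vmon ι e, vmon_mem e⟩ : PZ ι) := by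
        apply Subtype.ext
        rw [AddSubmonoidClass.coe_finset_sum]
        change Phi ι c = _
        unfold Phi
        rw [Finsupp.linearCombination_apply, Finsupp.sum]
        rfl
      rw [this]
      exact Submodule.sum_mem _ fun e _ =>
        Submodule.smul_mem _ _ (Submodule.subset_span ⟨e, rfl⟩))

/-- The divided powers of the variables in `PZ`. -/
noncomputable def xZ (i : ι) (n : ℕ) : PZ ι := ⟨vmon ι (Finsupp.single i n), vmon_mem _⟩

variable {ι}

lemma bZ_apply (e : ι →₀ ℕ) : bZ ι e = ⟨vmon ι e, vmon_mem e⟩ := by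
  unfold bZ
  rw [Module.Basis.mk_apply]

lemma xZ_zero (i : ι) : xZ ι i 0 = 1 := by
  apply Subtype.ext
  change vmon ι (Finsupp.single i 0) = 1
  rw [Finsupp.single_zero, vmon_zero]

lemma xZ_mul (i : ι) (n m : ℕ) :
    xZ ι i n * xZ ι i m = ((n + m).choose n : PZ ι) * xZ ι i (n + m) := by
  apply Subtype.ext
  change vmon ι (Finsupp.single i n) * vmon ι (Finsupp.single i m) =
    (((n + m).choose n : PZ ι) : MvPolynomial ι ℚ) * vmon ι (Finsupp.single i (n + m))
  rw [vmon_mul, mchoose_single, ← Finsupp.single_add, zsmul_eq_mul]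
  simp

lemma bZ_eq (e : ι →₀ ℕ) : bZ ι e = e.prod (fun i k => xZ ι i k) := by
  classical
  induction e using Finsupp.induction with
  | zero =>
    rw [Finsupp.prod_zero_index, bZ_apply]
    apply Subtype.ext
    exact vmon_zero
  | single_add i n e hi hn ih =>
    rw [Finsupp.prod_add_index_of_disjoint, Finsupp.prod_single_index (xZ_zero i), ← ih]
    · apply Subtype.ext
      rw [bZ_apply, bZ_apply]
      change vmon ι (Finsupp.single i n + e) = vmon ι (Finsupp.single i n) * vmon ι e
      rw [vmon_mul]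
      have : mchoose (Finsupp.single i n) e = 1 := by
        unfold mchoose
        refine Finset.prod_eq_one fun j _ => ?_
        by_cases hj : j = i
        · subst hj
          rw [Finsupp.notMem_support_iff.mp hi, add_zero, Nat.choose_self]
        · rw [Finsupp.single_eq_of_ne hj, zero_add, Nat.choose_zero_right]
      rw [this]
      simp
    · rw [Finset.disjoint_left]
      intro j hj hje
      rw [Finsupp.support_single_ne_zero _ hn, Finset.mem_singleton] at hj
      exact hi (hj ▸ hje)

/-- The model of the divided power polynomial algebra over `R`. -/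
abbrev Model (R : Type*) [CommRing R] (ι : Type*) := R ⊗[ℤ] PZ ι

/-- The datum of the model. -/
noncomputable def modelDatum (R : Type*) [CommRing R] (ι : Type*) : Datum R ι (Model R ι) where
  x i n := Algebra.TensorProduct.includeRight (xZ ι i n)
  x_zero i := by rw [xZ_zero, map_one]
  x_mul i n m := by rw [← map_mul, xZ_mul, map_mul, map_natCast]
  b := Algebra.TensorProduct.basis R (bZ ι)
  b_eq e := by
    rw [Algebra.TensorProduct.basis_apply, bZ_eq, ← Algebra.TensorProduct.includeRight_apply,
      map_finsuppProd]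

end Groth.Agent.H93.DPModel
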