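import Mathlib

/-!
# Numerical identities between binomial coefficients and uniform Bell numbers
-/

set_option autoImplicit false

namespace Groth.Agent.H93.DPNum

open Nat

/-- `uniformBell m n` as a rational number. -/
lemma uB_cast (m : ℕ) {n : ℕ} (hn : n ≠ 0) :
    (Nat.uniformBell m n : ℚ) = ((m * n)! : ℚ) / ((n ! : ℚ) ^ m * (m ! : ℚ)) := by
  have h := Nat.uniformBell_mul_eq m hn
  have h' : (Nat.uniformBell m n : ℚ) * (n ! : ℚ) ^ m * (m ! : ℚ) = ((m * n)! : ℚ) := by
    exact_mod_cast h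
  have h1 : ((n ! : ℚ) ^ m * (m ! : ℚ)) ≠ 0 := by positivity
  rw [eq_div_iff h1, ← h']
  ring

lemma fact_ne (n : ℕ) : ((n ! : ℕ) : ℚ) ≠ 0 := by positivity

/-- `p` does not divide `uniformBell m p`. -/
lemma not_dvd_uB {p : ℕ} (hp : p.Prime) (m : ℕ) : ¬ p ∣ Nat.uniformBell m p := by
  intro hdiv
  haveI : Fact p.Prime := ⟨hp⟩
  rw [Nat.uniformBell_eq, hp.prime.dvd_finsetProd_iff] at hdiv
  obtain ⟨i, _, hi⟩ := hdiv
  have hlucas := Choose.choose_modEq_choose_mod_mul_choose_div_nat
    (n := i * p + p - 1) (k := p - 1) (p := p)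
  have hp1 : 1 ≤ p := hp.one_lt.le
  have e1 : (i * p + p - 1) % p = p - 1 := by
    have : i * p + p - 1 = (p - 1) + p * i := by
      have : i * p + p - 1 = i * p + (p - 1) := Nat.add_sub_assoc hp1 _
      rw [this]; ring
    rw [this, Nat.add_mul_mod_self_left, Nat.mod_eq_of_lt (Nat.sub_lt hp.pos one_pos)]
  have e2 : (i * p + p - 1) / p = i := by
    have : i * p + p - 1 = (p - 1) + p * i := by
      have : i * p + p - 1 = i * p + (p - 1) := Nat.add_sub_assoc hp1 _
      rw [this]; ring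
    rw [this, Nat.add_mul_div_left _ _ hp.pos, Nat.div_eq_of_lt (Nat.sub_lt hp.pos one_pos),
      zero_add]
  have e3 : (p - 1) % p = p - 1 := Nat.mod_eq_of_lt (Nat.sub_lt hp.pos one_pos)
  have e4 : (p - 1) / p = 0 := Nat.div_eq_of_lt (Nat.sub_lt hp.pos one_pos)
  rw [e1, e2, e3, e4, Nat.choose_self, Nat.choose_zero_right, mul_one] at hlucas
  have h0 : (i * p + p - 1).choose (p - 1) ≡ 0 [MOD p] := (Nat.modEq_zero_iff_dvd).mpr hi
  have h10 : 1 ≡ 0 [MOD p] := hlucas.symm.trans h0
  have : p ∣ 1 := (Nat.modEq_zero_iff_dvd).mp h10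
  exact hp.one_lt.ne' (Nat.dvd_one.mp this)

/-- N2 -/
lemma not_dvd_asc {p : ℕ} (hp : p.Prime) (q : ℕ) {r : ℕ} (hr : r < p) :
    ¬ p ∣ (p * q + 1).ascFactorial r := by
  induction r with
  | zero => simpa using hp.one_lt.ne'
  | succ r ih =>
    rw [Nat.ascFactorial_succ]
    intro h
    rcases hp.dvd_mul.mp h with h1 | h1
    · have : p ∣ 1 + r := by
        have h2 : p * q + 1 + r = p * q + (1 + r) := by ring
        rw [h2] at h1
        exact (Nat.dvd_add_right (dvd_mul_right p q)).mp h1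
      have := Nat.le_of_dvd (by omega) this
      omega
    · exact ih (by omega) h1

/-- N3 -/
lemma n3 {p : ℕ} (hp : p.Prime) (q : ℕ) :
    Nat.uniformBell q p * (p * q + 1).ascFactorial (p - 1) * (p * (q + 1)) =
      p ! * (q + 1) * Nat.uniformBell (q + 1) p := by
  rw [Nat.uniformBell_succ_left, Nat.ascFactorial_eq_factorial_mul_choose]
  have h1 : p * q + (p - 1) = q * p + p - 1 := by
    have := hp.one_lt
    rw [mul_comm p q]
    omega
  rw [h1]
  have h2 : p ! = p * (p - 1)! := by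
    have := hp.one_lt
    conv_lhs => rw [show p = (p - 1) + 1 by omega, Nat.factorial_succ]
    rw [show p - 1 + 1 = p by omega]
  rw [h2]
  ring

/-- N4 -/
lemma n4 {p : ℕ} (hp : p.Prime) (a b : ℕ) :
    (a + b).choose a * Nat.uniformBell (a + b) p =
      (p * a + p * b).choose (p * a) * Nat.uniformBell a p * Nat.uniformBell b p := by
  have hp0 : p ≠ 0 := hp.ne_zero
  have : (((a + b).choose a * Nat.uniformBell (a + b) p : ℕ) : ℚ) =
      (((p * a + p * b).choose (p * a) * Nat.uniformBell a p * Nat.uniformBell b p : ℕ) : ℚ) := by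
    push_cast
    rw [uB_cast _ hp0, uB_cast _ hp0, uB_cast _ hp0, Nat.cast_add_choose, Nat.cast_add_choose]
    have e1 : (a + b) * p = p * a + p * b := by ring
    have e2 : a * p = p * a := by ring
    have e3 : b * p = p * b := by ring
    rw [e1, e2, e3]
    have := fact_ne a
    have := fact_ne b
    have := fact_ne p
    have := fact_ne (a + b)
    have := fact_ne (p * a)
    have := fact_ne (p * b)
    field_simp
    ring
  exact_mod_cast this

/-- N5 -/
lemma n5 (n m : ℕ) (hn : 1 ≤ n) :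
    n * (n + m).choose n = (n + m) * (n - 1 + m).choose (n - 1) := by
  obtain ⟨k, rfl⟩ : ∃ k, n = k + 1 := ⟨n - 1, by omega⟩
  have h := Nat.add_one_mul_choose_eq (k + m) k
  rw [show k + 1 - 1 = k by omega, show k + 1 + m = k + m + 1 by ring]
  rw [h]
  ring

/-- N6' -/
lemma n6 {p : ℕ} (hp : p.Prime) (k : ℕ) (hk : k ≠ 0) :
    p ! * Nat.uniformBell p k * (p * k + p).choose (p * k) =
      (k + 1) ^ p * Nat.uniformBell p (k + 1) := by
  have : ((p ! * Nat.uniformBell p k * (p * k + p).choose (p * k) : ℕ) : ℚ) =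
      (((k + 1) ^ p * Nat.uniformBell p (k + 1) : ℕ) : ℚ) := by
    push_cast
    rw [uB_cast _ hk, uB_cast _ (Nat.succ_ne_zero k), Nat.cast_add_choose]
    have e1 : p * (k + 1) = p * k + p := by ring
    rw [e1, Nat.factorial_succ]
    have := fact_ne k
    have := fact_ne p
    have := fact_ne (p * k)
    have hk1 : ((k : ℚ) + 1) ≠ 0 := by positivity
    push_cast
    rw [mul_pow]
    field_simp
  exact_mod_cast this

/-- N7 -/
lemma n7 {p : ℕ} (hp : p.Prime) (k : ℕ) (hk : k ≠ 0) :
    Nat.uniformBell p k * Nat.uniformBell (p * k) p =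
      Nat.uniformBell k p ^ p * Nat.uniformBell p (p * k) := by
  have hp0 : p ≠ 0 := hp.ne_zero
  have hpk : p * k ≠ 0 := Nat.mul_ne_zero hp0 hk
  have : ((Nat.uniformBell p k * Nat.uniformBell (p * k) p : ℕ) : ℚ) =
      ((Nat.uniformBell k p ^ p * Nat.uniformBell p (p * k) : ℕ) : ℚ) := by
    push_cast
    rw [uB_cast _ hk, uB_cast _ hp0, uB_cast _ hp0, uB_cast _ hpk]
    have e1 : k * p = p * k := by ring
    rw [e1]
    have := fact_ne k
    have := fact_ne p
    have := fact_ne (p * k)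
    have := fact_ne (p * k * p)
    have := fact_ne (p * (p * k))
    have e2 : p * k * p = p * (p * k) := by ring
    rw [e2, div_pow, mul_pow, ← pow_mul]
    field_simp
    ring
  exact_mod_cast this

/-- pow constant recursion: `j! uB(j,k) C(jk+k, jk) = (j+1)! uB(j+1,k)` -/
lemma npow (j : ℕ) {k : ℕ} (hk : k ≠ 0) :
    j ! * Nat.uniformBell j k * (j * k + k).choose (j * k) =
      (j + 1)! * Nat.uniformBell (j + 1) k := by
  have h1 := Nat.uniformBell_mul_eq j hk
  have h2 := Nat.uniformBell_mul_eq (j + 1) hk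
  have h3 := Nat.add_choose_mul_factorial_mul_factorial (j * k) k
  rw [← Nat.choose_symm_add] at h3
  have hpos : 0 < k ! ^ (j + 1) * (j !) := by positivity
  apply Nat.eq_of_mul_eq_mul_right hpos
  have e1 : j ! * Nat.uniformBell j k * (j * k + k).choose (j * k) *
      (k ! ^ (j + 1) * j !) =
      ((j * k + k).choose (j * k) * (j * k)! * k !) * j ! := by
    rw [← h1]; ring
  have e2 : (j + 1)! * Nat.uniformBell (j + 1) k *
      (k ! ^ (j + 1) * j !) = ((j + 1) * k)! * j ! := by
    rw [← h2]; ring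
  rw [e1, e2, h3, add_mul, one_mul]

end Groth.Agent.H93.DPNum
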