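import Groth.Agent.H93.DPNum

/-!
# Divided powers from the `p`-th divided power over a `ℤ_(p)`-algebra: the sequence `g n x`
-/

set_option autoImplicit false

namespace Groth.Agent.H93.DPPrime

open Groth.Agent.H93.DPNum

/-- The data of Stacks, Lemma 07GS (second part). -/
structure PData (A : Type*) [CommRing A] (p : ℕ) (I : Ideal A) where
  hp : p.Prime
  hA : ∀ n : ℕ, ¬ p ∣ n → IsUnit (n : A)
  d : A → A
  hdI : ∀ x ∈ I, d x ∈ I
  h1 : ∀ x ∈ I, (p.factorial : A) * d x = x ^ p
  h2 : ∀ (a x : A), x ∈ I → d (a * x) = a ^ p * d x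
  h3 : ∀ x ∈ I, ∀ y ∈ I, d (x + y) = d x + d y +
      ((Finset.HasAntidiagonal.antidiagonal p).filter fun k => 0 < k.1 ∧ 0 < k.2).sum
        fun k => Ring.inverse ((k.1.factorial * k.2.factorial : ℕ) : A) * x ^ k.1 * y ^ k.2

variable {A : Type*} [CommRing A] {p : ℕ} {I : Ideal A}

namespace PData

/-- The candidate divided powers. -/
noncomputable def g (T : PData A p I) : ℕ → A → A
  | 0, _ => 1
  | (n + 1), x =>
    if p ∣ (n + 1) then
      Ring.inverse ((Nat.uniformBell ((n + 1) / p) p : ℕ) : A) * g T ((n + 1) / p) (T.d x)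
    else Ring.inverse ((n + 1 : ℕ) : A) * (x * g T n x)
termination_by n => n
decreasing_by
  · exact Nat.div_lt_self (Nat.succ_pos n) T.hp.one_lt
  · exact Nat.lt_succ_self n

lemma g_zero (T : PData A p I) (x : A) : T.g 0 x = 1 := by
  rw [g]

lemma isUnit_uB (T : PData A p I) (m : ℕ) : IsUnit ((Nat.uniformBell m p : ℕ) : A) :=
  T.hA _ (not_dvd_uB T.hp m)

/-- E1 -/
lemma g_not_dvd (T : PData A p I) {n : ℕ} (hn : ¬ p ∣ n) (x : A) : (n : A) * T.g n x = x * T.g (n - 1) x := by
  obtain ⟨k, rfl⟩ : ∃ k, n = k + 1 := by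
    refine ⟨n - 1, ?_⟩
    have : n ≠ 0 := fun h => hn (h ▸ dvd_zero p)
    omega
  rw [g, if_neg hn, ← mul_assoc, Ring.mul_inverse_cancel _ (T.hA _ hn), one_mul,
    Nat.add_sub_cancel]

/-- E2 -/
lemma g_dvd (T : PData A p I) (m : ℕ) (x : A) :
    ((Nat.uniformBell m p : ℕ) : A) * T.g (p * m) x = T.g m (T.d x) := by
  rcases Nat.eq_zero_or_pos m with rfl | hm
  · rw [Nat.uniformBell_zero_left, mul_zero, g_zero, g_zero]
    simp
  · obtain ⟨k, hk⟩ : ∃ k, p * m = k + 1 := by
      refine ⟨p * m - 1, ?_⟩
      have : 0 < p * m := Nat.mul_pos T.hp.pos hm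
      omega
    have hdvd : p ∣ k + 1 := hk ▸ dvd_mul_right p m
    have hdiv : (k + 1) / p = m := by
      rw [← hk, Nat.mul_div_cancel_left _ T.hp.pos]
    rw [hk, g, if_pos hdvd, hdiv, ← mul_assoc, Ring.mul_inverse_cancel _ (T.isUnit_uB m), one_mul]

lemma g_one (T : PData A p I) (x : A) : T.g 1 x = x := by
  have h := T.g_not_dvd (n := 1) (fun h => T.hp.one_lt.ne' (Nat.dvd_one.mp h)) x
  simpa [g_zero] using h

lemma g_p (T : PData A p I) (x : A) : T.g p x = T.d x := by
  have h := T.g_dvd 1 x
  rw [Nat.uniformBell_one_left, mul_one, g_one] at h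
  simpa using h

/-- L1 -/
lemma g_mem (T : PData A p I) {n : ℕ} (hn : n ≠ 0) {x : A} (hx : x ∈ I) : T.g n x ∈ I := by
  induction n using Nat.strong_induction_on generalizing x with
  | _ n ih =>
    by_cases hpn : p ∣ n
    · obtain ⟨m, rfl⟩ := hpn
      have hm : m ≠ 0 := fun h => hn (by rw [h, mul_zero])
      have hlt : m < p * m := by
        calc m = 1 * m := (one_mul m).symm
          _ < p * m := Nat.mul_lt_mul_of_pos_right T.hp.one_lt (Nat.pos_of_ne_zero hm)
      have h := T.g_dvd m x
      have h2 : T.g (p * m) x = Ring.inverse ((Nat.uniformBell m p : ℕ) : A) * T.g m (T.d x) := by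
        rw [← h, ← mul_assoc, Ring.inverse_mul_cancel _ (T.isUnit_uB m), one_mul]
      rw [h2]
      exact I.mul_mem_left _ (ih m hlt hm (T.hdI x hx))
    · have h := T.g_not_dvd hpn x
      have h2 : T.g n x = Ring.inverse (n : A) * (x * T.g (n - 1) x) := by
        rw [← h, ← mul_assoc, Ring.inverse_mul_cancel _ (T.hA _ hpn), one_mul]
      rw [h2]
      exact I.mul_mem_left _ (I.mul_mem_right _ hx)

/-- Lemma R -/
lemma g_asc (T : PData A p I) (q : ℕ) {r : ℕ} (hr : r < p) (x : A) :
    (((p * q + 1).ascFactorial r : ℕ) : A) * T.g (p * q + r) x = x ^ r * T.g (p * q) x := by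
  induction r with
  | zero => simp
  | succ r ih =>
    have hnd : ¬ p ∣ p * q + (r + 1) := by
      intro h
      have h2 : p ∣ r + 1 := (Nat.dvd_add_right (dvd_mul_right p q)).mp h
      have := Nat.le_of_dvd (by omega) h2
      omega
    have h := T.g_not_dvd hnd x
    rw [show p * q + (r + 1) - 1 = p * q + r by omega] at h
    calc (((p * q + 1).ascFactorial (r + 1) : ℕ) : A) * T.g (p * q + (r + 1)) x
        = (((p * q + 1).ascFactorial r : ℕ) : A) *
            (((p * q + (r + 1) : ℕ) : A) * T.g (p * q + (r + 1)) x) := by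
          rw [Nat.ascFactorial_succ, show p * q + 1 + r = p * q + (r + 1) by ring]
          push_cast
          ring
      _ = (((p * q + 1).ascFactorial r : ℕ) : A) * (x * T.g (p * q + r) x) := by rw [h]
      _ = x * ((((p * q + 1).ascFactorial r : ℕ) : A) * T.g (p * q + r) x) := by ring
      _ = x * (x ^ r * T.g (p * q) x) := by rw [ih (by omega)]
      _ = x ^ (r + 1) * T.g (p * q) x := by ring

/-- X(k) -/
lemma x_mul_g (T : PData A p I) {k : ℕ} (hk : 1 ≤ k) {x : A} (hx : x ∈ I) :
    x * T.g (k - 1) x = (k : A) * T.g k x := by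
  induction k using Nat.strong_induction_on generalizing x with
  | _ k ih =>
    by_cases hpk : p ∣ k
    · obtain ⟨j, rfl⟩ := hpk
      have hj : 1 ≤ j := by
        rcases Nat.eq_zero_or_pos j with rfl | h
        · omega
        · exact h
      obtain ⟨q, rfl⟩ : ∃ q, j = q + 1 := ⟨j - 1, by omega⟩
      have hp1 := T.hp.one_lt
      have hR := T.g_asc q (r := p - 1) (by omega) x
      have hidx : p * q + (p - 1) = p * (q + 1) - 1 := by
        rw [mul_add, mul_one]; omega
      rw [hidx] at hR
      -- the unit to cancel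
      have hu : IsUnit (((Nat.uniformBell q p * (p * q + 1).ascFactorial (p - 1) : ℕ)) : A) := by
        apply T.hA
        intro h
        rcases T.hp.dvd_mul.mp h with h | h
        · exact not_dvd_uB T.hp q h
        · exact not_dvd_asc T.hp q (by omega) h
      apply hu.mul_left_cancel
      have hlt : q + 1 < p * (q + 1) := by
        calc q + 1 = 1 * (q + 1) := (one_mul _).symm
          _ < p * (q + 1) := Nat.mul_lt_mul_of_pos_right hp1 (Nat.succ_pos q)
      have hX := ih (q + 1) hlt (Nat.succ_pos q) (T.hdI x hx)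
      rw [Nat.add_sub_cancel] at hX
      have hE2 := T.g_dvd q x
      have hE2' := T.g_dvd (q + 1) x
      have hn3 := congrArg (fun n : ℕ => (n : A)) (n3 T.hp q)
      simp only [Nat.cast_mul] at hn3
      calc ((Nat.uniformBell q p * (p * q + 1).ascFactorial (p - 1) : ℕ) : A) *
            (x * T.g (p * (q + 1) - 1) x)
          = (Nat.uniformBell q p : A) * (x *
              ((((p * q + 1).ascFactorial (p - 1) : ℕ) : A) * T.g (p * (q + 1) - 1) x)) := by
            push_cast; ring
        _ = (Nat.uniformBell q p : A) * (x * (x ^ (p - 1) * T.g (p * q) x)) := by rw [hR]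
        _ = x ^ p * ((Nat.uniformBell q p : A) * T.g (p * q) x) := by
            have : x ^ p = x * x ^ (p - 1) := by
              rw [← pow_succ', show p - 1 + 1 = p by omega]
            rw [this]; ring
        _ = (p.factorial : A) * (T.d x * T.g q (T.d x)) := by
            rw [hE2, ← T.h1 x hx]; ring
        _ = (p.factorial : A) * (((q + 1 : ℕ) : A) * T.g (q + 1) (T.d x)) := by rw [hX]
        _ = (p.factorial : A) * ((q + 1 : ℕ) : A) * ((Nat.uniformBell (q + 1) p : A) *
              T.g (p * (q + 1)) x) := by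
            rw [hE2']; ring
        _ = ((Nat.uniformBell q p * (p * q + 1).ascFactorial (p - 1) : ℕ) : A) *
              (((p * (q + 1) : ℕ) : A) * T.g (p * (q + 1)) x) := by
            have : (p.factorial : A) * ((q + 1 : ℕ) : A) * (Nat.uniformBell (q + 1) p : A) =
                ((Nat.uniformBell q p * (p * q + 1).ascFactorial (p - 1) : ℕ) : A) *
                  ((p * (q + 1) : ℕ) : A) := by
              rw [← hn3]; push_cast; ring
            rw [← mul_assoc, ← mul_assoc, this]
    · exact (T.g_not_dvd hpk x).symm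

/-- L6: M(n,m) -/
lemma g_mul (T : PData A p I) (n m : ℕ) {x : A} (hx : x ∈ I) :
    T.g n x * T.g m x = ((n + m).choose n : A) * T.g (n + m) x := by
  -- strong induction on `n + m`
  obtain ⟨s, hs⟩ : ∃ s, s = n + m := ⟨_, rfl⟩
  induction s using Nat.strong_induction_on generalizing n m x with
  | _ s ih =>
    -- the step for `p ∤ n`
    have step : ∀ (n m : ℕ), n + m = s → ¬ p ∣ n → ∀ {x : A}, x ∈ I →
        T.g n x * T.g m x = ((n + m).choose n : A) * T.g (n + m) x := by
      intro n m hnm hpn x hx
      have hn1 : 1 ≤ n := by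
        rcases Nat.eq_zero_or_pos n with rfl | h
        · exact absurd (dvd_zero p) hpn
        · exact h
      apply (T.hA _ hpn).mul_left_cancel
      have hIH := ih (n - 1 + m) (by omega) (n - 1) m hx rfl
      have hX := T.x_mul_g (k := n + m) (by omega) hx
      rw [show n + m - 1 = n - 1 + m by omega] at hX
      have hn5 := congrArg (fun n : ℕ => (n : A)) (n5 n m hn1)
      simp only [Nat.cast_mul] at hn5
      calc (n : A) * (T.g n x * T.g m x) = ((n : A) * T.g n x) * T.g m x := by ring
        _ = x * (T.g (n - 1) x * T.g m x) := by rw [T.g_not_dvd hpn]; ring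
        _ = ((n - 1 + m).choose (n - 1) : A) * (x * T.g (n - 1 + m) x) := by rw [hIH]; ring
        _ = ((n - 1 + m).choose (n - 1) : A) * (((n + m : ℕ) : A) * T.g (n + m) x) := by rw [hX]
        _ = (n : A) * (((n + m).choose n : A) * T.g (n + m) x) := by
            rw [← mul_assoc, ← mul_assoc, hn5]; ring
    by_cases hpn : p ∣ n
    · by_cases hpm : p ∣ m
      · obtain ⟨a, rfl⟩ := hpn
        obtain ⟨b, rfl⟩ := hpm
        rcases Nat.eq_zero_or_pos a with rfl | ha
        · simp [g_zero]
        rcases Nat.eq_zero_or_pos b with rfl | hb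
        · simp [g_zero]
        have hu : IsUnit (((Nat.uniformBell a p * Nat.uniformBell b p : ℕ)) : A) := by
          apply T.hA
          intro h
          rcases T.hp.dvd_mul.mp h with h | h
          · exact not_dvd_uB T.hp a h
          · exact not_dvd_uB T.hp b h
        apply hu.mul_left_cancel
        have hp1 := T.hp.one_lt
        have hlt : a + b < s := by
          rw [hs]
          have h1 : a < p * a := by
            calc a = 1 * a := (one_mul a).symm
              _ < p * a := Nat.mul_lt_mul_of_pos_right hp1 ha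
          have h2 : b < p * b := by
            calc b = 1 * b := (one_mul b).symm
              _ < p * b := Nat.mul_lt_mul_of_pos_right hp1 hb
          omega
        have hIH := ih (a + b) hlt a b (T.hdI x hx) rfl
        have hn4 := congrArg (fun n : ℕ => (n : A)) (n4 T.hp a b)
        simp only [Nat.cast_mul] at hn4
        have hE := T.g_dvd (a + b) x
        rw [mul_add] at hE
        calc ((Nat.uniformBell a p * Nat.uniformBell b p : ℕ) : A) *
              (T.g (p * a) x * T.g (p * b) x)
            = ((Nat.uniformBell a p : A) * T.g (p * a) x) *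
                ((Nat.uniformBell b p : A) * T.g (p * b) x) := by push_cast; ring
          _ = T.g a (T.d x) * T.g b (T.d x) := by rw [T.g_dvd, T.g_dvd]
          _ = ((a + b).choose a : A) * T.g (a + b) (T.d x) := hIH
          _ = ((a + b).choose a : A) * ((Nat.uniformBell (a + b) p : A) *
                T.g (p * a + p * b) x) := by rw [hE]
          _ = ((Nat.uniformBell a p * Nat.uniformBell b p : ℕ) : A) *
                (((p * a + p * b).choose (p * a) : A) * T.g (p * a + p * b) x) := by
              rw [← mul_assoc, hn4]; push_cast; ring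
      · have h := step m n (by omega) hpm hx
        rw [mul_comm, h, add_comm m n, Nat.choose_symm_add]
    · exact step n m hs.symm hpn hx

/-- power formula -/
lemma g_pow (T : PData A p I) (j : ℕ) {k : ℕ} (hk : k ≠ 0) {x : A} (hx : x ∈ I) :
    T.g k x ^ j = ((j.factorial * Nat.uniformBell j k : ℕ) : A) * T.g (j * k) x := by
  induction j with
  | zero => simp [g_zero, Nat.uniformBell_zero_left]
  | succ j ih =>
    have hnp := congrArg (fun n : ℕ => (n : A)) (npow j hk)
    simp only [Nat.cast_mul] at hnp
    rw [pow_succ, ih, mul_assoc, T.g_mul _ _ hx, ← mul_assoc, Nat.cast_mul, hnp,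
      show (j + 1) * k = j * k + k by ring]
    push_cast
    ring

/-- L7: compatibility of `d` with `g`. -/
lemma d_g (T : PData A p I) {n : ℕ} (hn : 1 ≤ n) {x : A} (hx : x ∈ I) :
    T.d (T.g n x) = (Nat.uniformBell p n : A) * T.g (p * n) x := by
  induction n using Nat.strong_induction_on generalizing x with
  | _ n ih =>
    have hp1 := T.hp.one_lt
    by_cases hpn : p ∣ n
    · obtain ⟨k, rfl⟩ := hpn
      have hk : k ≠ 0 := by
        rintro rfl
        omega
      have hlt : k < p * k := by
        calc k = 1 * k := (one_mul k).symm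
          _ < p * k := Nat.mul_lt_mul_of_pos_right hp1 (Nat.pos_of_ne_zero hk)
      have hgI : T.g (p * k) x ∈ I := T.g_mem (Nat.mul_ne_zero T.hp.ne_zero hk) hx
      have hu : IsUnit (((Nat.uniformBell k p : ℕ) : A) ^ p) := (T.isUnit_uB k).pow p
      apply hu.mul_left_cancel
      have hIH := ih k hlt (Nat.pos_of_ne_zero hk) (T.hdI x hx)
      have hE := T.g_dvd (p * k) x
      have hn7 := congrArg (fun n : ℕ => (n : A)) (n7 T.hp k hk)
      simp only [Nat.cast_mul, Nat.cast_pow] at hn7
      calc ((Nat.uniformBell k p : ℕ) : A) ^ p * T.d (T.g (p * k) x)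
          = T.d (((Nat.uniformBell k p : ℕ) : A) * T.g (p * k) x) := (T.h2 _ _ hgI).symm
        _ = T.d (T.g k (T.d x)) := by rw [T.g_dvd]
        _ = (Nat.uniformBell p k : A) * T.g (p * k) (T.d x) := hIH
        _ = (Nat.uniformBell p k : A) * ((Nat.uniformBell (p * k) p : A) *
              T.g (p * (p * k)) x) := by rw [hE]
        _ = ((Nat.uniformBell k p : ℕ) : A) ^ p *
              ((Nat.uniformBell p (p * k) : A) * T.g (p * (p * k)) x) := by
            rw [← mul_assoc, hn7]; ring
    · rcases Nat.eq_or_lt_of_le hn with h1 | h1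
      · -- n = 1
        subst h1
        rw [T.g_one, Nat.uniformBell_one_right, mul_one, T.g_p]
        simp
      · obtain ⟨k, rfl⟩ : ∃ k, n = k + 1 := ⟨n - 1, by omega⟩
        have hk : k ≠ 0 := by omega
        have hgI : T.g (k + 1) x ∈ I := T.g_mem (Nat.succ_ne_zero k) hx
        have hu : IsUnit (((k + 1 : ℕ) : A) ^ p) := (T.hA _ hpn).pow p
        apply hu.mul_left_cancel
        have hE1 := T.g_not_dvd hpn x
        rw [Nat.add_sub_cancel] at hE1
        have hn6 := congrArg (fun n : ℕ => (n : A)) (n6 T.hp k hk)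
        simp only [Nat.cast_mul, Nat.cast_pow] at hn6
        have hM := T.g_mul (p * k) p hx
        calc ((k + 1 : ℕ) : A) ^ p * T.d (T.g (k + 1) x)
            = T.d (((k + 1 : ℕ) : A) * T.g (k + 1) x) := (T.h2 _ _ hgI).symm
          _ = T.d (T.g k x * x) := by rw [hE1, mul_comm]
          _ = T.g k x ^ p * T.d x := T.h2 _ _ hx
          _ = ((p.factorial * Nat.uniformBell p k : ℕ) : A) * (T.g (p * k) x * T.g p x) := by
              rw [T.g_pow p hk hx, T.g_p]; ring
          _ = ((p.factorial * Nat.uniformBell p k : ℕ) : A) *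
                (((p * k + p).choose (p * k) : A) * T.g (p * k + p) x) := by rw [hM]
          _ = ((k + 1 : ℕ) : A) ^ p * ((Nat.uniformBell p (k + 1) : A) *
                T.g (p * (k + 1)) x) := by
              rw [← mul_assoc, Nat.cast_mul, hn6, show p * (k + 1) = p * k + p by ring]
              push_cast
              ring

end PData

end Groth.Agent.H93.DPPrime
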