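import Groth.Agent.H93.DPPrime
import Groth.Agent.H93.DPStruct

/-!
# Divided powers from the `p`-th divided power: the quotient construction
-/

set_option autoImplicit false

namespace Groth.Agent.H93.DPPrime

open Groth.Agent.H93.DPModel Groth.Agent.H93.DPNum

universe u

/-- products of a "divided power like" family multiply like divided monomials -/
lemma prod_mul_prod {ι : Type*} {P : Type*} [CommRing P] (y : ι → ℕ → P) (h0 : ∀ i, y i 0 = 1)
    (hmul : ∀ i n m, y i n * y i m = ((n + m).choose n : P) * y i (n + m)) (e e' : ι →₀ ℕ) :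
    e.prod y * e'.prod y = (mchoose e e' : P) * (e + e').prod y := by
  classical
  rw [mchoose]
  rw [Finsupp.prod_of_support_subset e Finset.subset_union_left _ (fun i _ => h0 i),
    Finsupp.prod_of_support_subset e' Finset.subset_union_right _ (fun i _ => h0 i),
    Finsupp.prod_of_support_subset (e + e') Finsupp.support_add _ (fun i _ => h0 i),
    Nat.cast_prod, ← Finset.prod_mul_distrib, ← Finset.prod_mul_distrib]
  refine Finset.prod_congr rfl fun i _ => ?_
  rw [hmul]
  rfl

lemma filter_not_pos (p : ℕ) :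
    (Finset.HasAntidiagonal.antidiagonal p).filter (fun k => ¬ (0 < k.1 ∧ 0 < k.2)) =
      {(0, p), (p, 0)} := by
  ext ⟨a, b⟩
  simp only [Finset.mem_filter, Finset.HasAntidiagonal.mem_antidiagonal, Finset.mem_insert,
    Finset.mem_singleton, Prod.mk.injEq]
  omega

variable {A : Type u} [CommRing A] {p : ℕ} {I : Ideal A}

namespace PData

/-- The datum of the divided power polynomial algebra on variables indexed by `I`. -/
noncomputable def Dm (_T : PData A p I) : Datum A I (Model A I) := modelDatum A I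

/-- images of the divided monomials -/
noncomputable def t (T : PData A p I) (e : I →₀ ℕ) : A := e.prod fun i k => T.g k (i : A)

lemma t_mul (T : PData A p I) (e e' : I →₀ ℕ) :
    T.t e * T.t e' = (mchoose e e' : A) * T.t (e + e') := by
  unfold t
  exact prod_mul_prod (fun (i : I) k => T.g k (i : A)) (fun i => T.g_zero _)
    (fun i n m => T.g_mul n m i.2) e e'

/-- the linear map underlying `phi` -/
noncomputable def phiL (T : PData A p I) : Model A I →ₗ[A] A := T.Dm.b.constr ℕ T.t

lemma phiL_b (T : PData A p I) (e : I →₀ ℕ) : T.phiL (T.Dm.b e) = T.t e :=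
  T.Dm.b.constr_basis ℕ _ e

lemma phiL_mul (T : PData A p I) (y y' : Model A I) :
    T.phiL (y * y') = T.phiL y * T.phiL y' := by
  have h : (LinearMap.mul A (Model A I)).compr₂ T.phiL =
      (LinearMap.mul A A).compl₁₂ T.phiL T.phiL := by
    refine T.Dm.b.ext fun e => T.Dm.b.ext fun e' => ?_
    simp only [LinearMap.compr₂_apply, LinearMap.mul_apply', LinearMap.compl₁₂_apply]
    rw [T.Dm.b_mul, ← nsmul_eq_mul, map_nsmul, phiL_b, phiL_b, phiL_b, t_mul, nsmul_eq_mul]
  exact LinearMap.congr_fun₂ h y y'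

lemma phiL_one (T : PData A p I) : T.phiL 1 = 1 := by
  rw [← T.Dm.b_zero, phiL_b]
  simp [t]

/-- The `A`-algebra map from the divided power polynomial algebra to `A`. -/
noncomputable def phi (T : PData A p I) : Model A I →ₐ[A] A :=
  AlgHom.ofLinearMap T.phiL T.phiL_one T.phiL_mul

lemma phi_b (T : PData A p I) (e : I →₀ ℕ) : T.phi (T.Dm.b e) = T.t e := T.phiL_b e

lemma phi_x (T : PData A p I) (i : I) (n : ℕ) : T.phi (T.Dm.x i n) = T.g n (i : A) := by
  rw [← T.Dm.b_single, phi_b, t,
    Finsupp.prod_single_index (h := fun (i : I) k => T.g k (i : A)) (T.g_zero _)]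

lemma phi_surj (T : PData A p I) : Function.Surjective T.phi := by
  intro a
  exact ⟨algebraMap A _ a, by rw [AlgHom.commutes]; rfl⟩

lemma map_aug (T : PData A p I) : I = T.Dm.aug.map (T.phi : Model A I →+* A) := by
  unfold Datum.aug
  rw [Ideal.map_span]
  apply le_antisymm
  · intro x hx
    refine Ideal.subset_span ⟨T.Dm.x ⟨x, hx⟩ 1, ⟨⟨x, hx⟩, 1, le_rfl, rfl⟩, ?_⟩
    change T.phi (T.Dm.x ⟨x, hx⟩ 1) = x
    rw [phi_x, T.g_one]
  · rw [Ideal.span_le]
    rintro _ ⟨_, ⟨i, n, hn, rfl⟩, rfl⟩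
    change T.phi (T.Dm.x i n) ∈ I
    rw [phi_x]
    exact T.g_mem (by omega) i.2

lemma phi_mem (T : PData A p I) {f : Model A I} (hf : f ∈ T.Dm.aug) : T.phi f ∈ I := by
  have h : T.phi f ∈ T.Dm.aug.map (T.phi : Model A I →+* A) := Ideal.mem_map_of_mem _ hf
  exact T.map_aug.symm.le h

lemma d_zero (T : PData A p I) : T.d 0 = 0 := by
  have h := T.h2 0 0 I.zero_mem
  rw [mul_zero, zero_pow T.hp.ne_zero, zero_mul] at h
  exact h

/-- compatibility of `phi` with the `p`-th divided power -/
lemma phi_dpow_p (T : PData A p I) {f : Model A I} (hf : f ∈ T.Dm.aug) :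
    T.phi (T.Dm.dp.dpow p f) = T.d (T.phi f) := by
  classical
  have hp0 : p ≠ 0 := T.hp.ne_zero
  unfold Datum.aug at hf
  induction hf using Submodule.span_induction with
  | mem y hy =>
    obtain ⟨i, n, hn, rfl⟩ := hy
    rw [T.Dm.dp_x' i n p (by omega), map_mul, map_natCast, phi_x, phi_x, T.d_g hn i.2]
  | zero =>
    rw [T.Dm.dp.dpow_eval_zero hp0, map_zero, T.d_zero]
  | add y z hy hz ihy ihz =>
    have hy' : y ∈ T.Dm.aug := hy
    have hz' : z ∈ T.Dm.aug := hz
    rw [T.Dm.dp.dpow_add hy' hz', map_sum, map_add, T.h3 _ (T.phi_mem hy') _ (T.phi_mem hz')]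
    rw [← Finset.sum_filter_add_sum_filter_not (Finset.HasAntidiagonal.antidiagonal p)
      (fun k => 0 < k.1 ∧ 0 < k.2), filter_not_pos]
    have hne : ((0 : ℕ), p) ≠ (p, 0) := by
      intro h
      exact hp0 (Prod.ext_iff.mp h).1.symm
    rw [Finset.sum_pair hne]
    simp only [map_mul]
    rw [T.Dm.dp.dpow_zero hy', T.Dm.dp.dpow_zero hz', map_one, one_mul, mul_one, ihy, ihz]
    have hsum : ∑ k ∈ (Finset.HasAntidiagonal.antidiagonal p).filter (fun k => 0 < k.1 ∧ 0 < k.2),
          T.phi (T.Dm.dp.dpow k.1 y) * T.phi (T.Dm.dp.dpow k.2 z) =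
        ∑ k ∈ (Finset.HasAntidiagonal.antidiagonal p).filter (fun k => 0 < k.1 ∧ 0 < k.2),
          Ring.inverse ((k.1.factorial * k.2.factorial : ℕ) : A) * T.phi y ^ k.1 *
            T.phi z ^ k.2 := by
      refine Finset.sum_congr rfl fun k hk => ?_
      rw [Finset.mem_filter, Finset.HasAntidiagonal.mem_antidiagonal] at hk
      obtain ⟨hk, hk1, hk2⟩ := hk
      have hu : IsUnit ((k.1.factorial * k.2.factorial : ℕ) : A) := by
        apply T.hA
        intro h
        rcases T.hp.dvd_mul.mp h with h | h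
        · exact absurd ((T.hp.dvd_factorial).mp h) (by omega)
        · exact absurd ((T.hp.dvd_factorial).mp h) (by omega)
      have e1 : (k.1.factorial : A) * T.phi (T.Dm.dp.dpow k.1 y) = T.phi y ^ k.1 := by
        rw [← map_natCast T.phi, ← map_mul, T.Dm.dp.factorial_mul_dpow_eq_pow hy', map_pow]
      have e2 : (k.2.factorial : A) * T.phi (T.Dm.dp.dpow k.2 z) = T.phi z ^ k.2 := by
        rw [← map_natCast T.phi, ← map_mul, T.Dm.dp.factorial_mul_dpow_eq_pow hz', map_pow]
      apply hu.mul_left_cancel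
      rw [mul_assoc (Ring.inverse _), Ring.mul_inverse_cancel_left _ _ hu, ← e1, ← e2]
      push_cast
      ring
    rw [hsum]
    ring
  | smul a y hy ihy =>
    have hy' : y ∈ T.Dm.aug := hy
    rw [smul_eq_mul, T.Dm.dp.dpow_mul hy', map_mul, map_mul, map_pow, ihy,
      T.h2 _ _ (T.phi_mem hy')]

/-- compatibility of `phi` with all divided powers -/
lemma phi_dpow (T : PData A p I) (n : ℕ) {f : Model A I} (hf : f ∈ T.Dm.aug) :
    T.phi (T.Dm.dp.dpow n f) = T.g n (T.phi f) := by
  induction n using Nat.strong_induction_on generalizing f with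
  | _ n ih =>
    rcases Nat.eq_zero_or_pos n with rfl | hn
    · rw [T.Dm.dp.dpow_zero hf, map_one, T.g_zero]
    by_cases hpn : p ∣ n
    · obtain ⟨m, rfl⟩ := hpn
      have hm : 0 < m := Nat.pos_of_mul_pos_left hn
      have hlt : m < p * m := by
        calc m = 1 * m := (one_mul m).symm
          _ < p * m := Nat.mul_lt_mul_of_pos_right T.hp.one_lt hm
      apply (T.isUnit_uB m).mul_left_cancel
      have hc := T.Dm.dp.dpow_comp (m := m) T.hp.ne_zero hf
      rw [mul_comm m p] at hc
      calc ((Nat.uniformBell m p : ℕ) : A) * T.phi (T.Dm.dp.dpow (p * m) f)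
          = T.phi (((Nat.uniformBell m p : ℕ) : Model A I) * T.Dm.dp.dpow (p * m) f) := by
            rw [map_mul, map_natCast]
        _ = T.phi (T.Dm.dp.dpow m (T.Dm.dp.dpow p f)) := by rw [hc]
        _ = T.g m (T.phi (T.Dm.dp.dpow p f)) := ih m hlt (T.Dm.dp.dpow_mem T.hp.ne_zero hf)
        _ = T.g m (T.d (T.phi f)) := by rw [T.phi_dpow_p hf]
        _ = ((Nat.uniformBell m p : ℕ) : A) * T.g (p * m) (T.phi f) := (T.g_dvd m _).symm
    · apply (T.hA _ hpn).mul_left_cancel
      have hc := T.Dm.dp.mul_dpow (m := 1) (n := n - 1) hf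
      rw [show 1 + (n - 1) = n by omega, Nat.choose_one_right, T.Dm.dp.dpow_one hf] at hc
      calc (n : A) * T.phi (T.Dm.dp.dpow n f)
          = T.phi ((n : Model A I) * T.Dm.dp.dpow n f) := by rw [map_mul, map_natCast]
        _ = T.phi f * T.phi (T.Dm.dp.dpow (n - 1) f) := by rw [← hc, map_mul]
        _ = T.phi f * T.g (n - 1) (T.phi f) := by rw [ih (n - 1) (by omega) hf]
        _ = (n : A) * T.g n (T.phi f) := (T.g_not_dvd hpn _).symm

/-- Existence of the divided power structure with prescribed `p`-th divided power. -/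
theorem exists_dp (T : PData A p I) : ∃ γ : DividedPowers I, ∀ x ∈ I, γ.dpow p x = T.d x := by
  let f : Model A I →+* A := (T.phi : Model A I →+* A)
  have hf : ∀ y, f y = T.phi y := fun _ => rfl
  have hsurj : Function.Surjective f := T.phi_surj
  have hsub : T.Dm.dp.IsSubDPIdeal (RingHom.ker f ⊓ T.Dm.aug) := by
    rw [DividedPowers.isSubDPIdeal_inf_iff]
    intro n a b ha hb hab
    rw [RingHom.mem_ker, map_sub, sub_eq_zero] at hab
    rw [RingHom.mem_ker, map_sub, sub_eq_zero, hf, hf, T.phi_dpow n ha, T.phi_dpow n hb]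
    exact congrArg _ hab
  refine ⟨DividedPowers.Quotient.OfSurjective.dividedPowers T.Dm.dp hsurj T.map_aug hsub,
    fun x hx => ?_⟩
  have hx1 : f (T.Dm.x ⟨x, hx⟩ 1) = x := by
    rw [hf, T.phi_x, T.g_one]
  have hmem : T.Dm.x ⟨x, hx⟩ 1 ∈ T.Dm.aug := T.Dm.x_mem_aug _ le_rfl
  conv_lhs => rw [← hx1]
  rw [DividedPowers.Quotient.OfSurjective.dpow_apply T.Dm.dp hsurj T.map_aug hsub hmem,
    T.Dm.dp_x, hf, T.phi_x, T.g_p]

end PData

end Groth.Agent.H93.DPPrime
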