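import Mathlib.RingTheory.Flat.EquationalCriterion
import Mathlib.RingTheory.LocalRing.MaximalIdeal.Basic
import Mathlib.RingTheory.Ideal.Operations
import Mathlib.Tactic.LinearCombination

/-!
# A colon lemma for flat modules over local rings

If `F` is flat over the local ring `R`, `I'` is an ideal, `t ∉ I'` and `t • w ∈ I' F` then `w ∈ m F`.
-/

namespace Groth.Agent.H93

open IsLocalRing

theorem mem_maximalIdeal_smul_top_of_smul_mem {R : Type*} [CommRing R] [IsLocalRing R]
    {F : Type*} [AddCommGroup F] [Module R F] [Module.Flat R F]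
    (I' : Ideal R) (t : R) (ht : t ∉ I') (w : F) (h : t • w ∈ I' • (⊤ : Submodule R F)) :
    w ∈ maximalIdeal R • (⊤ : Submodule R F) := by
  classical
  have h' : t • w ∈ I' • Submodule.span R (Set.range (id : F → F)) := by
    simpa using h
  obtain ⟨a, ha, hsum⟩ := (Submodule.mem_ideal_smul_span_iff_exists_sum I' id (t • w)).1 h'
  let f : Option a.support → R := fun o => o.elim t (fun i => - a i)
  let x : Option a.support → F := fun o => o.elim w (fun i => (i : F))
  have hrel : ∑ o, f o • x o = 0 := by
    rw [Fintype.sum_option]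
    simp only [f, x, Option.elim]
    rw [Finsupp.sum] at hsum
    rw [← hsum, ← Finset.sum_attach a.support]
    simp
  obtain ⟨k, A, y, hx, hA⟩ := Module.Flat.isTrivialRelation_of_sum_smul_eq_zero hrel
  have hw : w = ∑ j, A none j • y j := hx none
  rw [hw]
  refine Submodule.sum_mem _ fun j _ => Submodule.smul_mem_smul ?_ Submodule.mem_top
  by_contra hj
  have hu : IsUnit (A none j) := by
    by_contra hnu
    exact hj ((IsLocalRing.mem_maximalIdeal _).2 hnu)
  have h1 := hA j
  rw [Fintype.sum_option] at h1
  have ht' : t * A none j ∈ I' := by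
    have h2 : t * A none j = ∑ i : a.support, a i * A (some i) j := by
      simp only [f, Option.elim] at h1
      simp only [neg_mul, Finset.sum_neg_distrib] at h1
      linear_combination h1
    rw [h2]
    exact sum_mem fun i _ => I'.mul_mem_right _ (ha i)
  exact ht ((Ideal.mul_unit_mem_iff_mem I' hu).1 ht')

/-- If `a` kills a flat module `F` over a local ring with `F ≠ m F`, then `a = 0`. -/
theorem eq_zero_of_forall_smul_eq_zero {R : Type*} [CommRing R] [IsLocalRing R]
    {F : Type*} [AddCommGroup F] [Module R F] [Module.Flat R F]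
    (a : R) (ha : ∀ x : F, a • x = 0) (w : F)
    (hw : w ∉ maximalIdeal R • (⊤ : Submodule R F)) : a = 0 := by
  by_contra hne
  refine hw (mem_maximalIdeal_smul_top_of_smul_mem ⊥ a (by simpa using hne) w ?_)
  rw [ha w]
  exact zero_mem _

end Groth.Agent.H93
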