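import Mathlib.RingTheory.Flat.Basic
import Mathlib.RingTheory.HopkinsLevitzki
import Mathlib.Tactic.LinearCombination
import Mathlib.Tactic.Abel
import Groth.Prelude.Def_ArtFun
import Groth.Agent.H93.FlatColon

/-!
# Endomorphisms of a deformation of a module with scalar endomorphisms are scalars
-/

namespace Groth.Agent.H93.DefMod

open IsLocalRing

universe u v w w'

section

variable {K : Type u} [Field K] {D : Type v} [Ring D] [Algebra K D]
  {E : Type w} [AddCommGroup E] [Module K E] [Module D E] [IsScalarTower K D E]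
  (R : ArtFun.Art K K)
  {F : Type w'} [AddCommGroup F] [Module R F] [Module D F]
  [SMulCommClass R D F] [Module.Flat R F]

omit [Module.Flat R F] in
set_option linter.unusedSectionVars false in
theorem smul_mem_of_mem (I' : Ideal R) (d : D) (y : F) (hy : y ∈ I' • (⊤ : Submodule R F)) :
    d • y ∈ I' • (⊤ : Submodule R F) := by
  refine Submodule.smul_induction_on hy ?_ ?_
  · intro i hi f _
    rw [← smul_comm i d f]
    exact Submodule.smul_mem_smul hi Submodule.mem_top
  · intro y₁ y₂ h₁ h₂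
    rw [smul_add]
    exact add_mem h₁ h₂

set_option linter.unusedSectionVars false in
theorem step (hE : ∀ ψ : E →ₗ[D] E, ∃ c : K, ∀ y : E, ψ y = c • y)
    (θ : F →ₗ[D] E) (hθ : ∀ (r : R) (x : F), θ (r • x) = R.res r • θ x)
    (hsurj : Function.Surjective θ)
    (hker : ∀ x : F, θ x = 0 ↔ x ∈ maximalIdeal R • (⊤ : Submodule R F))
    (φ : F →ₗ[R] F) (hφ : ∀ (d : D) (x : F), φ (d • x) = d • φ x)
    (I : Ideal R) (hI : I ≠ ⊥) (r : R) (hr : ∀ x, φ x - r • x ∈ I • (⊤ : Submodule R F)) :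
    ∃ I' : Ideal R, I' < I ∧ ∃ r' : R, ∀ x, φ x - r' • x ∈ I' • (⊤ : Submodule R F) := by
  classical
  -- a maximal ideal `I'` strictly below `I`
  obtain ⟨I', hI'lt, hI'max⟩ : ∃ I' : Ideal R, I' < I ∧ ∀ J : Ideal R, J < I → ¬ I' < J := by
    have hne : {J : Ideal R | J < I}.Nonempty := ⟨⊥, bot_lt_iff_ne_bot.2 hI⟩
    obtain ⟨I', h1, h2⟩ := (wellFounded_gt (α := Ideal R)).has_min _ hne
    exact ⟨I', h1, fun J hJ hlt => h2 J hJ hlt⟩
  refine ⟨I', hI'lt, ?_⟩
  obtain ⟨t, htI, htI'⟩ := SetLike.exists_of_lt hI'lt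
  have hmax' : ∀ J : Ideal R, I' ≤ J → J ≤ I → J = I' ∨ J = I := by
    intro J h1 h2
    rcases eq_or_lt_of_le h2 with h | h
    · exact Or.inr h
    · left
      rcases eq_or_lt_of_le h1 with h' | h'
      · exact h'.symm
      · exact absurd h' (hI'max J h)
  have hsup : I' ⊔ Ideal.span {t} = I := by
    rcases hmax' (I' ⊔ Ideal.span {t}) le_sup_left
      (sup_le hI'lt.le ((Ideal.span_singleton_le_iff_mem _).2 htI)) with h | h
    · exfalso
      apply htI'
      rw [← h]
      exact Ideal.mem_sup_right (Ideal.mem_span_singleton_self t)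
    · exact h
  have hmt : ∀ a ∈ maximalIdeal R, a * t ∈ I' := by
    intro a ha
    rcases hmax' (I' ⊔ Ideal.span {a * t}) le_sup_left
      (sup_le hI'lt.le ((Ideal.span_singleton_le_iff_mem _).2 (I.mul_mem_left a htI))) with h | h
    · rw [← h]
      exact Ideal.mem_sup_right (Ideal.mem_span_singleton_self _)
    · exfalso
      have h3 : t ∈ I' ⊔ Ideal.span {a * t} := h ▸ htI
      obtain ⟨i', hi', j, hj, hij⟩ := Submodule.mem_sup.1 h3
      obtain ⟨b, rfl⟩ := Ideal.mem_span_singleton'.1 hj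
      have hu : IsUnit (1 - b * a) :=
        IsLocalRing.isUnit_one_sub_self_of_mem_nonunits _
          ((IsLocalRing.mem_maximalIdeal _).1 (Ideal.mul_mem_left _ b ha))
      apply htI'
      have h4 : (1 - b * a) * t = i' := by linear_combination -hij
      rw [← Ideal.unit_mul_mem_iff_mem I' hu, h4]
      exact hi'
  -- decomposition of elements of `I`
  have hdecI : ∀ i ∈ I, ∃ i' ∈ I', ∃ b : R, i = i' + b * t := by
    intro i hi
    rw [← hsup] at hi
    obtain ⟨i', hi', j, hj, hij⟩ := Submodule.mem_sup.1 hi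
    obtain ⟨b, rfl⟩ := Ideal.mem_span_singleton'.1 hj
    exact ⟨i', hi', b, hij.symm⟩
  have hmI : ∀ a ∈ maximalIdeal R, ∀ i ∈ I, a * i ∈ I' := by
    intro a ha i hi
    obtain ⟨i', hi', b, rfl⟩ := hdecI i hi
    have : a * (i' + b * t) = a * i' + b * (a * t) := by ring
    rw [this]
    exact add_mem (I'.mul_mem_left a hi') (I'.mul_mem_left b (hmt a ha))
  -- decomposition of elements of `I F`
  have hdecF : ∀ y ∈ I • (⊤ : Submodule R F), ∃ y' ∈ I' • (⊤ : Submodule R F), ∃ z : F,
      y = y' + t • z := by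
    intro y hy
    refine Submodule.smul_induction_on hy ?_ ?_
    · intro i hi f _
      obtain ⟨i', hi', b, rfl⟩ := hdecI i hi
      refine ⟨i' • f, Submodule.smul_mem_smul hi' Submodule.mem_top, b • f, ?_⟩
      rw [add_smul, mul_comm, mul_smul]
    · rintro y₁ y₂ ⟨y₁', h₁, z₁, rfl⟩ ⟨y₂', h₂, z₂, rfl⟩
      refine ⟨y₁' + y₂', add_mem h₁ h₂, z₁ + z₂, ?_⟩
      rw [smul_add]; abel
  -- `m • (I F) ⊆ I' F`
  have hmIF : ∀ a ∈ maximalIdeal R, ∀ y ∈ I • (⊤ : Submodule R F),
      a • y ∈ I' • (⊤ : Submodule R F) := by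
    intro a ha y hy
    refine Submodule.smul_induction_on hy ?_ ?_
    · intro i hi f _
      rw [← mul_smul]
      exact Submodule.smul_mem_smul (hmI a ha i hi) Submodule.mem_top
    · intro y₁ y₂ h₁ h₂
      rw [smul_add]; exact add_mem h₁ h₂
  -- `δ = φ - r`
  set δ : F →ₗ[R] F := φ - r • LinearMap.id with hδdef
  have hδ : ∀ x, δ x = φ x - r • x := fun x => rfl
  have hδI : ∀ x, δ x ∈ I • (⊤ : Submodule R F) := fun x => hr x
  have hδD : ∀ (d : D) (x : F), δ (d • x) = d • δ x := by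
    intro d x
    rw [hδ, hδ, hφ, smul_sub, ← smul_comm r d]
  have hδm : ∀ x ∈ maximalIdeal R • (⊤ : Submodule R F), δ x ∈ I' • (⊤ : Submodule R F) := by
    intro x hx
    refine Submodule.smul_induction_on hx ?_ ?_
    · intro a ha f _
      rw [map_smul]
      exact hmIF a ha _ (hδI f)
    · intro x₁ x₂ h₁ h₂
      rw [map_add]; exact add_mem h₁ h₂
  have htm : ∀ x ∈ maximalIdeal R • (⊤ : Submodule R F), t • x ∈ I' • (⊤ : Submodule R F) := by
    intro x hx
    refine Submodule.smul_induction_on hx ?_ ?_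
    · intro a ha f _
      rw [← mul_smul, mul_comm]
      exact Submodule.smul_mem_smul (hmt a ha) Submodule.mem_top
    · intro x₁ x₂ h₁ h₂
      rw [smul_add]; exact add_mem h₁ h₂
  -- key well-definedness
  have hkey : ∀ (x x' y y' z z' : F), y ∈ I' • (⊤ : Submodule R F) →
      y' ∈ I' • (⊤ : Submodule R F) → δ x = y + t • z → δ x' = y' + t • z' → θ x = θ x' →
      θ z = θ z' := by
    intro x x' y y' z z' hy hy' hx hx' hθx
    have h1 : x - x' ∈ maximalIdeal R • (⊤ : Submodule R F) := by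
      rw [← hker, map_sub, hθx, sub_self]
    have h2 : δ (x - x') ∈ I' • (⊤ : Submodule R F) := hδm _ h1
    have h3 : t • (z - z') = δ (x - x') - (y - y') := by
      rw [map_sub, hx, hx', smul_sub]; abel
    have h4 : t • (z - z') ∈ I' • (⊤ : Submodule R F) := by
      rw [h3]; exact sub_mem h2 (sub_mem hy hy')
    have h5 := mem_maximalIdeal_smul_top_of_smul_mem I' t htI' (z - z') h4
    rw [← hker, map_sub, sub_eq_zero] at h5
    exact h5
  -- the induced endomorphism of `E`
  choose xs hxs using hsurj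
  have hdec' : ∀ x : F, ∃ y' ∈ I' • (⊤ : Submodule R F), ∃ z : F, δ x = y' + t • z :=
    fun x => hdecF _ (hδI x)
  choose ys hys zs hzs using hdec'
  have hG : ∀ (x y z : F), y ∈ I' • (⊤ : Submodule R F) → δ x = y + t • z →
      θ (zs (xs (θ x))) = θ z := by
    intro x y z hy hx
    exact hkey _ _ _ _ _ _ (hys _) hy (hzs _) hx (hxs _)
  let G : E →ₗ[D] E :=
    { toFun := fun e => θ (zs (xs e))
      map_add' := by
        intro e₁ e₂
        have h1 : δ (xs e₁ + xs e₂) = (ys (xs e₁) + ys (xs e₂)) + t • (zs (xs e₁) + zs (xs e₂)) := by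
          rw [map_add, hzs (xs e₁), hzs (xs e₂), smul_add]; abel
        have h2 := hG _ _ _ (add_mem (hys (xs e₁)) (hys (xs e₂))) h1
        rw [map_add, hxs, hxs] at h2
        rw [h2, map_add]
      map_smul' := by
        intro d e
        have h1 : δ (d • xs e) = d • ys (xs e) + t • (d • zs (xs e)) := by
          rw [hδD, hzs (xs e), smul_add, ← smul_comm t d]
        have h2 := hG _ _ _ (smul_mem_of_mem R I' d _ (hys (xs e))) h1
        rw [map_smul, hxs] at h2
        rw [h2, map_smul, RingHom.id_apply] }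
  have hGθ : ∀ (x y z : F), y ∈ I' • (⊤ : Submodule R F) → δ x = y + t • z → G (θ x) = θ z :=
    hG
  obtain ⟨c, hc⟩ := hE G
  refine ⟨r + algebraMap K R c * t, fun x => ?_⟩
  have h1 : G (θ x) = θ (zs x) := hGθ x (ys x) (zs x) (hys x) (hzs x)
  have h2 : θ (zs x - algebraMap K R c • x) = 0 := by
    rw [map_sub, hθ, ← h1, hc, AlgHom.commutes, Algebra.algebraMap_self, RingHom.id_apply, sub_self]
  have h3 : t • (zs x - algebraMap K R c • x) ∈ I' • (⊤ : Submodule R F) :=
    htm _ ((hker _).1 h2)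
  have h4 : φ x - (r + algebraMap K R c * t) • x = ys x + t • (zs x - algebraMap K R c • x) := by
    calc φ x - (r + algebraMap K R c * t) • x = δ x - t • (algebraMap K R c • x) := by
          rw [hδ, add_smul, mul_comm, mul_smul]; abel
      _ = ys x + t • (zs x - algebraMap K R c • x) := by
          rw [hzs x, smul_sub]; abel
  rw [h4]
  exact add_mem (hys x) h3

set_option linter.unusedSectionVars false in
theorem exists_scalar (hE : ∀ ψ : E →ₗ[D] E, ∃ c : K, ∀ y : E, ψ y = c • y)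
    (θ : F →ₗ[D] E) (hθ : ∀ (r : R) (x : F), θ (r • x) = R.res r • θ x)
    (hsurj : Function.Surjective θ)
    (hker : ∀ x : F, θ x = 0 ↔ x ∈ maximalIdeal R • (⊤ : Submodule R F))
    (φ : F →ₗ[R] F) (hφ : ∀ (d : D) (x : F), φ (d • x) = d • φ x) :
    ∃ r : R, ∀ x : F, φ x = r • x := by
  have key : ∀ I : Ideal R, (∃ r : R, ∀ x, φ x - r • x ∈ I • (⊤ : Submodule R F)) →
      ∃ r : R, ∀ x, φ x - r • x ∈ (⊥ : Ideal R) • (⊤ : Submodule R F) := by
    intro I
    induction I using WellFoundedLT.induction with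
    | ind I ih =>
      rintro ⟨r, hr⟩
      by_cases hI : I = ⊥
      · subst hI; exact ⟨r, hr⟩
      · obtain ⟨I', hlt, h'⟩ := step R hE θ hθ hsurj hker φ hφ I hI r hr
        exact ih I' hlt h'
  obtain ⟨r, hr⟩ := key ⊤ ⟨0, fun x => by simp⟩
  refine ⟨r, fun x => ?_⟩
  have := hr x
  rw [Submodule.bot_smul, Submodule.mem_bot, sub_eq_zero] at this
  exact this

omit [Algebra K D] [Module K E] [IsScalarTower K D E] [SMulCommClass R D F] in
theorem scalar_unique [Nontrivial E]
    (θ : F →ₗ[D] E)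
    (hsurj : Function.Surjective θ)
    (hker : ∀ x : F, θ x = 0 ↔ x ∈ maximalIdeal R • (⊤ : Submodule R F))
    (r r' : R) (h : ∀ x : F, r • x = r' • x) : r = r' := by
  obtain ⟨e, he⟩ := exists_ne (0 : E)
  obtain ⟨w, rfl⟩ := hsurj e
  have hw : w ∉ maximalIdeal R • (⊤ : Submodule R F) := fun hw => he ((hker w).2 hw)
  have := eq_zero_of_forall_smul_eq_zero (r - r') (fun x => by rw [sub_smul, h x, sub_self]) w hw
  exact sub_eq_zero.1 this

end

end Groth.Agent.H93.DefMod
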