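import Mathlib
import Groth.Prelude.Def_CAlg
import Groth.Agent.H15.Depth
import Groth.Agent.H26.DepthInf
import Groth.Agent.H72.DepthFinite
import Groth.Agent.H72.DepthCM
import Groth.Agent.H14.SkLift

/-!
# Depth of a finite algebra localized at a prime of the base

For a finite injective ring map `A → R` with `A` Noetherian and a prime `p` of `A`, there is a prime
`q` of `R` over `p` such that `depth R_q ≤ depth_{A_p} R_p`.
-/

set_option autoImplicit false
universe u

namespace Groth.Agent.H93

open Groth.Agent.H15

section

variable {A R : Type u} [CommRing A] [CommRing R] [Algebra A R] [IsNoetherianRing A]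
  [Module.Finite A R]

/-- `R_p` as a localized module is the localized ring. -/
noncomputable def locModEquivLocRing (p : Ideal A) [p.IsPrime] :
    LocalizedModule p.primeCompl R ≃ₗ[Localization.AtPrime p]
      Localization (Algebra.algebraMapSubmonoid R p.primeCompl) :=
  have : IsLocalizedModule p.primeCompl
      (IsScalarTower.toAlgHom A R
        (Localization (Algebra.algebraMapSubmonoid R p.primeCompl))).toLinearMap :=
    isLocalizedModule_iff_isLocalization.mpr inferInstance
  LinearEquiv.extendScalarsOfIsLocalization p.primeCompl (Localization.AtPrime p)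
    (IsLocalizedModule.linearEquiv p.primeCompl (LocalizedModule.mkLinearMap p.primeCompl R)
      (IsScalarTower.toAlgHom A R
        (Localization (Algebra.algebraMapSubmonoid R p.primeCompl))).toLinearMap)

theorem exists_prime_depth_le (hinj : Function.Injective (algebraMap A R)) (p : Ideal A)
    [p.IsPrime] :
    ∃ (q : Ideal R) (_ : q.IsPrime), q.comap (algebraMap A R) = p ∧
      LocCoh.idealDepth (IsLocalRing.maximalIdeal (Localization.AtPrime q))
          (Localization.AtPrime q) ≤
        LocCoh.depth (Localization.AtPrime p) (LocalizedModule p.primeCompl R) := by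
  classical
  have : IsNoetherianRing R := IsNoetherianRing.of_finite A R
  set Ap := Localization.AtPrime p with hAp
  set S := Algebra.algebraMapSubmonoid R p.primeCompl with hS
  set Rp := Localization S with hRp
  have : IsNoetherianRing Ap := IsLocalization.isNoetherianRing p.primeCompl Ap inferInstance
  have : IsNoetherianRing Rp := IsLocalization.isNoetherianRing S Rp inferInstance
  set J : Ideal Rp := (IsLocalRing.maximalIdeal Ap).map (algebraMap Ap Rp) with hJ
  -- the depth in terms of the ring `Rp`
  have h1 : LocCoh.depth Ap (LocalizedModule p.primeCompl R) = LocCoh.idealDepth J Rp := by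
    unfold LocCoh.depth
    rw [idealDepth_congr (locModEquivLocRing (R := R) p)]
    exact Groth.Agent.H72.DepthFinite.idealDepth_eq_idealDepth_map (A := Ap) (B := Rp) _ Rp
  have h2 := Groth.Agent.H26.idealDepth_eq_iInf_depth_localization J Rp
  -- a prime over `p`
  have : Algebra.IsIntegral A R := Algebra.IsIntegral.of_finite A R
  -- reduce to finding a prime `Q ⊇ J` with small depth
  have key : ∀ Q : Ideal Rp, ∀ _ : Q.IsPrime, J ≤ Q →
      (Q.comap (algebraMap R Rp)).comap (algebraMap A R) = p := by
    intro Q hQ hJQ
    have h3 : IsLocalRing.maximalIdeal Ap ≤ Q.comap (algebraMap Ap Rp) :=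
      Ideal.map_le_iff_le_comap.mp hJQ
    have h4 : Q.comap (algebraMap Ap Rp) = IsLocalRing.maximalIdeal Ap :=
      ((IsLocalRing.maximalIdeal.isMaximal Ap).eq_of_le
        (Ideal.IsPrime.ne_top (Ideal.comap_isPrime _ Q)) h3).symm
    rw [Ideal.comap_comap, ← IsScalarTower.algebraMap_eq, IsScalarTower.algebraMap_eq A Ap Rp,
      ← Ideal.comap_comap, h4]
    exact Localization.AtPrime.comap_maximalIdeal
  by_cases htop : LocCoh.idealDepth J Rp = ⊤
  · obtain ⟨q, -, hq, hqp⟩ := Ideal.exists_ideal_over_prime_of_isIntegral p (⊥ : Ideal R) (by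
      rw [← RingHom.ker_eq_comap_bot, (RingHom.injective_iff_ker_eq_bot _).mp hinj]
      exact bot_le)
    exact ⟨q, hq, hqp, by rw [h1, htop]; exact le_top⟩
  · have hex : ∃ Q : PrimeSpectrum Rp, J ≤ Q.asIdeal ∧
        LocCoh.depth (Localization.AtPrime Q.asIdeal) (LocalizedModule Q.asIdeal.primeCompl Rp) ≤
          LocCoh.idealDepth J Rp := by
      by_contra hcon
      push Not at hcon
      apply htop
      have h5 : LocCoh.idealDepth J Rp + 1 ≤ LocCoh.idealDepth J Rp := by
        conv_rhs => rw [h2]
        refine le_iInf₂ fun Q hQ => ?_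
        exact Order.add_one_le_of_lt (hcon Q hQ)
      by_contra hne
      exact absurd h5 (not_le.mpr ((ENat.lt_add_one_iff hne).mpr le_rfl))
    obtain ⟨Q, hJQ, hQd⟩ := hex
    refine ⟨Q.asIdeal.comap (algebraMap R Rp), Ideal.comap_isPrime _ _, key Q.asIdeal Q.2 hJQ, ?_⟩
    rw [h1]
    refine le_trans (le_of_eq ?_) hQd
    rw [Groth.Agent.H72.DepthCM.depth_localizedModule_self]
    exact Groth.Agent.H14.idealDepth_maximalIdeal_le_of_ringEquiv
      (IsLocalization.localizationLocalizationAtPrimeIsoLocalization S Q.asIdeal).toRingEquiv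

end

end Groth.Agent.H93
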