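import Groth.Agent.H93.DualMod
import Groth.Agent.H93.LinRedInt
import Mathlib.RingTheory.Coalgebra.GroupLike
import Mathlib.RingTheory.Coalgebra.Convolution
import Mathlib.RingTheory.SimpleModule.Basic
import Mathlib.FieldTheory.IsAlgClosed.Basic
import Mathlib.LinearAlgebra.Dual.Lemmas

set_option autoImplicit false
universe u v w

open TensorProduct

namespace Groth.Agent.H93

section Line

variable {K : Type u} [Field K] {B : Type v} [AddCommGroup B] [Module K B] [Coalgebra K B]

/-- a vector of the regular comodule spanning a subcomodule is a multiple of a group-like element -/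
theorem mem_span_groupLike_of_line (v : B) (hv : v ≠ 0)
    (h : HopfRep.IsSubcomod (k := K) (A := B) (Submodule.span K {v})) :
    v ∈ Submodule.span K {a : B | IsGroupLikeElem K a} := by
  obtain ⟨y, hy⟩ := h v (Submodule.mem_span_singleton_self v)
  have hall : ∀ y : (Submodule.span K {v}) ⊗[K] B,
      ∃ g : B, (Submodule.span K {v}).subtype.rTensor B y = v ⊗ₜ[K] g := by
    intro y
    induction y using TensorProduct.induction_on with
    | zero => exact ⟨0, by simp⟩
    | tmul u b =>
      obtain ⟨c, hc⟩ := Submodule.mem_span_singleton.1 u.2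
      refine ⟨c • b, ?_⟩
      rw [LinearMap.rTensor_tmul, Submodule.subtype_apply, ← hc, TensorProduct.smul_tmul]
    | add x y hx hy =>
      obtain ⟨g, hg⟩ := hx
      obtain ⟨g', hg'⟩ := hy
      exact ⟨g + g', by rw [map_add, hg, hg', TensorProduct.tmul_add]⟩
  obtain ⟨g, hg'⟩ := hall y
  have hg : Coalgebra.comul (R := K) v = v ⊗ₜ[K] g := by
    rw [← hg']
    exact hy.symm
  have e1 : Coalgebra.counit (R := K) v • g = v := by
    have h1 := Coalgebra.rTensor_counit_comul (R := K) v
    rw [hg, LinearMap.rTensor_tmul] at h1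
    have h2 := congrArg (TensorProduct.lid K B) h1
    simpa using h2
  have e2 : Coalgebra.counit (R := K) g = 1 := by
    have h1 := Coalgebra.lTensor_counit_comul (R := K) v
    rw [hg, LinearMap.lTensor_tmul] at h1
    have h2 := congrArg (TensorProduct.rid K B) h1
    simp only [TensorProduct.rid_tmul, one_smul] at h2
    by_contra hne
    have h3 : (Coalgebra.counit (R := K) g - 1) • v = 0 := by
      rw [sub_smul, h2, one_smul, sub_self]
    rcases smul_eq_zero.1 h3 with h4 | h4
    · exact hne (sub_eq_zero.1 h4)
    · exact hv h4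
  have e3 : Coalgebra.comul (R := K) g = g ⊗ₜ[K] g := by
    have h1 := Coalgebra.coassoc_apply (R := K) v
    rw [hg, LinearMap.rTensor_tmul, hg, TensorProduct.assoc_tmul, LinearMap.lTensor_tmul] at h1
    obtain ⟨φ, hφ⟩ := Module.Projective.exists_dual_eq_one K hv
    have h2 := congrArg (fun t => TensorProduct.lid K (B ⊗[K] B) (φ.rTensor (B ⊗[K] B) t)) h1
    simp only [LinearMap.rTensor_tmul, TensorProduct.lid_tmul, hφ, one_smul] at h2
    exact h2.symm
  rw [← e1]
  exact Submodule.smul_mem _ _ (Submodule.subset_span ⟨e2, e3⟩)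

end Line

section Abstract

variable {K : Type u} [Field K] [IsAlgClosed K] {R : Type v} [CommRing R] [Algebra K R]
  {M : Type w} [AddCommGroup M] [Module K M] [Module R M] [IsScalarTower K R M]

/-- in a simple submodule over a commutative algebra over an algebraically closed field, whose cyclic
submodules are finite-dimensional, the algebra acts by scalars -/
theorem exists_scalar_of_simple_abstract (m : Submodule R M) [IsSimpleModule R m] (v : M)
    (hv : v ∈ m) (hv0 : v ≠ 0)
    (hfd : ∃ F : Submodule K M, Module.Finite K F ∧ ∀ r : R, r • v ∈ F)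
    (r : R) : ∃ c : K, r • v = c • v := by
  have hv'0 : (⟨v, hv⟩ : m) ≠ 0 := fun h => hv0 (congrArg Subtype.val h)
  have hmax := IsSimpleModule.ker_toSpanSingleton_isMaximal R (m := (⟨v, hv⟩ : m)) hv'0
  letI : Field (R ⧸ LinearMap.ker (LinearMap.toSpanSingleton R m ⟨v, hv⟩)) :=
    Ideal.Quotient.field _
  -- the quotient is finite over `K`
  have hfin : Module.Finite K (R ⧸ LinearMap.ker (LinearMap.toSpanSingleton R m ⟨v, hv⟩)) := by
    obtain ⟨F, hF, hFv⟩ := hfd
    let e : (R ⧸ LinearMap.ker (LinearMap.toSpanSingleton R m ⟨v, hv⟩)) ≃ₗ[R] m :=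
      LinearMap.quotKerEquivOfSurjective _ (IsSimpleModule.toSpanSingleton_surjective R hv'0)
    let f : (R ⧸ LinearMap.ker (LinearMap.toSpanSingleton R m ⟨v, hv⟩)) →ₗ[K] M :=
      (m.subtype.restrictScalars K) ∘ₗ (e.toLinearMap.restrictScalars K)
    have hf : Function.Injective f := by
      intro x y hxy
      exact e.injective (Subtype.ext hxy)
    have hle : LinearMap.range f ≤ F := by
      rintro _ ⟨x, rfl⟩
      obtain ⟨ψ, rfl⟩ := Ideal.Quotient.mk_surjective x
      have : f (Ideal.Quotient.mk _ ψ) = ψ • v := rfl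
      rw [this]
      exact hFv ψ
    have hfinrange : Module.Finite K (LinearMap.range f) :=
      Submodule.finiteDimensional_of_le hle
    exact Module.Finite.equiv (LinearEquiv.ofInjective f hf).symm
  have hbij : Function.Bijective
      (algebraMap K (R ⧸ LinearMap.ker (LinearMap.toSpanSingleton R m ⟨v, hv⟩))) :=
    IsAlgClosed.algebraMap_bijective_of_isIntegral
  obtain ⟨c, hc⟩ := hbij.2 (Ideal.Quotient.mk _ r)
  refine ⟨c, ?_⟩
  have h1 : r - algebraMap K R c ∈ LinearMap.ker (LinearMap.toSpanSingleton R m ⟨v, hv⟩) := by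
    rw [← Ideal.Quotient.eq, ← hc]
    rfl
  rw [LinearMap.mem_ker, LinearMap.toSpanSingleton_apply] at h1
  have h2 := congrArg Subtype.val h1
  simp only [Submodule.coe_smul, Submodule.coe_zero] at h2
  rw [sub_smul, sub_eq_zero, algebraMap_smul] at h2
  exact h2

end Abstract

section Core

variable {K : Type u} [Field K] [IsAlgClosed K] {B : Type v} [AddCommGroup B] [Module K B]
  [Coalgebra K B] [Coalgebra.IsCocomm K B]

attribute [local instance] dualModule

/-- in a simple submodule over the (commutative) dual algebra, the dual algebra acts by scalars -/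
theorem exists_scalar_of_simple (m : Submodule (WithConv (B →ₗ[K] K)) B)
    [IsSimpleModule (WithConv (B →ₗ[K] K)) m] (v : B) (hv : v ∈ m) (hv0 : v ≠ 0)
    (r : WithConv (B →ₗ[K] K)) : ∃ c : K, r • v = c • v := by
  apply exists_scalar_of_simple_abstract m v hv hv0 _ r
  obtain ⟨S, hS⟩ := TensorProduct.exists_finset (HopfRep.Comod.coact (k := K) (A := B) v)
  refine ⟨Submodule.span K ((fun i : B × B => i.1) '' (S : Set (B × B))),
    Module.Finite.span_of_finite K ((S.finite_toSet).image _), fun ψ => ?_⟩
  rw [dual_smul_def, dualAct_apply, hS, map_sum]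
  apply Submodule.sum_mem
  intro i hi
  rw [slice_tmul]
  exact Submodule.smul_mem _ _ (Submodule.subset_span ⟨i, hi, rfl⟩)

theorem span_groupLike_eq_top (hss : HopfRep.IsSemisimpleComod K B B) :
    Submodule.span K {a : B | IsGroupLikeElem K a} = ⊤ := by
  haveI : IsSemisimpleModule (WithConv (B →ₗ[K] K)) B := isSemisimpleModule_dual_iff.2 hss
  rw [eq_top_iff]
  -- the span of group-likes is a subcomodule
  have key : ∀ (m : Submodule (WithConv (B →ₗ[K] K)) B), IsSimpleModule (WithConv (B →ₗ[K] K)) m →
      ∀ v ∈ m, v ∈ Submodule.span K {a : B | IsGroupLikeElem K a} := by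
    intro m hm v hv
    by_cases hv0 : v = 0
    · rw [hv0]; exact Submodule.zero_mem _
    apply mem_span_groupLike_of_line v hv0
    rw [isSubcomod_iff]
    intro ψ u hu
    obtain ⟨a, rfl⟩ := Submodule.mem_span_singleton.1 hu
    obtain ⟨c, hc⟩ := exists_scalar_of_simple m v hv hv0 (WithConv.toConv ψ)
    rw [map_smul]
    apply Submodule.smul_mem
    rw [Submodule.mem_span_singleton]
    exact ⟨c, hc.symm⟩
  -- the span of group-likes as an `R`-submodule
  have hsub : HopfRep.IsSubcomod (k := K) (A := B)
      (Submodule.span K {a : B | IsGroupLikeElem K a}) := by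
    rw [isSubcomod_iff]
    intro ψ u hu
    induction hu using Submodule.span_induction with
    | mem g hg =>
      have hg' : HopfRep.Comod.coact (k := K) (A := B) g = g ⊗ₜ[K] g := hg.comul_eq_tmul_self
      rw [dualAct_apply, hg', slice_tmul]
      exact Submodule.smul_mem _ _ (Submodule.subset_span hg)
    | zero => rw [map_zero]; exact Submodule.zero_mem _
    | add x y _ _ hx hy => rw [map_add]; exact Submodule.add_mem _ hx hy
    | smul c x _ hx => rw [map_smul]; exact Submodule.smul_mem _ _ hx
  have h1 : sSup {m : Submodule (WithConv (B →ₗ[K] K)) B | IsSimpleModule (WithConv (B →ₗ[K] K)) m} ≤ toDualSub _ hsub := by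
    apply sSup_le
    intro m hm v hv
    exact key m hm v hv
  rw [IsSemisimpleModule.sSup_simples_eq_top] at h1
  intro v _
  exact h1 (Submodule.mem_top : v ∈ (⊤ : Submodule (WithConv (B →ₗ[K] K)) B))

end Core

end Groth.Agent.H93

namespace Groth.Agent.H93

section DiagInt

variable {k : Type u} [Field k] {A : Type v} [CommRing A] [HopfAlgebra k A]

/-- a diagonalizable group has a total integral -/
theorem exists_integral_of_isDiagonalizable (hD : HopfRep.IsDiagonalizable k A) :
    ∃ α : A →ₗ[k] k, IsInt α ∧ α 1 = 1 := by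
  classical
  have hli : LinearIndependent k (fun g : {a : A | IsGroupLikeElem k a} => (g : A)) :=
    linearIndepOn_isGroupLikeElem
  have hsp : ⊤ ≤ Submodule.span k (Set.range (fun g : {a : A | IsGroupLikeElem k a} => (g : A))) := by
    rw [Subtype.range_coe_subtype]
    exact hD.ge
  let b : Module.Basis {a : A | IsGroupLikeElem k a} k A := Module.Basis.mk hli hsp
  have hb : ∀ g : {a : A | IsGroupLikeElem k a}, b g = (g : A) := fun g => by
    simp [b, Module.Basis.mk_apply]
  let α : A →ₗ[k] k := b.constr k (fun g => if (g : A) = 1 then (1 : k) else 0)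
  have hα : ∀ g : {a : A | IsGroupLikeElem k a}, α (g : A) = if (g : A) = 1 then (1 : k) else 0 := by
    intro g
    have := b.constr_basis k (fun g => if (g : A) = 1 then (1 : k) else 0) g
    rw [hb g] at this
    exact this
  refine ⟨α, ?_, ?_⟩
  · intro a
    have key : (TensorProduct.lid k A).toLinearMap ∘ₗ α.rTensor A ∘ₗ Coalgebra.comul (R := k) =
        (LinearMap.toSpanSingleton k A 1) ∘ₗ α := by
      apply b.ext
      intro g
      simp only [LinearMap.comp_apply, LinearEquiv.coe_coe, LinearMap.toSpanSingleton_apply]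
      rw [hb g, g.2.comul_eq_tmul_self, LinearMap.rTensor_tmul, TensorProduct.lid_tmul, hα g]
      by_cases hg : (g : A) = 1
      · rw [if_pos hg, hg]
      · rw [if_neg hg, zero_smul, zero_smul]
    have := LinearMap.congr_fun key a
    simpa using this
  · have h1 : IsGroupLikeElem k (1 : A) := IsGroupLikeElem.one
    have := hα ⟨1, h1⟩
    simpa using this

theorem isLinearlyReductive_of_isDiagonalizable (hD : HopfRep.IsDiagonalizable k A) :
    HopfRep.IsLinearlyReductive k A :=
  linRed_iff_exists_integral.2 (exists_integral_of_isDiagonalizable hD)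

/-- over an algebraically closed field, a cocommutative linearly reductive group is diagonalizable -/
theorem isDiagonalizable_of_isLinearlyReductive [IsAlgClosed k] [Coalgebra.IsCocomm k A]
    (hG : HopfRep.IsLinearlyReductive k A) : HopfRep.IsDiagonalizable k A :=
  span_groupLike_eq_top (H40.isSemisimpleComod_of_isLinearlyReductive hG)

end DiagInt

end Groth.Agent.H93
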