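import Mathlib.RingTheory.TensorProduct.Basic
import Mathlib.Algebra.Module.FinitePresentation
import Mathlib.LinearAlgebra.TensorProduct.Basis
import Mathlib.LinearAlgebra.Basis.VectorSpace
import Mathlib.LinearAlgebra.FreeModule.Basic

set_option autoImplicit false
universe u v w w' u'
open scoped TensorProduct

namespace Groth.Agent.H93.DefMod

open TensorProduct

theorem baseChange_hom_iso
    {K : Type u} [Field K]
    {D : Type v} [Ring D] [Algebra K D]
    {E : Type w} [AddCommGroup E] [Module K E] [Module D E] [IsScalarTower K D E]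
    [Module.Finite D E]
    {F : Type w'} [AddCommGroup F] [Module K F] [Module D F] [IsScalarTower K D F]
    (P : Type u') [CommRing P] [Algebra K P]
    (Φ : P ⊗[K] (E →ₗ[D] F) →ₗ[P] (P ⊗[K] E →ₗ[P] P ⊗[K] F))
    (hΦ : ∀ (p : P) (f : E →ₗ[D] F), Φ (p ⊗ₜ[K] f) = p • (f.restrictScalars K).baseChange P) :
    Function.Injective Φ ∧
      ∀ g : P ⊗[K] E →ₗ[P] P ⊗[K] F,
        g ∈ LinearMap.range Φ ↔
          ∀ d : D, g ∘ₗ (DistribSMul.toLinearMap K E d).baseChange P =
            (DistribSMul.toLinearMap K F d).baseChange P ∘ₗ g := by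
  classical
  let b := Module.Free.chooseBasis K P
  let eF := TensorProduct.equivFinsuppOfBasisLeft (N := F) b
  let eH := TensorProduct.equivFinsuppOfBasisLeft (N := E →ₗ[D] F) b
  -- key identity
  have hA : ∀ (ξ : P ⊗[K] (E →ₗ[D] F)) (e : E) i, eF (Φ ξ (1 ⊗ₜ e)) i = (eH ξ i) e := by
    intro ξ e i
    induction ξ using TensorProduct.induction_on with
    | zero => simp
    | tmul p f =>
      rw [hΦ]
      simp only [LinearMap.smul_apply, LinearMap.baseChange_tmul, LinearMap.coe_restrictScalars,
        TensorProduct.smul_tmul', smul_eq_mul, mul_one, eF, eH,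
        TensorProduct.equivFinsuppOfBasisLeft_apply_tmul_apply]
    | add x y hx hy =>
      simp only [map_add, LinearMap.add_apply, Finsupp.add_apply, hx, hy]
  have hB : ∀ (d : D) (y : P ⊗[K] F) i,
      eF ((DistribSMul.toLinearMap K F d).baseChange P y) i = d • eF y i := by
    intro d y i
    induction y using TensorProduct.induction_on with
    | zero => simp
    | tmul p f =>
      simp only [LinearMap.baseChange_tmul, eF,
        TensorProduct.equivFinsuppOfBasisLeft_apply_tmul_apply, DistribSMul.toLinearMap_apply]
      rw [smul_comm]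
    | add x y hx hy =>
      simp only [map_add, Finsupp.add_apply, hx, hy, smul_add]
  refine ⟨?_, fun g => ⟨?_, ?_⟩⟩
  · rw [injective_iff_map_eq_zero]
    intro ξ hξ
    apply eH.injective
    rw [map_zero]
    ext i e
    rw [← hA, hξ]
    simp
  · rintro ⟨ξ, rfl⟩ d
    induction ξ using TensorProduct.induction_on with
    | zero => simp
    | tmul p f =>
      rw [hΦ]
      apply TensorProduct.AlgebraTensorModule.ext
      intro q e
      simp only [LinearMap.comp_apply, LinearMap.smul_apply, LinearMap.baseChange_tmul,
        LinearMap.coe_restrictScalars, DistribSMul.toLinearMap_apply, map_smul]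
    | add x y hx hy =>
      rw [map_add, LinearMap.add_comp, LinearMap.comp_add, hx, hy]
  · intro hg
    have hg' : ∀ (d : D) (x : P ⊗[K] E), g ((DistribSMul.toLinearMap K E d).baseChange P x) =
        (DistribSMul.toLinearMap K F d).baseChange P (g x) := fun d x =>
      LinearMap.congr_fun (hg d) x
    let gi : Module.Free.ChooseBasisIndex K P → (E →ₗ[D] F) := fun i =>
      { toFun := fun e => eF (g (1 ⊗ₜ e)) i
        map_add' := fun e e' => by
          simp only [TensorProduct.tmul_add, map_add, Finsupp.add_apply]
        map_smul' := fun d e => by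
          have : (1 : P) ⊗ₜ[K] (d • e) = (DistribSMul.toLinearMap K E d).baseChange P (1 ⊗ₜ e) := by
            simp
          rw [this, hg', hB]
          rfl }
    have hgi : ∀ i e, gi i e = eF (g (1 ⊗ₜ e)) i := fun i e => rfl
    obtain ⟨S, hS⟩ := (Module.Finite.fg_top : (⊤ : Submodule D E).FG)
    let T : Finset (Module.Free.ChooseBasisIndex K P) :=
      S.biUnion fun s => (eF (g (1 ⊗ₜ s))).support
    have hT : ∀ i, gi i ≠ 0 → i ∈ T := by
      intro i hi
      by_contra hiT
      apply hi
      apply LinearMap.ext_on hS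
      intro s hs
      rw [hgi, LinearMap.zero_apply]
      by_contra hne
      apply hiT
      exact Finset.mem_biUnion.2 ⟨s, hs, Finsupp.mem_support_iff.2 hne⟩
    refine ⟨eH.symm (Finsupp.onFinset T gi hT), ?_⟩
    apply TensorProduct.AlgebraTensorModule.ext
    intro q e
    have hq : q ⊗ₜ[K] e = q • ((1 : P) ⊗ₜ[K] e) := by
      rw [TensorProduct.smul_tmul', smul_eq_mul, mul_one]
    rw [hq, map_smul, map_smul]
    congr 1
    apply eF.injective
    ext i
    rw [hA, LinearEquiv.apply_symm_apply, Finsupp.onFinset_apply, hgi]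

end Groth.Agent.H93.DefMod
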