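import Mathlib.RingTheory.TensorProduct.Basic
import Mathlib.FieldTheory.IsAlgClosed.AlgebraicClosure
import Mathlib.FieldTheory.IsAlgClosed.Spectrum
import Mathlib.Algebra.Module.FinitePresentation
import Mathlib.LinearAlgebra.Dimension.Constructions
import Mathlib.RingTheory.IntegralClosure.Algebra.Basic
import Mathlib.LinearAlgebra.FiniteDimensional.Basic
import Groth.Agent.H93.HomBaseChange

set_option autoImplicit false
universe u v w w' u'
open scoped TensorProduct

namespace Groth.Agent.H93.DefMod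

open TensorProduct

theorem schur_scalar {k : Type*} [Field k] [IsAlgClosed k] {V : Type*} [AddCommGroup V] [Module k V]
    [Nontrivial V] {ι : Type*} (act : ι → Module.End k V)
    (hirr : ∀ N : Submodule k V, (∀ d x, x ∈ N → act d x ∈ N) → N = ⊥ ∨ N = ⊤)
    (T : Module.End k V) (hT : ∀ d, T ∘ₗ act d = act d ∘ₗ T) (hint : IsIntegral k T) :
    ∃ c : k, ∀ x, T x = c • x := by
  obtain ⟨p, hmon, hp⟩ := hint
  have nu : ¬IsUnit (Polynomial.aeval T p) := by
    rw [Polynomial.aeval_def, hp]; simp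
  rw [(IsAlgClosed.splits p).eq_prod_roots_of_monic hmon] at nu
  obtain ⟨c, hc, _⟩ := spectrum.exists_mem_of_not_isUnit_aeval_prod nu
  refine ⟨c, ?_⟩
  rw [spectrum.mem_iff] at hc
  set S : Module.End k V := algebraMap k _ c - T with hS
  have hSx : ∀ x, S x = c • x - T x := fun x => by
    simp [S, Module.algebraMap_end_apply]
  have hSact : ∀ d x, S (act d x) = act d (S x) := by
    intro d x
    have := LinearMap.congr_fun (hT d) x
    simp only [LinearMap.comp_apply] at this
    rw [hSx, hSx, this, map_sub, map_smul]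
  have hzero : S = 0 → ∀ x, T x = c • x := by
    intro h x
    have := hSx x
    rw [h, LinearMap.zero_apply] at this
    exact (sub_eq_zero.1 this.symm).symm
  rcases hirr (LinearMap.ker S) (fun d x hx => by
    rw [LinearMap.mem_ker] at *; rw [hSact, hx, map_zero]) with h | h
  · rcases hirr (LinearMap.range S) (fun d x hx => by
      obtain ⟨y, rfl⟩ := hx; exact ⟨act d y, hSact d y⟩) with h' | h'
    · exact hzero (LinearMap.range_eq_bot.1 h')
    · exfalso
      apply hc
      rw [Module.End.isUnit_iff]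
      exact ⟨LinearMap.ker_eq_bot.1 h, LinearMap.range_eq_top.1 h'⟩
  · exact hzero (LinearMap.ker_eq_top.1 h)

theorem end_eq_scalars
    {K : Type u} [Field K]
    {D : Type v} [Ring D] [Algebra K D]
    {E : Type w} [AddCommGroup E] [Module K E] [Module D E] [IsScalarTower K D E]
    [Module.Finite K (E →ₗ[D] E)] [Module.Finite D E]
    (L : Type u') [Field L] [Algebra K L] [IsAlgClosed L]
    (habs : Nontrivial (L ⊗[K] E) ∧ ∀ N : Submodule L (L ⊗[K] E),
      (∀ (d : D) (x : L ⊗[K] E), x ∈ N → (DistribSMul.toLinearMap K E d).baseChange L x ∈ N) →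
        N = ⊥ ∨ N = ⊤)
    (φ : E →ₗ[D] E) : ∃ c : K, ∀ x : E, φ x = c • x := by
  classical
  obtain ⟨hnt, hirr⟩ := habs
  let Φ : L ⊗[K] (E →ₗ[D] E) →ₗ[L] (L ⊗[K] E →ₗ[L] L ⊗[K] E) :=
    LinearMap.liftBaseChange L
      (LinearMap.baseChangeHom K L E E ∘ₗ LinearMap.restrictScalarsₗ K D E E K)
  have hΦ : ∀ (p : L) (f : E →ₗ[D] E),
      Φ (p ⊗ₜ[K] f) = p • (f.restrictScalars K).baseChange L := by
    intro p f
    rfl
  obtain ⟨hinj, hrange⟩ := baseChange_hom_iso L Φ hΦ
  let act : D → Module.End L (L ⊗[K] E) := fun d => (DistribSMul.toLinearMap K E d).baseChange L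
  -- every element of the range is a scalar
  have hsc : ∀ w : L ⊗[K] (E →ₗ[D] E), ∃ c : L, ∀ x, Φ w x = c • x := by
    intro w
    have hcomm := (hrange (Φ w)).1 ⟨w, rfl⟩
    refine schur_scalar act hirr (Φ w) hcomm ?_
    refine IsIntegral.of_mem_of_fg (Subalgebra.centralizer L (Set.range act)) ?_ (Φ w) ?_
    · have : Subalgebra.toSubmodule (Subalgebra.centralizer L (Set.range act)) =
          LinearMap.range Φ := by
        ext g
        rw [Subalgebra.mem_toSubmodule, Subalgebra.mem_centralizer_iff, hrange]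
        constructor
        · intro h d
          exact (h (act d) ⟨d, rfl⟩).symm
        · rintro h _ ⟨d, rfl⟩
          exact (h d).symm
      rw [this, LinearMap.range_eq_map]
      exact Module.Finite.fg_top.map Φ
    · rw [Subalgebra.mem_centralizer_iff]
      rintro _ ⟨d, rfl⟩
      exact (hcomm d).symm
  have hΦid : Φ (1 ⊗ₜ LinearMap.id) = LinearMap.id := by
    rw [hΦ, one_smul]
    ext x
    simp
  have hne : (1 : L) ⊗ₜ[K] (LinearMap.id : E →ₗ[D] E) ≠ 0 := by
    intro h
    have h0 : (LinearMap.id : L ⊗[K] E →ₗ[L] L ⊗[K] E) = 0 := by rw [← hΦid, h, map_zero]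
    obtain ⟨x, hx⟩ := exists_ne (0 : L ⊗[K] E)
    exact hx (LinearMap.congr_fun h0 x)
  have h1 : Module.finrank L (L ⊗[K] (E →ₗ[D] E)) = 1 := by
    rw [finrank_eq_one_iff_of_nonzero' _ hne]
    intro w
    obtain ⟨c, hc⟩ := hsc w
    refine ⟨c, hinj ?_⟩
    rw [map_smul, hΦid]
    ext x
    simp [hc]
  have h2 : Module.finrank K (E →ₗ[D] E) = 1 := by
    rw [← Module.finrank_baseChange (R := L)]; exact h1
  have hid : (LinearMap.id : E →ₗ[D] E) ≠ 0 := by
    intro h
    apply hne
    rw [h, TensorProduct.tmul_zero]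
  obtain ⟨c, hc⟩ := (finrank_eq_one_iff_of_nonzero' _ hid).1 h2 φ
  refine ⟨c, fun x => ?_⟩
  rw [← hc]
  rfl

end Groth.Agent.H93.DefMod
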