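import Mathlib
import Groth.Agent.H93.Translate
import Groth.Prelude.Def_GLin

/-!
# Characteristic polynomial of multiplication on `R ⊗ H`
-/

set_option autoImplicit false
universe u v w w'
open TensorProduct Polynomial

namespace Groth.Agent.H93

section Chi

variable {k : Type u} [Field k] {H : Type v} [CommRing H] [Algebra k H] [Module.Finite k H]
variable {R : Type w} [CommRing R] [Algebra k R] {R' : Type w'} [CommRing R'] [Algebra k R']

/-- characteristic polynomial of multiplication by `z` on the free `R`-module `R ⊗ H` -/
noncomputable def chi (z : R ⊗[k] H) : R[X] := (LinearMap.mulLeft R z).charpoly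

theorem chi_monic (z : R ⊗[k] H) : (chi z).Monic := LinearMap.charpoly_monic _

theorem aeval_mulLeft (z : R ⊗[k] H) (p : R[X]) :
    Polynomial.aeval (LinearMap.mulLeft R z) p = LinearMap.mulLeft R (Polynomial.aeval z p) := by
  exact Polynomial.aeval_algHom_apply (Algebra.lmul R (R ⊗[k] H)) z p

theorem aeval_chi (z : R ⊗[k] H) : Polynomial.aeval z (chi z) = 0 := by
  have h := LinearMap.aeval_self_charpoly (LinearMap.mulLeft R z)
  rw [aeval_mulLeft] at h
  have := LinearMap.congr_fun h 1
  simpa [chi] using this

theorem chi_algEquiv (θ : R ⊗[k] H ≃ₐ[R] R ⊗[k] H) (z : R ⊗[k] H) : chi (θ z) = chi z := by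
  unfold chi
  rw [← LinearEquiv.charpoly_conj θ.toLinearEquiv (LinearMap.mulLeft R z)]
  congr 1
  ext x
  simp [LinearEquiv.conj_apply]

omit [Module.Finite k H] in
theorem repr_map {ι : Type*} (b : Module.Basis ι k H) (g : R →ₐ[k] R') (x : R ⊗[k] H) (i : ι) :
    (Algebra.TensorProduct.basis R' b).repr (Algebra.TensorProduct.map g (AlgHom.id k H) x) i =
      g ((Algebra.TensorProduct.basis R b).repr x i) := by
  induction x using TensorProduct.induction_on with
  | zero => simp
  | add x y hx hy => simp only [map_add, Finsupp.add_apply, hx, hy]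
  | tmul r h =>
    simp [Algebra.TensorProduct.basis_repr_tmul]

theorem chi_map (g : R →ₐ[k] R') (z : R ⊗[k] H) :
    (chi z).map (g : R →+* R') = chi (Algebra.TensorProduct.map g (AlgHom.id k H) z) := by
  classical
  let b := Module.Free.chooseBasis k H
  have h1 := LinearMap.charpoly_toMatrix (LinearMap.mulLeft R z) (Algebra.TensorProduct.basis R b)
  have h2 := LinearMap.charpoly_toMatrix
    (LinearMap.mulLeft R' (Algebra.TensorProduct.map g (AlgHom.id k H) z))
    (Algebra.TensorProduct.basis R' b)
  unfold chi
  rw [← h1, ← h2, ← Matrix.charpoly_map]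
  congr 1
  ext i j
  rw [Matrix.map_apply, LinearMap.toMatrix_apply, LinearMap.toMatrix_apply]
  have h3 := repr_map b g (z * (Algebra.TensorProduct.basis R b) j) i
  rw [LinearMap.mulLeft_apply, LinearMap.mulLeft_apply]
  refine Eq.trans h3.symm ?_
  congr 3
  simp [Algebra.TensorProduct.basis_apply]

end Chi

section Integral

variable {k : Type u} [Field k] {H : Type v} [CommRing H] [HopfAlgebra k H] [Module.Finite k H]
variable {R : Type w} [CommRing R] [Algebra k R] [HopfRep.Comod k H R] [GLin.IsCoactAlg k H R]

omit [Module.Finite k H] [GLin.IsCoactAlg k H R] in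
/-- translating `x ⊗ 1` by the universal point gives `(id ⊗ Δ) x`. -/
theorem translEquiv_includeRight (x : R ⊗[k] H) :
    transl (Algebra.TensorProduct.includeRight : H →ₐ[k] R ⊗[k] H)
      (Algebra.TensorProduct.map (Algebra.TensorProduct.includeLeft : R →ₐ[k] R ⊗[k] H)
        (AlgHom.id k H) x) =
    (TensorProduct.assoc k R H H).symm ((Coalgebra.comul (R := k) (A := H)).lTensor R x) := by
  induction x using TensorProduct.induction_on with
  | zero => simp
  | add x y hx hy => simp only [map_add, hx, hy]
  | tmul r h =>
    rw [Algebra.TensorProduct.map_tmul, AlgHom.id_apply, transl_tmul, phiT_apply,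
      LinearMap.lTensor_tmul]
    induction (Coalgebra.comul (R := k) h : H ⊗[k] H) using TensorProduct.induction_on with
    | zero => simp
    | add s t hs ht => simp only [map_add, mul_add, tmul_add, hs, ht]
    | tmul y1 y2 => simp [Algebra.TensorProduct.tmul_mul_tmul]

omit [Module.Finite k H] in
theorem map_coact_eq_rTensor (x : R ⊗[k] H) :
    Algebra.TensorProduct.map (GLin.coactAlgHom k H R) (AlgHom.id k H) x =
      (HopfRep.Comod.coact (k := k) (A := H) (V := R)).rTensor H x := by
  induction x using TensorProduct.induction_on with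
  | zero => simp
  | add x y hx hy => simp only [map_add, hx, hy]
  | tmul r h => simp

/-- the characteristic polynomial of `ρ f` has invariant coefficients -/
theorem chi_coact_map (f : R) :
    (chi (HopfRep.Comod.coact (k := k) (A := H) f)).map
        ((GLin.coactAlgHom k H R : R →ₐ[k] R ⊗[k] H) : R →+* R ⊗[k] H) =
      (chi (HopfRep.Comod.coact (k := k) (A := H) f)).map
        ((Algebra.TensorProduct.includeLeft : R →ₐ[k] R ⊗[k] H) : R →+* R ⊗[k] H) := by
  rw [chi_map, chi_map,
    ← chi_algEquiv (translEquiv (Algebra.TensorProduct.includeRight : H →ₐ[k] R ⊗[k] H))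
      (Algebra.TensorProduct.map (Algebra.TensorProduct.includeLeft : R →ₐ[k] R ⊗[k] H)
        (AlgHom.id k H) _)]
  congr 1
  rw [translEquiv_apply, translEquiv_includeRight, map_coact_eq_rTensor]
  have h := LinearMap.congr_fun (HopfRep.Comod.coassoc (k := k) (A := H) (V := R)) f
  simp only [LinearMap.comp_apply, LinearEquiv.coe_coe] at h
  rw [← h, LinearEquiv.symm_apply_apply]

theorem coeff_chi_coact_mem_invariants (f : R) (n : ℕ) :
    (chi (HopfRep.Comod.coact (k := k) (A := H) f)).coeff n ∈ GLin.invariants k H R := by
  have h := congrArg (fun p => p.coeff n) (chi_coact_map (k := k) (H := H) f)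
  simp only [Polynomial.coeff_map] at h
  exact h

omit [Module.Finite k H] [GLin.IsCoactAlg k H R] in
theorem counitR_coact (f : R) :
    Algebra.TensorProduct.lift (AlgHom.id R R)
      ((Algebra.ofId k R).comp (Bialgebra.counitAlgHom k H)) (fun _ _ => Commute.all _ _)
      (HopfRep.Comod.coact (k := k) (A := H) f) = f := by
  have h := LinearMap.congr_fun (HopfRep.Comod.counit_comp (k := k) (A := H) (V := R)) f
  simp only [LinearMap.comp_apply, LinearMap.flip_apply, TensorProduct.mk_apply] at h
  have h2 : ∀ x : R ⊗[k] H, Algebra.TensorProduct.lift (AlgHom.id R R)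
      ((Algebra.ofId k R).comp (Bialgebra.counitAlgHom k H)) (fun _ _ => Commute.all _ _) x =
      TensorProduct.rid k R ((Coalgebra.counit (R := k) (A := H)).lTensor R x) := by
    intro x
    induction x using TensorProduct.induction_on with
    | zero => simp
    | add x y hx hy => simp only [map_add, hx, hy]
    | tmul r h =>
      simp [Algebra.ofId_apply, Algebra.algebraMap_eq_smul_one]
  rw [h2, h]
  simp

theorem aeval_chi_coact (f : R) :
    Polynomial.aeval f (chi (HopfRep.Comod.coact (k := k) (A := H) f)) = 0 := by
  have h := aeval_chi (HopfRep.Comod.coact (k := k) (A := H) f)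
  have h2 := congrArg (Algebra.TensorProduct.lift (AlgHom.id R R)
      ((Algebra.ofId k R).comp (Bialgebra.counitAlgHom k H)) (fun _ _ => Commute.all _ _)) h
  rw [← Polynomial.aeval_algHom_apply, counitR_coact, map_zero] at h2
  exact h2

/-- **Integrality over the invariants** for an action of a finite group scheme. -/
theorem isIntegral_invariants (f : R) : IsIntegral (GLin.invariants k H R) f := by
  rcases subsingleton_or_nontrivial R with hR | hR
  · have : f = algebraMap (GLin.invariants k H R) R 0 := Subsingleton.elim _ _
    rw [this]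
    exact isIntegral_algebraMap
  have hl : chi (HopfRep.Comod.coact (k := k) (A := H) f) ∈
      Polynomial.lifts (algebraMap (GLin.invariants k H R) R) := by
    rw [Polynomial.lifts_iff_coeff_lifts]
    intro n
    exact ⟨⟨_, coeff_chi_coact_mem_invariants f n⟩, rfl⟩
  obtain ⟨q, hq, -, hqm⟩ := Polynomial.lifts_and_degree_eq_and_monic hl (chi_monic _)
  refine ⟨q, hqm, ?_⟩
  rw [← Polynomial.eval_map, hq]
  have := aeval_chi_coact (k := k) (H := H) f
  rwa [Polynomial.aeval_def, Polynomial.eval₂_eq_eval_map, Algebra.algebraMap_self,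
    Polynomial.map_id] at this

instance isIntegral_invariants' : Algebra.IsIntegral (GLin.invariants k H R) R :=
  ⟨isIntegral_invariants⟩

end Integral

end Groth.Agent.H93
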