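import Groth.Prelude.Def_Magnet
import Mathlib.CategoryTheory.Sites.Canonical
import Mathlib.CategoryTheory.Sites.SheafOfTypes
import Mathlib.CategoryTheory.Sites.Sheaf

set_option autoImplicit false
universe v₁ u₁
open CategoryTheory MonoidalCategory CartesianMonoidalCategory MonObj Opposite

namespace Groth.Agent.H93.Magnet

variable {C : Type u₁} [Category.{v₁} C] [CartesianMonoidalCategory C]

theorem isSheaf_fixedPsh (J : GrothendieckTopology C) [J.Subcanonical]
    {A X : C} [MonObj A] (a : Magnet.MonAct A X) :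
    Presheaf.IsSheaf J (Magnet.MonAct.fixedPsh a) := by
  rw [isSheaf_iff_isSheaf_of_type]
  have hsh : Presieve.IsSheaf J (yoneda.obj X) :=
    GrothendieckTopology.Subcanonical.isSheaf_of_isRepresentable _
  intro T S hS x hx
  let y : Presieve.FamilyOfElements (yoneda.obj X) S.arrows := fun U f hf => (x f hf).1
  have hy : y.Compatible := by
    intro Y₁ Y₂ Z g₁ g₂ f₁ f₂ h₁ h₂ e
    exact congrArg Subtype.val (hx g₁ g₂ h₁ h₂ e)
  obtain ⟨z, hz, hzuniq⟩ := hsh S hS y hy
  have hz' : ∀ ⦃U : C⦄ (f : U ⟶ T) (hf : S f), f ≫ z = (x f hf).1 := fun U f hf => hz f hf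
  have hzfix : ∀ (T' : C) (t : T' ⟶ T) (g : T' ⟶ A), lift g (t ≫ z) ≫ a.act = t ≫ z := by
    intro T' t g
    refine (hsh (S.pullback t) (J.pullback_stable t hS)).isSeparatedFor.ext ?_
    intro U h hh
    change h ≫ (lift g (t ≫ z) ≫ a.act) = h ≫ (t ≫ z)
    have h1 : (h ≫ t) ≫ z = (x (h ≫ t) hh).1 := hz' (h ≫ t) hh
    have h2 := (x (h ≫ t) hh).2 U (𝟙 U) (h ≫ g)
    rw [Category.id_comp] at h2
    rw [← Category.assoc, comp_lift, ← Category.assoc h t z, h1, h2]
  refine ⟨⟨z, hzfix⟩, ?_, ?_⟩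
  · intro U f hf
    exact Subtype.ext (hz' f hf)
  · intro w hw
    apply Subtype.ext
    exact hzuniq w.1 (fun U f hf => congrArg Subtype.val (hw f hf))

end Groth.Agent.H93.Magnet
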