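import Mathlib
import Groth.Agent.H83.FinDual

/-!
# Free actions of finite group schemes on finite schemes over an algebraically closed field

`ρ : A → A ⊗ H` a coaction of a finite Hopf algebra on a finite `k`-algebra such that
`A ⊗ A → A ⊗ H` is surjective.  Then `A` is free over the invariants of rank `dim H`.
-/

set_option autoImplicit false
universe u v w

open TensorProduct

namespace Groth.Agent.H93.FreeAction

section coord

variable {k : Type u} [Field k] {H : Type w} [AddCommGroup H] [Module k H]
  {ι : Type*} [Fintype ι] [DecidableEq ι] (b : Module.Basis ι k H)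
  {S : Type v} [CommRing S] [Algebra k S] {S' : Type*} [CommRing S'] [Algebra k S']

/-- base change of coordinates. -/
theorem coord_map (φ : S →ₐ[k] S') (m : S ⊗[k] H) (i : ι) :
    (Algebra.TensorProduct.basis S' b).repr
      (TensorProduct.map φ.toLinearMap (LinearMap.id : H →ₗ[k] H) m) i =
    φ ((Algebra.TensorProduct.basis S b).repr m i) := by
  induction m using TensorProduct.induction_on with
  | zero => simp
  | tmul s h =>
    rw [TensorProduct.map_tmul, Algebra.TensorProduct.basis_repr_tmul,
      Algebra.TensorProduct.basis_repr_tmul]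
    simp only [AlgHom.toLinearMap_apply, LinearMap.id_coe, id_eq, Finsupp.coe_smul, Pi.smul_apply,
      Finsupp.mapRange_apply, smul_eq_mul, map_mul, AlgHom.commutes]
  | add x y hx hy =>
    simp only [map_add, Finsupp.coe_add, Pi.add_apply, hx, hy]

theorem det_map (φ : S →ₐ[k] S') (v : ι → S ⊗[k] H) :
    (Algebra.TensorProduct.basis S' b).det
      (fun i => TensorProduct.map φ.toLinearMap (LinearMap.id : H →ₗ[k] H) (v i)) =
    φ ((Algebra.TensorProduct.basis S b).det v) := by
  rw [Module.Basis.det_apply, Module.Basis.det_apply, ← AlgHom.coe_toRingHom, RingHom.map_det]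
  congr 1
  ext i j
  simp only [Module.Basis.toMatrix_apply, RingHom.mapMatrix_apply, Matrix.map_apply,
    AlgHom.coe_toRingHom]
  exact coord_map b φ (v j) i

end coord

section units

variable {k : Type u} [Field k] [IsAlgClosed k] {A : Type v} [CommRing A] [Algebra k A]
  [Module.Finite k A]

theorem isUnit_of_forall_algHom (a : A) (h : ∀ χ : A →ₐ[k] k, χ a ≠ 0) : IsUnit a := by
  by_contra hu
  obtain ⟨m, hm, ham⟩ := exists_max_ideal_of_mem_nonunits (mem_nonunits_iff.2 hu)
  obtain ⟨χ, hχ⟩ := Groth.Agent.H83.FinDual.exists_algHom_ker_eq (k := k) m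
  apply h χ
  rw [← RingHom.mem_ker, hχ]
  exact ham

instance finite_algHom : Finite (A →ₐ[k] k) := by
  have := linearIndependent_toLinearMap k A k
  exact this.finite_of_isNoetherian

end units

section select

variable {k : Type u} [Field k] [Infinite k] {A : Type v} [AddCommGroup A] [Module k A]
  {V : Type w} [AddCommGroup V] [Module k V] [Module.Finite k V]
  {X : Type*} [Finite X] (L : X → A →ₗ[k] V) (hL : ∀ χ, Function.Surjective (L χ))

include hL in
theorem exists_family (j : ℕ) (hj : j ≤ Module.finrank k V) :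
    ∃ a : Fin j → A, ∀ χ, LinearIndependent k (fun i => L χ (a i)) := by
  classical
  haveI := Fintype.ofFinite X
  induction j with
  | zero => exact ⟨Fin.elim0, fun χ => linearIndependent_empty_type⟩
  | succ j ih =>
    obtain ⟨a, ha⟩ := ih (Nat.le_of_succ_le hj)
    let W : X → Submodule k A := fun χ =>
      (Submodule.span k (Set.range fun i => L χ (a i))).comap (L χ)
    have hW : ∀ χ, W χ ≠ ⊤ := by
      intro χ hχ
      have h1 : Submodule.span k (Set.range fun i => L χ (a i)) = ⊤ := by
        rw [eq_top_iff]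
        intro x _
        obtain ⟨y, rfl⟩ := hL χ x
        have : y ∈ W χ := by rw [hχ]; trivial
        exact this
      have h2 := finrank_span_le_card (R := k) (Set.range fun i => L χ (a i))
      rw [h1, finrank_top] at h2
      have h3 : (Set.range fun i => L χ (a i)).toFinset.card ≤ j := by
        calc _ ≤ Fintype.card (Fin j) := by
              rw [Set.toFinset_card]
              exact Fintype.card_range_le _
          _ = j := Fintype.card_fin j
      omega
    let s : Finset (Submodule k A) := Finset.univ.image W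
    have hs : ⊤ ∉ s := by
      intro h
      obtain ⟨χ, -, hχ⟩ := Finset.mem_image.1 h
      exact hW χ hχ
    have hne := Subspace.biUnion_ne_univ_of_top_notMem hs
    obtain ⟨x, hx⟩ : ∃ x, x ∉ ⋃ p ∈ s, (p : Set A) := by
      by_contra hcon
      push Not at hcon
      exact hne (Set.eq_univ_of_forall hcon)
    refine ⟨Fin.snoc a x, fun χ => ?_⟩
    have hx' : L χ x ∉ Submodule.span k (Set.range fun i => L χ (a i)) := by
      intro hmem
      apply hx
      simp only [Set.mem_iUnion]
      exact ⟨W χ, Finset.mem_image.2 ⟨χ, Finset.mem_univ _, rfl⟩, hmem⟩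
    have hcomp : (fun i => L χ ((Fin.snoc a x : Fin (j + 1) → A) i)) =
        Fin.snoc (fun i => L χ (a i)) (L χ x) := by
      funext i
      refine Fin.lastCases ?_ (fun i => ?_) i
      · simp
      · simp
    rw [hcomp, linearIndependent_finSnoc]
    exact ⟨ha χ, hx'⟩

end select

section semilinear

variable {k : Type u} [Field k] {H : Type w} [AddCommGroup H] [Module k H]
  {S : Type v} [CommRing S] [Algebra k S] {S' : Type*} [CommRing S'] [Algebra k S']

theorem map_smul_left (φ : S →ₐ[k] S') (c : S) (m : S ⊗[k] H) :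
    TensorProduct.map φ.toLinearMap (LinearMap.id : H →ₗ[k] H) (c • m) =
      φ c • TensorProduct.map φ.toLinearMap (LinearMap.id : H →ₗ[k] H) m := by
  induction m using TensorProduct.induction_on with
  | zero => simp
  | tmul s h =>
    rw [TensorProduct.smul_tmul', TensorProduct.map_tmul, TensorProduct.map_tmul,
      TensorProduct.smul_tmul']
    simp
  | add x y hx hy => simp only [smul_add, map_add, hx, hy]

theorem smul_eq_tmul_mul {S : Type v} [CommRing S] [Algebra k S] {H : Type w} [CommRing H]
    [Algebra k H] (r : S) (t : S ⊗[k] H) : r • t = (r ⊗ₜ[k] (1 : H)) * t := by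
  induction t using TensorProduct.induction_on with
  | zero => simp
  | tmul s h =>
    rw [TensorProduct.smul_tmul', Algebra.TensorProduct.tmul_mul_tmul, one_mul, smul_eq_mul]
  | add x y hx hy => simp only [smul_add, mul_add, hx, hy]

end semilinear

section main

variable {k : Type u} [Field k] {A : Type v} [CommRing A] [Algebra k A]
  {H : Type w} [CommRing H] [Bialgebra k H] (ρ : A →ₐ[k] A ⊗[k] H)

/-- the invariants of a coaction. -/
abbrev inv : Subalgebra k A :=
  AlgHom.equalizer ρ (Algebra.TensorProduct.includeLeft : A →ₐ[k] A ⊗[k] H)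

/-- coaction axioms. -/
structure IsCoaction : Prop where
  coassoc : ∀ a, Algebra.TensorProduct.map ρ (AlgHom.id k H) (ρ a) =
    (Algebra.TensorProduct.assoc k k k A H H).symm
      (Algebra.TensorProduct.map (AlgHom.id k A) (Bialgebra.comulAlgHom k H) (ρ a))
  counit : ∀ a, Algebra.TensorProduct.rid k k A
    (Algebra.TensorProduct.map (AlgHom.id k A) (Bialgebra.counitAlgHom k H) (ρ a)) = a

variable {ρ}

theorem algHom_smul {C : Type*} [CommRing C] [Algebra k C] (F : A ⊗[k] H →ₐ[k] C) (c : A)
    (m : A ⊗[k] H) : F (c • m) = F (c ⊗ₜ 1) * F m := by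
  rw [Algebra.smul_def, map_mul, Algebra.TensorProduct.algebraMap_apply]
  rfl

theorem main [IsAlgClosed k] [Nontrivial A] [Module.Finite k A] [Module.Finite k H]
    (hρ : IsCoaction ρ)
    (hfree : Submodule.span A (Set.range ρ) = ⊤) :
    Module.Free (inv ρ) A ∧ Module.finrank (inv ρ) A = Module.finrank k H := by
  classical
  obtain ⟨n, hn⟩ : ∃ n, n = Module.finrank k H := ⟨_, rfl⟩
  let b : Module.Basis (Fin n) k H := (Module.finBasis k H).reindex (finCongr hn.symm)
  -- the fibre maps
  let L : (A →ₐ[k] k) → A →ₗ[k] (k ⊗[k] H) := fun χ =>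
    (TensorProduct.map χ.toLinearMap (LinearMap.id : H →ₗ[k] H)) ∘ₗ ρ.toLinearMap
  have hL : ∀ χ, Function.Surjective (L χ) := by
    intro χ m'
    have hχ : Function.Surjective χ.toLinearMap := fun c => ⟨algebraMap k A c, by simp⟩
    have hid : Function.Surjective (LinearMap.id : H →ₗ[k] H) := fun h => ⟨h, rfl⟩
    obtain ⟨m, rfl⟩ := TensorProduct.map_surjective hχ hid m'
    have hm : m ∈ Submodule.span A (Set.range ρ) := by rw [hfree]; trivial
    induction hm using Submodule.span_induction with
    | mem x hx =>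
      obtain ⟨a, rfl⟩ := hx
      exact ⟨a, rfl⟩
    | zero => exact ⟨0, by simp⟩
    | add x y _ _ hx hy =>
      obtain ⟨a, ha⟩ := hx
      obtain ⟨a', ha'⟩ := hy
      exact ⟨a + a', by rw [map_add, ha, ha', map_add]⟩
    | smul c x _ hx =>
      obtain ⟨a, ha⟩ := hx
      refine ⟨χ c • a, ?_⟩
      rw [map_smul, ha, map_smul_left]
  have hV : Module.finrank k (k ⊗[k] H) = n := by
    rw [Module.finrank_eq_card_basis (Algebra.TensorProduct.basis k b), Fintype.card_fin]
  obtain ⟨a, ha⟩ := exists_family L hL n (by rw [hV])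
  -- the determinant is a unit
  have hdet : IsUnit ((Algebra.TensorProduct.basis A b).det (fun i => ρ (a i))) := by
    apply isUnit_of_forall_algHom (k := k)
    intro χ
    rw [← det_map b χ]
    have hli : LinearIndependent k (fun i => L χ (a i)) := ha χ
    have hsp : Submodule.span k (Set.range fun i => L χ (a i)) = ⊤ :=
      hli.span_eq_top_of_card_eq_finrank' (by rw [hV, Fintype.card_fin])
    exact ((Module.Basis.is_basis_iff_det (Algebra.TensorProduct.basis k b)).1 ⟨hli, hsp⟩).ne_zero
  obtain ⟨hli, hsp⟩ := (Module.Basis.is_basis_iff_det (Algebra.TensorProduct.basis A b)).2 hdet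
  -- the base-changed family is linearly independent over `A ⊗ H`
  have hdet' : IsUnit ((Algebra.TensorProduct.basis (A ⊗[k] H) b).det
      (fun i => TensorProduct.map ρ.toLinearMap (LinearMap.id : H →ₗ[k] H) (ρ (a i)))) := by
    rw [det_map b ρ]
    exact hdet.map ρ
  obtain ⟨hli', -⟩ := (Module.Basis.is_basis_iff_det (Algebra.TensorProduct.basis (A ⊗[k] H) b)).2 hdet'
  -- linear independence over the invariants
  have hliB : LinearIndependent (inv ρ) a := by
    rw [Fintype.linearIndependent_iff]
    intro g hg i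
    have h1 : ∑ i, ((g i : inv ρ) : A) • ρ (a i) = 0 := by
      have := congrArg ρ hg
      rw [map_sum, map_zero] at this
      rw [← this]
      refine Finset.sum_congr rfl fun i _ => ?_
      have hgi : ρ (g i : A) = (g i : A) ⊗ₜ 1 := (g i).2
      change _ = ρ ((g i : A) * a i)
      rw [map_mul, hgi, Algebra.smul_def, Algebra.TensorProduct.algebraMap_apply]
      rfl
    have := Fintype.linearIndependent_iff.1 hli _ h1 i
    exact Subtype.ext this
  -- spanning
  have hspB : ⊤ ≤ Submodule.span (inv ρ) (Set.range a) := by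
    rintro x -
    let v : Module.Basis (Fin n) A (A ⊗[k] H) := Module.Basis.mk hli hsp.ge
    have hv : ∀ i, v i = ρ (a i) := fun i => by simp [v]
    set c := v.repr (ρ x) with hc
    have hx : ρ x = ∑ i, c i • ρ (a i) := by
      conv_lhs => rw [← v.sum_repr (ρ x)]
      exact Finset.sum_congr rfl fun i _ => by rw [hv]
    -- apply the two maps
    have e1 : TensorProduct.map ρ.toLinearMap (LinearMap.id : H →ₗ[k] H) (ρ x) =
        ∑ i, ρ (c i) • TensorProduct.map ρ.toLinearMap (LinearMap.id : H →ₗ[k] H) (ρ (a i)) := by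
      conv_lhs => rw [hx]
      rw [map_sum]
      exact Finset.sum_congr rfl fun i _ => map_smul_left ρ _ _
    have hcoass : ∀ y : A, TensorProduct.map ρ.toLinearMap (LinearMap.id : H →ₗ[k] H) (ρ y) =
        (Algebra.TensorProduct.assoc k k k A H H).symm
          (Algebra.TensorProduct.map (AlgHom.id k A) (Bialgebra.comulAlgHom k H) (ρ y)) :=
      fun y => hρ.coassoc y
    have e2 : TensorProduct.map ρ.toLinearMap (LinearMap.id : H →ₗ[k] H) (ρ x) =
        ∑ i, ((c i) ⊗ₜ[k] (1 : H)) •
          TensorProduct.map ρ.toLinearMap (LinearMap.id : H →ₗ[k] H) (ρ (a i)) := by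
      rw [hcoass x]
      conv_lhs => rw [hx]
      rw [map_sum, map_sum]
      refine Finset.sum_congr rfl fun i _ => ?_
      rw [hcoass (a i)]
      let F : A ⊗[k] H →ₐ[k] (A ⊗[k] H) ⊗[k] H :=
        ((Algebra.TensorProduct.assoc k k k A H H).symm : _ →ₐ[k] _).comp
          (Algebra.TensorProduct.map (AlgHom.id k A) (Bialgebra.comulAlgHom k H))
      change F (c i • ρ (a i)) = _ • F (ρ (a i))
      rw [algHom_smul, smul_eq_tmul_mul]
      congr 1
      change (Algebra.TensorProduct.assoc k k k A H H).symm
        (Algebra.TensorProduct.map (AlgHom.id k A) (Bialgebra.comulAlgHom k H)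
          (c i ⊗ₜ[k] (1 : H))) = _
      rw [Algebra.TensorProduct.map_tmul, map_one, Algebra.TensorProduct.one_def,
        AlgHom.id_apply]
      rfl
    have e3 : ∑ i, (ρ (c i) - (c i) ⊗ₜ[k] (1 : H)) •
        TensorProduct.map ρ.toLinearMap (LinearMap.id : H →ₗ[k] H) (ρ (a i)) = 0 := by
      have hsub : ∀ i, (ρ (c i) - (c i) ⊗ₜ[k] (1 : H)) •
          TensorProduct.map ρ.toLinearMap (LinearMap.id : H →ₗ[k] H) (ρ (a i)) =
          ρ (c i) • TensorProduct.map ρ.toLinearMap (LinearMap.id : H →ₗ[k] H) (ρ (a i)) -
          ((c i) ⊗ₜ[k] (1 : H)) •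
            TensorProduct.map ρ.toLinearMap (LinearMap.id : H →ₗ[k] H) (ρ (a i)) :=
        fun i => sub_smul (R := A ⊗[k] H) (M := (A ⊗[k] H) ⊗[k] H) _ _ _
      rw [Finset.sum_congr rfl (fun i _ => hsub i), Finset.sum_sub_distrib, ← e1, ← e2, sub_self]
    have hcB : ∀ i, c i ∈ inv ρ := by
      intro i
      have := Fintype.linearIndependent_iff.1 hli' _ e3 i
      exact sub_eq_zero.1 this
    have hxa : x = ∑ i, c i * a i := by
      let G : A ⊗[k] H →ₐ[k] A :=
        ((Algebra.TensorProduct.rid k k A : _ →ₐ[k] A)).comp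
          (Algebra.TensorProduct.map (AlgHom.id k A) (Bialgebra.counitAlgHom k H))
      have hG : ∀ y, G (ρ y) = y := fun y => hρ.counit y
      conv_lhs => rw [← hG x, hx]
      rw [map_sum]
      refine Finset.sum_congr rfl fun i _ => ?_
      rw [algHom_smul, hG]
      congr 1
      change Algebra.TensorProduct.rid k k A (Algebra.TensorProduct.map (AlgHom.id k A)
        (Bialgebra.counitAlgHom k H) (c i ⊗ₜ[k] (1 : H))) = c i
      rw [Algebra.TensorProduct.map_tmul, map_one, AlgHom.id_apply,
        Algebra.TensorProduct.rid_tmul, one_smul]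
    rw [hxa]
    refine Submodule.sum_mem _ fun i _ => ?_
    have : c i * a i = (⟨c i, hcB i⟩ : inv ρ) • a i := rfl
    rw [this]
    exact Submodule.smul_mem _ _ (Submodule.subset_span ⟨i, rfl⟩)
  let B : Module.Basis (Fin n) (inv ρ) A := Module.Basis.mk hliB hspB
  refine ⟨Module.Free.of_basis B, ?_⟩
  rw [Module.finrank_eq_card_basis B, Fintype.card_fin, hn]

end main

end Groth.Agent.H93.FreeAction
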