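import Mathlib
import Groth.Agent.H93.FreeAction

/-!
# Lagrange's theorem for finite group schemes over an algebraically closed field

`A` a finite commutative Hopf algebra, `π : A → H` a surjective bialgebra map; then `A` is free
over the right `H`-invariants of rank `dim H`.
-/

set_option autoImplicit false
universe u v w

open TensorProduct

namespace Groth.Agent.H93.FreeAction

section hopf

variable {k : Type u} [Field k] {A : Type v} [CommRing A] [HopfAlgebra k A]
  {H : Type w} [CommRing H] [Bialgebra k H] (π : A →ₐ[k] H)

/-- the coaction of a quotient. -/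
noncomputable abbrev rho : A →ₐ[k] A ⊗[k] H :=
  (Algebra.TensorProduct.map (AlgHom.id k A) π).comp (Bialgebra.comulAlgHom k A)

variable {π}

theorem isCoaction_rho
    (hπΔ : ∀ a, CoalgebraStruct.comul (R := k) (π a) =
      TensorProduct.map π.toLinearMap π.toLinearMap (CoalgebraStruct.comul (R := k) a))
    (hπε : ∀ a, CoalgebraStruct.counit (R := k) (π a) = CoalgebraStruct.counit (R := k) a) :
    IsCoaction (rho π) := by
  constructor
  · intro a
    let Φ1 : (A ⊗[k] A) ⊗[k] A →ₗ[k] (A ⊗[k] H) ⊗[k] H :=
      TensorProduct.map (TensorProduct.map LinearMap.id π.toLinearMap) π.toLinearMap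
    have key1 : ∀ t : A ⊗[k] A,
        Algebra.TensorProduct.map (rho π) (AlgHom.id k H)
          (Algebra.TensorProduct.map (AlgHom.id k A) π t) =
        Φ1 ((CoalgebraStruct.comul (R := k) (A := A)).rTensor A t) := by
      intro t
      induction t using TensorProduct.induction_on with
      | zero => simp
      | tmul x y =>
        simp only [Algebra.TensorProduct.map_tmul, AlgHom.id_apply, LinearMap.rTensor_tmul, Φ1,
          TensorProduct.map_tmul, AlgHom.toLinearMap_apply]
        rfl
      | add x y hx hy => simp only [map_add, hx, hy]
    have key2 : ∀ t : A ⊗[k] A,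
        (Algebra.TensorProduct.assoc k k k A H H).symm
          (Algebra.TensorProduct.map (AlgHom.id k A) (Bialgebra.comulAlgHom k H)
            (Algebra.TensorProduct.map (AlgHom.id k A) π t)) =
        Φ1 ((TensorProduct.assoc k A A A).symm
          ((CoalgebraStruct.comul (R := k) (A := A)).lTensor A t)) := by
      intro t
      induction t using TensorProduct.induction_on with
      | zero => simp
      | tmul x y =>
        simp only [Algebra.TensorProduct.map_tmul, AlgHom.id_apply, LinearMap.lTensor_tmul,
          Bialgebra.comulAlgHom_apply, hπΔ]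
        generalize CoalgebraStruct.comul (R := k) y = s
        induction s using TensorProduct.induction_on with
        | zero => simp
        | tmul y1 y2 => rfl
        | add s1 s2 h1 h2 => simp only [map_add, TensorProduct.tmul_add, h1, h2]
      | add x y hx hy => simp only [map_add, hx, hy]
    change Algebra.TensorProduct.map (rho π) (AlgHom.id k H)
      (Algebra.TensorProduct.map (AlgHom.id k A) π (CoalgebraStruct.comul (R := k) a)) =
      (Algebra.TensorProduct.assoc k k k A H H).symm
        (Algebra.TensorProduct.map (AlgHom.id k A) (Bialgebra.comulAlgHom k H)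
          (Algebra.TensorProduct.map (AlgHom.id k A) π (CoalgebraStruct.comul (R := k) a)))
    rw [key1, key2, Coalgebra.coassoc_symm_apply]
  · intro a
    have key : ∀ t : A ⊗[k] A,
        Algebra.TensorProduct.map (AlgHom.id k A) (Bialgebra.counitAlgHom k H)
          (Algebra.TensorProduct.map (AlgHom.id k A) π t) =
        (CoalgebraStruct.counit (R := k) (A := A)).lTensor A t := by
      intro t
      induction t using TensorProduct.induction_on with
      | zero => simp
      | tmul x y =>
        simp only [Algebra.TensorProduct.map_tmul, AlgHom.id_apply, LinearMap.lTensor_tmul,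
          Bialgebra.counitAlgHom_apply, hπε]
      | add x y hx hy => simp only [map_add, hx, hy]
    change Algebra.TensorProduct.rid k k A
      (Algebra.TensorProduct.map (AlgHom.id k A) (Bialgebra.counitAlgHom k H)
        (Algebra.TensorProduct.map (AlgHom.id k A) π (CoalgebraStruct.comul (R := k) a))) = a
    rw [key, Coalgebra.lTensor_counit_comul, Algebra.TensorProduct.rid_tmul, one_smul]

theorem one_tmul_mem_span (y : A) :
    (1 : A) ⊗ₜ[k] π y ∈ Submodule.span A (Set.range (rho π)) := by
  let j1 : A →ₐ[k] A ⊗[k] H := Algebra.TensorProduct.includeLeft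
  let j2 : A →ₐ[k] A ⊗[k] H := (Algebra.TensorProduct.includeRight).comp π
  have h1 : WithConv.toConv (rho π) = WithConv.toConv j1 * WithConv.toConv j2 := by
    apply WithConv.ofConv_injective
    apply AlgHom.ext
    intro a
    have := AlgHom.convMul_apply (WithConv.toConv j1) (WithConv.toConv j2) a
    change _ = (WithConv.toConv j1 * WithConv.toConv j2) a
    rw [this]
    change Algebra.TensorProduct.map (AlgHom.id k A) π (CoalgebraStruct.comul (R := k) a) = _
    generalize CoalgebraStruct.comul (R := k) a = t
    induction t using TensorProduct.induction_on with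
    | zero => simp
    | tmul x z =>
      simp only [Algebra.TensorProduct.map_tmul, AlgHom.id_apply, WithConv.ofConv_toConv,
        Algebra.TensorProduct.lift_tmul, j1, j2, Algebra.TensorProduct.includeLeft_apply,
        AlgHom.comp_apply, Algebra.TensorProduct.includeRight_apply,
        Algebra.TensorProduct.tmul_mul_tmul, mul_one, one_mul]
    | add s t hs ht => simp only [map_add, hs, ht]
  have h2 : (WithConv.toConv j1)⁻¹ * WithConv.toConv (rho π) = WithConv.toConv j2 := by
    rw [h1]
    exact inv_mul_cancel_left (G := WithConv (A →ₐ[k] A ⊗[k] H)) (WithConv.toConv j1)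
      (WithConv.toConv j2)
  have h3 : ((WithConv.toConv j1)⁻¹ * WithConv.toConv (rho π)) y = (1 : A) ⊗ₜ[k] π y := by
    rw [h2]
    rfl
  rw [← h3, AlgHom.convMul_apply]
  generalize CoalgebraStruct.comul (R := k) y = t
  induction t using TensorProduct.induction_on with
  | zero => simp
  | tmul x z =>
    rw [Algebra.TensorProduct.lift_tmul]
    change (HopfAlgebra.antipodeAlgHom k A x ⊗ₜ[k] (1 : H)) * rho π z ∈ _
    rw [← smul_eq_tmul_mul]
    exact Submodule.smul_mem _ _ (Submodule.subset_span ⟨z, rfl⟩)
  | add s t hs ht =>
    rw [map_add]; exact Submodule.add_mem _ hs ht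

theorem span_rho_eq_top (hπ : Function.Surjective π) :
    Submodule.span A (Set.range (rho π)) = ⊤ := by
  rw [eq_top_iff]
  rintro m -
  induction m using TensorProduct.induction_on with
  | zero => exact Submodule.zero_mem _
  | tmul x h =>
    obtain ⟨y, rfl⟩ := hπ h
    have : x ⊗ₜ[k] π y = x • ((1 : A) ⊗ₜ[k] π y) := by
      rw [TensorProduct.smul_tmul', smul_eq_mul, mul_one]
    rw [this]
    exact Submodule.smul_mem _ _ (one_tmul_mem_span y)
  | add s t hs ht => exact Submodule.add_mem _ hs ht

/-- **Lagrange**: `A` is free over the invariants of a quotient Hopf algebra, of rank its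
dimension. -/
theorem free_of_surjective [IsAlgClosed k] [Module.Finite k A] [Module.Finite k H]
    (hπΔ : ∀ a, CoalgebraStruct.comul (R := k) (π a) =
      TensorProduct.map π.toLinearMap π.toLinearMap (CoalgebraStruct.comul (R := k) a))
    (hπε : ∀ a, CoalgebraStruct.counit (R := k) (π a) = CoalgebraStruct.counit (R := k) a)
    (hπ : Function.Surjective π) :
    Module.Free (inv (rho π)) A ∧ Module.finrank (inv (rho π)) A = Module.finrank k H := by
  haveI : Nontrivial A := (Bialgebra.counitAlgHom k A).toRingHom.domain_nontrivial
  exact main (isCoaction_rho hπΔ hπε) (span_rho_eq_top hπ)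

end hopf

end Groth.Agent.H93.FreeAction
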