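import Mathlib
import Groth.Agent.H93.GLRed

/-!
# Homogeneous representations of `GL_n` are summands of twisted tensor powers (helper93)
-/

set_option autoImplicit false

namespace Groth.Agent.H93.GLHomog

open TensorProduct Groth.Agent.H93.TensGen Groth.Agent.H93.SchurWeyl Groth.Agent.H93.GLRed CoordGrp
open Groth.Agent.H74.Comod

universe u v w w'

attribute [local instance] module

section General

variable {k : Type u} [Field k] {A : Type v} [CommRing A] [Bialgebra k A]

/-- every element of the coefficient space is a sum of coefficients with respect to the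
coordinate forms of a basis -/
theorem exists_sum_of_mem_cf {T : Type w'} [AddCommGroup T] [Module k T] (cT : HopfRep.Comod k A T)
    {ι : Type*} [Fintype ι] [DecidableEq ι] (bT : Module.Basis ι k T) (x : A) (hx : x ∈ TensGen.cf cT) :
    ∃ t : ι → T, x = ∑ J, coeffMap cT (bT.coord J) (t J) := by
  unfold TensGen.cf at hx
  induction hx using Submodule.iSup_induction' with
  | mem ψ x hx =>
    obtain ⟨v, rfl⟩ := hx
    refine ⟨fun J => ψ (bT J) • v, ?_⟩
    conv_lhs => rw [← bT.sum_dual_apply_smul_coord ψ]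
    have : coeffMap cT (∑ J, ψ (bT J) • bT.coord J) = ∑ J, ψ (bT J) • coeffMap cT (bT.coord J) := by
      have h := map_sum (⟨⟨fun φ => coeffMap cT φ, coeffMap_add cT⟩, fun r φ => coeffMap_smul cT r φ⟩ :
        Module.Dual k T →ₗ[k] (T →ₗ[k] A)) (fun J => ψ (bT J) • bT.coord J) Finset.univ
      simp only [LinearMap.coe_mk, AddHom.coe_mk, coeffMap_smul] at h
      exact h
    rw [this, LinearMap.sum_apply]
    refine Finset.sum_congr rfl fun J _ => ?_
    rw [LinearMap.smul_apply, map_smul]
  | zero => exact ⟨fun _ => 0, by simp⟩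
  | add x y _ _ hx hy =>
    obtain ⟨t, rfl⟩ := hx
    obtain ⟨t', rfl⟩ := hy
    refine ⟨fun J => t J + t' J, ?_⟩
    simp only [map_add, Finset.sum_add_distrib]

/-- A finite-dimensional comodule all of whose matrix coefficients are coefficients of a
semisimple comodule `T` is a direct summand of a finite direct sum of copies of `T`. -/
theorem exists_summand {V : Type w} [AddCommGroup V] [Module k V] [Module.Finite k V]
    (ρ : HopfRep.Comod k A V) {T : Type w'} [AddCommGroup T] [Module k T]
    (cT : HopfRep.Comod k A T) (hss : letI := cT; IsSemisimpleModule (Dual k A) T)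
    {ι : Type} [Fintype ι] [DecidableEq ι] (bT : Module.Basis ι k T)
    (hcoef : ∀ φ v, coeffMap ρ φ v ∈ TensGen.cf cT) :
    ∃ (b : ℕ) (i : V →ₗ[k] (Fin b → T)) (p : (Fin b → T) →ₗ[k] V), p ∘ₗ i = LinearMap.id ∧
      IsHom ρ (ComodTens.Comod.pi fun _ : Fin b => cT) i ∧
      IsHom (ComodTens.Comod.pi fun _ : Fin b => cT) ρ p := by
  classical
  letI instV := ρ
  letI instT := cT
  haveI : IsSemisimpleModule (Dual k A) T := hss
  let bV := Module.finBasis k V
  let g : ι → (T →ₗ[Dual k A] A) := fun J =>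
    ofComodHom (coeffMap cT (bT.coord J)) (isHom_coeffMap cT _)
  let Φ : (Fin (Module.finrank k V) × ι → T) →ₗ[Dual k A] (Fin (Module.finrank k V) → A) :=
    LinearMap.pi (fun s => ∑ J, (g J) ∘ₗ (LinearMap.proj (s, J)))
  let j : V →ₗ[Dual k A] (Fin (Module.finrank k V) → A) :=
    LinearMap.pi (fun s => ofComodHom (coeffMap ρ (bV.coord s)) (isHom_coeffMap ρ _))
  have hj_inj : Function.Injective j := by
    intro v w hvw
    apply bV.ext_elem
    intro s
    have h1 : coeffMap ρ (bV.coord s) v = coeffMap ρ (bV.coord s) w := congrFun hvw s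
    have h2 := congrArg (CoalgebraStruct.counit (R := k) (A := A)) h1
    rw [counit_coeffMap, counit_coeffMap] at h2
    exact h2
  have hrange : ∀ v, j v ∈ LinearMap.range Φ := by
    intro v
    have h1 : ∀ s, ∃ t : ι → T, coeffMap ρ (bV.coord s) v = ∑ J, coeffMap cT (bT.coord J) (t J) :=
      fun s => exists_sum_of_mem_cf cT bT _ (hcoef _ _)
    choose t ht using h1
    refine ⟨fun sJ => t sJ.1 sJ.2, ?_⟩
    funext s
    change (∑ J, (g J) ∘ₗ (LinearMap.proj (s, J))) (fun sJ => t sJ.1 sJ.2) =
      coeffMap ρ (bV.coord s) v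
    rw [ht s, LinearMap.sum_apply]
    rfl
  obtain ⟨i', hi'⟩ := IsSemisimpleModule.lifting_property (R := Dual k A)
    (M := Fin (Module.finrank k V) × ι → T) (N := LinearMap.range Φ) (P := V)
    Φ.rangeRestrict Φ.surjective_rangeRestrict
    (j.codRestrict (LinearMap.range Φ) hrange)
  have hi'_inj : Function.Injective i' := by
    intro v w hvw
    apply hj_inj
    have h1 := congrArg Subtype.val (LinearMap.congr_fun hi' v)
    have h2 := congrArg Subtype.val (LinearMap.congr_fun hi' w)
    simp only [LinearMap.comp_apply, LinearMap.codRestrict_apply] at h1 h2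
    rw [← h1, ← h2, hvw]
  let e : Fin (Fintype.card (Fin (Module.finrank k V) × ι)) ≃ Fin (Module.finrank k V) × ι :=
    (Fintype.equivFin _).symm
  let R : (Fin (Module.finrank k V) × ι → T) ≃ₗ[Dual k A]
      (Fin (Fintype.card (Fin (Module.finrank k V) × ι)) → T) :=
    LinearEquiv.funCongrLeft (Dual k A) T e
  let i : V →ₗ[Dual k A] (Fin (Fintype.card (Fin (Module.finrank k V) × ι)) → T) :=
    R.toLinearMap ∘ₗ i'
  have hi_inj : Function.Injective i := R.injective.comp hi'_inj
  obtain ⟨p, hp⟩ := IsSemisimpleModule.extension_property (R := Dual k A)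
    (M := Fin (Fintype.card (Fin (Module.finrank k V) × ι)) → T) (N := V) (P := V) i hi_inj
    (LinearMap.id : V →ₗ[Dual k A] V)
  refine ⟨Fintype.card (Fin (Module.finrank k V) × ι), i.restrictScalars k, p.restrictScalars k,
    ?_, ?_, ?_⟩
  · apply LinearMap.ext
    intro v
    exact LinearMap.congr_fun hp v
  · apply isHom_of_proj
    intro s
    exact isComodHom_restrictScalars
      ((LinearMap.proj s : (Fin (Fintype.card (Fin (Module.finrank k V) × ι)) → T) →ₗ[Dual k A] T) ∘ₗ i)
  · apply isHom_of_single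
    intro s
    exact isComodHom_restrictScalars
      (p ∘ₗ (LinearMap.single (Dual k A) (fun _ : Fin (Fintype.card (Fin (Module.finrank k V) × ι)) => T) s))

/-! ### untwisting homomorphisms -/

private theorem aux_inv {V : Type w} [AddCommGroup V] [Module k V] (g g' : A) (h : g * g' = 1)
    (x : V ⊗[k] A) :
    (LinearMap.mulRight k g').lTensor V ((LinearMap.mulRight k g).lTensor V x) = x := by
  rw [← LinearMap.comp_apply, ← LinearMap.lTensor_comp]
  have : LinearMap.mulRight k g' ∘ₗ LinearMap.mulRight k g = LinearMap.id := by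
    apply LinearMap.ext
    intro a
    simp only [LinearMap.comp_apply, LinearMap.mulRight_apply, LinearMap.id_apply, mul_assoc, h,
      mul_one]
  rw [this, LinearMap.lTensor_id, LinearMap.id_apply]

private theorem aux_comm {V : Type w} [AddCommGroup V] [Module k V] {W : Type w'} [AddCommGroup W]
    [Module k W] (f : V →ₗ[k] W) (g : A) (x : V ⊗[k] A) :
    (LinearMap.mulRight k g).lTensor W (f.rTensor A x) =
      f.rTensor A ((LinearMap.mulRight k g).lTensor V x) := by
  rw [← LinearMap.comp_apply, ← LinearMap.comp_apply, LinearMap.lTensor_comp_rTensor,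
    LinearMap.rTensor_comp_lTensor]

theorem isHom_untwist_target {V : Type w} [AddCommGroup V] [Module k V] {W : Type w'}
    [AddCommGroup W] [Module k W] (c : HopfRep.Comod k A V) (d : HopfRep.Comod k A W) (g g' : A)
    (hg : IsGroupLikeElem k g) (hg' : IsGroupLikeElem k g') (h : g * g' = 1) (f : V →ₗ[k] W)
    (hf : IsHom (ComodTens.Comod.twist c g hg) d f) :
    IsHom c (ComodTens.Comod.twist d g' hg') f := by
  apply LinearMap.ext
  intro v
  rw [LinearMap.comp_apply, LinearMap.comp_apply, ComodTens.twist_coact, hf.apply,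
    ComodTens.twist_coact, aux_comm, aux_inv g g' h]

theorem isHom_untwist_source {V : Type w} [AddCommGroup V] [Module k V] {W : Type w'}
    [AddCommGroup W] [Module k W] (c : HopfRep.Comod k A V) (d : HopfRep.Comod k A W) (g g' : A)
    (hg : IsGroupLikeElem k g) (hg' : IsGroupLikeElem k g') (h : g * g' = 1) (f : W →ₗ[k] V)
    (hf : IsHom d (ComodTens.Comod.twist c g hg) f) :
    IsHom (ComodTens.Comod.twist d g' hg') c f := by
  apply LinearMap.ext
  intro e
  have h1 := hf.apply e
  rw [ComodTens.twist_coact] at h1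
  rw [LinearMap.comp_apply, LinearMap.comp_apply, ComodTens.twist_coact, ← aux_comm, ← h1,
    aux_inv g g' h]

end General

/-! ### the scalar torus of `GL_n` and homogeneity -/

section GLnSec

open LaurentPolynomial

variable {k : Type u} [Field k] (n : ℕ)

/-- the restriction of the comultiplication to the scalar torus in the second factor -/
noncomputable def Θ : GLn n k →ₐ[k] GLn n k ⊗[k] k[T;T⁻¹] :=
  (Algebra.TensorProduct.map (AlgHom.id k (GLn n k))
    ((GLn.diag n k (fun _ => 1) : GLn n k →ₐc[k] k[T;T⁻¹]) : GLn n k →ₐ[k] k[T;T⁻¹])).comp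
    (Bialgebra.comulAlgHom k (GLn n k))

theorem Θ_apply (x : GLn n k) :
    Θ n x = TensorProduct.map LinearMap.id
      ((GLn.diag n k (fun _ => 1) : GLn n k →ₐc[k] k[T;T⁻¹]) : GLn n k →ₗ[k] k[T;T⁻¹])
      (CoalgebraStruct.comul (R := k) x) := by
  unfold Θ
  rw [AlgHom.comp_apply, Bialgebra.comulAlgHom_apply]
  rfl

theorem Θ_X (i j : Fin n) : Θ n (GLn.X i j : GLn n k) = GLn.X i j ⊗ₜ[k] T 1 := by
  classical
  rw [Θ_apply, GLn.comul_X, map_sum, Finset.sum_eq_single j]
  · rw [TensorProduct.map_tmul, LinearMap.id_apply]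
    congr 1
    change GLn.diag n k (fun _ => 1) (GLn.X j j) = _
    rw [GLn.diag_X, if_pos rfl]
  · intro l _ hl
    rw [TensorProduct.map_tmul]
    have : GLn.diag n k (fun _ => (1 : ℤ)) (GLn.X l j : GLn n k) = 0 := by
      rw [GLn.diag_X, if_neg hl]
    change _ ⊗ₜ[k] (GLn.diag n k (fun _ => (1 : ℤ)) (GLn.X l j : GLn n k)) = 0
    rw [this, TensorProduct.tmul_zero]
  · intro h; exact absurd (Finset.mem_univ j) h

theorem Θ_det : Θ n (GLn.det : GLn n k) = GLn.det ⊗ₜ[k] T (n : ℤ) := by
  rw [Θ_apply, GLn.comul_det, TensorProduct.map_tmul, LinearMap.id_apply]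
  congr 1
  change GLn.diag n k (fun _ => 1) (GLn.det : GLn n k) = _
  rw [GLn.diag_det]
  simp

/-- coefficients of a comodule which is homogeneous of degree `h` for the scalar torus -/
theorem Θ_coeffMap {V : Type w} [AddCommGroup V] [Module k V] (ρ : HopfRep.Comod k (GLn n k) V)
    (h : ℤ)
    (hh : ∀ v, (GLin.comodAlong (GLn.diag n k (fun _ => 1)) ρ).coact v = v ⊗ₜ[k] T h)
    (φ : Module.Dual k V) (v : V) :
    Θ n (coeffMap ρ φ v) = coeffMap ρ φ v ⊗ₜ[k] T h := by
  rw [Θ_apply]
  have h1 := (isHom_coeffMap ρ φ).apply v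
  change CoalgebraStruct.comul (R := k) (coeffMap ρ φ v) = _ at h1
  rw [h1]
  have h2 := hh v
  rw [GLin.comodAlong_coact] at h2
  have key : ∀ x : V ⊗[k] GLn n k,
      TensorProduct.map LinearMap.id
        ((GLn.diag n k (fun _ => 1) : GLn n k →ₐc[k] k[T;T⁻¹]) : GLn n k →ₗ[k] k[T;T⁻¹])
        ((coeffMap ρ φ).rTensor (GLn n k) x) =
      (coeffMap ρ φ).rTensor k[T;T⁻¹] (TensorProduct.map LinearMap.id
        ((GLn.diag n k (fun _ => 1) : GLn n k →ₐc[k] k[T;T⁻¹]) : GLn n k →ₗ[k] k[T;T⁻¹]) x) := by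
    intro x
    induction x using TensorProduct.induction_on with
    | zero => simp only [map_zero]
    | add x y hx hy => simp only [map_add, hx, hy]
    | tmul v a => simp only [LinearMap.rTensor_tmul, TensorProduct.map_tmul, LinearMap.id_apply]
  rw [key, h2, LinearMap.rTensor_tmul]

variable (k) in
/-- the map `toGLn` on the polynomial ring -/
noncomputable def F : MvPolynomial (Fin n × Fin n) k →ₐ[k] GLn n k :=
  (Mat.toGLn n k : Mat n k →ₐ[k] GLn n k).comp
    ((Mat.toPoly n k).symm : MvPolynomial (Fin n × Fin n) k →ₐ[k] Mat n k)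

theorem F_X (p : Fin n × Fin n) : F k n (MvPolynomial.X p) = GLn.X p.1 p.2 :=
  Mat.toGLn_X p.1 p.2

theorem F_toPoly (q : Mat n k) : F k n (Mat.toPoly n k q) = Mat.toGLn n k q := rfl

theorem Θ_F_monomial (m : (Fin n × Fin n) →₀ ℕ) (c : k) :
    Θ n (F k n (MvPolynomial.monomial m c)) =
      F k n (MvPolynomial.monomial m c) ⊗ₜ[k] T (m.degree : ℤ) := by
  induction m using Finsupp.induction with
  | zero =>
    rw [map_zero, Nat.cast_zero, T_zero]
    change Θ n (F k n (MvPolynomial.C c)) = F k n (MvPolynomial.C c) ⊗ₜ[k] 1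
    rw [MvPolynomial.algHom_C, AlgHom.commutes, Algebra.TensorProduct.algebraMap_apply]
  | single_add p e m' _ _ ih =>
    rw [MvPolynomial.monomial_single_add, map_mul, map_mul, map_pow, map_pow, ih, F_X, Θ_X,
      Algebra.TensorProduct.tmul_pow, Algebra.TensorProduct.tmul_mul_tmul, T_pow, ← T_add,
      map_add, Finsupp.degree_single]
    congr 2
    push_cast
    ring

theorem F_monomial_mem (m : (Fin n × Fin n) →₀ ℕ) (c : k) :
    F k n (MvPolynomial.monomial m c) ∈ TensGen.cf (cstd n (Mat.toGLn n k)) ^ m.degree := by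
  induction m using Finsupp.induction with
  | zero =>
    rw [map_zero, pow_zero]
    change F k n (MvPolynomial.C c) ∈ _
    rw [MvPolynomial.algHom_C]
    exact Submodule.algebraMap_mem c
  | single_add p e m' _ _ ih =>
    rw [MvPolynomial.monomial_single_add, map_mul, map_pow, map_add, Finsupp.degree_single,
      pow_add]
    refine Submodule.mul_mem_mul (Submodule.pow_mem_pow _ ?_ e) ih
    have := coeffMap_cstd n (Mat.toGLn n k) p.1 p.2
    rw [Mat.toGLn_X] at this
    rw [F_X, ← this]
    exact coeffMap_mem_cf _ _ _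

/-- the coefficient of `T^a` -/
noncomputable def lam (a : ℤ) : k[T;T⁻¹] →ₗ[k] k :=
  Finsupp.lapply a ∘ₗ (AddMonoidAlgebra.coeffLinearEquiv k).toLinearMap

theorem lam_T (a d : ℤ) : lam (k := k) a (T d) = if d = a then 1 else 0 := by
  unfold lam
  rw [LinearMap.comp_apply]
  unfold LaurentPolynomial.T
  simp only [LinearEquiv.coe_coe, Finsupp.lapply_apply]
  change (AddMonoidAlgebra.single d (1:k)).coeff a = _
  rw [AddMonoidAlgebra.coeff_single, Finsupp.single_apply]

/-- a polynomial function which is homogeneous of degree `a` for the scalar torus is a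
coefficient of the `a`-th tensor power of the standard representation -/
theorem F_mem_cf_tpow (q : MvPolynomial (Fin n × Fin n) k) (a : ℕ)
    (hq : Θ n (F k n q) = F k n q ⊗ₜ[k] T (a : ℤ)) :
    F k n q ∈ TensGen.cf (ComodTens.Comod.tpow (cstd n (Mat.toGLn n k)) a) := by
  classical
  let Λ : GLn n k ⊗[k] k[T;T⁻¹] →ₗ[k] GLn n k :=
    (TensorProduct.rid k (GLn n k)).toLinearMap ∘ₗ (lam (a : ℤ)).lTensor (GLn n k)
  have hΛ : ∀ (x : GLn n k) (d : ℤ), Λ (x ⊗ₜ[k] T d) = if d = a then x else 0 := by
    intro x d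
    change TensorProduct.rid k (GLn n k) ((lam (a : ℤ)).lTensor (GLn n k) (x ⊗ₜ[k] T d)) = _
    rw [LinearMap.lTensor_tmul, TensorProduct.rid_tmul, lam_T]
    split_ifs <;> simp
  have hsum : q = ∑ m ∈ q.support, MvPolynomial.monomial m (MvPolynomial.coeff m q) :=
    (MvPolynomial.support_sum_monomial_coeff q).symm
  have h1 : Λ (Θ n (F k n q)) = F k n q := by rw [hq, hΛ, if_pos rfl]
  have h2 : Λ (Θ n (F k n q)) = ∑ m ∈ q.support,
      if (m.degree : ℤ) = a then F k n (MvPolynomial.monomial m (MvPolynomial.coeff m q)) else 0 := by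
    conv_lhs => rw [hsum]
    rw [map_sum, map_sum, map_sum]
    refine Finset.sum_congr rfl fun m _ => ?_
    rw [Θ_F_monomial, hΛ]
  rw [← h1, h2]
  refine Submodule.sum_mem _ fun m _ => ?_
  split_ifs with hm
  · have hm' : m.degree = a := by exact_mod_cast hm
    rw [← hm']
    exact cf_pow_le_cf_tpow _ _ (F_monomial_mem n m _)
  · exact Submodule.zero_mem _

/-- A finite-dimensional representation of `GL_n` (characteristic zero) which is homogeneous of
degree `h` for the scalar torus is a direct summand of a finite direct sum of copies of a tensor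
power of the standard representation twisted by a negative power of the determinant. -/
theorem exists_summand_tpow_twist [CharZero k] (hn : 0 < n) {V : Type w} [AddCommGroup V]
    [Module k V] [Module.Finite k V] (ρ : HopfRep.Comod k (GLn n k) V) (h : ℤ)
    (hh : ∀ v, (GLin.comodAlong (GLn.diag n k (fun _ => 1)) ρ).coact v = v ⊗ₜ[k] T h) :
    ∃ (a b c : ℕ), 0 < c ∧
      ∃ (i : V →ₗ[k] (Fin b → TensorPower k a (Fin n → k)))
        (p : (Fin b → TensorPower k a (Fin n → k)) →ₗ[k] V),
        p ∘ₗ i = LinearMap.id ∧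
        IsHom ρ (ComodTens.Comod.twist
          (ComodTens.Comod.pi fun _ : Fin b => ComodTens.Comod.tpow (cstd n (Mat.toGLn n k)) a)
          (GLn.Dinv ^ c) (IsGroupLikeElem.pow ⟨GLn.counit_Dinv, GLn.comul_Dinv⟩)) i ∧
        IsHom (ComodTens.Comod.twist
          (ComodTens.Comod.pi fun _ : Fin b => ComodTens.Comod.tpow (cstd n (Mat.toGLn n k)) a)
          (GLn.Dinv ^ c) (IsGroupLikeElem.pow ⟨GLn.counit_Dinv, GLn.comul_Dinv⟩)) ρ p := by
  classical
  let bV := Module.finBasis k V
  have h1 : ∀ ij : Fin (Module.finrank k V) × Fin (Module.finrank k V),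
      ∃ (c : ℕ) (p : Mat n k),
        coeffMap ρ (bV.coord ij.1) (bV ij.2) * GLn.det ^ c = Mat.toGLn n k p :=
    fun ij => exists_pow_mul n _
  choose c' p' hp' using h1
  let c := (∑ ij, c' ij) + 1 + h.natAbs
  have hcpos : 0 < c := by omega
  have ha' : 0 ≤ h + (n : ℤ) * (c : ℤ) := by
    have h2 : (c : ℤ) ≤ (n : ℤ) * (c : ℤ) := by
      have : (1 : ℤ) ≤ n := by exact_mod_cast hn
      nlinarith
    have h3 : (h.natAbs : ℤ) ≤ c := by
      have : h.natAbs ≤ c := by omega
      exact_mod_cast this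
    have h4 : -h ≤ (h.natAbs : ℤ) := by
      rw [← Int.abs_eq_natAbs]; exact neg_le_abs h
    linarith
  obtain ⟨a, ha⟩ := Int.eq_ofNat_of_zero_le ha'
  have hdet : IsGroupLikeElem k (GLn.det ^ c : GLn n k) :=
    IsGroupLikeElem.pow ⟨GLn.counit_det, GLn.comul_det⟩
  have hDinv : IsGroupLikeElem k (GLn.Dinv ^ c : GLn n k) :=
    IsGroupLikeElem.pow ⟨GLn.counit_Dinv, GLn.comul_Dinv⟩
  have hgg : (GLn.det ^ c : GLn n k) * GLn.Dinv ^ c = 1 := by
    rw [← mul_pow, GLn.det_mul_Dinv, one_pow]
  -- the basic coefficients of the twist lie in the coefficient space of the tensor power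
  have hy : ∀ s s', coeffMap ρ (bV.coord s) (bV s') * GLn.det ^ c ∈
      TensGen.cf (ComodTens.Comod.tpow (cstd n (Mat.toGLn n k)) a) := by
    intro s s'
    have hle : c' (s, s') ≤ c := by
      have := Finset.single_le_sum (f := c') (fun _ _ => Nat.zero_le _) (Finset.mem_univ (s, s'))
      omega
    have h2 : coeffMap ρ (bV.coord s) (bV s') * GLn.det ^ c =
        F k n (Mat.toPoly n k (p' (s, s') * Mat.det n k ^ (c - c' (s, s')))) := by
      rw [F_toPoly, map_mul, map_pow, toGLn_det, ← hp' (s, s'), mul_assoc, ← pow_add,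
        Nat.add_sub_cancel' hle]
    rw [h2]
    apply F_mem_cf_tpow
    rw [← h2, map_mul, map_pow, Θ_coeffMap n ρ h hh, Θ_det, Algebra.TensorProduct.tmul_pow,
      Algebra.TensorProduct.tmul_mul_tmul, T_pow, ← T_add, ← ha]
    congr 2
    ring
  have hcoef : ∀ φ v, coeffMap (ComodTens.Comod.twist ρ (GLn.det ^ c) hdet) φ v ∈
      TensGen.cf (ComodTens.Comod.tpow (cstd n (Mat.toGLn n k)) a) := by
    intro φ v
    rw [coeffMap_twist]
    have e1 : coeffMap ρ φ v = ∑ s', ∑ s, (bV.repr v s' * φ (bV s)) •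
        coeffMap ρ (bV.coord s) (bV s') := by
      conv_lhs => rw [← bV.sum_repr v, map_sum]
      refine Finset.sum_congr rfl fun s' _ => ?_
      rw [map_smul]
      conv_lhs => rw [← bV.sum_dual_apply_smul_coord φ]
      have : coeffMap ρ (∑ s, φ (bV s) • bV.coord s) =
          ∑ s, φ (bV s) • coeffMap ρ (bV.coord s) := by
        have h := map_sum (⟨⟨fun φ => coeffMap ρ φ, coeffMap_add ρ⟩,
          fun r φ => coeffMap_smul ρ r φ⟩ : Module.Dual k V →ₗ[k] (V →ₗ[k] GLn n k))
          (fun s => φ (bV s) • bV.coord s) Finset.univ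
        simp only [LinearMap.coe_mk, AddHom.coe_mk, coeffMap_smul] at h
        exact h
      rw [this, LinearMap.sum_apply, Finset.smul_sum]
      refine Finset.sum_congr rfl fun s _ => ?_
      rw [LinearMap.smul_apply, smul_smul]
    rw [e1, Finset.sum_mul]
    refine Submodule.sum_mem _ fun s' _ => ?_
    rw [Finset.sum_mul]
    refine Submodule.sum_mem _ fun s _ => ?_
    rw [smul_mul_assoc]
    exact Submodule.smul_mem _ _ (hy s s')
  obtain ⟨b, i, p, hpi, hi, hp⟩ := exists_summand (ComodTens.Comod.twist ρ (GLn.det ^ c) hdet)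
    (ComodTens.Comod.tpow (cstd n (Mat.toGLn n k)) a) (isSemisimpleModule_tpow_GLn n a)
    (bT k n a) hcoef
  refine ⟨a, b, c, hcpos, i, p, hpi, ?_, ?_⟩
  · exact isHom_untwist_target ρ _ _ _ hdet _ hgg i hi
  · exact isHom_untwist_source ρ _ _ _ hdet _ hgg p hp

end GLnSec

end Groth.Agent.H93.GLHomog
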