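import Mathlib

/-! Algebraic core of the correspondence between comodule structures and `G`-module structures
(`G = Spec A` affine group over an affine base): the operators `T δ f : B ⊗ E → B ⊗ E`,
`b ⊗ x ↦ b · Σ f(x₁) ⊗ x₀`, attached to a linear map `δ : E → E ⊗ A` and a `B`-point `f : A → B`. -/

set_option autoImplicit false
universe u v w

open TensorProduct

namespace Groth.Agent.H93.GModComod

variable {R : Type u} [CommRing R] {A : Type v} [CommRing A] [Bialgebra R A]
variable {E : Type w} [AddCommGroup E] [Module R E]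

section Ops

variable {B : Type*} [CommRing B] [Algebra R B]

/-- `x ↦ Σ f(x₁) ⊗ x₀`. -/
noncomputable def t (δ : E →ₗ[R] E ⊗[R] A) (f : A →ₐ[R] B) : E →ₗ[R] B ⊗[R] E :=
  (TensorProduct.comm R E B).toLinearMap ∘ₗ (f.toLinearMap.lTensor E) ∘ₗ δ

theorem t_apply (δ : E →ₗ[R] E ⊗[R] A) (f : A →ₐ[R] B) (x : E) :
    t δ f x = TensorProduct.comm R E B (f.toLinearMap.lTensor E (δ x)) := rfl

/-- the `B`-linear operator on `B ⊗ E` attached to `δ` and the point `f`. -/
noncomputable def T (δ : E →ₗ[R] E ⊗[R] A) (f : A →ₐ[R] B) : B ⊗[R] E →ₗ[B] B ⊗[R] E :=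
  LinearMap.liftBaseChange B (t δ f)

theorem T_tmul (δ : E →ₗ[R] E ⊗[R] A) (f : A →ₐ[R] B) (b : B) (x : E) :
    T δ f (b ⊗ₜ[R] x) = b • t δ f x := rfl

theorem T_one_tmul (δ : E →ₗ[R] E ⊗[R] A) (f : A →ₐ[R] B) (x : E) :
    T δ f ((1 : B) ⊗ₜ[R] x) = TensorProduct.comm R E B (f.toLinearMap.lTensor E (δ x)) := by
  rw [T_tmul, one_smul, t_apply]

/-- `B`-linear maps out of `B ⊗ E` are determined by their values on `1 ⊗ x`. -/
theorem ext_one_tmul {N : Type*} [AddCommGroup N] [Module B N] {φ ψ : B ⊗[R] E →ₗ[B] N}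
    (h : ∀ x : E, φ ((1 : B) ⊗ₜ[R] x) = ψ ((1 : B) ⊗ₜ[R] x)) : φ = ψ := by
  ext y
  induction y using TensorProduct.induction_on with
  | zero => simp
  | tmul b x =>
    have hb : b ⊗ₜ[R] x = b • ((1 : B) ⊗ₜ[R] x) := by
      rw [TensorProduct.smul_tmul', smul_eq_mul, mul_one]
    rw [hb, map_smul, map_smul, h]
  | add y z hy hz => rw [map_add, map_add, hy, hz]

/-- `a ⊗ a' ↦ f a * f' a'`. -/
noncomputable def p (f f' : A →ₐ[R] B) : A ⊗[R] A →ₐ[R] B :=
  (Algebra.TensorProduct.lmul' R).comp (Algebra.TensorProduct.map f f')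

theorem p_tmul (f f' : A →ₐ[R] B) (a a' : A) : p f f' (a ⊗ₜ[R] a') = f a * f' a' := by
  simp [p]

/-- `x ↦ Σ f(a) f'(a') ⊗ e` for `γ x = Σ e ⊗ a ⊗ a'`. -/
noncomputable def S (γ : E →ₗ[R] E ⊗[R] (A ⊗[R] A)) (f f' : A →ₐ[R] B) : E →ₗ[R] B ⊗[R] E :=
  (TensorProduct.comm R E B).toLinearMap ∘ₗ ((p f f').toLinearMap.lTensor E) ∘ₗ γ

theorem T_conv (δ : E →ₗ[R] E ⊗[R] A) (f f' : A →ₐ[R] B) (x : E) :
    T δ (WithConv.toConv f * WithConv.toConv f').ofConv ((1 : B) ⊗ₜ[R] x) =
      S ((CoalgebraStruct.comul (R := R) (A := A)).lTensor E ∘ₗ δ) f f' x := by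
  rw [T_one_tmul]
  simp only [S, LinearMap.comp_apply, LinearEquiv.coe_coe]
  congr 1
  have h : (WithConv.toConv f * WithConv.toConv f').ofConv.toLinearMap =
      (p f f').toLinearMap ∘ₗ (CoalgebraStruct.comul (R := R) (A := A)) := rfl
  rw [h, LinearMap.lTensor_comp]
  rfl

theorem T_comp_aux (δ : E →ₗ[R] E ⊗[R] A) (f f' : A →ₐ[R] B) (z : E ⊗[R] A) :
    T δ f (TensorProduct.comm R E B (f'.toLinearMap.lTensor E z)) =
      TensorProduct.comm R E B ((p f f').toLinearMap.lTensor E
        (TensorProduct.assoc R E A A (δ.rTensor A z))) := by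
  induction z using TensorProduct.induction_on with
  | zero => simp
  | add y z hy hz => simp only [map_add, hy, hz]
  | tmul e a =>
    simp only [LinearMap.lTensor_tmul, LinearMap.rTensor_tmul, TensorProduct.comm_tmul,
      AlgHom.toLinearMap_apply, T_tmul, t_apply]
    generalize δ e = w
    induction w using TensorProduct.induction_on with
    | zero => simp
    | add y z hy hz => simp only [map_add, smul_add, TensorProduct.add_tmul, hy, hz]
    | tmul e' a' =>
      simp only [LinearMap.lTensor_tmul, TensorProduct.comm_tmul, AlgHom.toLinearMap_apply,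
        TensorProduct.assoc_tmul, p_tmul, TensorProduct.smul_tmul', smul_eq_mul]
      rw [mul_comm]

theorem T_comp (δ : E →ₗ[R] E ⊗[R] A) (f f' : A →ₐ[R] B) (x : E) :
    T δ f (T δ f' ((1 : B) ⊗ₜ[R] x)) =
      S ((TensorProduct.assoc R E A A).toLinearMap ∘ₗ δ.rTensor A ∘ₗ δ) f f' x := by
  rw [T_one_tmul, T_comp_aux]
  rfl

end Ops

theorem S_injective_univ (γ γ' : E →ₗ[R] E ⊗[R] (A ⊗[R] A))
    (h : S γ (Algebra.TensorProduct.includeLeft : A →ₐ[R] A ⊗[R] A)
        (Algebra.TensorProduct.includeRight : A →ₐ[R] A ⊗[R] A) =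
      S γ' (Algebra.TensorProduct.includeLeft : A →ₐ[R] A ⊗[R] A)
        (Algebra.TensorProduct.includeRight : A →ₐ[R] A ⊗[R] A)) : γ = γ' := by
  have hp : (p (Algebra.TensorProduct.includeLeft : A →ₐ[R] A ⊗[R] A)
      (Algebra.TensorProduct.includeRight : A →ₐ[R] A ⊗[R] A)).toLinearMap = LinearMap.id := by
    apply TensorProduct.ext'
    intro a a'
    rw [AlgHom.toLinearMap_apply, p_tmul]
    simp
  ext x
  have h1 := LinearMap.congr_fun h x
  simp only [S, LinearMap.comp_apply, LinearEquiv.coe_coe, hp, LinearMap.lTensor_id,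
    LinearMap.id_apply] at h1
  exact (TensorProduct.comm R E (A ⊗[R] A)).injective h1

section Ops2

variable {B : Type*} [CommRing B] [Algebra R B]

/-- coassociativity of `δ` gives multiplicativity of `T δ`. -/
theorem T_mul_of_coassoc (δ : E →ₗ[R] E ⊗[R] A)
    (hδ : (TensorProduct.assoc R E A A).toLinearMap ∘ₗ δ.rTensor A ∘ₗ δ =
      (CoalgebraStruct.comul (R := R) (A := A)).lTensor E ∘ₗ δ) (f f' : A →ₐ[R] B) :
    T δ (WithConv.toConv f * WithConv.toConv f').ofConv = T δ f ∘ₗ T δ f' := by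
  apply ext_one_tmul
  intro x
  rw [LinearMap.comp_apply, T_conv, T_comp, hδ]

/-- counitality of `δ` gives `T δ 1 = id`. -/
theorem T_one_of_counit (δ : E →ₗ[R] E ⊗[R] A)
    (hδ : (CoalgebraStruct.counit (R := R) (A := A)).lTensor E ∘ₗ δ =
      (TensorProduct.mk R E R).flip 1) :
    T δ (1 : WithConv (A →ₐ[R] B)).ofConv = LinearMap.id := by
  apply ext_one_tmul
  intro x
  rw [T_one_tmul, LinearMap.id_apply]
  have h : (1 : WithConv (A →ₐ[R] B)).ofConv.toLinearMap =
      (Algebra.linearMap R B) ∘ₗ (CoalgebraStruct.counit (R := R) (A := A)) := rfl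
  rw [h, LinearMap.lTensor_comp, LinearMap.comp_apply]
  have h2 := LinearMap.congr_fun hδ x
  rw [LinearMap.comp_apply] at h2
  rw [h2]
  simp

/-- naturality of `T δ` in the test algebra. -/
theorem T_natural {B' : Type*} [CommRing B'] [Algebra R B'] (δ : E →ₗ[R] E ⊗[R] A)
    (f : A →ₐ[R] B) (φ : B →ₐ[R] B') (y : B ⊗[R] E) :
    φ.toLinearMap.rTensor E (T δ f y) = T δ (φ.comp f) (φ.toLinearMap.rTensor E y) := by
  have key : ∀ z : E ⊗[R] A, φ.toLinearMap.rTensor E
      (TensorProduct.comm R E B (f.toLinearMap.lTensor E z)) =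
      TensorProduct.comm R E B' ((φ.comp f).toLinearMap.lTensor E z) := by
    intro z
    induction z using TensorProduct.induction_on with
    | zero => simp
    | add y z hy hz => simp only [map_add, hy, hz]
    | tmul e a => simp
  have hsmul : ∀ (b : B) (w : B ⊗[R] E), φ.toLinearMap.rTensor E (b • w) =
      φ b • φ.toLinearMap.rTensor E w := by
    intro b w
    induction w using TensorProduct.induction_on with
    | zero => simp
    | add y z hy hz => simp only [smul_add, map_add, hy, hz]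
    | tmul b₁ e => simp [TensorProduct.smul_tmul']
  induction y using TensorProduct.induction_on with
  | zero => simp
  | add y z hy hz => simp only [map_add, hy, hz]
  | tmul b x =>
    rw [T_tmul, hsmul, LinearMap.rTensor_tmul, AlgHom.toLinearMap_apply, T_tmul, t_apply, t_apply,
      key]

end Ops2

/-- multiplicativity of `T δ` for the universal pair of points gives coassociativity. -/
theorem coassoc_of_T_mul (δ : E →ₗ[R] E ⊗[R] A)
    (h : T δ (WithConv.toConv (Algebra.TensorProduct.includeLeft : A →ₐ[R] A ⊗[R] A) *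
        WithConv.toConv (Algebra.TensorProduct.includeRight : A →ₐ[R] A ⊗[R] A)).ofConv =
      T δ (Algebra.TensorProduct.includeLeft : A →ₐ[R] A ⊗[R] A) ∘ₗ
        T δ (Algebra.TensorProduct.includeRight : A →ₐ[R] A ⊗[R] A)) :
    (TensorProduct.assoc R E A A).toLinearMap ∘ₗ δ.rTensor A ∘ₗ δ =
      (CoalgebraStruct.comul (R := R) (A := A)).lTensor E ∘ₗ δ := by
  apply S_injective_univ
  ext x
  rw [← T_comp, ← T_conv, h, LinearMap.comp_apply]

/-- `T δ 1 = id` over the base ring gives counitality. -/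
theorem counit_of_T_one (δ : E →ₗ[R] E ⊗[R] A)
    (h : T δ (1 : WithConv (A →ₐ[R] R)).ofConv = LinearMap.id) :
    (CoalgebraStruct.counit (R := R) (A := A)).lTensor E ∘ₗ δ =
      (TensorProduct.mk R E R).flip 1 := by
  ext x
  have h1 := LinearMap.congr_fun h ((1 : R) ⊗ₜ[R] x)
  rw [T_one_tmul, LinearMap.id_apply] at h1
  have h2 : (1 : WithConv (A →ₐ[R] R)).ofConv.toLinearMap =
      (CoalgebraStruct.counit (R := R) (A := A)) := by
    ext a
    change algebraMap R R (CoalgebraStruct.counit (R := R) (A := A) a) = _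
    rfl
  rw [h2] at h1
  have h3 := congrArg (TensorProduct.comm R E R).symm h1
  rw [LinearEquiv.symm_apply_apply] at h3
  rw [LinearMap.comp_apply, h3]
  simp

end Groth.Agent.H93.GModComod
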