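import Groth.Agent.H93.GModComodAlg
import Groth.Prelude.Def_VecGrp
import Groth.Prelude.Def_HopfRep

set_option autoImplicit false
universe u
open CategoryTheory MonoidalCategory CartesianMonoidalCategory MonObj GrpObj AlgebraicGeometry
open scoped TensorProduct

namespace Groth.Agent.H93.GModComod

variable {R : Type u} [CommRing R] {A : Type u} [CommRing A] [HopfAlgebra R A]
variable {B : Type u} [CommRing B] [Algebra R B]

variable (R A B) in
/-- `B`-points of `Spec A` over `Spec R`. -/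
abbrev Pt : Type u := (Spec (CommRingCat.of B)).asOver (Spec (CommRingCat.of R)) ⟶
  (Spec (CommRingCat.of A)).asOver (Spec (CommRingCat.of R))

/-- the algebra map attached to a `B`-point of `Spec A`. -/
noncomputable def fOf (g : Pt R A B) : A →ₐ[R] B := (Spec.mapMulEquiv.symm g).ofConv

/-- the `B`-point attached to an algebra map. -/
noncomputable def gOf (f : A →ₐ[R] B) : Pt R A B := Spec.mapMulEquiv (WithConv.toConv f)

theorem fOf_gOf (f : A →ₐ[R] B) : fOf (gOf f) = f := by
  unfold fOf gOf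
  rw [MulEquiv.symm_apply_apply]

theorem gOf_fOf (g : Pt R A B) : gOf (fOf g) = g := by
  unfold fOf gOf
  exact MulEquiv.apply_symm_apply _ g

theorem fOf_mul (g g' : Pt R A B) :
    fOf (g * g') = (WithConv.toConv (fOf g) * WithConv.toConv (fOf g')).ofConv := by
  unfold fOf
  rw [map_mul]

theorem fOf_one : fOf (1 : Pt R A B) = (1 : WithConv (A →ₐ[R] B)).ofConv := by
  unfold fOf
  rw [map_one]

theorem gOf_left (f : A →ₐ[R] B) : (gOf f).left = Spec.map (CommRingCat.ofHom f.toRingHom) := rfl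

theorem fOf_ptMap {B' : Type u} [CommRing B'] [Algebra R B'] (φ : B →ₐ[R] B') (g : Pt R A B) :
    fOf ((VecGrp.ptMap φ ≫ g : Pt R A B')) = φ.comp (fOf g) := by
  have h : (VecGrp.ptMap φ ≫ g : Pt R A B') = gOf (φ.comp (fOf g)) := by
    apply Over.OverMorphism.ext
    conv_lhs => rw [← gOf_fOf g]
    change Spec.map (CommRingCat.ofHom φ.toRingHom) ≫ Spec.map (CommRingCat.ofHom (fOf g).toRingHom) =
      Spec.map (CommRingCat.ofHom (φ.comp (fOf g)).toRingHom)
    rw [← Spec.map_comp, ← CommRingCat.ofHom_comp]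
    rfl
  rw [h, fOf_gOf]

section GMod

variable {E : Type u} [AddCommGroup E] [Module R E]

/-- the action of `B`-points on `B ⊗ E` attached to a comodule structure, as endomorphisms. -/
noncomputable def ρEnd [HopfRep.Comod R A E] (B : Type u) [CommRing B] [Algebra R B] :
    Pt R A B →* Module.End B (B ⊗[R] E) where
  toFun g := T (HopfRep.Comod.coact (k := R) (A := A) (V := E)) (fOf g)
  map_one' := by
    have h := T_one_of_counit (B := B) (HopfRep.Comod.coact (k := R) (A := A) (V := E))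
      HopfRep.Comod.counit_comp
    have h2 : fOf (1 : Pt R A B) = (1 : WithConv (A →ₐ[R] B)).ofConv := fOf_one
    rw [h2]
    exact h
  map_mul' g g' := by
    have h := T_mul_of_coassoc (B := B) (HopfRep.Comod.coact (k := R) (A := A) (V := E))
      HopfRep.Comod.coassoc (fOf g) (fOf g')
    have h2 := fOf_mul g g'
    rw [h2]
    exact h

/-- the `G`-module structure attached to a comodule structure. -/
noncomputable def gmodOf [HopfRep.Comod R A E] :
    VecGrp.GMod ((Spec (CommRingCat.of A)).asOver (Spec (CommRingCat.of R))) E where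
  ρ B _ _ := (LinearMap.GeneralLinearGroup.generalLinearEquiv B (B ⊗[R] E)).toMonoidHom.comp
    (ρEnd (R := R) (A := A) (E := E) B).toHomUnits
  naturality {B B'} _ _ _ _ φ g x := by
    change φ.toLinearMap.rTensor E (T (HopfRep.Comod.coact (k := R) (A := A) (V := E)) (fOf g) x) =
      T (HopfRep.Comod.coact (k := R) (A := A) (V := E)) (fOf (VecGrp.ptMap φ ≫ g : Pt R A B'))
        (φ.toLinearMap.rTensor E x)
    have h := fOf_ptMap φ (g : Pt R A B)
    rw [h, T_natural]

theorem gmodOf_apply [HopfRep.Comod R A E] (B : Type u) [CommRing B] [Algebra R B]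
    (g : Pt R A B) (y : B ⊗[R] E) :
    (gmodOf (R := R) (A := A) (E := E)).ρ B g y =
      T (HopfRep.Comod.coact (k := R) (A := A) (V := E)) (fOf g) y := rfl

end GMod

section Main

variable {E : Type u} [AddCommGroup E] [Module R E]

theorem gmod_ext {G : Over (Spec (CommRingCat.of R))} [GrpObj G] (m m' : VecGrp.GMod G E)
    (h : ∀ (B : Type u) [CommRing B] [Algebra R B] (g : VecGrp.pt R B ⟶ G) (x : E),
      m.ρ B g ((1 : B) ⊗ₜ[R] x) = m'.ρ B g ((1 : B) ⊗ₜ[R] x)) : m = m' := by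
  cases m with
  | mk ρ nat =>
    cases m' with
    | mk ρ' nat' =>
      have hρ : ρ = ρ' := by
        funext B _ _
        apply MonoidHom.ext
        intro g
        apply LinearEquiv.toLinearMap_injective
        apply ext_one_tmul
        intro x
        exact h B g x
      subst hρ
      rfl

/-- the formula linking a `G`-module structure and a linear map `δ`. -/
def Corr (m : VecGrp.GMod ((Spec (CommRingCat.of A)).asOver (Spec (CommRingCat.of R))) E)
    (δ : E →ₗ[R] E ⊗[R] A) : Prop :=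
  ∀ (B : Type u) [CommRing B] [Algebra R B]
    (g : VecGrp.pt R B ⟶ ((Spec (CommRingCat.of A)).asOver (Spec (CommRingCat.of R)))) (x : E),
    m.ρ B g ((1 : B) ⊗ₜ[R] x) =
      (TensorProduct.comm R E B) (LinearMap.lTensor E (Spec.mapMulEquiv.symm g).ofConv.toLinearMap
        (δ x))

theorem corr_iff (m : VecGrp.GMod ((Spec (CommRingCat.of A)).asOver (Spec (CommRingCat.of R))) E)
    (δ : E →ₗ[R] E ⊗[R] A) :
    Corr m δ ↔ ∀ (B : Type u) [CommRing B] [Algebra R B] (g : Pt R A B),
      ((m.ρ B g : B ⊗[R] E ≃ₗ[B] B ⊗[R] E) : B ⊗[R] E →ₗ[B] B ⊗[R] E) = T δ (fOf g) := by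
  constructor
  · intro h B _ _ g
    apply ext_one_tmul
    intro x
    rw [T_one_tmul]
    exact h B g x
  · intro h B _ _ g x
    have h1 := LinearMap.congr_fun (h B g) ((1 : B) ⊗ₜ[R] x)
    rw [T_one_tmul] at h1
    exact h1

theorem corr_gmodOf [HopfRep.Comod R A E] :
    Corr (gmodOf (R := R) (A := A) (E := E)) (HopfRep.Comod.coact (k := R) (A := A) (V := E)) := by
  intro B _ _ g x
  have h := gmodOf_apply (R := R) (A := A) (E := E) B g ((1 : B) ⊗ₜ[R] x)
  rw [T_one_tmul] at h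
  exact h

/-- the universal point. -/
noncomputable def univ : Pt R A A := gOf (AlgHom.id R A)

theorem eq_ptMap_univ (g : Pt R A B) : (VecGrp.ptMap (fOf g) ≫ (univ : Pt R A A) : Pt R A B) = g := by
  have h := fOf_ptMap (fOf g) (univ : Pt R A A)
  rw [univ, fOf_gOf, AlgHom.comp_id] at h
  have h2 := gOf_fOf (VecGrp.ptMap (fOf g) ≫ (gOf (AlgHom.id R A) : Pt R A A) : Pt R A B)
  rw [h, gOf_fOf] at h2
  exact h2.symm

/-- the coaction attached to a `G`-module structure. -/
noncomputable def δOf (m : VecGrp.GMod ((Spec (CommRingCat.of A)).asOver (Spec (CommRingCat.of R))) E) :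
    E →ₗ[R] E ⊗[R] A :=
  (TensorProduct.comm R A E).toLinearMap ∘ₗ
    (((m.ρ A (univ : Pt R A A) : A ⊗[R] E ≃ₗ[A] A ⊗[R] E) : A ⊗[R] E →ₗ[A] A ⊗[R] E).restrictScalars R) ∘ₗ
      (TensorProduct.mk R A E 1)

theorem δOf_apply (m : VecGrp.GMod ((Spec (CommRingCat.of A)).asOver (Spec (CommRingCat.of R))) E)
    (x : E) : δOf m x = TensorProduct.comm R A E (m.ρ A (univ : Pt R A A) ((1 : A) ⊗ₜ[R] x)) := rfl

theorem corr_δOf (m : VecGrp.GMod ((Spec (CommRingCat.of A)).asOver (Spec (CommRingCat.of R))) E) :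
    Corr m (δOf m) := by
  intro B _ _ g x
  have hnat := m.naturality (fOf (g : Pt R A B)) (univ : Pt R A A) ((1 : A) ⊗ₜ[R] x)
  have hg := eq_ptMap_univ (g : Pt R A B)
  have hnat2 := hnat.trans (congrArg (fun (q : VecGrp.pt R B ⟶
    ((Spec (CommRingCat.of A)).asOver (Spec (CommRingCat.of R)))) =>
      (m.ρ B q) (VecGrp.Wmap (M := E) (fOf (g : Pt R A B)) ((1 : A) ⊗ₜ[R] x))) hg)
  clear hnat
  have hnat := hnat2
  have h1 : VecGrp.Wmap (M := E) (fOf (g : Pt R A B)) ((1 : A) ⊗ₜ[R] x) = (1 : B) ⊗ₜ[R] x := by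
    rw [VecGrp.Wmap_tmul, map_one]
  rw [h1] at hnat
  rw [← hnat, δOf_apply]
  have key : ∀ w : A ⊗[R] E, VecGrp.Wmap (M := E) (fOf (g : Pt R A B)) w =
      TensorProduct.comm R E B (LinearMap.lTensor E (fOf (g : Pt R A B)).toLinearMap
        (TensorProduct.comm R A E w)) := by
    intro w
    induction w using TensorProduct.induction_on with
    | zero => simp
    | add y z hy hz => simp only [map_add, hy, hz]
    | tmul a e => simp
  exact key _

theorem coassoc_counit_of_corr
    (m : VecGrp.GMod ((Spec (CommRingCat.of A)).asOver (Spec (CommRingCat.of R))) E)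
    (δ : E →ₗ[R] E ⊗[R] A) (h : Corr m δ) :
    (TensorProduct.assoc R E A A).toLinearMap ∘ₗ δ.rTensor A ∘ₗ δ =
        (CoalgebraStruct.comul (R := R) (A := A)).lTensor E ∘ₗ δ ∧
      (CoalgebraStruct.counit (R := R) (A := A)).lTensor E ∘ₗ δ = (TensorProduct.mk R E R).flip 1 := by
  rw [corr_iff] at h
  constructor
  · apply coassoc_of_T_mul
    let g₁ : Pt R A (A ⊗[R] A) := gOf Algebra.TensorProduct.includeLeft
    let g₂ : Pt R A (A ⊗[R] A) := gOf Algebra.TensorProduct.includeRight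
    have hmul : m.ρ (A ⊗[R] A) (g₁ * g₂) = m.ρ (A ⊗[R] A) g₁ * m.ρ (A ⊗[R] A) g₂ :=
      map_mul (m.ρ (A ⊗[R] A)) g₁ g₂
    have h12 := h (A ⊗[R] A) (g₁ * g₂)
    have h1 := h (A ⊗[R] A) g₁
    have h2 := h (A ⊗[R] A) g₂
    rw [fOf_mul] at h12
    rw [fOf_gOf] at h1 h2
    rw [fOf_gOf, fOf_gOf] at h12
    rw [← h12, ← h1, ← h2, hmul]
    rfl
  · apply counit_of_T_one
    have h1 := h R (1 : Pt R A R)
    rw [fOf_one] at h1
    rw [← h1]
    have hone : m.ρ R (1 : Pt R A R) = 1 := map_one (m.ρ R)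
    rw [hone]
    rfl

theorem part1 [HopfRep.Comod R A E] :
    ∃! m : VecGrp.GMod ((Spec (CommRingCat.of A)).asOver (Spec (CommRingCat.of R))) E,
      Corr m (HopfRep.Comod.coact (k := R) (A := A) (V := E)) := by
  refine ⟨gmodOf, corr_gmodOf, fun m' hm' => ?_⟩
  apply gmod_ext
  intro B _ _ g x
  rw [hm' B g x, corr_gmodOf B g x]

theorem part2 (m : VecGrp.GMod ((Spec (CommRingCat.of A)).asOver (Spec (CommRingCat.of R))) E) :
    ∃! δ : E →ₗ[R] E ⊗[R] A,
      ((TensorProduct.assoc R E A A).toLinearMap ∘ₗ δ.rTensor A ∘ₗ δ =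
          (CoalgebraStruct.comul (R := R) (A := A)).lTensor E ∘ₗ δ ∧
        (CoalgebraStruct.counit (R := R) (A := A)).lTensor E ∘ₗ δ = (TensorProduct.mk R E R).flip 1) ∧
      Corr m δ := by
  refine ⟨δOf m, ⟨coassoc_counit_of_corr m _ (corr_δOf m), corr_δOf m⟩, ?_⟩
  rintro δ' ⟨-, hδ'⟩
  ext x
  have h1 := hδ' A (univ : Pt R A A) x
  have h2 : (Spec.mapMulEquiv.symm (univ : Pt R A A)).ofConv = AlgHom.id R A := fOf_gOf _
  rw [h2] at h1
  rw [δOf_apply, h1]
  simp

end Main

end Groth.Agent.H93.GModComod
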