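import Groth.Agent.H93.ShiftCanon

/-!
# The `a`-invariant of a graded Gorenstein algebra is an integer (helper93)

* `exists_endDeg_eq` : for a graded Gorenstein `k`-algebra `R` of dimension `r`, the end degree of
  `H^r_m(R)` is a (finite) integer.
-/

set_option autoImplicit false

universe u

noncomputable section

namespace Groth.Agent.H93.GorEndDeg

open Groth.Agent.H98.GrStar Groth.Agent.H98.Canon Groth.Agent.H98.Bass0

variable {k : Type u} [Field k] {R : Type u} [CommRing R] [Nontrivial R] [Algebra k R]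
  (𝒜 : ℤ → Submodule k R) [GradedAlgebra 𝒜] (hpos : ∀ n : ℤ, n < 0 → 𝒜 n = ⊥)
  (h0 : 𝒜 0 = Submodule.span k {(1 : R)}) [Algebra.FiniteType k R]
  (m : HomogeneousIdeal 𝒜)
  (hmsp : m.toIdeal = Ideal.span (⋃ n ∈ Set.Ioi (0 : ℤ), (𝒜 n : Set R)))

include hpos h0 hmsp in
/-- the `a`-invariant of a graded Gorenstein algebra over a field is a finite integer -/
theorem exists_endDeg_eq [LocCoh.IsGorensteinRing R] (r : ℕ)
    (hr : ringKrullDim R = r) (I : GrLC.StarInjRes 𝒜 𝒜) :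
    ∃ a : ℤ, GrLC.endDeg (I.Hgr m r) = ((a : WithTop ℤ) : WithBot (WithTop ℤ)) := by
  haveI : IsNoetherianRing R := Algebra.FiniteType.isNoetherianRing k R
  have hpos' := Groth.Agent.H85.SegreOneCM.selfGr_neg 𝒜 hpos
  have hm' := Groth.Agent.H93.CanonDim.isStarLocal_toSelf_of_span 𝒜 hpos h0 m hmsp
  obtain ⟨Eh, e, he⟩ := exists_isStarInjHull (selfGr 𝒜) (quotIdealGMod (selfGr 𝒜) (toSelfIdeal 𝒜 m)).gr
  have h1 := Groth.Agent.H98.GrHt.height_eq_ringKrullDim_of_isStarLocal (selfGr 𝒜) hpos' hm'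
  rw [hr] at h1
  have hht : (toSelfIdeal 𝒜 m).toIdeal.height = r := by exact_mod_cast h1
  obtain ⟨g, φG, hφG⟩ := exists_top_H_equiv R (selfGr 𝒜) (toSelfIdeal 𝒜 m) hm' r hht
    (resToSelf 𝒜 I) Eh.carrier Eh.gr e he
  letI decH : DirectSum.Decomposition ((resToSelf 𝒜 I).Hgr (toSelfIdeal 𝒜 m) r) :=
    (Hgr_isInternal (selfGr 𝒜) (selfGr 𝒜) (resToSelf 𝒜 I) (toSelfIdeal 𝒜 m) r).chooseDecomposition
  have hsymm : ∀ j x, x ∈ Eh.gr j →
      φG.symm x ∈ (resToSelf 𝒜 I).Hgr (toSelfIdeal 𝒜 m) r (j + -g) := by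
    intro j x hx
    have := symm_mem_of_shift ((resToSelf 𝒜 I).Hgr (toSelfIdeal 𝒜 m) r) Eh.gr φG.toAddEquiv g
      (fun i y hy => by
        have := hφG i y hy
        rwa [add_comm] at this) j x hx
    rwa [sub_eq_add_neg] at this
  have hmsp' : (toSelfIdeal 𝒜 m).toIdeal =
      Ideal.span (⋃ n ∈ Set.Ioi (0 : ℤ), (selfGr 𝒜 n : Set R)) := hmsp
  have h2 := endDeg_eq_of_hull_equiv (selfGr 𝒜) (fun n hn r hr => by
      have := hpos' n hn
      rw [this] at hr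
      exact AddSubgroup.mem_bot.mp hr) hm' hmsp' Eh.gr e he.toIsStarEss
    (resToSelf 𝒜 I) r (-g) φG.symm hsymm
  exact ⟨-g, h2⟩

end Groth.Agent.H93.GorEndDeg
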