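import Mathlib
import Groth.Agent.H93.TruncPoly

/-!
# Height ≤ 1 Hopf algebras over a local ring: reduction to the residue field
-/

set_option autoImplicit false
universe u v w

namespace Groth.Agent.H93.HeightOneLocal

open MvPolynomial TensorProduct Groth.Agent.H93.TruncPoly

section core

variable {R : Type u} [CommRing R] [IsLocalRing R] {A : Type w} [CommRing A] [Algebra R A]
  [Module.Finite R A] [Module.Flat R A] {σ : Type v} (e : σ → ℕ)

local notation "k" => IsLocalRing.ResidueField R

theorem tmul_lift_eq (x : σ → A) (hx : ∀ i, x i ^ e i = 0)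
    (ψ : T k e ≃ₐ[k] k ⊗[R] A)
    (hψ : ∀ i, ψ (Ideal.Quotient.mk (I k e) (X i)) = 1 ⊗ₜ x i) (f : MvPolynomial σ R) :
    (1 : k) ⊗ₜ[R] (lift x hx (Ideal.Quotient.mk (I R e) f)) =
      ψ (Ideal.Quotient.mk (I k e) (MvPolynomial.map (algebraMap R k) f)) := by
  let G1 : MvPolynomial σ R →+* k ⊗[R] A :=
    ((Algebra.TensorProduct.includeRight : A →ₐ[R] k ⊗[R] A) : A →+* k ⊗[R] A).comp
      (((lift x hx : T R e →ₐ[R] A) : T R e →+* A).comp (Ideal.Quotient.mk (I R e)))
  let G2 : MvPolynomial σ R →+* k ⊗[R] A :=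
    ((ψ : T k e ≃ₐ[k] k ⊗[R] A) : T k e →+* k ⊗[R] A).comp
      ((Ideal.Quotient.mk (I k e)).comp (MvPolynomial.map (algebraMap R k)))
  have h : G1 = G2 := by
    apply MvPolynomial.ringHom_ext
    · intro r
      simp only [G1, G2, RingHom.comp_apply, RingHom.coe_coe, TruncPoly.lift_mk, aeval_C,
        Algebra.TensorProduct.includeRight_apply, map_C]
      have : Ideal.Quotient.mk (I k e) (C (algebraMap R k r)) =
          algebraMap k (T k e) (algebraMap R k r) := rfl
      rw [this, AlgEquiv.commutes, Algebra.TensorProduct.algebraMap_apply,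
        Algebra.algebraMap_eq_smul_one (A := A) r, Algebra.algebraMap_eq_smul_one (A := k) r,
        TensorProduct.tmul_smul, Algebra.algebraMap_self, RingHom.id_apply,
        TensorProduct.smul_tmul']
    · intro i
      simp only [G1, G2, RingHom.comp_apply, RingHom.coe_coe, TruncPoly.lift_mk, aeval_X,
        Algebra.TensorProduct.includeRight_apply, map_X]
      exact (hψ i).symm
  exact congrFun (congrArg DFunLike.coe h) f

theorem lift_bijective_of_residue (x : σ → A) (hx : ∀ i, x i ^ e i = 0)
    (ψ : T k e ≃ₐ[k] k ⊗[R] A)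
    (hψ : ∀ i, ψ (Ideal.Quotient.mk (I k e) (X i)) = 1 ⊗ₜ x i) :
    Function.Bijective (lift x hx : T R e →ₐ[R] A) := by
  classical
  let v : E e → A := fun α => lift x hx (mon R e α)
  have hv : ∀ α, (TensorProduct.mk R k A 1 ∘ v) α = ψ (basis k e α) := by
    intro α
    simp only [Function.comp_apply, TensorProduct.mk_apply, v, mon, basis_apply]
    rw [tmul_lift_eq e x hx ψ hψ, map_monomial, map_one]
  have h1 : Function.Bijective (Finsupp.linearCombination k (TensorProduct.mk R k A 1 ∘ v)) := by
    have : Finsupp.linearCombination k (TensorProduct.mk R k A 1 ∘ v) =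
        ψ.toLinearMap ∘ₗ (basis k e).repr.symm.toLinearMap := by
      apply Finsupp.lhom_ext'
      intro α
      apply LinearMap.ext_ring
      simp only [LinearMap.coe_comp, Function.comp_apply, Finsupp.lsingle_apply,
        Finsupp.linearCombination_single, one_smul, LinearEquiv.coe_coe,
        Module.Basis.repr_symm_single_one, AlgEquiv.toLinearMap_apply]
      exact hv α
    rw [this]
    exact ψ.bijective.comp (basis k e).repr.symm.bijective
  have h2 := Module.IsLocalRing.linearCombination_bijective_of_flat v h1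
  have h3 : (Finsupp.linearCombination R v : (E e →₀ R) → A) =
      (lift x hx : T R e → A) ∘ ((basis R e).repr.symm : (E e →₀ R) → T R e) := by
    have : Finsupp.linearCombination R v =
        (lift x hx : T R e →ₐ[R] A).toLinearMap ∘ₗ (basis R e).repr.symm.toLinearMap := by
      apply Finsupp.lhom_ext'
      intro α
      apply LinearMap.ext_ring
      simp only [LinearMap.coe_comp, Function.comp_apply, Finsupp.lsingle_apply,
        Finsupp.linearCombination_single, one_smul, LinearEquiv.coe_coe,
        Module.Basis.repr_symm_single_one, AlgHom.toLinearMap_apply, basis_apply, v]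
    rw [this]; rfl
  rw [h3] at h2
  exact (Function.Bijective.of_comp_iff _ (basis R e).repr.symm.bijective).1 h2

end core

section hopf

variable (p : ℕ) [Fact p.Prime] (R : Type u) [CommRing R] [IsLocalRing R] [CharP R p]
  (A : Type u) [CommRing A] [HopfAlgebra R A]

local notation "k" => IsLocalRing.ResidueField R

theorem charP_residueField : CharP k p := by
  have h0 : ((p : ℕ) : k) = 0 := by
    have : ((p : ℕ) : k) = algebraMap R k ((p : ℕ) : R) := (map_natCast _ _).symm
    rw [this, CharP.cast_eq_zero R p, map_zero]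
  have hdvd : ringChar k ∣ p := (ringChar.spec k p).1 h0
  rcases (Nat.dvd_prime (Fact.out : p.Prime)).1 hdvd with h | h
  · exact absurd h (CharP.ringChar_ne_one)
  · exact ringChar.of_eq h

variable {R A}

theorem counit_sub (a : A) :
    Bialgebra.counitAlgHom R A (a - algebraMap R A (Bialgebra.counitAlgHom R A a)) = 0 := by
  rw [map_sub, AlgHom.commutes]
  simp

variable (h1 : ∀ a : A, Bialgebra.counitAlgHom R A a = 0 → a ^ p = 0)

include h1

theorem isIntegral (a : A) : IsIntegral R a := by
  have : a = algebraMap R A (Bialgebra.counitAlgHom R A a) +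
      (a - algebraMap R A (Bialgebra.counitAlgHom R A a)) := by ring
  rw [this]
  refine IsIntegral.add isIntegral_algebraMap ?_
  apply IsIntegral.of_pow (Fact.out : p.Prime).pos
  rw [h1 _ (counit_sub a)]
  exact isIntegral_zero

theorem finite [Algebra.FiniteType R A] : Module.Finite R A := by
  haveI : Algebra.IsIntegral R A := ⟨isIntegral p h1⟩
  exact Algebra.IsIntegral.finite

/-- every element of the base change to the residue field is (counit) + (p-nilpotent). -/
theorem baseChange_sub_pow (x : k ⊗[R] A) :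
    (x - algebraMap k (k ⊗[R] A) (Bialgebra.counitAlgHom k (k ⊗[R] A) x)) ^ p = 0 := by
  haveI : Nontrivial (k ⊗[R] A) :=
    (Bialgebra.counitAlgHom k (k ⊗[R] A)).toRingHom.domain_nontrivial
  haveI : CharP k p := charP_residueField p R
  haveI : CharP (k ⊗[R] A) p :=
    charP_of_injective_algebraMap (algebraMap k (k ⊗[R] A)).injective p
  induction x using TensorProduct.induction_on with
  | zero => simp [(Fact.out : p.Prime).ne_zero]
  | tmul c a =>
    have : c ⊗ₜ[R] a - algebraMap k (k ⊗[R] A) (Bialgebra.counitAlgHom k (k ⊗[R] A) (c ⊗ₜ a)) =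
        c ⊗ₜ[R] (a - algebraMap R A (Bialgebra.counitAlgHom R A a)) := by
      rw [TensorProduct.tmul_sub, Algebra.TensorProduct.algebraMap_apply]
      congr 1
      simp only [Bialgebra.counitAlgHom_apply, TensorProduct.counit_tmul]
      rw [Algebra.algebraMap_eq_smul_one (A := A), TensorProduct.tmul_smul,
        TensorProduct.smul_tmul']
      simp
    rw [this, Algebra.TensorProduct.tmul_pow, h1 _ (counit_sub a), TensorProduct.tmul_zero]
  | add x y hx hy =>
    have : x + y - algebraMap k (k ⊗[R] A) (Bialgebra.counitAlgHom k (k ⊗[R] A) (x + y)) =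
        (x - algebraMap k (k ⊗[R] A) (Bialgebra.counitAlgHom k (k ⊗[R] A) x)) +
        (y - algebraMap k (k ⊗[R] A) (Bialgebra.counitAlgHom k (k ⊗[R] A) y)) := by
      rw [map_add, map_add]; ring
    rw [this, add_pow_char, hx, hy, add_zero]

theorem baseChange_pow_eq_zero (x : k ⊗[R] A)
    (hx : Bialgebra.counitAlgHom k (k ⊗[R] A) x = 0) : x ^ p = 0 := by
  have := baseChange_sub_pow p h1 x
  rwa [hx, map_zero, sub_zero] at this

theorem isUnit_iff (x : k ⊗[R] A) :
    IsUnit x ↔ Bialgebra.counitAlgHom k (k ⊗[R] A) x ≠ 0 := by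
  constructor
  · intro hx
    exact (hx.map (Bialgebra.counitAlgHom k (k ⊗[R] A))).ne_zero
  · intro hx
    have hn : IsNilpotent
        (x - algebraMap k (k ⊗[R] A) (Bialgebra.counitAlgHom k (k ⊗[R] A) x)) :=
      ⟨p, baseChange_sub_pow p h1 x⟩
    have hu : IsUnit (algebraMap k (k ⊗[R] A) (Bialgebra.counitAlgHom k (k ⊗[R] A) x)) :=
      (IsUnit.mk0 _ hx).map _
    have := hn.isUnit_add_left_of_commute hu (Commute.all _ _)
    simpa using this

theorem isLocalRing_baseChange : IsLocalRing (k ⊗[R] A) := by
  haveI : Nontrivial (k ⊗[R] A) :=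
    (Bialgebra.counitAlgHom k (k ⊗[R] A)).toRingHom.domain_nontrivial
  apply IsLocalRing.of_nonunits_add
  intro a b ha hb
  rw [mem_nonunits_iff, isUnit_iff p h1, not_not] at ha hb ⊢
  rw [map_add, ha, hb, add_zero]

end hopf

/-- The field case (the statement of S16685), as a hypothesis. -/
def FieldCase (p : ℕ) : Prop :=
  ∀ (k : Type u) [Field k] [CharP k p]
    (A : Type u) [CommRing A] [HopfAlgebra k A] [FiniteDimensional k A] [IsLocalRing A]
    (d : ℕ) (_ : Module.finrank k (RingHom.ker (Bialgebra.counitAlgHom k A).toRingHom).Cotangent = d),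
    Nonempty ((A ⧸ Ideal.span ((fun a : A => a ^ p) '' (RingHom.ker (Bialgebra.counitAlgHom k A).toRingHom : Set A))) ≃ₐ[k]
      (MvPolynomial (Fin d) k ⧸ Ideal.span (Set.range fun i : Fin d => (MvPolynomial.X i : MvPolynomial (Fin d) k) ^ p)))

theorem main (p : ℕ) [Fact p.Prime] (R : Type u) [CommRing R]
    [IsLocalRing R] [CharP R p] (A : Type u) [CommRing A] [HopfAlgebra R A]
    [Algebra.FinitePresentation R A] [Module.Flat R A]
    (h1 : ∀ a : A, Bialgebra.counitAlgHom R A a = 0 → a ^ p = 0)
    (H : FieldCase.{u} p) :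
    ∃ n : ℕ, Nonempty (A ≃ₐ[R] (MvPolynomial (Fin n) R ⧸
      Ideal.span (Set.range fun i : Fin n => (MvPolynomial.X i : MvPolynomial (Fin n) R) ^ p))) := by
  haveI : Algebra.FiniteType R A := inferInstance
  haveI := finite p h1
  haveI := charP_residueField p R
  haveI := isLocalRing_baseChange p h1
  haveI : FiniteDimensional (IsLocalRing.ResidueField R) (IsLocalRing.ResidueField R ⊗[R] A) :=
    Module.Finite.base_change R (IsLocalRing.ResidueField R) A
  obtain ⟨e₀⟩ := H (IsLocalRing.ResidueField R) (IsLocalRing.ResidueField R ⊗[R] A) _ rfl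
  set d := Module.finrank (IsLocalRing.ResidueField R)
    (RingHom.ker (Bialgebra.counitAlgHom (IsLocalRing.ResidueField R)
      (IsLocalRing.ResidueField R ⊗[R] A)).toRingHom).Cotangent with hd
  set J := Ideal.span ((fun a : IsLocalRing.ResidueField R ⊗[R] A => a ^ p) ''
    (RingHom.ker (Bialgebra.counitAlgHom (IsLocalRing.ResidueField R)
      (IsLocalRing.ResidueField R ⊗[R] A)).toRingHom : Set (IsLocalRing.ResidueField R ⊗[R] A)))
    with hJdef
  have hJ : J = ⊥ := by
    rw [hJdef, Ideal.span_eq_bot]
    rintro _ ⟨a, ha, rfl⟩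
    exact baseChange_pow_eq_zero p h1 a ha
  let ψ₀ : (IsLocalRing.ResidueField R ⊗[R] A) →ₐ[IsLocalRing.ResidueField R]
      T (IsLocalRing.ResidueField R) (fun _ : Fin d => p) :=
    e₀.toAlgHom.comp (Ideal.Quotient.mkₐ (IsLocalRing.ResidueField R) J)
  have hψ₀ : Function.Bijective ψ₀ := by
    constructor
    · refine e₀.injective.comp ?_
      rw [injective_iff_map_eq_zero]
      intro a ha
      have ha' : Ideal.Quotient.mk J a = 0 := ha
      rw [Ideal.Quotient.eq_zero_iff_mem, hJ] at ha'
      exact ha'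
    · exact e₀.surjective.comp (Ideal.Quotient.mkₐ_surjective (IsLocalRing.ResidueField R) J)
  let ψ := (AlgEquiv.ofBijective ψ₀ hψ₀).symm
  have hlift : ∀ i : Fin d, ∃ x : A, x ^ p = 0 ∧
      ψ (Ideal.Quotient.mk (I (IsLocalRing.ResidueField R) (fun _ : Fin d => p)) (X i)) =
        (1 : IsLocalRing.ResidueField R) ⊗ₜ[R] x := by
    intro i
    set y := ψ (Ideal.Quotient.mk (I (IsLocalRing.ResidueField R) (fun _ : Fin d => p)) (X i))
      with hy
    have hyp : y ^ p = 0 := by
      rw [hy, ← map_pow, X_pow_eq_zero (e := fun _ : Fin d => p) i, map_zero]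
    have hcy : Bialgebra.counitAlgHom (IsLocalRing.ResidueField R)
        (IsLocalRing.ResidueField R ⊗[R] A) y = 0 := by
      have := congrArg (Bialgebra.counitAlgHom (IsLocalRing.ResidueField R)
        (IsLocalRing.ResidueField R ⊗[R] A)) hyp
      rw [map_pow, map_zero] at this
      exact pow_eq_zero_iff (Fact.out : p.Prime).ne_zero |>.1 this
    obtain ⟨a, ha⟩ := TensorProduct.mk_surjective R A (IsLocalRing.ResidueField R)
      Ideal.Quotient.mk_surjective y
    rw [TensorProduct.mk_apply] at ha
    refine ⟨a - algebraMap R A (Bialgebra.counitAlgHom R A a), h1 _ (counit_sub a), ?_⟩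
    have hres : algebraMap R (IsLocalRing.ResidueField R) (Bialgebra.counitAlgHom R A a) = 0 := by
      rw [← ha] at hcy
      simp only [Bialgebra.counitAlgHom_apply, TensorProduct.counit_tmul] at hcy
      rw [Algebra.algebraMap_eq_smul_one]
      simpa using hcy
    rw [TensorProduct.tmul_sub, ha, Algebra.algebraMap_eq_smul_one (A := A),
      TensorProduct.tmul_smul, TensorProduct.smul_tmul', ← Algebra.algebraMap_eq_smul_one, hres,
      TensorProduct.zero_tmul, sub_zero]
  choose x hx hψx using hlift
  exact ⟨d, ⟨(AlgEquiv.ofBijective (lift x hx)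
    (lift_bijective_of_residue (fun _ : Fin d => p) x hx ψ hψx)).symm⟩⟩

end Groth.Agent.H93.HeightOneLocal
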