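import Groth.Agent.H93.FittProj
import Groth.Agent.H17.GenFreeAlg
import Mathlib

/-!
# Generic projectivity after killing a prime (helper93)

For a Noetherian-free statement: `A` a ring, `R` a finite type `A`-algebra, `M` a finite `R`-module
and `q` a prime of `A`: there is `f ∉ q` such that `E ⊗[A] M` is projective over
`E = (A/q)_f`.
-/

set_option autoImplicit false

open TensorProduct

namespace Groth.Agent.H93.HilbStrat

universe u

theorem exists_projective_baseChange {A : Type u} [CommRing A] (R : Type u) [CommRing R]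
    [Algebra A R] [Algebra.FiniteType A R] (M : Type u) [AddCommGroup M] [Module A M] [Module R M]
    [IsScalarTower A R M] [Module.Finite R M] (q : Ideal A) [q.IsPrime] :
    ∃ f : A, f ∉ q ∧ Module.Projective (Localization.Away (Ideal.Quotient.mk q f))
      (Localization.Away (Ideal.Quotient.mk q f) ⊗[A] M) := by
  let D := A ⧸ q
  let I : Ideal R := q.map (algebraMap A R)
  let S := R ⧸ I
  let N' := M ⧸ (I • (⊤ : Submodule R M))
  haveI : Algebra.FiniteType A S :=
    Algebra.FiniteType.of_surjective (Ideal.Quotient.mkₐ A I) (Ideal.Quotient.mkₐ_surjective A I)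
  haveI : Algebra.FiniteType D S := Algebra.FiniteType.of_restrictScalars_finiteType A D S
  haveI : Module.Finite S N' := Module.Finite.of_restrictScalars_finite R S N'
  letI modD : Module D N' := Module.compHom N' (algebraMap D S)
  haveI tDS : IsScalarTower D S N' :=
    ⟨fun c s n => by
      rw [Algebra.smul_def, mul_smul]
      rfl⟩
  haveI tAD : IsScalarTower A D N' :=
    ⟨fun a c n => by
      obtain ⟨c, rfl⟩ := Ideal.Quotient.mk_surjective c
      change algebraMap D S (a • Ideal.Quotient.mk q c) • n =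
        a • (algebraMap D S (Ideal.Quotient.mk q c) • n)
      rw [Algebra.smul_def, map_mul, mul_smul]
      generalize algebraMap D S (Ideal.Quotient.mk q c) • n = n'
      rw [← IsScalarTower.algebraMap_apply A D S, algebraMap_smul]⟩
  obtain ⟨fbar, hfbar, hfree⟩ := Groth.Agent.H17.genFree_of_finite_of_finiteType D S N'
  obtain ⟨f, rfl⟩ := Ideal.Quotient.mk_surjective fbar
  refine ⟨f, fun h => hfbar (Ideal.Quotient.eq_zero_iff_mem.mpr h), ?_⟩
  let E := Localization.Away (Ideal.Quotient.mk q f)
  haveI : Module.Flat D E := IsLocalization.flat E (Submonoid.powers (Ideal.Quotient.mk q f))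
  have hF : Module.Free E (E ⊗[D] N') :=
    hfree E (IsLocalization.Away.algebraMap_isUnit (Ideal.Quotient.mk q f))
  -- the two maps
  let φ₁ : M →ₗ[A] E ⊗[D] N' :=
    ((TensorProduct.mk D E N' 1).restrictScalars A) ∘ₗ
      ((I • (⊤ : Submodule R M)).mkQ.restrictScalars A)
  let i : E ⊗[A] M →ₗ[E] E ⊗[D] N' := LinearMap.liftBaseChange E φ₁
  -- the map back
  have hkill : ∀ (a : A), a ∈ q → ∀ x : E ⊗[A] M, a • x = 0 := by
    intro a ha x
    have h0 : algebraMap A E a = 0 := by
      rw [IsScalarTower.algebraMap_apply A D E, Ideal.Quotient.algebraMap_eq,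
        Ideal.Quotient.eq_zero_iff_mem.mpr ha, map_zero]
    rw [← algebraMap_smul E a x, h0, zero_smul]
  have hle : (I • (⊤ : Submodule R M)).restrictScalars A ≤
      LinearMap.ker (TensorProduct.mk A E M 1) := by
    intro x hx
    rw [Submodule.restrictScalars_mem] at hx
    rw [LinearMap.mem_ker]
    -- the ideal of elements of R acting by zero after tensoring
    let J : Ideal R :=
      { carrier := {r | ∀ m : M, (1 : E) ⊗ₜ[A] (r • m) = 0}
        add_mem' := fun {r s} hr hs m => by rw [add_smul, TensorProduct.tmul_add, hr m, hs m, add_zero]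
        zero_mem' := fun m => by rw [zero_smul, TensorProduct.tmul_zero]
        smul_mem' := fun c r hr m => by
          rw [smul_eq_mul, mul_comm, mul_smul]
          exact hr (c • m) }
    have hIJ : I ≤ J := by
      rw [Ideal.map_le_iff_le_comap]
      intro a ha m
      change (1 : E) ⊗ₜ[A] (algebraMap A R a • m) = 0
      rw [algebraMap_smul, TensorProduct.tmul_smul]
      exact hkill a ha _
    change (1 : E) ⊗ₜ[A] x = 0
    refine Submodule.smul_induction_on hx (fun r hr m _ => hIJ hr m) (fun x y hx hy => ?_)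
    rw [TensorProduct.tmul_add, hx, hy, add_zero]
  let ψ₂ : N' →ₗ[A] E ⊗[A] M :=
    (Submodule.liftQ ((I • (⊤ : Submodule R M)).restrictScalars A) (TensorProduct.mk A E M 1) hle) ∘ₗ
      (Submodule.Quotient.restrictScalarsEquiv A (I • (⊤ : Submodule R M))).symm.toLinearMap
  have hψ₂ : ∀ m : M, ψ₂ (Submodule.Quotient.mk m) = (1 : E) ⊗ₜ[A] m := fun m => rfl
  let φ₂ : N' →ₗ[D] E ⊗[A] M :=
    LinearMap.extendScalarsOfSurjective (R := A) (S := D) Ideal.Quotient.mk_surjective ψ₂
  let π : E ⊗[D] N' →ₗ[E] E ⊗[A] M := LinearMap.liftBaseChange E φ₂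
  have hπi : π ∘ₗ i = LinearMap.id := by
    apply TensorProduct.AlgebraTensorModule.curry_injective
    ext m
    change π (i ((1 : E) ⊗ₜ[A] m)) = (1 : E) ⊗ₜ[A] m
    have h1 : i ((1 : E) ⊗ₜ[A] m) = (1 : E) ⊗ₜ[D] (Submodule.Quotient.mk m : N') := by
      change (1 : E) • φ₁ m = _
      rw [one_smul]
      rfl
    rw [h1]
    change (1 : E) • φ₂ (Submodule.Quotient.mk m) = _
    rw [one_smul]
    exact hψ₂ m
  exact Module.Projective.of_split i π hπi

end Groth.Agent.H93.HilbStrat
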