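import Groth.Agent.H93.HilbStratA

/-!
# Generic bound for Fitting ideals of graded pieces (helper93)
-/

set_option autoImplicit false

open TensorProduct Groth.Agent.Lead

namespace Groth.Agent.H93.HilbStrat

universe u

/-- Let `M` be a finite module over a finite type `A`-algebra `R`, decomposed into `A`-submodules
`ℳ v` which are finite over `A`.  If `q` is a prime of `A` containing none of the Fitting ideals
`Fit_{h v}(ℳ v)`, then the same holds on a neighbourhood of `q` in `V(q)`. -/
theorem exists_nhd_fitt {A : Type u} [CommRing A] (R : Type u) [CommRing R]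
    [Algebra A R] [Algebra.FiniteType A R] (M : Type u) [AddCommGroup M] [Module A M] [Module R M]
    [IsScalarTower A R M] [Module.Finite R M] {ι : Type*} [DecidableEq ι]
    (ℳ : ι → Submodule A M) [DirectSum.Decomposition ℳ]
    (hfg : ∀ v, Module.Finite A ↥(ℳ v)) (h : ι → ℕ) (q : Ideal A) [q.IsPrime]
    (hq : ∀ v, ¬ Fitt.ideal A ↥(ℳ v) (h v) ≤ q) :
    ∃ f : A, f ∉ q ∧ ∀ (p : Ideal A) [p.IsPrime], q ≤ p → f ∉ p →
      ∀ v, ¬ Fitt.ideal A ↥(ℳ v) (h v) ≤ p := by
  obtain ⟨f, hf, hproj⟩ := exists_projective_baseChange R M q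
  refine ⟨f, hf, fun p _ hqp hfp v hle => ?_⟩
  let D := A ⧸ q
  let E := Localization.Away (Ideal.Quotient.mk q f)
  have hfbar : Ideal.Quotient.mk q f ≠ 0 := fun h0 => hf (Ideal.Quotient.eq_zero_iff_mem.mp h0)
  have hpow : Submonoid.powers (Ideal.Quotient.mk q f) ≤ nonZeroDivisors D :=
    Submonoid.powers_le.mpr (mem_nonZeroDivisors_of_ne_zero hfbar)
  haveI : IsDomain E := IsLocalization.isDomain_of_le_nonZeroDivisors E hpow
  have hinj : Function.Injective (algebraMap D E) := IsLocalization.injective E hpow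
  haveI := hfg v
  -- projectivity of the piece
  let proj : M →ₗ[A] ↥(ℳ v) :=
    (DirectSum.component A ι (fun i => ↥(ℳ i)) v) ∘ₗ (DirectSum.decomposeLinearEquiv ℳ).toLinearMap
  have hproj_sub : proj ∘ₗ (ℳ v).subtype = LinearMap.id := by
    ext x
    change ((DirectSum.component A ι (fun i => ↥(ℳ i)) v) (DirectSum.decompose ℳ (x : M)) : M) = x
    rw [DirectSum.decompose_coe]
    have h1 := DirectSum.component.of A (M := fun i => ↥(ℳ i)) v v x
    rw [dif_pos rfl] at h1
    exact congrArg Subtype.val h1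
  have hsplit : (proj.baseChange E) ∘ₗ ((ℳ v).subtype.baseChange E) = LinearMap.id := by
    rw [← LinearMap.baseChange_comp, hproj_sub, LinearMap.baseChange_id]
  haveI : Module.Projective E (E ⊗[A] ↥(ℳ v)) :=
    Module.Projective.of_split ((ℳ v).subtype.baseChange E) (proj.baseChange E) hsplit
  -- Fitting ideal is bot or top
  have hbc : Fitt.ideal E (E ⊗[A] ↥(ℳ v)) (h v) =
      (Fitt.ideal A ↥(ℳ v) (h v)).map (algebraMap A E) := fitt_ideal_baseChange (h v)
  have hne : (Fitt.ideal A ↥(ℳ v) (h v)).map (algebraMap A E) ≠ ⊥ := by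
    obtain ⟨a, haF, haq⟩ := SetLike.not_le_iff_exists.mp (hq v)
    intro hbot
    have hmem : algebraMap A E a ∈ (Fitt.ideal A ↥(ℳ v) (h v)).map (algebraMap A E) :=
      Ideal.mem_map_of_mem _ haF
    rw [hbot, Ideal.mem_bot, IsScalarTower.algebraMap_apply A D E,
      ← map_zero (algebraMap D E)] at hmem
    exact haq (Ideal.Quotient.eq_zero_iff_mem.mp (hinj hmem))
  have htop : (Fitt.ideal A ↥(ℳ v) (h v)).map (algebraMap A E) = ⊤ := by
    rcases FittProj.fitt_eq_bot_or_top_of_isDomain (E := E) (E ⊗[A] ↥(ℳ v)) (h v) with h0 | h1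
    · exact absurd (hbc ▸ h0) hne
    · exact hbc ▸ h1
  -- a ring map from `E` to the fraction field of `A ⧸ p`
  let K := FractionRing (A ⧸ p)
  let g : D →+* K := (algebraMap (A ⧸ p) K).comp (Ideal.Quotient.factor hqp)
  have hg : IsUnit (g (Ideal.Quotient.mk q f)) := by
    apply IsUnit.mk0
    change algebraMap (A ⧸ p) K (Ideal.Quotient.factor hqp (Ideal.Quotient.mk q f)) ≠ 0
    rw [Ideal.Quotient.factor_mk, Ne, map_eq_zero_iff _ (IsFractionRing.injective (A ⧸ p) K)]
    exact fun h0 => hfp (Ideal.Quotient.eq_zero_iff_mem.mp h0)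
  let ψ : E →+* K := IsLocalization.Away.lift (Ideal.Quotient.mk q f) hg
  have hψ : ∀ a ∈ p, ψ (algebraMap A E a) = 0 := by
    intro a ha
    rw [IsScalarTower.algebraMap_apply A D E, IsLocalization.Away.lift_eq]
    change algebraMap (A ⧸ p) K (Ideal.Quotient.factor hqp (Ideal.Quotient.mk q a)) = 0
    rw [Ideal.Quotient.factor_mk, Ideal.Quotient.eq_zero_iff_mem.mpr ha, map_zero]
  have hker : (Fitt.ideal A ↥(ℳ v) (h v)).map (algebraMap A E) ≤ RingHom.ker ψ := by
    rw [Ideal.map_le_iff_le_comap]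
    intro a ha
    exact hψ a (hle ha)
  rw [htop] at hker
  have h1 : (1 : E) ∈ RingHom.ker ψ := hker Submodule.mem_top
  rw [RingHom.mem_ker, map_one] at h1
  exact one_ne_zero h1

end Groth.Agent.H93.HilbStrat
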