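import Mathlib

/-!
# A closedness criterion in Noetherian spectra (helper93)

If `bv v` is a family of ideals of a Noetherian ring such that "containing none of the `bv v`" is an
open condition along every irreducible closed subset (at its generic point), then the set of primes
containing `a` and some `bv v` is closed.
-/

set_option autoImplicit false

namespace Groth.Agent.H93.HilbStrat

universe u

theorem exists_ideal_closed {A : Type u} [CommRing A] [IsNoetherianRing A] {ι : Type*}
    (a : Ideal A) (bv : ι → Ideal A)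
    (GF : ∀ (q : Ideal A) [q.IsPrime], (∀ v, ¬ bv v ≤ q) →
      ∃ f : A, f ∉ q ∧ ∀ (p : Ideal A) [p.IsPrime], q ≤ p → f ∉ p → ∀ v, ¬ bv v ≤ p) :
    ∃ b : Ideal A, ∀ (p : Ideal A) [p.IsPrime], a ≤ p → (b ≤ p ↔ ∃ v, bv v ≤ p) := by
  classical
  let C : Set (PrimeSpectrum A) := {p | a ≤ p.asIdeal ∧ ∃ v, bv v ≤ p.asIdeal}
  let b : Ideal A := PrimeSpectrum.vanishingIdeal C
  have hbC : ∀ P ∈ C, b ≤ P.asIdeal := fun P hP x hx =>
    (PrimeSpectrum.mem_vanishingIdeal C x).mp hx P hP
  have hab : a ≤ b := fun x hx =>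
    (PrimeSpectrum.mem_vanishingIdeal C x).mpr fun P hP => hP.1 hx
  refine ⟨b, fun p hp hap => ⟨fun hbp => ?_, fun ⟨v, hv⟩ => hbC ⟨p, hp⟩ ⟨hap, v, hv⟩⟩⟩
  obtain ⟨q, hqmin, hqp⟩ := Ideal.exists_minimalPrimes_le hbp
  have hqprime : q.IsPrime := hqmin.1.1
  have hbq : b ≤ q := hqmin.1.2
  by_contra hcon
  push Not at hcon
  have hq : ∀ v, ¬ bv v ≤ q := fun v hv => hcon v (hv.trans hqp)
  obtain ⟨f, hfq, hf⟩ := GF q hq
  have hfin : (b.minimalPrimes).Finite := Ideal.finite_minimalPrimes_of_isNoetherianRing A b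
  let F' : Finset (Ideal A) := hfin.toFinset.erase q
  have hg : ¬ F'.inf id ≤ q := by
    intro hle
    obtain ⟨q', hq'F, hq'q⟩ := (Ideal.IsPrime.inf_le' hqprime).mp hle
    rw [Finset.mem_erase, Set.Finite.mem_toFinset] at hq'F
    have : q ≤ q' := hqmin.2 hq'F.2.1 hq'q
    exact hq'F.1 (le_antisymm hq'q this)
  obtain ⟨g, hgF, hgq⟩ := SetLike.not_le_iff_exists.mp hg
  have hfg : f * g ∈ b := by
    rw [PrimeSpectrum.mem_vanishingIdeal]
    intro P hP
    obtain ⟨q'', hq''min, hq''P⟩ := Ideal.exists_minimalPrimes_le (hbC P hP)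
    by_cases heq : q'' = q
    · subst heq
      apply Ideal.mul_mem_right
      by_contra hfP
      obtain ⟨v, hv⟩ := hP.2
      exact hf P.asIdeal hq''P hfP v hv
    · apply Ideal.mul_mem_left
      apply hq''P
      have hmem : q'' ∈ F' := by
        rw [Finset.mem_erase, Set.Finite.mem_toFinset]
        exact ⟨heq, hq''min⟩
      exact (Finset.inf_le hmem : F'.inf id ≤ id q'') hgF
  rcases hqprime.mem_or_mem (hbq hfg) with h1 | h1
  · exact hfq h1
  · exact hgq h1

theorem map_eq_top_iff {A B : Type*} [CommRing A] [CommRing B] [Algebra A B] (c : Ideal A) :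
    c.map (algebraMap A B) = ⊤ ↔
      ∀ (P : Ideal B), P.IsPrime → ¬ c ≤ P.comap (algebraMap A B) := by
  constructor
  · intro h P hP hle
    have : c.map (algebraMap A B) ≤ P := Ideal.map_le_iff_le_comap.mpr hle
    rw [h] at this
    exact hP.ne_top (top_le_iff.mp this)
  · intro h
    by_contra hne
    obtain ⟨P, hPmax, hle⟩ := Ideal.exists_le_maximal _ hne
    exact h P hPmax.isPrime (Ideal.map_le_iff_le_comap.mp hle)

end Groth.Agent.H93.HilbStrat
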