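import Groth.Prelude.Def_HopfRep
import Groth.Prelude.Def_W4c1tameactTame
import Mathlib.RingTheory.HopfAlgebra.Convolution

/-!
# The fundamental theorem of Hopf modules (helper93)

For a commutative Hopf algebra `A` over a commutative ring `k` and an `(A, A)`-Hopf module `M`
(`TameAct.IsHopfMod k A A M`), the projection `P m = Σ S(m₁) • m₀` lands in the coinvariants, and
`m = Σ m₁ • P(m₀)`.
-/

set_option autoImplicit false

universe u v w

open TensorProduct

namespace Groth.Agent.H93.HopfMod

section Conv

variable (k : Type u) [CommRing k] (A : Type v) [CommRing A] [HopfAlgebra k A]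

/-- `b ⊗ c ↦ (1 ⊗ b) · Δ(S c)` -/
noncomputable def Lam : A ⊗[k] A →ₐ[k] A ⊗[k] A :=
  Algebra.TensorProduct.lift (Algebra.TensorProduct.includeRight : A →ₐ[k] A ⊗[k] A)
    ((Bialgebra.comulAlgHom k A).comp (HopfAlgebra.antipodeAlgHom k A)) (fun _ _ => .all _ _)

theorem Lam_tmul (b c : A) :
    Lam k A (b ⊗ₜ[k] c) =
      ((1 : A) ⊗ₜ[k] b) * CoalgebraStruct.comul (R := k) (HopfAlgebraStruct.antipode (R := k) c) := by
  unfold Lam
  rw [Algebra.TensorProduct.lift_tmul]
  rfl

/-- `Σ (1 ⊗ a₁) · Δ(S a₂) = S a ⊗ 1` -/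
theorem Lam_comul (a : A) :
    Lam k A (CoalgebraStruct.comul (R := k) a) = HopfAlgebraStruct.antipode (R := k) a ⊗ₜ[k] (1 : A) := by
  let p₁ : WithConv (A →ₐ[k] A ⊗[k] A) := WithConv.toConv Algebra.TensorProduct.includeLeft
  let p₂ : WithConv (A →ₐ[k] A ⊗[k] A) := WithConv.toConv Algebra.TensorProduct.includeRight
  have h12 : p₁ * p₂ = WithConv.toConv (Bialgebra.comulAlgHom k A) := by
    apply WithConv.ofConv_injective
    apply AlgHom.ext
    intro x
    have := AlgHom.convMul_apply p₁ p₂ x
    change (p₁ * p₂).ofConv x = _ at this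
    rw [this]
    change Algebra.TensorProduct.lift Algebra.TensorProduct.includeLeft
      Algebra.TensorProduct.includeRight _ (CoalgebraStruct.comul (R := k) x) =
      CoalgebraStruct.comul (R := k) x
    induction CoalgebraStruct.comul (R := k) x using TensorProduct.induction_on with
    | zero => simp only [map_zero]
    | add y z hy hz => simp only [map_add, hy, hz]
    | tmul b c =>
      rw [Algebra.TensorProduct.lift_tmul, Algebra.TensorProduct.includeLeft_apply,
        Algebra.TensorProduct.includeRight_apply, Algebra.TensorProduct.tmul_mul_tmul, mul_one,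
        one_mul]
  have hgrp : p₂ * (p₁ * p₂)⁻¹ = p₁⁻¹ := by
    have e1 : (p₁ * p₂)⁻¹ = p₂⁻¹ * p₁⁻¹ := mul_inv_rev p₁ p₂
    have e2 : p₂ * (p₂⁻¹ * p₁⁻¹) = p₁⁻¹ := mul_inv_cancel_left p₂ p₁⁻¹
    exact (congrArg (fun z => p₂ * z) e1).trans e2
  rw [h12] at hgrp
  have h1 := AlgHom.convMul_apply p₂ (WithConv.toConv (Bialgebra.comulAlgHom k A))⁻¹ a
  rw [hgrp] at h1
  exact h1.symm

end Conv

section Mod

variable (k : Type u) [CommRing k] (A : Type v) [CommRing A] [HopfAlgebra k A]
variable (M : Type w) [AddCommGroup M] [Module k M] [Module A M] [IsScalarTower k A M]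

theorem hmSMul_mul (x y : A ⊗[k] A) (z : M ⊗[k] A) :
    TameAct.hmSMul k A A M (x * y) z = TameAct.hmSMul k A A M x (TameAct.hmSMul k A A M y z) := by
  induction x using TensorProduct.induction_on with
  | zero => simp only [zero_mul, map_zero, LinearMap.zero_apply]
  | add x x' hx hx' => simp only [add_mul, map_add, LinearMap.add_apply, hx, hx']
  | tmul b a =>
    induction y using TensorProduct.induction_on with
    | zero => simp only [mul_zero, map_zero, LinearMap.zero_apply]
    | add y y' hy hy' => simp only [mul_add, map_add, LinearMap.add_apply, hy, hy']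
    | tmul b' a' =>
      induction z using TensorProduct.induction_on with
      | zero => simp only [map_zero]
      | add z z' hz hz' => simp only [map_add, hz, hz']
      | tmul m c =>
        simp only [Algebra.TensorProduct.tmul_mul_tmul, TameAct.hmSMul_tmul, mul_smul, mul_assoc]

/-- `m ⊗ a ↦ S(a) • m` -/
noncomputable def sig : M ⊗[k] A →ₗ[k] M :=
  TensorProduct.lift
    ((Algebra.lsmul k k M : A →ₐ[k] Module.End k M).toLinearMap ∘ₗ
      (HopfAlgebraStruct.antipode (R := k) (A := A))).flip

theorem sig_tmul (m : M) (a : A) :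
    sig k A M (m ⊗ₜ[k] a) = HopfAlgebraStruct.antipode (R := k) a • m := by
  simp [sig]

/-- `m ⊗ a ↦ a • m` -/
noncomputable def act : M ⊗[k] A →ₗ[k] M :=
  TensorProduct.lift ((Algebra.lsmul k k M : A →ₐ[k] Module.End k M).toLinearMap).flip

theorem act_tmul (m : M) (a : A) : act k A M (m ⊗ₜ[k] a) = a • m := by
  simp [act]

variable [HopfRep.Comod k A M]

/-- the projection onto the coinvariants, `m ↦ Σ S(m₁) • m₀` -/
noncomputable def P : M →ₗ[k] M := sig k A M ∘ₗ HopfRep.Comod.coact (k := k) (A := A)

variable [TameAct.IsHopfMod k A A M]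

private theorem aux_G (m' : M) (t : A ⊗[k] A) :
    TensorProduct.lift ((TameAct.hmSMul k A A M ∘ₗ (CoalgebraStruct.comul (R := k) (A := A)) ∘ₗ
        (HopfAlgebraStruct.antipode (R := k) (A := A))).flip)
      ((TensorProduct.assoc k M A A).symm (m' ⊗ₜ[k] t)) =
    TameAct.hmSMul k A A M (Lam k A t) (m' ⊗ₜ[k] (1 : A)) := by
  induction t using TensorProduct.induction_on with
  | zero => simp only [TensorProduct.tmul_zero, map_zero, LinearMap.zero_apply]
  | add x y hx hy => simp only [TensorProduct.tmul_add, map_add, LinearMap.add_apply, hx, hy]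
  | tmul b c =>
    rw [TensorProduct.assoc_symm_tmul, TensorProduct.lift.tmul, Lam_tmul, mul_comm, hmSMul_mul,
      TameAct.hmSMul_tmul, one_smul, mul_one]
    rfl

/-- `P` lands in the coinvariants -/
theorem P_mem_fixedPts (m : M) : P k A M m ∈ HopfRep.fixedPts k A M := by
  change HopfRep.Comod.coact (k := k) (A := A) (P k A M m) = P k A M m ⊗ₜ[k] (1 : A)
  -- Step A
  have hA : ∀ x : M ⊗[k] A, HopfRep.Comod.coact (k := k) (A := A) (sig k A M x) =
      TensorProduct.lift ((TameAct.hmSMul k A A M ∘ₗ (CoalgebraStruct.comul (R := k) (A := A)) ∘ₗ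
        (HopfAlgebraStruct.antipode (R := k) (A := A))).flip)
        ((HopfRep.Comod.coact (k := k) (A := A) (V := M)).rTensor A x) := by
    intro x
    induction x using TensorProduct.induction_on with
    | zero => simp only [map_zero]
    | add x y hx hy => simp only [map_add, hx, hy]
    | tmul m' a =>
      rw [sig_tmul, TameAct.IsHopfMod.coact_smul (k := k) (A := A) (B := A),
        LinearMap.rTensor_tmul, TensorProduct.lift.tmul]
      rfl
  have hB : (HopfRep.Comod.coact (k := k) (A := A) (V := M)).rTensor A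
      (HopfRep.Comod.coact (k := k) (A := A) m) =
      (TensorProduct.assoc k M A A).symm ((CoalgebraStruct.comul (R := k) (A := A)).lTensor M
        (HopfRep.Comod.coact (k := k) (A := A) m)) := by
    have hc := LinearMap.congr_fun (HopfRep.Comod.coassoc (k := k) (A := A) (V := M)) m
    simp only [LinearMap.coe_comp, Function.comp_apply, LinearEquiv.coe_coe] at hc
    rw [← hc, LinearEquiv.symm_apply_apply]
  have hC : ∀ x : M ⊗[k] A,
      TensorProduct.lift ((TameAct.hmSMul k A A M ∘ₗ (CoalgebraStruct.comul (R := k) (A := A)) ∘ₗ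
        (HopfAlgebraStruct.antipode (R := k) (A := A))).flip)
        ((TensorProduct.assoc k M A A).symm
          ((CoalgebraStruct.comul (R := k) (A := A)).lTensor M x)) =
      sig k A M x ⊗ₜ[k] (1 : A) := by
    intro x
    induction x using TensorProduct.induction_on with
    | zero => simp only [map_zero, TensorProduct.zero_tmul]
    | add x y hx hy => simp only [map_add, hx, hy, TensorProduct.add_tmul]
    | tmul m' a =>
      rw [LinearMap.lTensor_tmul, aux_G, Lam_comul, TameAct.hmSMul_tmul, mul_one, sig_tmul]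
  unfold P
  rw [LinearMap.comp_apply, hA, hB, hC]

/-- `m = Σ m₁ • P(m₀)` -/
theorem act_P_coact (m : M) :
    act k A M ((P k A M).rTensor A (HopfRep.Comod.coact (k := k) (A := A) m)) = m := by
  have hB : (HopfRep.Comod.coact (k := k) (A := A) (V := M)).rTensor A
      (HopfRep.Comod.coact (k := k) (A := A) m) =
      (TensorProduct.assoc k M A A).symm ((CoalgebraStruct.comul (R := k) (A := A)).lTensor M
        (HopfRep.Comod.coact (k := k) (A := A) m)) := by
    have hc := LinearMap.congr_fun (HopfRep.Comod.coassoc (k := k) (A := A) (V := M)) m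
    simp only [LinearMap.coe_comp, Function.comp_apply, LinearEquiv.coe_coe] at hc
    rw [← hc, LinearEquiv.symm_apply_apply]
  have h1 : ∀ (m' : M) (t : A ⊗[k] A),
      act k A M ((sig k A M).rTensor A ((TensorProduct.assoc k M A A).symm (m' ⊗ₜ[k] t))) =
      (LinearMap.mul' k A ((HopfAlgebraStruct.antipode (R := k) (A := A)).rTensor A t)) • m' := by
    intro m' t
    induction t using TensorProduct.induction_on with
    | zero => simp only [TensorProduct.tmul_zero, map_zero, zero_smul]
    | add x y hx hy => simp only [TensorProduct.tmul_add, map_add, hx, hy, add_smul]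
    | tmul b c =>
      rw [TensorProduct.assoc_symm_tmul, LinearMap.rTensor_tmul, sig_tmul, act_tmul,
        LinearMap.rTensor_tmul, LinearMap.mul'_apply, smul_smul, mul_comm]
  have h2 : ∀ x : M ⊗[k] A,
      act k A M ((sig k A M).rTensor A ((TensorProduct.assoc k M A A).symm
        ((CoalgebraStruct.comul (R := k) (A := A)).lTensor M x))) =
      TensorProduct.rid k M ((CoalgebraStruct.counit (R := k) (A := A)).lTensor M x) := by
    intro x
    induction x using TensorProduct.induction_on with
    | zero => simp only [map_zero]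
    | add x y hx hy => simp only [map_add, hx, hy]
    | tmul m' a =>
      rw [LinearMap.lTensor_tmul, h1, HopfAlgebra.mul_antipode_rTensor_comul_apply,
        LinearMap.lTensor_tmul, TensorProduct.rid_tmul, algebraMap_smul]
  unfold P
  rw [LinearMap.rTensor_comp, LinearMap.comp_apply, hB, h2]
  have hc := LinearMap.congr_fun (HopfRep.Comod.counit_comp (k := k) (A := A) (V := M)) m
  simp only [LinearMap.coe_comp, Function.comp_apply, LinearMap.flip_apply,
    TensorProduct.mk_apply] at hc
  rw [hc, TensorProduct.rid_tmul, one_smul]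

/-- `P (a • v) = ε(a) v` for a coinvariant `v` -/
theorem P_smul_of_mem_fixedPts (a : A) (v : M) (hv : v ∈ HopfRep.fixedPts k A M) :
    P k A M (a • v) = CoalgebraStruct.counit (R := k) (A := A) a • v := by
  have hv' : HopfRep.Comod.coact (k := k) (A := A) v = v ⊗ₜ[k] (1 : A) := hv
  unfold P
  rw [LinearMap.comp_apply, TameAct.IsHopfMod.coact_smul (k := k) (A := A) (B := A), hv']
  have h1 : ∀ t : A ⊗[k] A, sig k A M (TameAct.hmSMul k A A M t (v ⊗ₜ[k] (1 : A))) =
      (LinearMap.mul' k A ((HopfAlgebraStruct.antipode (R := k) (A := A)).lTensor A t)) • v := by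
    intro t
    induction t using TensorProduct.induction_on with
    | zero => simp only [map_zero, LinearMap.zero_apply, zero_smul]
    | add x y hx hy => simp only [map_add, LinearMap.add_apply, hx, hy, add_smul]
    | tmul b c =>
      rw [TameAct.hmSMul_tmul, sig_tmul, mul_one, LinearMap.lTensor_tmul, LinearMap.mul'_apply,
        smul_smul, mul_comm]
  change sig k A M (TameAct.hmSMul k A A M (CoalgebraStruct.comul (R := k) a) (v ⊗ₜ[k] (1 : A))) = _
  rw [h1, HopfAlgebra.mul_antipode_lTensor_comul_apply, algebraMap_smul]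

/-- `Σ P((a•v)₀) ⊗ (a•v)₁ = v ⊗ a` for a coinvariant `v` -/
theorem P_rTensor_coact_smul (a : A) (v : M) (hv : v ∈ HopfRep.fixedPts k A M) :
    (P k A M).rTensor A (HopfRep.Comod.coact (k := k) (A := A) (a • v)) = v ⊗ₜ[k] a := by
  have hv' : HopfRep.Comod.coact (k := k) (A := A) v = v ⊗ₜ[k] (1 : A) := hv
  rw [TameAct.IsHopfMod.coact_smul (k := k) (A := A) (B := A), hv']
  have h1 : ∀ t : A ⊗[k] A, (P k A M).rTensor A (TameAct.hmSMul k A A M t (v ⊗ₜ[k] (1 : A))) =
      v ⊗ₜ[k] (TensorProduct.lid k A ((CoalgebraStruct.counit (R := k) (A := A)).rTensor A t)) := by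
    intro t
    induction t using TensorProduct.induction_on with
    | zero => simp only [map_zero, LinearMap.zero_apply, TensorProduct.tmul_zero]
    | add x y hx hy => simp only [map_add, LinearMap.add_apply, hx, hy, TensorProduct.tmul_add]
    | tmul b c =>
      rw [TameAct.hmSMul_tmul, LinearMap.rTensor_tmul, P_smul_of_mem_fixedPts k A M b v hv, mul_one,
        LinearMap.rTensor_tmul, TensorProduct.lid_tmul, TensorProduct.smul_tmul]
  change (P k A M).rTensor A (TameAct.hmSMul k A A M (CoalgebraStruct.comul (R := k) a)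
    (v ⊗ₜ[k] (1 : A))) = _
  rw [h1]
  congr 1
  have := Coalgebra.rTensor_counit_comul (R := k) a
  rw [this, TensorProduct.lid_tmul, one_smul]

end Mod

end Groth.Agent.H93.HopfMod
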