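import Mathlib
import Groth.Agent.H93.FinInt
import Groth.Agent.H93.ReynoldsAlg

/-!
# Heights of primes in the fibres of `Spec R → Spec R^G` for a finite linearly reductive `G`
-/

set_option autoImplicit false
universe u
open TensorProduct

namespace Groth.Agent.H93

section General

variable {R M : Type u} [CommRing R] [CommRing M] [Algebra R M] [Module.Flat R M]
  [Algebra.IsIntegral R M] [IsNoetherianRing M] [IsNoetherianRing R]

theorem height_under_eq (Q : Ideal M) [Q.IsPrime] : (Q.under R).height = Q.height := by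
  have h := Ideal.height_eq_height_add_of_liesOver_of_hasGoingDown (Q.under R) Q
  have hmin := Ideal.IsIntegral.mem_minimalPrimes_map_under (R := R) Q
  have hle : (Q.under R).map (algebraMap R M) ≤ Q := Ideal.map_comap_le
  generalize (Q.under R).map (algebraMap R M) = I at h hmin hle
  have h2 : (Q.map (Ideal.Quotient.mk I)).height = 0 := by
    have hprime : (Q.map (Ideal.Quotient.mk I)).IsPrime :=
      Ideal.map_isPrime_of_surjective Ideal.Quotient.mk_surjective (by simpa using hle)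
    rw [Ideal.height_eq_zero_iff]
    rw [Ideal.minimalPrimes_eq_comap] at hmin
    obtain ⟨P, hP, hPQ⟩ := hmin
    rw [← hPQ, Ideal.map_comap_of_surjective _ Ideal.Quotient.mk_surjective]
    exact hP
  rw [h2, add_zero] at h
  exact h.symm

end General

section Hopf

variable {k : Type u} [Field k] {H : Type u} [CommRing H] [HopfAlgebra k H]
variable {R : Type u} [CommRing R] [Algebra k R] [HopfRep.Comod k H R] [GLin.IsCoactAlg k H R]

/-- the shear map `r ⊗ h ↦ ρ(r) (1 ⊗ h)` as an algebra map -/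
noncomputable def PhiAlg : R ⊗[k] H →ₐ[k] R ⊗[k] H :=
  Algebra.TensorProduct.productMap (GLin.coactAlgHom k H R)
    (Algebra.TensorProduct.includeRight : H →ₐ[k] R ⊗[k] H)

omit [GLin.IsCoactAlg k H R] in
theorem tw_mul_tmul (s : R) (h : H) :
    tw R (LinearMap.mul' k H) (s ⊗ₜ[k] h) =
      HopfRep.Comod.coact (k := k) (A := H) s * ((1 : R) ⊗ₜ[k] h) := by
  rw [tw_tmul]
  induction (HopfRep.Comod.coact (k := k) (A := H) s : R ⊗[k] H) using TensorProduct.induction_on with
  | zero => simp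
  | tmul x b => simp
  | add y y' hy hy' => simp only [add_tmul, map_add, hy, hy', add_mul]

theorem PhiAlg_eq_tw (x : R ⊗[k] H) : PhiAlg (k := k) (H := H) (R := R) x =
    tw R (LinearMap.mul' k H) x := by
  induction x using TensorProduct.induction_on with
  | zero => simp
  | add x y hx hy => simp only [map_add, hx, hy]
  | tmul r h =>
    rw [tw_mul_tmul, PhiAlg, Algebra.TensorProduct.productMap_apply_tmul]
    rfl

theorem PhiAlg_bijective : Function.Bijective (PhiAlg (k := k) (H := H) (R := R)) := by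
  constructor
  · intro x y hxy
    rw [PhiAlg_eq_tw, PhiAlg_eq_tw] at hxy
    have h := congrArg (tw R (mS k H)) hxy
    have h1 := LinearMap.congr_fun (tw_mS_comp_tw_mul (k := k) (A := H) (V := R)) x
    have h2 := LinearMap.congr_fun (tw_mS_comp_tw_mul (k := k) (A := H) (V := R)) y
    simp only [LinearMap.comp_apply, LinearMap.id_apply] at h1 h2
    rw [h1, h2] at h
    exact h
  · intro y
    refine ⟨tw R (mS k H) y, ?_⟩
    rw [PhiAlg_eq_tw]
    have h1 := LinearMap.congr_fun (tw_mul_comp_tw_mS (k := k) (A := H) (V := R)) y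
    simpa using h1

/-- the shear automorphism -/
noncomputable def PhiEquiv : (R ⊗[k] H) ≃ₐ[k] (R ⊗[k] H) :=
  AlgEquiv.ofBijective PhiAlg PhiAlg_bijective

theorem PhiEquiv_tmul_one (r : R) :
    PhiEquiv (k := k) (H := H) (R := R) (r ⊗ₜ[k] (1 : H)) =
      HopfRep.Comod.coact (k := k) (A := H) r := by
  change PhiAlg (r ⊗ₜ[k] (1 : H)) = _
  rw [PhiAlg, Algebra.TensorProduct.productMap_apply_tmul, map_one, mul_one]
  rfl

theorem comap_coact_eq (Q : Ideal (R ⊗[k] H)) :
    Q.comap ((GLin.coactAlgHom k H R : R →ₐ[k] R ⊗[k] H) : R →+* R ⊗[k] H) =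
      (Q.comap (PhiEquiv (k := k) (H := H) (R := R)).toRingEquiv).comap
        (algebraMap R (R ⊗[k] H)) := by
  ext r
  simp only [Ideal.mem_comap]
  rw [show (algebraMap R (R ⊗[k] H)) r = r ⊗ₜ[k] (1 : H) from rfl]
  change _ ↔ PhiEquiv (k := k) (H := H) (R := R) (r ⊗ₜ[k] (1 : H)) ∈ Q
  rw [PhiEquiv_tmul_one]
  rfl

variable [Module.Finite k H] [IsNoetherianRing R]

instance : IsNoetherianRing (R ⊗[k] H) := IsNoetherianRing.of_finite R (R ⊗[k] H)

theorem height_comap_includeLeft (Q : Ideal (R ⊗[k] H)) [Q.IsPrime] :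
    (Q.comap (algebraMap R (R ⊗[k] H))).height = Q.height :=
  height_under_eq (R := R) Q

theorem height_comap_coact (Q : Ideal (R ⊗[k] H)) [Q.IsPrime] :
    (Q.comap ((GLin.coactAlgHom k H R : R →ₐ[k] R ⊗[k] H) : R →+* R ⊗[k] H)).height =
      Q.height := by
  rw [comap_coact_eq]
  haveI : (Q.comap (PhiEquiv (k := k) (H := H) (R := R)).toRingEquiv).IsPrime :=
    Ideal.comap_isPrime _ _
  rw [height_comap_includeLeft, RingEquiv.height_comap]

end Hopf

section Conj

variable {k : Type u} [Field k] {H : Type u} [CommRing H] [HopfAlgebra k H] [Module.Finite k H]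
variable {R : Type u} [CommRing R] [Algebra k R] [HopfRep.Comod k H R] [GLin.IsCoactAlg k H R]
  [IsNoetherianRing R]

/-- one half of the conjugacy argument: if `q''` contains the saturation of `q` and
`q'' ∩ R^G ⊆ q ∩ R^G`, then `q` and `q''` have the same height. -/
theorem height_eq_of_conj (q q'' : Ideal R) [q.IsPrime] [q''.IsPrime]
    (hI : (q.map (algebraMap R (R ⊗[k] H))).comap
      ((GLin.coactAlgHom k H R : R →ₐ[k] R ⊗[k] H) : R →+* R ⊗[k] H) ≤ q'')
    (hA : ∀ a ∈ GLin.invariants k H R, a ∈ q'' → a ∈ q) : q.height = q''.height := by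
  set Φ := (PhiEquiv (k := k) (H := H) (R := R)).toRingEquiv with hΦ
  set I' : Ideal (R ⊗[k] H) := (q.map (algebraMap R (R ⊗[k] H))).comap Φ with hI'
  have h1 : I'.comap (algebraMap R (R ⊗[k] H)) ≤ q'' := by
    rw [hI', ← comap_coact_eq]
    exact hI
  obtain ⟨Q₁, hQ₁I, hQ₁p, hQ₁c⟩ := Ideal.exists_ideal_over_prime_of_isIntegral q'' I' h1
  set Q : Ideal (R ⊗[k] H) := Q₁.comap Φ.symm with hQ
  haveI : Q.IsPrime := Ideal.comap_isPrime _ _
  have hqQ : q.map (algebraMap R (R ⊗[k] H)) ≤ Q := by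
    intro x hx
    rw [hQ, Ideal.mem_comap]
    apply hQ₁I
    rw [hI', Ideal.mem_comap]
    simpa using hx
  set q₁ : Ideal R := Q.comap (algebraMap R (R ⊗[k] H)) with hq₁
  have hqq₁ : q ≤ q₁ := Ideal.le_comap_of_map_le hqQ
  have hq₁A : ∀ a ∈ GLin.invariants k H R, a ∈ q₁ → a ∈ q'' := by
    intro a ha haq
    rw [hq₁, Ideal.mem_comap, hQ, Ideal.mem_comap] at haq
    have h2 : Φ (algebraMap R (R ⊗[k] H) a) = algebraMap R (R ⊗[k] H) a := by
      change PhiEquiv (k := k) (H := H) (R := R) (a ⊗ₜ[k] (1 : H)) = a ⊗ₜ[k] (1 : H)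
      rw [PhiEquiv_tmul_one]
      exact ha
    have h3 : Φ.symm (algebraMap R (R ⊗[k] H) a) = algebraMap R (R ⊗[k] H) a := by
      rw [RingEquiv.symm_apply_eq, h2]
    rw [h3] at haq
    rw [← hQ₁c, Ideal.mem_comap]
    exact haq
  have heq : q = q₁ := by
    by_contra hne
    have hlt : q < q₁ := lt_of_le_of_ne hqq₁ hne
    have h4 := Ideal.IsIntegral.comap_lt_comap (R := GLin.invariants k H R) hlt
    obtain ⟨a, ha₁, ha⟩ := SetLike.exists_of_lt h4
    exact ha (hA a.1 a.2 (hq₁A a.1 a.2 ha₁))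
  calc q.height = q₁.height := by rw [← heq]
    _ = Q.height := height_comap_includeLeft Q
    _ = Q₁.height := RingEquiv.height_comap Φ.symm Q₁
    _ = (Q₁.comap (algebraMap R (R ⊗[k] H))).height := (height_comap_includeLeft Q₁).symm
    _ = q''.height := by rw [hQ₁c]

end Conj

section Main

variable {k : Type u} [Field k] {H : Type u} [CommRing H] [HopfAlgebra k H] [Module.Finite k H]
variable {R : Type u} [CommRing R] [Algebra k R] [HopfRep.Comod k H R] [GLin.IsCoactAlg k H R]
  [IsNoetherianRing R]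

omit [HopfAlgebra k H] [Module.Finite k H] [HopfRep.Comod k H R] [GLin.IsCoactAlg k H R]
  [IsNoetherianRing R] in
theorem slice_mem_of_mem_map [Algebra k H] (q : Ideal R) (ψ : H →ₗ[k] k) (x : R ⊗[k] H)
    (hx : x ∈ q.map (algebraMap R (R ⊗[k] H))) : slice R ψ x ∈ q := by
  have h0 : q.map (algebraMap R (R ⊗[k] H)) =
      q.map (Algebra.TensorProduct.includeLeft : R →ₐ[k] R ⊗[k] H) := rfl
  rw [h0] at hx
  have h1 := Ideal.map_includeLeft_eq (R := k) (B := H) q
  have h2 : x ∈ (q.map (Algebra.TensorProduct.includeLeft : R →ₐ[k] R ⊗[k] H)).restrictScalars k :=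
    hx
  rw [h1] at h2
  obtain ⟨y, rfl⟩ := h2
  rw [slice_rTensor_apply]
  exact (slice (q.restrictScalars k) ψ y).2

/-- Two primes of `R` with the same contraction to the invariants have the same height. -/
theorem height_eq_of_comap_eq (hG : HopfRep.IsLinearlyReductive k H) (q q' : Ideal R)
    [q.IsPrime] [q'.IsPrime] (h : ∀ a ∈ GLin.invariants k H R, a ∈ q ↔ a ∈ q') :
    q.height = q'.height := by
  obtain ⟨α₀, hαint, h1⟩ := exists_integral_of_linRed hG
  have hα := (isComodHom_iff_isInt α₀).2 hαint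
  set ρ : R →+* R ⊗[k] H := ((GLin.coactAlgHom k H R : R →ₐ[k] R ⊗[k] H) : R →+* R ⊗[k] H) with hρ
  set I : Ideal R := (q.map (algebraMap R (R ⊗[k] H))).comap ρ with hI
  set J : Ideal R := (q'.map (algebraMap R (R ⊗[k] H))).comap ρ with hJ
  let S : Submonoid R :=
    { carrier := {s | s ∈ GLin.invariants k H R ∧ s ∉ q}
      mul_mem' := fun {a b} ha hb => ⟨mul_mem ha.1 hb.1, fun hab =>
        (Ideal.IsPrime.mem_or_mem inferInstance hab).elim ha.2 hb.2⟩
      one_mem' := ⟨one_mem _, fun h1 => Ideal.IsPrime.ne_top inferInstance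
        ((Ideal.eq_top_iff_one q).mpr h1)⟩ }
  have hEI : ∀ (p : Ideal R) (i : R), ρ i ∈ p.map (algebraMap R (R ⊗[k] H)) →
      reyn R α₀ i ∈ p := by
    intro p i hi
    exact slice_mem_of_mem_map p _ _ hi
  have hd : Disjoint ((I ⊔ J : Ideal R) : Set R) (S : Set R) := by
    rw [Set.disjoint_left]
    rintro x hx ⟨hxinv, hxq⟩
    obtain ⟨i, hi, j, hj, rfl⟩ := Submodule.mem_sup.mp hx
    apply hxq
    have hE : reyn R α₀ (i + j) = i + j := reyn_of_mem_fixedPts α₀ h1 _ hxinv
    rw [← hE, map_add]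
    refine add_mem (hEI q i hi) ?_
    exact (h _ (reyn_mem_fixedPts α₀ hα j)).mpr (hEI q' j hj)
  obtain ⟨q'', hq''p, hle, hdisj⟩ := Ideal.exists_le_prime_disjoint (I ⊔ J) S hd
  haveI := hq''p
  have hA'' : ∀ a ∈ GLin.invariants k H R, a ∈ q'' → a ∈ q := by
    intro a ha haq
    by_contra hna
    exact Set.disjoint_left.mp hdisj haq ⟨ha, hna⟩
  have ht1 : q.height = q''.height := height_eq_of_conj q q'' (le_sup_left.trans hle) hA''
  have ht2 : q'.height = q''.height := height_eq_of_conj q' q'' (le_sup_right.trans hle)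
    (fun a ha haq => (h a ha).mp (hA'' a ha haq))
  exact ht1.trans ht2.symm

end Main

end Groth.Agent.H93
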