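import Mathlib
import Groth.Agent.H93.InvHeight
import Groth.Agent.H93.DepthFiniteLoc
import Groth.Agent.H93.DepthRetract

/-!
# Depth and height comparison for invariants of a finite linearly reductive group scheme
-/

set_option autoImplicit false
universe u
open TensorProduct

namespace Groth.Agent.H93

section GoingUp

variable {A R : Type u} [CommRing A] [CommRing R] [Algebra A R] [IsNoetherianRing A]
  [Algebra.IsIntegral A R]

theorem exists_prime_over_height_le (hinj : Function.Injective (algebraMap A R)) (p : Ideal A)
    [p.IsPrime] :
    ∃ (q : Ideal R) (_ : q.IsPrime), q.comap (algebraMap A R) = p ∧ p.height ≤ q.height := by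
  obtain ⟨l, hl, hlen⟩ := p.exists_ltSeries_length_eq_height
  have : FaithfulSMul A R := (faithfulSMul_iff_algebraMap_injective A R).mpr hinj
  obtain ⟨⟨P, hP, hPl⟩⟩ := Ideal.nonempty_primesOver (S := R) l.head.asIdeal
  have := hP
  have := hPl
  obtain ⟨L, hLlen, hLhead, hLmap⟩ := Ideal.exists_ltSeries_of_hasGoingUp l P
  refine ⟨L.last.asIdeal, L.last.2, ?_, ?_⟩
  · have h1 := congrArg (fun x => x.getLast?) hLmap
    simp only [List.getLast?_map] at h1
    rw [List.getLast?_eq_some_getLast L.toList_ne_nil, List.getLast?_eq_some_getLast l.toList_ne_nil,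
      RelSeries.getLast_toList, RelSeries.getLast_toList] at h1
    simp only [Option.map_some, Option.some.injEq] at h1
    rw [hl] at h1
    exact congrArg PrimeSpectrum.asIdeal h1
  · rw [← hlen, ← hLlen, PrimeSpectrum.height_eq_orderHeight]
    exact Order.length_le_height_last

end GoingUp

section LocMap

variable {A : Type u} [CommRing A] (S : Submonoid A)
  {M N P : Type u} [AddCommGroup M] [Module A M] [AddCommGroup N] [Module A N]
  [AddCommGroup P] [Module A P]

theorem localizedModule_map_comp (g : M →ₗ[A] N) (h : N →ₗ[A] P) :
    LocalizedModule.map S (h ∘ₗ g) = LocalizedModule.map S h ∘ₗ LocalizedModule.map S g := by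
  ext x
  induction x using LocalizedModule.induction_on with
  | h m s => simp

end LocMap

section Inv

variable {k : Type u} [Field k] {H : Type u} [CommRing H] [HopfAlgebra k H] [Module.Finite k H]
variable {R : Type u} [CommRing R] [Algebra k R] [HopfRep.Comod k H R] [GLin.IsCoactAlg k H R]
  [Algebra.FiniteType k R]

theorem finite_invariants : Module.Finite (GLin.invariants k H R) R := by
  haveI : Algebra.FiniteType (GLin.invariants k H R) R :=
    Algebra.FiniteType.of_restrictScalars_finiteType k (GLin.invariants k H R) R
  exact Algebra.IsIntegral.finite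

theorem finiteType_invariants : Algebra.FiniteType k (GLin.invariants k H R) := by
  have hfin : Module.Finite (GLin.invariants k H R) R := finite_invariants
  constructor
  exact fg_of_fg_of_fg k (GLin.invariants k H R) R (Algebra.FiniteType.out) hfin.1
    Subtype.val_injective

theorem isNoetherianRing_invariants : IsNoetherianRing (GLin.invariants k H R) := by
  haveI : Algebra.FiniteType k (GLin.invariants k H R) := finiteType_invariants
  exact Algebra.FiniteType.isNoetherianRing k _

omit [Module.Finite k H] [Algebra.FiniteType k R] in
/-- the Reynolds operator as a linear retraction over the invariants -/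
theorem exists_reynolds_linear (hG : HopfRep.IsLinearlyReductive k H) :
    ∃ E : R →ₗ[GLin.invariants k H R] (GLin.invariants k H R),
      E ∘ₗ Algebra.linearMap (GLin.invariants k H R) R = LinearMap.id := by
  obtain ⟨α₀, hαint, h1⟩ := exists_integral_of_linRed hG
  have hα := (isComodHom_iff_isInt α₀).2 hαint
  have hsm : ∀ (a : GLin.invariants k H R) (r : R),
      reyn R α₀ (a • r) = a.1 * reyn R α₀ r := by
    intro a r
    change reyn R α₀ (a.1 * r) = a.1 * reyn R α₀ r
    exact reyn_mul_of_mem_invariants α₀ a.1 a.2 r
  refine ⟨{ toFun := fun r => ⟨reyn R α₀ r, reyn_mem_fixedPts α₀ hα r⟩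
            map_add' := fun x y => Subtype.ext (map_add _ x y)
            map_smul' := fun a r => Subtype.ext (hsm a r) }, ?_⟩
  · apply LinearMap.ext
    intro a
    apply Subtype.ext
    exact reyn_of_mem_fixedPts α₀ h1 a.1 a.2

/-- The core comparison. -/
theorem exists_prime_core (hG : HopfRep.IsLinearlyReductive k H)
    (p : Ideal (GLin.invariants k H R)) [p.IsPrime] :
    ∃ (q : Ideal R) (_ : q.IsPrime), q.comap (algebraMap (GLin.invariants k H R) R) = p ∧
      p.height ≤ q.height ∧
      LocCoh.idealDepth (IsLocalRing.maximalIdeal (Localization.AtPrime q))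
          (Localization.AtPrime q) ≤
        LocCoh.depth (Localization.AtPrime p) (LocalizedModule p.primeCompl R) ∧
      LocCoh.depth (Localization.AtPrime p) (LocalizedModule p.primeCompl R) ≤
        LocCoh.depth (Localization.AtPrime p)
          (LocalizedModule p.primeCompl (GLin.invariants k H R)) := by
  haveI : IsNoetherianRing (GLin.invariants k H R) := isNoetherianRing_invariants
  haveI : Module.Finite (GLin.invariants k H R) R := finite_invariants
  haveI : IsNoetherianRing R := Algebra.FiniteType.isNoetherianRing k R
  have hinj : Function.Injective (algebraMap (GLin.invariants k H R) R) := Subtype.val_injective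
  obtain ⟨q, hqp, hq, hdepth⟩ := exists_prime_depth_le hinj p
  obtain ⟨q', hq'p, hq', hht⟩ := exists_prime_over_height_le hinj p
  refine ⟨q, hqp, hq, ?_, hdepth, ?_⟩
  · have : q.height = q'.height := by
      apply height_eq_of_comap_eq hG
      intro a ha
      have h1 : a ∈ q ↔ (⟨a, ha⟩ : GLin.invariants k H R) ∈ q.comap
          (algebraMap (GLin.invariants k H R) R) := Iff.rfl
      have h2 : a ∈ q' ↔ (⟨a, ha⟩ : GLin.invariants k H R) ∈ q'.comap
          (algebraMap (GLin.invariants k H R) R) := Iff.rfl
      rw [h1, h2, hq, hq']
    rw [this]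
    exact hht
  · obtain ⟨E, hE⟩ := exists_reynolds_linear (R := R) hG
    unfold LocCoh.depth
    apply idealDepth_le_of_retract _
      (LocalizedModule.map p.primeCompl (Algebra.linearMap (GLin.invariants k H R) R))
      (LocalizedModule.map p.primeCompl E)
    rw [← localizedModule_map_comp, hE, LocalizedModule.map_id]

end Inv

end Groth.Agent.H93
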