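import Mathlib.RingTheory.SimpleModule.Isotypic

set_option autoImplicit false
universe u

namespace Groth.Agent.H93

theorem isotypicComponent_eq_bot_of_not_exists {R : Type*} {M : Type u} [Ring R]
    [AddCommGroup M] [Module R M] (S : Type*) [AddCommGroup S] [Module R S]
    (h : ¬ ∃ m : Submodule R M, Nonempty (m ≃ₗ[R] S)) : isotypicComponent R M S = ⊥ := by
  have : {m' : Submodule R M | Nonempty (m' ≃ₗ[R] S)} = ∅ := by
    ext m'
    simp only [Set.mem_ofPred_eq, Set.mem_empty_iff_false, iff_false]
    exact fun h' => h ⟨m', h'⟩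
  unfold isotypicComponent
  rw [this, sSup_empty]

theorem iSupIndep_isotypicComponent_of_not_iso {R : Type*} {M : Type u} {ι : Type*} [Ring R]
    [AddCommGroup M] [Module R M]
    (S : ι → Type*) [∀ j, AddCommGroup (S j)] [∀ j, Module R (S j)]
    [∀ j, IsSimpleModule R (S j)]
    (hne : ∀ j j', j ≠ j' → IsEmpty (S j ≃ₗ[R] S j')) :
    iSupIndep (fun j => isotypicComponent R M (S j)) := by
  intro j
  beta_reduce
  by_cases hj : ∃ m : Submodule R M, Nonempty (m ≃ₗ[R] S j)
  · obtain ⟨m, ⟨e⟩⟩ := hj
    haveI : IsSimpleModule R m := IsSimpleModule.congr e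
    have hC : isotypicComponent R M (S j) = isotypicComponent R M m :=
      (e.isotypicComponent_eq (M := M)).symm
    have hmem : isotypicComponent R M (S j) ∈ isotypicComponents R M := ⟨m, inferInstance, hC⟩
    have hdis := sSupIndep_isotypicComponents R M hmem
    refine hdis.mono_right ?_
    refine iSup₂_le fun j' hj' => ?_
    by_cases hj2 : ∃ m' : Submodule R M, Nonempty (m' ≃ₗ[R] S j')
    · obtain ⟨m', ⟨e'⟩⟩ := hj2
      haveI : IsSimpleModule R m' := IsSimpleModule.congr e'
      have hC' : isotypicComponent R M (S j') = isotypicComponent R M m' :=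
        (e'.isotypicComponent_eq (M := M)).symm
      refine le_sSup ⟨⟨m', inferInstance, hC'⟩, ?_⟩
      intro heq
      rw [Set.mem_singleton_iff] at heq
      have hle : m ≤ isotypicComponent R M (S j') := by
        rw [heq, hC]
        exact m.le_isotypicComponent
      have hiso := IsIsotypicOfType.isotypicComponent R M (S j')
      obtain ⟨e2⟩ := isIsotypicOfType_submodule_iff.mp hiso m hle
      exact (hne j j' (Ne.symm hj')).false (e.symm.trans e2)
    · rw [isotypicComponent_eq_bot_of_not_exists (S j') hj2]
      exact bot_le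
  · rw [isotypicComponent_eq_bot_of_not_exists (S j) hj]
    exact disjoint_bot_left

theorem range_le_isotypicComponent {R : Type*} {M : Type u} [Ring R]
    [AddCommGroup M] [Module R M] (S : Type*) [AddCommGroup S] [Module R S] [IsSimpleModule R S]
    (f : S →ₗ[R] M) : LinearMap.range f ≤ isotypicComponent R M S := by
  by_cases hf : f = 0
  · rw [hf, LinearMap.range_zero]; exact bot_le
  · exact le_sSup ⟨(LinearEquiv.ofInjective f (LinearMap.injective_of_ne_zero hf)).symm⟩

end Groth.Agent.H93
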