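import Groth.Agent.H93.LinRedInt
import Mathlib.RingTheory.HopfAlgebra.MonoidAlgebra
import Mathlib.RingTheory.Bialgebra.Equiv

set_option autoImplicit false
universe u v w

open TensorProduct

namespace Groth.Agent.H93

section Transport

variable {k : Type u} [CommRing k] {B : Type v} [CommRing B] [Bialgebra k B]
  {C : Type w} [CommRing C] [Bialgebra k C]

/-- a total integral pulls back along a bialgebra equivalence (or any injective bialgebra map) -/
theorem isInt_comp_bialgHom (e : B →ₐc[k] C) (he : Function.Injective e) (α : C →ₗ[k] k)
    (hα : IsInt α) : IsInt (α ∘ₗ (e : B →ₗ[k] C)) := by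
  intro b
  apply he
  have key : ∀ t : B ⊗[k] B,
      e (TensorProduct.lid k B ((α ∘ₗ (e : B →ₗ[k] C)).rTensor B t)) =
      TensorProduct.lid k C (α.rTensor C (TensorProduct.map (e : B →ₗ[k] C) (e : B →ₗ[k] C) t)) := by
    intro t
    induction t using TensorProduct.induction_on with
    | zero => simp
    | add x y hx hy => simp only [map_add, hx, hy]
    | tmul b₁ b₂ =>
      simp only [LinearMap.rTensor_tmul, LinearMap.comp_apply, TensorProduct.lid_tmul,
        TensorProduct.map_tmul, map_smul]
      rfl
  rw [key]
  have h2 : TensorProduct.map (e : B →ₗ[k] C) (e : B →ₗ[k] C) (Coalgebra.comul (R := k) b) =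
      Coalgebra.comul (R := k) (e b) :=
    LinearMap.congr_fun (CoalgHomClass.map_comp_comul e) b
  rw [h2, hα (e b), LinearMap.comp_apply, map_smul, map_one]
  rfl

end Transport

section Monoid

variable (K : Type u) [CommRing K] (G : Type v) [CommGroup G]

/-- the coefficient of the neutral element -/
noncomputable def coeffOne : MonoidAlgebra K G →ₗ[K] K :=
  Finsupp.lapply 1 ∘ₗ (MonoidAlgebra.coeffLinearEquiv K).toLinearMap

theorem coeffOne_single [DecidableEq G] (g : G) (c : K) :
    coeffOne K G (MonoidAlgebra.single g c) = if g = 1 then c else 0 := by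
  simp [coeffOne, Finsupp.single_apply]

theorem isInt_coeffOne : IsInt (coeffOne K G) := by
  classical
  intro a
  induction a using MonoidAlgebra.induction_linear with
  | zero => simp
  | add x y hx hy => simp only [map_add, hx, hy, add_smul]
  | single g c =>
    rw [MonoidAlgebra.comul_single, CommSemiring.comul_apply, TensorProduct.map_tmul,
      LinearMap.rTensor_tmul, TensorProduct.lid_tmul]
    simp only [MonoidAlgebra.lsingle_apply, coeffOne_single]
    by_cases hg : g = 1
    · subst hg
      simp [MonoidAlgebra.one_def]
    · simp [hg]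

theorem coeffOne_one : coeffOne K G 1 = 1 := by
  classical
  rw [MonoidAlgebra.one_def, coeffOne_single, if_pos rfl]

end Monoid

end Groth.Agent.H93
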