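import Groth.Agent.H93.NormalKerPts

/-! Commutativity of the operators of a normal subgroup on the cyclic comodule generated by an
eigenvector. -/

set_option autoImplicit false
universe u v

open TensorProduct HopfRep WithConv

namespace Groth.Agent.H93.NormalKer

open Groth.Agent.H83 (ptAct ptAct_apply map_ptAct_coact)
open Groth.Agent.H82.Chev (slice slice_lTensor conv)

section Comm

variable {k : Type u} [Field k] {A : Type u} [CommRing A] [HopfAlgebra k A]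
  {V : Type v} [AddCommGroup V] [Module k V] [Comod k A V]

theorem mul_conj_aux2 {G : Type*} [Group G] (n₁ n₂ g : G) :
    n₁ * (n₂ * g) = g * (g⁻¹ * n₁ * g) * (g⁻¹ * n₂ * g) := by group

/-- functionals on a tensor product of algebras evaluated on a product of points. -/
theorem functional_conv {R₁ R₂ : Type u} [CommRing R₁] [Algebra k R₁] [CommRing R₂] [Algebra k R₂]
    (f₁ : A →ₐ[k] R₁) (f₂ : A →ₐ[k] R₂) (Φ₁ : R₁ →ₗ[k] k) (Φ₂ : R₂ →ₗ[k] k) :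
    (LinearMap.mul' k k ∘ₗ TensorProduct.map Φ₁ Φ₂) ∘ₗ
      (toConv ((Algebra.TensorProduct.includeLeft : R₁ →ₐ[k] R₁ ⊗[k] R₂).comp f₁) *
        toConv ((Algebra.TensorProduct.includeRight : R₂ →ₐ[k] R₁ ⊗[k] R₂).comp f₂)
          : WithConv (A →ₐ[k] R₁ ⊗[k] R₂)).ofConv.toLinearMap =
      conv k A (Φ₁ ∘ₗ f₁.toLinearMap) (Φ₂ ∘ₗ f₂.toLinearMap) := by
  have h7 : (toConv ((Algebra.TensorProduct.includeLeft : R₁ →ₐ[k] R₁ ⊗[k] R₂).comp f₁) *
        toConv ((Algebra.TensorProduct.includeRight : R₂ →ₐ[k] R₁ ⊗[k] R₂).comp f₂)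
          : WithConv (A →ₐ[k] R₁ ⊗[k] R₂)).ofConv.toLinearMap =
      LinearMap.mul' k (R₁ ⊗[k] R₂) ∘ₗ
        (TensorProduct.map
          ((Algebra.TensorProduct.includeLeft : R₁ →ₐ[k] R₁ ⊗[k] R₂).comp f₁).toLinearMap
          ((Algebra.TensorProduct.includeRight : R₂ →ₐ[k] R₁ ⊗[k] R₂).comp f₂).toLinearMap ∘ₗ
          Coalgebra.comul (R := k) (A := A)) := rfl
  have key : (LinearMap.mul' k k ∘ₗ TensorProduct.map Φ₁ Φ₂) ∘ₗ
      (LinearMap.mul' k (R₁ ⊗[k] R₂) ∘ₗ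
        TensorProduct.map
          ((Algebra.TensorProduct.includeLeft : R₁ →ₐ[k] R₁ ⊗[k] R₂).comp f₁).toLinearMap
          ((Algebra.TensorProduct.includeRight : R₂ →ₐ[k] R₁ ⊗[k] R₂).comp f₂).toLinearMap) =
      LinearMap.mul' k k ∘ₗ
        TensorProduct.map (Φ₁ ∘ₗ f₁.toLinearMap) (Φ₂ ∘ₗ f₂.toLinearMap) := by
    ext a b
    simp [Algebra.TensorProduct.tmul_mul_tmul]
  rw [h7]
  unfold conv
  rw [← LinearMap.comp_assoc, ← LinearMap.comp_assoc, LinearMap.comp_assoc _ _ (LinearMap.mul' k k ∘ₗ TensorProduct.map Φ₁ Φ₂), key, LinearMap.comp_assoc]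

theorem conv3_lin {R : Type u} [CommRing R] [Algebra k R] (x y z : A →ₐ[k] R) :
    (toConv x * (toConv y * toConv z) : WithConv (A →ₐ[k] R)).ofConv.toLinearMap =
      (LinearMap.mul' k R ∘ₗ TensorProduct.map x.toLinearMap
        (LinearMap.mul' k R ∘ₗ TensorProduct.map y.toLinearMap z.toLinearMap)) ∘ₗ
        ((Coalgebra.comul (R := k) (A := A)).lTensor A ∘ₗ Coalgebra.comul (R := k) (A := A)) := by
  have h7 : (toConv x * (toConv y * toConv z) : WithConv (A →ₐ[k] R)).ofConv.toLinearMap =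
      LinearMap.mul' k R ∘ₗ (TensorProduct.map x.toLinearMap
        (LinearMap.mul' k R ∘ₗ (TensorProduct.map y.toLinearMap z.toLinearMap ∘ₗ
          Coalgebra.comul (R := k) (A := A))) ∘ₗ Coalgebra.comul (R := k) (A := A)) := rfl
  rw [h7]
  apply LinearMap.ext
  intro a
  simp only [LinearMap.comp_apply]
  congr 1
  generalize Coalgebra.comul (R := k) a = t
  induction t with
  | zero => simp
  | tmul b c => simp
  | add s t hs ht => simp only [map_add, hs, ht]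

theorem conv_conv_lin (θ₁ θ₂ θ₃ : A →ₗ[k] k) :
    conv k A θ₁ (conv k A θ₂ θ₃) =
      (LinearMap.mul' k k ∘ₗ TensorProduct.map θ₁
        (LinearMap.mul' k k ∘ₗ TensorProduct.map θ₂ θ₃)) ∘ₗ
        ((Coalgebra.comul (R := k) (A := A)).lTensor A ∘ₗ Coalgebra.comul (R := k) (A := A)) := by
  unfold conv
  apply LinearMap.ext
  intro a
  simp only [LinearMap.comp_apply]
  congr 1
  generalize Coalgebra.comul (R := k) a = t
  induction t with
  | zero => simp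
  | tmul b c => simp
  | add s t hs ht => simp only [map_add, hs, ht]

section three

variable {C' A' : Type u} [CommRing C'] [Algebra k C'] [CommRing A'] [Algebra k A']
  (f₁ f₂ : A →ₐ[k] C') (f₃ : A →ₐ[k] A') (φ₁ φ₂ : C' →ₗ[k] k) (φ₃ : A' →ₗ[k] k)

/-- the first point -/
noncomputable abbrev p1 : A →ₐ[k] C' ⊗[k] (C' ⊗[k] A') :=
  (Algebra.TensorProduct.includeLeft : C' →ₐ[k] C' ⊗[k] (C' ⊗[k] A')).comp f₁

/-- the second point -/
noncomputable abbrev p2 : A →ₐ[k] C' ⊗[k] (C' ⊗[k] A') :=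
  (Algebra.TensorProduct.includeRight : (C' ⊗[k] A') →ₐ[k] C' ⊗[k] (C' ⊗[k] A')).comp
    ((Algebra.TensorProduct.includeLeft : C' →ₐ[k] C' ⊗[k] A').comp f₂)

/-- the third point -/
noncomputable abbrev p3 : A →ₐ[k] C' ⊗[k] (C' ⊗[k] A') :=
  (Algebra.TensorProduct.includeRight : (C' ⊗[k] A') →ₐ[k] C' ⊗[k] (C' ⊗[k] A')).comp
    ((Algebra.TensorProduct.includeRight : A' →ₐ[k] C' ⊗[k] A').comp f₃)

/-- the product functional -/
noncomputable abbrev Phi : C' ⊗[k] (C' ⊗[k] A') →ₗ[k] k :=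
  LinearMap.mul' k k ∘ₗ TensorProduct.map φ₁ (LinearMap.mul' k k ∘ₗ TensorProduct.map φ₂ φ₃)

theorem functional_conv3_a :
    Phi φ₁ φ₂ φ₃ ∘ₗ (toConv (p1 (A' := A') f₁) * (toConv (p2 (A' := A') f₂) * toConv (p3 (C' := C') f₃))
      : WithConv (A →ₐ[k] C' ⊗[k] (C' ⊗[k] A'))).ofConv.toLinearMap =
      conv k A (φ₁ ∘ₗ f₁.toLinearMap) (conv k A (φ₂ ∘ₗ f₂.toLinearMap) (φ₃ ∘ₗ f₃.toLinearMap)) := by
  rw [conv3_lin, conv_conv_lin, ← LinearMap.comp_assoc]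
  congr 1
  ext a b c
  simp [Algebra.TensorProduct.tmul_mul_tmul]

theorem functional_conv3_b :
    Phi φ₁ φ₂ φ₃ ∘ₗ (toConv (p2 (A' := A') f₂) * (toConv (p1 (A' := A') f₁) * toConv (p3 (C' := C') f₃))
      : WithConv (A →ₐ[k] C' ⊗[k] (C' ⊗[k] A'))).ofConv.toLinearMap =
      conv k A (φ₂ ∘ₗ f₂.toLinearMap) (conv k A (φ₁ ∘ₗ f₁.toLinearMap) (φ₃ ∘ₗ f₃.toLinearMap)) := by
  rw [conv3_lin, conv_conv_lin, ← LinearMap.comp_assoc]
  congr 1
  ext a b c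
  simp [Algebra.TensorProduct.tmul_mul_tmul, mul_comm, mul_left_comm]

end three

section Main

variable (I : Ideal A) [I.IsHopfIdeal k]

theorem ptAct_comm_of_kills {R : Type u} [CommRing R] [Bialgebra k R]
    (hI : SGA3.IsNormalHopfIdeal k A I) (v : V) (χ : A ⧸ I)
    (hχ : (Ideal.Quotient.mkₐ k I).toLinearMap.lTensor V (Comod.coact (k := k) (A := A) v) =
      v ⊗ₜ[k] χ)
    (n₁ n₂ g : WithConv (A →ₐ[k] R)) (hk1 : ∀ a ∈ I, n₁.ofConv a = 0)
    (hk2 : ∀ a ∈ I, n₂.ofConv a = 0) :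
    ptAct (V := V) (n₁ * (n₂ * g)).ofConv.toLinearMap v =
      ptAct (V := V) (n₂ * (n₁ * g)).ofConv.toLinearMap v := by
  have hm1 := conj_kills I hI g n₁ hk1
  have hm2 := conj_kills I hI g n₂ hk2
  rw [mul_conj_aux2 n₁ n₂ g, mul_conj_aux2 n₂ n₁ g,
    ptAct_mul_of_kills I v χ hχ _ _ hm2, ptAct_mul_of_kills I v χ hχ _ _ hm1,
    ptAct_mul_of_kills I v χ hχ _ _ hm1, ptAct_mul_of_kills I v χ hχ _ _ hm2, scal_comm]

theorem slice_comm (hI : SGA3.IsNormalHopfIdeal k A I) (v : V) (χ : A ⧸ I)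
    (hχ : (Ideal.Quotient.mkₐ k I).toLinearMap.lTensor V (Comod.coact (k := k) (A := A) v) =
      v ⊗ₜ[k] χ)
    (φ φ' : (A ⧸ I) →ₗ[k] k) (ψ : A →ₗ[k] k) :
    slice V (conv k A (φ ∘ₗ (Ideal.Quotient.mkₐ k I).toLinearMap)
        (conv k A (φ' ∘ₗ (Ideal.Quotient.mkₐ k I).toLinearMap) ψ))
      (Comod.coact (k := k) (A := A) v) =
    slice V (conv k A (φ' ∘ₗ (Ideal.Quotient.mkₐ k I).toLinearMap)
        (conv k A (φ ∘ₗ (Ideal.Quotient.mkₐ k I).toLinearMap) ψ))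
      (Comod.coact (k := k) (A := A) v) := by
  let π : A →ₐ[k] A ⧸ I := Ideal.Quotient.mkₐ k I
  have ha := functional_conv3_a (A' := A) π π (AlgHom.id k A) φ φ' ψ
  have hb := functional_conv3_b (A' := A) π π (AlgHom.id k A) φ φ' ψ
  have hid : ψ ∘ₗ (AlgHom.id k A).toLinearMap = ψ := by ext; simp
  rw [hid] at ha hb
  set n₁ := toConv (p1 (A' := A) π) with hn₁
  set n₂ := toConv (p2 (A' := A) π) with hn₂
  set g := toConv (p3 (C' := A ⧸ I) (AlgHom.id k A)) with hg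
  have hπ0 : ∀ a ∈ I, π a = 0 := by
    intro a ha'
    exact Ideal.Quotient.eq_zero_iff_mem.mpr ha'
  have hk1 : ∀ a ∈ I, n₁.ofConv a = 0 := by
    intro a ha'
    change (Algebra.TensorProduct.includeLeft :
      (A ⧸ I) →ₐ[k] (A ⧸ I) ⊗[k] ((A ⧸ I) ⊗[k] A)) (π a) = 0
    rw [hπ0 a ha', map_zero]
  have hk2 : ∀ a ∈ I, n₂.ofConv a = 0 := by
    intro a ha'
    change (Algebra.TensorProduct.includeRight :
      ((A ⧸ I) ⊗[k] A) →ₐ[k] (A ⧸ I) ⊗[k] ((A ⧸ I) ⊗[k] A))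
      ((Algebra.TensorProduct.includeLeft : (A ⧸ I) →ₐ[k] (A ⧸ I) ⊗[k] A) (π a)) = 0
    rw [hπ0 a ha', map_zero, map_zero]
  have key := ptAct_comm_of_kills I (R := (A ⧸ I) ⊗[k] ((A ⧸ I) ⊗[k] A)) hI v χ hχ n₁ n₂ g hk1 hk2
  have e1 := slice_lTensor (M := V) (n₁ * (n₂ * g)).ofConv.toLinearMap (Phi φ φ' ψ)
    (Comod.coact (k := k) (A := A) v)
  have e2 := slice_lTensor (M := V) (n₂ * (n₁ * g)).ofConv.toLinearMap (Phi φ φ' ψ)
    (Comod.coact (k := k) (A := A) v)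
  rw [ha] at e1
  rw [hb] at e2
  rw [← e1, ← e2]
  exact congrArg (slice V (Phi φ φ' ψ)) key

end Main

end Comm

end Groth.Agent.H93.NormalKer
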