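import Groth.Agent.H93.NormalKerInv
import Groth.Agent.H82.ChevTriv

/-! A normal subgroup of an affine algebraic group is the kernel of a finite-dimensional
representation. -/

set_option autoImplicit false
universe u v

open TensorProduct HopfRep WithConv

namespace Groth.Agent.H93.NormalKer

open Groth.Agent.H83 (ptAct ptAct_apply map_ptAct_coact)
open Groth.Agent.H82.Chev

section Restr

variable {k : Type u} [Field k] {A : Type u} [AddCommGroup A] [Module k A] [Coalgebra k A]
  {V : Type v} [AddCommGroup V] [Module k V]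

theorem eigen_restr_iff {B : Type*} [AddCommGroup B] [Module k B] (f : A →ₗ[k] B)
    (c : Comod k A V) (W : Submodule k V)
    (hW : @HopfRep.IsSubcomod k A _ _ _ _ V _ _ c W) (w : W) (b : B) :
    f.lTensor W ((ComodSub.Comod.restr c W hW).coact w) = w ⊗ₜ[k] b ↔
      f.lTensor V (c.coact (w : V)) = (w : V) ⊗ₜ[k] b := by
  have hinj : Function.Injective (W.subtype.rTensor B) :=
    Module.Flat.rTensor_preserves_injective_linearMap _ W.injective_subtype
  have hcomm : ∀ x : W ⊗[k] A, W.subtype.rTensor B (f.lTensor W x) =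
      f.lTensor V (W.subtype.rTensor A x) := by
    intro x
    induction x with
    | zero => simp
    | tmul w a => simp
    | add x y hx hy => simp only [map_add, hx, hy]
  rw [← hinj.eq_iff, hcomm, ComodSub.restr_coact_coe]
  rfl

end Restr

section Main

variable (k A : Type u) [Field k] [CommRing A] [HopfAlgebra k A] [Algebra.FiniteType k A]
  (I : Ideal A) [I.IsHopfIdeal k]

theorem exists_fixed_line (hI : SGA3.IsNormalHopfIdeal k A I) :
    ∃ (V : Type u) (_ : AddCommGroup V) (_ : Module k V) (_ : HopfRep.Comod k A V)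
      (_ : Module.Finite k V) (v : V),
      v ≠ 0 ∧ Dyn.Represents k A I (fun R _ _ g => SGA3.StabilizesLine k A v R g) ∧
      LinearMap.lTensor V (Ideal.Quotient.mkₐ k I).toLinearMap
        (HopfRep.Comod.coact (k := k) (A := A) v) = v ⊗ₜ[k] (1 : A ⧸ I) := by
  have hsurj : Function.Surjective (Bialgebra.Quotient.mkBialgHom (R := k) I) :=
    Ideal.Quotient.mk_surjective
  have hker : RingHom.ker ((Bialgebra.Quotient.mkBialgHom (R := k) I : A →ₐc[k] A ⧸ I) :
      A →+* A ⧸ I) = I := by
    ext x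
    exact Ideal.Quotient.eq_zero_iff_mem
  obtain ⟨V, i1, i2, c, i3, v, hv, hrep, hfix⟩ :=
    Groth.Agent.H82.ChevTriv.main k A (A ⧸ I) (Bialgebra.Quotient.mkBialgHom (R := k) I) hsurj
      (by
        rintro χ hχgl ⟨V, _, _, _, _, v, hv, hχ⟩
        obtain ⟨a, ha0, ha⟩ := exists_inverse_eigen I hI v hv χ hχ
        refine ⟨1, one_pos, HopfAlgebra.antipode k χ, hχgl.antipode, ?_, ?_⟩
        · rw [pow_one]
          exact hχgl.antipode_mul_cancel
        · have hW : HopfRep.IsSubcomod (k := k) (A := A) (cyc k A a) := isSubcomod_cyc a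
          refine ⟨cyc k A a, inferInstance, inferInstance,
            ComodSub.Comod.restr (Comod.regular k A) (cyc k A a) hW, finite_cyc a,
            ⟨a, mem_cyc_self a⟩, ?_, ?_⟩
          · intro h
            exact ha0 (congrArg Subtype.val h)
          · exact (eigen_restr_iff _ (Comod.regular k A) (cyc k A a) hW ⟨a, mem_cyc_self a⟩ _).2 ha)
  rw [hker] at hrep
  exact ⟨V, i1, i2, c, i3, v, hv, hrep, hfix⟩

theorem main (hI : SGA3.IsNormalHopfIdeal k A I) :
    ∃ (V : Type u) (_ : AddCommGroup V) (_ : Module k V) (_ : HopfRep.Comod k A V),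
      Module.Finite k V ∧
      ∀ J : Ideal A, I ≤ J ↔ ∀ v : V,
        LinearMap.lTensor V (Ideal.Quotient.mkₐ k J).toLinearMap
          (HopfRep.Comod.coact (k := k) (A := A) v) = v ⊗ₜ[k] (1 : A ⧸ J) := by
  obtain ⟨V, i1, i2, c, i3, v, hv, hrep, hfix⟩ := exists_fixed_line k A I hI
  let D : V →ₗ[k] V ⊗[k] (A ⧸ I) :=
    (Ideal.Quotient.mkₐ k I).toLinearMap.lTensor V ∘ₗ c.coact -
      (TensorProduct.mk k V (A ⧸ I)).flip 1
  let U : Submodule k V := LinearMap.ker D
  have hUmem : ∀ w : V, w ∈ U ↔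
      LinearMap.lTensor V (Ideal.Quotient.mkₐ k I).toLinearMap
        (HopfRep.Comod.coact (k := k) (A := A) w) = w ⊗ₜ[k] (1 : A ⧸ I) := by
    intro w
    change D w = 0 ↔ _
    simp only [D, LinearMap.sub_apply, LinearMap.comp_apply, LinearMap.flip_apply,
      TensorProduct.mk_apply, sub_eq_zero]
  have hU : HopfRep.IsSubcomod (k := k) (A := A) U :=
    Groth.Agent.H83.isSubcomod_fixed_of_normal I hI U hUmem
  refine ⟨U, inferInstance, inferInstance, ComodSub.Comod.restr c U hU, inferInstance, ?_⟩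
  intro J
  constructor
  · intro hIJ u
    rw [eigen_restr_iff]
    have hu := (hUmem u).1 u.2
    have hfac : (Ideal.Quotient.mkₐ k J).toLinearMap =
        (Ideal.Quotient.factorₐ k hIJ).toLinearMap ∘ₗ (Ideal.Quotient.mkₐ k I).toLinearMap := by
      ext a
      simp
    rw [hfac, LinearMap.lTensor_comp, LinearMap.comp_apply]
    erw [hu]
    simp
  · intro h
    have h1 := h ⟨v, (hUmem v).2 hfix⟩
    rw [eigen_restr_iff] at h1
    have h2 : SGA3.StabilizesLine k A v (A ⧸ J) (Ideal.Quotient.mkₐ k J) := ⟨1, h1⟩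
    have h3 := (hrep (A ⧸ J) (Ideal.Quotient.mkₐ k J)).2 h2
    intro a ha
    exact Ideal.Quotient.eq_zero_iff_mem.mp (h3 a ha)

end Main

end Groth.Agent.H93.NormalKer
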