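import Groth.Agent.H83.NormalFixed
import Groth.Agent.H83.Antipode
import Groth.Agent.H82.Chev
import Groth.Agent.H15.Conv
import Mathlib

/-! Points of a normal subgroup acting on a cyclic comodule generated by an eigenvector:
the operators commute. -/

set_option autoImplicit false
universe u v

open TensorProduct HopfRep WithConv

namespace Groth.Agent.H93.NormalKer

open Groth.Agent.H83 (ptAct ptAct_apply map_ptAct_coact)
open Groth.Agent.H82.Chev (slice slice_lTensor conv)

section Points

variable {k : Type u} [Field k] {A : Type u} [CommRing A] [HopfAlgebra k A]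
  {V : Type v} [AddCommGroup V] [Module k V] [Comod k A V]

/-- right scalar multiplication on `V ⊗ R`. -/
noncomputable def scal {R : Type u} [CommRing R] [Algebra k R] (r : R) :
    V ⊗[k] R →ₗ[k] V ⊗[k] R := (LinearMap.mulRight k r).lTensor V

theorem scal_tmul {R : Type u} [CommRing R] [Algebra k R] (r : R) (w : V) (s : R) :
    scal (k := k) r (w ⊗ₜ[k] s) = w ⊗ₜ[k] (s * r) := by
  simp [scal]

theorem scal_comm {R : Type u} [CommRing R] [Algebra k R] (r s : R) (x : V ⊗[k] R) :
    scal (k := k) r (scal (k := k) s x) = scal (k := k) s (scal (k := k) r x) := by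
  induction x with
  | zero => simp
  | tmul w t => simp only [scal_tmul]; congr 1; ring
  | add x y hx hy => simp only [map_add, hx, hy]

theorem lTensor_mul'_assoc_tmul {R : Type u} [CommRing R] [Algebra k R] (x : V ⊗[k] R) (r : R) :
    (LinearMap.mul' k R).lTensor V (TensorProduct.assoc k V R R (x ⊗ₜ[k] r)) =
      scal (k := k) r x := by
  induction x with
  | zero => simp
  | tmul w s => simp [scal_tmul]
  | add x y hx hy => rw [TensorProduct.add_tmul, map_add, map_add, hx, hy, map_add]

theorem ptAct_mul {R : Type u} [CommRing R] [Algebra k R] (f f' : WithConv (A →ₐ[k] R)) (v : V) :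
    ptAct (V := V) (f * f').ofConv.toLinearMap v =
      (LinearMap.mul' k R).lTensor V (TensorProduct.assoc k V R R
        (TensorProduct.map (ptAct (V := V) f.ofConv.toLinearMap) f'.ofConv.toLinearMap
          (Comod.coact (k := k) (A := A) v))) := by
  rw [map_ptAct_coact, LinearEquiv.apply_symm_apply]
  have h4 : (f * f').ofConv.toLinearMap = LinearMap.mul' k R ∘ₗ
      (TensorProduct.map f.ofConv.toLinearMap f'.ofConv.toLinearMap ∘ₗ
        Coalgebra.comul (R := k) (A := A)) := rfl
  rw [h4, ptAct_apply, ptAct_apply, LinearMap.lTensor_comp]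
  rfl

theorem ptAct_mul_of_kills {R : Type u} [CommRing R] [Algebra k R] (I : Ideal A) (v : V)
    (χ : A ⧸ I)
    (hχ : (Ideal.Quotient.mkₐ k I).toLinearMap.lTensor V (Comod.coact (k := k) (A := A) v) =
      v ⊗ₜ[k] χ)
    (f m : WithConv (A →ₐ[k] R)) (hm : ∀ a ∈ I, m.ofConv a = 0) :
    ptAct (V := V) (f * m).ofConv.toLinearMap v =
      scal (k := k) (Ideal.Quotient.liftₐ I m.ofConv hm χ)
        (ptAct (V := V) f.ofConv.toLinearMap v) := by
  rw [ptAct_mul]
  have hmfac : m.ofConv.toLinearMap =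
      (Ideal.Quotient.liftₐ I m.ofConv hm).toLinearMap ∘ₗ
        (Ideal.Quotient.mkₐ k I).toLinearMap := by
    ext a
    simp
  have h5 : TensorProduct.map (ptAct (V := V) f.ofConv.toLinearMap)
      ((Ideal.Quotient.liftₐ I m.ofConv hm).toLinearMap ∘ₗ (Ideal.Quotient.mkₐ k I).toLinearMap) =
      TensorProduct.map (ptAct (V := V) f.ofConv.toLinearMap)
        (Ideal.Quotient.liftₐ I m.ofConv hm).toLinearMap ∘ₗ
          (Ideal.Quotient.mkₐ k I).toLinearMap.lTensor V := by
    rw [LinearMap.lTensor, ← TensorProduct.map_comp, LinearMap.comp_id]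
  rw [hmfac, h5, LinearMap.comp_apply, hχ, TensorProduct.map_tmul, AlgHom.toLinearMap_apply,
    lTensor_mul'_assoc_tmul]

theorem conj_kills (I : Ideal A) (hI : SGA3.IsNormalHopfIdeal k A I)
    {R : Type u} [CommRing R] [Bialgebra k R] (g n : WithConv (A →ₐ[k] R))
    (hn : ∀ a ∈ I, n.ofConv a = 0) : ∀ a ∈ I, (g⁻¹ * n * g).ofConv a = 0 := by
  intro a ha
  have h1 := hI R (g.ofConv.comp (HopfAlgebra.antipodeAlgHom k A)) n.ofConv hn a ha
  rw [Groth.Agent.H15.conv3_eq_conv2] at h1
  have h2 : (toConv ((g.ofConv.comp (HopfAlgebra.antipodeAlgHom k A)).comp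
      (HopfAlgebra.antipodeAlgHom k A)) : WithConv (A →ₐ[k] R)) = g := by
    exact inv_inv g
  have h3 : Groth.Agent.H15.conv2 k A (Groth.Agent.H15.conv2 k A
      (g.ofConv.comp (HopfAlgebra.antipodeAlgHom k A)) n.ofConv)
      ((g.ofConv.comp (HopfAlgebra.antipodeAlgHom k A)).comp (HopfAlgebra.antipodeAlgHom k A)) =
      (g⁻¹ * n * g).ofConv := by
    change (g⁻¹ * n * toConv ((g.ofConv.comp (HopfAlgebra.antipodeAlgHom k A)).comp
      (HopfAlgebra.antipodeAlgHom k A))).ofConv = (g⁻¹ * n * g).ofConv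
    rw [h2]
  rw [h3] at h1
  exact h1

end Points

end Groth.Agent.H93.NormalKer
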