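import Mathlib

/-! Perfect rings of characteristic `p` (possibly the zero ring): basic lemmas, tensor products,
quotients by radical ideals. -/

set_option autoImplicit false
universe u v w

namespace Groth.Agent.H93.PerfTor

open TensorProduct

/-- `R` is a perfect ring of characteristic `p` (the zero ring allowed). -/
structure Perf (p : ℕ) (R : Type*) [CommRing R] : Prop where
  char : (p : R) = 0
  bij : Function.Bijective fun x : R => x ^ p

variable {p : ℕ} [hp : Fact p.Prime]

section Basic

variable {R : Type*} [CommRing R]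

lemma add_pow_of_char (h : (p : R) = 0) (x y : R) : (x + y) ^ p = x ^ p + y ^ p := by
  obtain ⟨r, hr⟩ := exists_add_pow_prime_eq hp.out x y
  rw [hr, h]; ring

lemma Perf.add_pow (h : Perf p R) (x y : R) : (x + y) ^ p = x ^ p + y ^ p :=
  add_pow_of_char h.char x y

lemma Perf.eq_zero_of_pow (h : Perf p R) {x : R} (hx : x ^ p = 0) : x = 0 := by
  apply h.bij.1
  change x ^ p = 0 ^ p
  rw [hx, zero_pow hp.out.ne_zero]

lemma Perf.exists_root (h : Perf p R) (x : R) : ∃ y : R, y ^ p = x := h.bij.2 x

lemma Perf.exists_root_iter (h : Perf p R) (k : ℕ) (x : R) : ∃ y : R, y ^ p ^ k = x := by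
  induction k generalizing x with
  | zero => exact ⟨x, by simp⟩
  | succ k ih =>
    obtain ⟨y, hy⟩ := h.exists_root x
    obtain ⟨z, hz⟩ := ih y
    exact ⟨z, by rw [pow_succ, pow_mul, hz, hy]⟩

lemma Perf.eq_zero_of_pow_iter (h : Perf p R) (k : ℕ) {x : R} (hx : x ^ p ^ k = 0) : x = 0 := by
  induction k with
  | zero => simpa using hx
  | succ k ih =>
    apply ih
    apply h.eq_zero_of_pow
    rw [← pow_mul, ← pow_succ]; exact hx

lemma Perf.eq_zero_of_isNilpotent (h : Perf p R) {x : R} (hx : IsNilpotent x) : x = 0 := by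
  obtain ⟨m, hm⟩ := hx
  apply h.eq_zero_of_pow_iter m
  have : m ≤ p ^ m := (Nat.lt_pow_self hp.out.one_lt).le
  exact pow_eq_zero_of_le this hm

lemma Perf.isReduced (h : Perf p R) : IsReduced R := ⟨fun _ hx => h.eq_zero_of_isNilpotent hx⟩

lemma Perf.charP (h : Perf p R) [Nontrivial R] : CharP R p := by
  have := CharP.ringChar_of_prime_eq_zero hp.out h.char
  rw [← this]; exact ringChar.charP R

lemma Perf.of_classes [CharP R p] (h : Function.Bijective fun x : R => x ^ p) : Perf p R :=
  ⟨CharP.cast_eq_zero R p, h⟩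

lemma Perf.perfectRing (h : Perf p R) [CharP R p] : PerfectRing R p := ⟨h.bij⟩

lemma perf_zmod : Perf p (ZMod p) := by
  refine ⟨CharP.cast_eq_zero _ p, ?_⟩
  have : (fun x : ZMod p => x ^ p) = id := by
    funext x; exact ZMod.pow_card x
  rw [this]; exact Function.bijective_id

lemma Perf.of_subsingleton [Subsingleton R] : Perf p R :=
  ⟨Subsingleton.elim _ _, ⟨fun _ _ _ => Subsingleton.elim _ _, fun x => ⟨x, Subsingleton.elim _ _⟩⟩⟩

/-- quotient of a perfect ring by a radical ideal. -/
lemma Perf.quotient (h : Perf p R) (I : Ideal R) (hI : I.IsRadical) : Perf p (R ⧸ I) := by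
  refine ⟨?_, ?_, ?_⟩
  · have := congrArg (Ideal.Quotient.mk I) h.char
    simpa using this
  · intro x y hxy
    obtain ⟨a, rfl⟩ := Ideal.Quotient.mk_surjective x
    obtain ⟨b, rfl⟩ := Ideal.Quotient.mk_surjective y
    change (Ideal.Quotient.mk I a) ^ p = (Ideal.Quotient.mk I b) ^ p at hxy
    rw [← map_pow, ← map_pow, Ideal.Quotient.eq] at hxy
    rw [Ideal.Quotient.eq]
    apply hI
    refine ⟨p, ?_⟩
    have h1 : (a - b) ^ p = a ^ p - b ^ p := by
      have := h.add_pow (a - b) b
      rw [sub_add_cancel] at this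
      rw [this]; ring
    rw [h1]; exact hxy
  · intro x
    obtain ⟨a, rfl⟩ := Ideal.Quotient.mk_surjective x
    obtain ⟨b, hb⟩ := h.exists_root a
    exact ⟨Ideal.Quotient.mk I b, by change (Ideal.Quotient.mk I b) ^ p = _; rw [← map_pow, hb]⟩

lemma Perf.of_ringEquiv {S : Type*} [CommRing S] (h : Perf p R) (e : R ≃+* S) : Perf p S := by
  refine ⟨?_, ?_, ?_⟩
  · have := congrArg e h.char
    simpa using this
  · intro x y hxy
    apply e.symm.injective
    apply h.bij.1
    change (e.symm x) ^ p = (e.symm y) ^ p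
    rw [← map_pow, ← map_pow]
    exact congrArg e.symm hxy
  · intro x
    obtain ⟨b, hb⟩ := h.exists_root (e.symm x)
    refine ⟨e b, ?_⟩
    change (e b) ^ p = x
    rw [← map_pow, hb, RingEquiv.apply_symm_apply]

/-- the kernel of a ring hom into a perfect ring is radical. -/
lemma Perf.ker_isRadical {S : Type*} [CommRing S] (h : Perf p S) (f : R →+* S) :
    (RingHom.ker f).IsRadical := by
  intro x ⟨m, hm⟩
  rw [RingHom.mem_ker] at hm ⊢
  apply h.eq_zero_of_isNilpotent
  exact ⟨m, by rw [← map_pow, hm]⟩

end Basic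

section Tensor

variable {A : Type*} [CommRing A] {B : Type*} [CommRing B] {C : Type*} [CommRing C]
  [Algebra A B] [Algebra A C]

lemma Perf.of_algebra (hA : Perf p A) (hB : Function.Bijective fun x : B => x ^ p) : Perf p B := by
  refine ⟨?_, hB⟩
  have := congrArg (algebraMap A B) hA.char
  simpa using this

/-- the tensor product of perfect rings over a perfect ring is perfect. -/
theorem Perf.tensor (hA : Perf p A) (hB : Perf p B) (hC : Perf p C) : Perf p (B ⊗[A] C) := by
  classical
  have hchar : (p : B ⊗[A] C) = 0 := by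
    have := congrArg (algebraMap A (B ⊗[A] C)) hA.char
    simpa using this
  have hadd : ∀ x y : B ⊗[A] C, (x + y) ^ p = x ^ p + y ^ p := add_pow_of_char hchar
  -- root functions
  choose rA hrA using hA.bij.2
  choose rB hrB using hB.bij.2
  choose rC hrC using hC.bij.2
  have rB_add : ∀ x y, rB (x + y) = rB x + rB y := by
    intro x y
    apply hB.bij.1
    change rB (x + y) ^ p = (rB x + rB y) ^ p
    rw [hB.add_pow]
    have h1 := hrB (x + y); have h2 := hrB x; have h3 := hrB y
    simp only at h1 h2 h3
    rw [h1, h2, h3]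
  have rC_add : ∀ x y, rC (x + y) = rC x + rC y := by
    intro x y
    apply hC.bij.1
    change rC (x + y) ^ p = (rC x + rC y) ^ p
    rw [hC.add_pow]
    have h1 := hrC (x + y); have h2 := hrC x; have h3 := hrC y
    simp only at h1 h2 h3
    rw [h1, h2, h3]
  have rB_smul : ∀ (a : A) (x : B), rB (a • x) = rA a • rB x := by
    intro a x
    apply hB.bij.1
    change rB (a • x) ^ p = (rA a • rB x) ^ p
    have h1 := hrB (a • x); have h2 := hrB x; have h3 := hrA a
    simp only at h1 h2 h3
    rw [h1, smul_pow, h2, h3]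
  have rC_smul : ∀ (a : A) (x : C), rC (a • x) = rA a • rC x := by
    intro a x
    apply hC.bij.1
    change rC (a • x) ^ p = (rA a • rC x) ^ p
    have h1 := hrC (a • x); have h2 := hrC x; have h3 := hrA a
    simp only at h1 h2 h3
    rw [h1, smul_pow, h2, h3]
  have rB_zero : rB 0 = 0 := by
    have := rB_add 0 0; simpa using this
  have rC_zero : rC 0 = 0 := by
    have := rC_add 0 0; simpa using this
  -- the additive inverse of Frobenius
  let G : B ⊗[A] C →+ B ⊗[A] C :=
    TensorProduct.liftAddHom
      (AddMonoidHom.mk' (fun b : B => AddMonoidHom.mk' (fun c : C => rB b ⊗ₜ[A] rC c)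
        (fun c c' => by rw [rC_add, tmul_add]))
        (fun b b' => by
          ext c
          simp only [AddMonoidHom.mk'_apply, AddMonoidHom.add_apply]
          rw [rB_add, add_tmul]))
      (fun a b c => by
        simp only [AddMonoidHom.mk'_apply]
        rw [rB_smul, rC_smul, smul_tmul])
  have hG : ∀ b c, G (b ⊗ₜ c) = rB b ⊗ₜ rC c := fun b c => rfl
  have hGF : ∀ x : B ⊗[A] C, G (x ^ p) = x := by
    intro x
    induction x using TensorProduct.induction_on with
    | zero => rw [zero_pow hp.out.ne_zero, map_zero]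
    | tmul b c =>
      rw [Algebra.TensorProduct.tmul_pow, hG]
      have e1 : rB (b ^ p) = b := hB.bij.1 (hrB (b ^ p))
      have e2 : rC (c ^ p) = c := hC.bij.1 (hrC (c ^ p))
      rw [e1, e2]
    | add x y hx hy => rw [hadd, map_add, hx, hy]
  refine ⟨hchar, ?_, ?_⟩
  · intro x y hxy
    have := congrArg G hxy
    simp only at this
    rwa [hGF, hGF] at this
  · intro x
    induction x using TensorProduct.induction_on with
    | zero => exact ⟨0, zero_pow hp.out.ne_zero⟩
    | tmul b c =>
      refine ⟨rB b ⊗ₜ rC c, ?_⟩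
      change (rB b ⊗ₜ[A] rC c) ^ p = _
      rw [Algebra.TensorProduct.tmul_pow]
      have h1 := hrB b; have h2 := hrC c
      simp only at h1 h2
      rw [h1, h2]
    | add x y hx hy =>
      obtain ⟨x', hx'⟩ := hx
      obtain ⟨y', hy'⟩ := hy
      refine ⟨x' + y', ?_⟩
      change (x' + y') ^ p = _
      simp only at hx' hy'
      rw [hadd, hx', hy']

end Tensor

end Groth.Agent.H93.PerfTor
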