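import Groth.Agent.H93.PerfPrincipal
import Groth.Agent.H9.TorChangeRing

/-! Finitely generated (up to radical) perfect ideals are good. -/

set_option autoImplicit false
universe u

namespace Groth.Agent.H93.PerfTor

open TensorProduct CategoryTheory CategoryTheory.Limits
open Groth.Agent.H9 Groth.Agent.H9.TorChangeRing

variable {p : ℕ} [hp : Fact p.Prime]

/-- transport of goodness along an equality of ideals. -/
lemma Good.of_eq {A : Type u} [CommRing A] {I I' : Ideal A} (h : Good p A I) (e : I = I') :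
    Good p A I' := e ▸ h

/-- `IsZero` transfers along a semilinear bijection. -/
lemma isZero_of_semiIso {A A' : Type u} [CommRing A] [CommRing A'] [Algebra A A']
    {M : ModuleCat.{u} A} {N : ModuleCat.{u} A'}
    (h : SemiIso (A := A) (A' := A') M N) (hN : IsZero N) : IsZero M := by
  obtain ⟨φ, hφ⟩ := h
  have := ModuleCat.subsingleton_of_isZero hN
  have : Subsingleton M := hφ.1.subsingleton
  exact ModuleCat.isZero_of_subsingleton M

theorem good_comap {A : Type u} [CommRing A] (hA : Perf p A) (J : Ideal A) (hJrad : J.IsRadical)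
    (hJ : Good p A J) (I' : Ideal (A ⧸ J)) (hI' : Good p (A ⧸ J) I') :
    Good p A (I'.comap (Ideal.Quotient.mk J)) := by
  intro C _ _ hC n
  have hA' : Perf p (A ⧸ J) := hA.quotient J hJrad
  have hC' : Perf p ((A ⧸ J) ⊗[A] C) := Perf.tensor hA hA' hC
  have hvan : ∀ q : ℕ, IsZero (((Tor (ModuleCat.{u} A) (q + 1)).obj
      (ModuleCat.of A (A ⧸ J))).obj (ModuleCat.of A C)) := fun q => hJ C hC q
  have hsemi := semiIso_tor (A := A) (A' := A ⧸ J) ((A ⧸ J) ⧸ I') (n + 1) (ModuleCat.of A C) hvan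
  have hz' : IsZero (((Tor (ModuleCat.{u} (A ⧸ J)) (n + 1)).obj
      (ModuleCat.of (A ⧸ J) ((A ⧸ J) ⧸ I'))).obj (ModuleCat.of (A ⧸ J) ((A ⧸ J) ⊗[A] C))) :=
    hI' ((A ⧸ J) ⊗[A] C) hC' n
  have hz : IsZero (((Tor (ModuleCat.{u} A) (n + 1)).obj
      (ModuleCat.of A ((A ⧸ J) ⧸ I'))).obj (ModuleCat.of A C)) :=
    isZero_of_semiIso hsemi hz'
  -- the A-linear isomorphism `A ⧸ comap ≃ (A ⧸ J) ⧸ I'`
  let g : A →ₗ[A] ((A ⧸ J) ⧸ I') :=
    ((Ideal.Quotient.mkₐ A I').comp (Ideal.Quotient.mkₐ A J)).toLinearMap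
  have hg : Function.Surjective g := by
    intro x
    obtain ⟨y, rfl⟩ := Ideal.Quotient.mk_surjective x
    obtain ⟨z, rfl⟩ := Ideal.Quotient.mk_surjective y
    exact ⟨z, rfl⟩
  have hker : LinearMap.ker g = I'.comap (Ideal.Quotient.mk J) := by
    ext x
    rw [LinearMap.mem_ker, Ideal.mem_comap]
    exact Ideal.Quotient.eq_zero_iff_mem
  let e : (A ⧸ I'.comap (Ideal.Quotient.mk J)) ≃ₗ[A] ((A ⧸ J) ⧸ I') :=
    (Submodule.quotEquivOfEq _ _ hker.symm).trans (g.quotKerEquivOfSurjective hg)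
  exact IsZero.of_iso hz (torMapIso e.toModuleIso (ModuleCat.of A C) (n + 1))

theorem good_span_radical : ∀ (r : ℕ) (A : Type u) [CommRing A] (_ : Perf p A) (f : Fin r → A),
    Good p A (Ideal.span (Set.range f)).radical := by
  intro r
  induction r with
  | zero =>
    intro A _ hA f
    have : (Ideal.span (Set.range f)).radical = rad (0 : A) := by
      have : Set.range f = ∅ := Set.range_eq_empty f
      rw [this, rad, Ideal.span_empty, Ideal.span_singleton_eq_bot.2 rfl]
    rw [this]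
    exact good_rad hA 0
  | succ r ih =>
    intro A _ hA f
    have hJrad : (rad (f 0)).IsRadical := Ideal.radical_isRadical _
    have hA' : Perf p (A ⧸ rad (f 0)) := hA.quotient _ hJrad
    have h1 := good_comap hA (rad (f 0)) hJrad (good_rad hA (f 0)) _
      (ih (A ⧸ rad (f 0)) hA' (fun i => Ideal.Quotient.mk (rad (f 0)) (f i.succ)))
    refine h1.of_eq ?_
    have e1 : Set.range (fun i : Fin r => Ideal.Quotient.mk (rad (f 0)) (f i.succ)) =
        Ideal.Quotient.mk (rad (f 0)) '' Set.range (Fin.tail f) := by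
      rw [← Set.range_comp]; rfl
    rw [Ideal.comap_radical, e1, ← Ideal.map_span,
      Ideal.comap_map_of_surjective _ Ideal.Quotient.mk_surjective,
      ← RingHom.ker_eq_comap_bot, Ideal.mk_ker, Fin.range_fin_succ, Ideal.span_insert,
      Ideal.radical_sup, Ideal.radical_sup (Ideal.span {f 0})]
    rw [sup_comm]
    congr 2
    exact Ideal.radical_idem _

end Groth.Agent.H93.PerfTor
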