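import Groth.Agent.H9.TorFilteredColimits
import Groth.Agent.H93.PerfInduct

/-! `Tor_n(A/I, N) = 0` when `I` is a directed union of ideals `K i` with `Tor_n(A/K i, N) = 0`. -/

set_option autoImplicit false
universe u

namespace Groth.Agent.H93.PerfTor

open CategoryTheory CategoryTheory.Limits

section Directed

variable {A : Type u} [CommRing A] {ι : Type u} [Preorder ι] [IsDirected ι (· ≤ ·)] [Nonempty ι]
  (K : ι → Ideal A) (hK : Monotone K) (I : Ideal A) (hle : ∀ i, K i ≤ I)

/-- the diagram `i ↦ A ⧸ K i`. -/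
noncomputable def quotDiagram (hK : Monotone K) : ι ⥤ ModuleCat.{u} A where
  obj i := ModuleCat.of A (A ⧸ K i)
  map {i j} h := ModuleCat.ofHom (Submodule.factor (hK (leOfHom h)))
  map_id i := by
    apply ModuleCat.hom_ext
    apply Submodule.linearMap_qext
    ext
    rfl
  map_comp {i j k} f g := by
    apply ModuleCat.hom_ext
    apply Submodule.linearMap_qext
    ext
    rfl

/-- the cocone with vertex `A ⧸ I`. -/
noncomputable def quotCocone (hK : Monotone K) (hle : ∀ i, K i ≤ I) : Cocone (quotDiagram K hK) where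
  pt := ModuleCat.of A (A ⧸ I)
  ι :=
    { app := fun i => ModuleCat.ofHom (Submodule.factor (hle i))
      naturality := fun i j f => by
        apply ModuleCat.hom_ext
        apply Submodule.linearMap_qext
        ext
        rfl }

variable (hmem : ∀ a ∈ I, ∃ i, a ∈ K i)

/-- the quotient map into the `i`-th object of the diagram. -/
noncomputable def mkD (i : ι) : A →ₗ[A] ((quotDiagram K hK).obj i) := Submodule.mkQ (K i)

lemma cocone_compat (s : Cocone (quotDiagram K hK)) {i j : ι} (h : i ≤ j) (a : A) :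
    (s.ι.app i).hom (mkD K hK i a) = (s.ι.app j).hom (mkD K hK j a) := by
  have := s.w (homOfLE h)
  rw [← this]
  rfl

/-- the cocone is a colimit. -/
noncomputable def quotCoconeIsColimit : IsColimit (quotCocone K I hK hle) := by
  classical
  let i₀ : ι := Classical.arbitrary ι
  have hker : ∀ (s : Cocone (quotDiagram K hK)),
      I ≤ LinearMap.ker ((s.ι.app i₀).hom ∘ₗ mkD K hK i₀) := by
    intro s a ha
    obtain ⟨i, hi⟩ := hmem a ha
    obtain ⟨j, hj₀, hj⟩ := exists_ge_ge i₀ i
    rw [LinearMap.mem_ker, LinearMap.comp_apply, cocone_compat K hK s hj₀ a]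
    have : mkD K hK j a = 0 := (Submodule.Quotient.mk_eq_zero _).2 (hK hj hi)
    rw [this, map_zero]
  refine
    { desc := fun s => ModuleCat.ofHom (Submodule.liftQ I _ (hker s))
      fac := fun s i => ?_
      uniq := fun s m hm => ?_ }
  · apply ModuleCat.hom_ext
    apply Submodule.linearMap_qext
    ext
    obtain ⟨j, hj₀, hj⟩ := exists_ge_ge i₀ i
    change (s.ι.app i₀).hom (mkD K hK i₀ 1) = (s.ι.app i).hom (mkD K hK i 1)
    rw [cocone_compat K hK s hj₀, cocone_compat K hK s hj]
  · apply ModuleCat.hom_ext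
    apply Submodule.linearMap_qext
    ext
    have := hm i₀
    change m.hom (Submodule.mkQ I 1) = (s.ι.app i₀).hom (mkD K hK i₀ 1)
    rw [← this]
    rfl

include hK hle hmem in
theorem isZero_tor_quotient_of_directed (N : ModuleCat.{u} A) (n : ℕ)
    (hz : ∀ i, IsZero (((Tor (ModuleCat.{u} A) n).obj (ModuleCat.of A (A ⧸ K i))).obj N)) :
    IsZero (((Tor (ModuleCat.{u} A) n).obj (ModuleCat.of A (A ⧸ I))).obj N) := by
  haveI : IsFiltered ι := isFiltered_of_directed_le_nonempty ι
  let G := (Tor (ModuleCat.{u} A) n).flip.obj N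
  haveI : PreservesColimitsOfShape ι G :=
    Groth.Agent.H9.preservesColimitsOfShape_tor_flip N n ι
  have hc := isColimitOfPreserves G (quotCoconeIsColimit K hK I hle hmem)
  change IsZero (G.mapCocone (quotCocone K I hK hle)).pt
  rw [IsZero.iff_id_eq_zero]
  apply hc.hom_ext
  intro i
  exact (hz i).eq_of_src _ _

end Directed

end Groth.Agent.H93.PerfTor
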