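import Groth.Agent.H93.PerfRadical

/-! `Tor_i^A(B, C) = 0` (`i > 0`) for perfect rings of characteristic `p`. -/

set_option autoImplicit false
universe u

namespace Groth.Agent.H93.PerfTor

open TensorProduct CategoryTheory CategoryTheory.Limits
open Groth.Agent.H9 Groth.Agent.H9.TorChangeRing

variable {p : ℕ} [hp : Fact p.Prime]

/-- every nonzero perfect `A`-algebra is a quotient of a flat perfect `A`-algebra. -/
theorem exists_flat_perfect_cover {A B : Type u} [CommRing A] [CommRing B] [Algebra A B]
    [Nontrivial B] (hA : Perf p A) (hB : Perf p B) :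
    ∃ (P : Type u) (_ : CommRing P) (_ : Algebra A P) (_ : Algebra P B) (_ : IsScalarTower A P B),
      Perf p P ∧ Module.Flat A P ∧ Function.Surjective (algebraMap P B) := by
  haveI : Nontrivial A := (algebraMap A B).domain_nontrivial
  haveI := hA.charP
  haveI := hB.charP
  haveI := hB.perfectRing
  letI : Algebra (ZMod p) A := ZMod.algebra A p
  letI : Algebra (ZMod p) B := ZMod.algebra B p
  haveI : IsScalarTower (ZMod p) A B := IsScalarTower.of_algebraMap_eq' (RingHom.ext_zmod _ _)
  let R := MvPolynomial B (ZMod p)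
  let Q := PerfectClosure R p
  letI : Algebra (ZMod p) Q := ZMod.algebra Q p
  let ev : R →+* B := (MvPolynomial.aeval (R := ZMod p) (fun b : B => b)).toRingHom
  let q : Q →+* B := PerfectClosure.lift R p B ev
  have hq : ∀ x, q (PerfectClosure.of R p x) = ev x := by
    intro x
    have := (PerfectClosure.lift R p B).symm_apply_apply ev
    exact congrArg (fun φ : R →+* B => φ x) this
  let qa : Q →ₐ[ZMod p] B :=
    { q with
      commutes' := fun r => by
        have : q.comp (algebraMap (ZMod p) Q) = algebraMap (ZMod p) B := RingHom.ext_zmod _ _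
        exact congrArg (fun φ : ZMod p →+* B => φ r) this }
  let π : A ⊗[ZMod p] Q →ₐ[A] B :=
    Algebra.TensorProduct.lift (Algebra.ofId A B) qa (fun _ _ => Commute.all _ _)
  letI : Algebra (A ⊗[ZMod p] Q) B := π.toRingHom.toAlgebra
  have hQ : Perf p Q := Perf.of_classes (PerfectRing.bijective_frobenius (R := Q) (p := p))
  refine ⟨A ⊗[ZMod p] Q, inferInstance, inferInstance, inferInstance, ?_, ?_, ?_, ?_⟩
  · exact IsScalarTower.of_algebraMap_eq' π.comp_algebraMap.symm
  · exact Perf.tensor perf_zmod hA hQ
  · infer_instance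
  · intro b
    refine ⟨1 ⊗ₜ PerfectClosure.of R p (MvPolynomial.X b), ?_⟩
    change π (1 ⊗ₜ PerfectClosure.of R p (MvPolynomial.X b)) = b
    rw [Algebra.TensorProduct.lift_tmul, map_one, one_mul]
    change q (PerfectClosure.of R p (MvPolynomial.X b)) = b
    rw [hq]
    change MvPolynomial.aeval (R := ZMod p) (fun b : B => b) (MvPolynomial.X b) = b
    rw [MvPolynomial.aeval_X]

theorem tor_perfect {A B C : Type u} [CommRing A] [CommRing B] [CommRing C] [Algebra A B]
    [Algebra A C] (hA : Perf p A) (hB : Perf p B) (hC : Perf p C) (n : ℕ) :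
    IsZero (((Tor (ModuleCat.{u} A) (n + 1)).obj (ModuleCat.of A B)).obj (ModuleCat.of A C)) := by
  rcases subsingleton_or_nontrivial B with hB0 | hB1
  · haveI : Module.Flat A ↑(ModuleCat.of A B) := inferInstanceAs (Module.Flat A B)
    exact isZero_tor_succ_of_flat_left _ _ n
  · obtain ⟨P, _, _, _, _, hP, hflat, hsurj⟩ := exists_flat_perfect_cover hA hB
    haveI : Module.Flat A ↑(ModuleCat.of A P) := hflat
    have hvan : ∀ q : ℕ, IsZero (((Tor (ModuleCat.{u} A) (q + 1)).obj
        (ModuleCat.of A P)).obj (ModuleCat.of A C)) :=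
      fun q => isZero_tor_succ_of_flat_left (ModuleCat.of A P) (ModuleCat.of A C) q
    have hsemi := semiIso_tor (A := A) (A' := P) B (n + 1) (ModuleCat.of A C) hvan
    apply isZero_of_semiIso hsemi
    have hC' : Perf p (P ⊗[A] C) := Perf.tensor hA hP hC
    have hker : (RingHom.ker (algebraMap P B)).IsRadical := hB.ker_isRadical _
    have hgood := good_of_isRadical hP _ hker (P ⊗[A] C) hC' n
    let e : (P ⧸ RingHom.ker (algebraMap P B)) ≃ₗ[P] B :=
      (Ideal.quotientKerAlgEquivOfSurjective (f := Algebra.ofId P B) hsurj).toLinearEquiv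
    exact IsZero.of_iso hgood (torMapIso e.toModuleIso.symm _ (n + 1))

end Groth.Agent.H93.PerfTor
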