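import Groth.Agent.H93.PerfBasic
import Groth.Agent.H9.TorFlatBaseChange
import Groth.Agent.H9.TorLES

/-! Principal perfect ideals `rad (f)` in a perfect ring: flat, and `Tor_i(A/rad f, C) = 0` for
perfect `A`-algebras `C`. -/

set_option autoImplicit false
universe u

namespace Groth.Agent.H93.PerfTor

open TensorProduct CategoryTheory CategoryTheory.Limits

variable {p : ℕ} [hp : Fact p.Prime]

/-- `Tor_{n+1}^A(A/I, C) = 0` for all perfect `A`-algebras `C`. -/
def Good (p : ℕ) (A : Type u) [CommRing A] (I : Ideal A) : Prop :=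
  ∀ (C : Type u) [CommRing C] [Algebra A C], Perf p C → ∀ n : ℕ,
    IsZero (((Tor (ModuleCat.{u} A) (n + 1)).obj (ModuleCat.of A (A ⧸ I))).obj (ModuleCat.of A C))

section

variable {A : Type u} [CommRing A]

lemma Perf.pow_iter_injective (hA : Perf p A) (k : ℕ) {x y : A} (h : x ^ p ^ k = y ^ p ^ k) :
    x = y := by
  induction k with
  | zero => simpa using h
  | succ k ih =>
    apply ih
    apply hA.bij.1
    change (x ^ p ^ k) ^ p = (y ^ p ^ k) ^ p
    rw [← pow_mul, ← pow_mul, ← pow_succ]; exact h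

/-- a compatible sequence of `p`-power roots of `f`. -/
noncomputable def rootSeq (hA : Perf p A) (f : A) : ℕ → A
  | 0 => f
  | k + 1 => Classical.choose (hA.exists_root (rootSeq hA f k))

lemma rootSeq_zero (hA : Perf p A) (f : A) : rootSeq hA f 0 = f := rfl

lemma rootSeq_succ_pow (hA : Perf p A) (f : A) (k : ℕ) :
    rootSeq hA f (k + 1) ^ p = rootSeq hA f k :=
  Classical.choose_spec (hA.exists_root (rootSeq hA f k))

lemma rootSeq_add_pow (hA : Perf p A) (f : A) (k j : ℕ) :
    rootSeq hA f (k + j) ^ p ^ j = rootSeq hA f k := by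
  induction j with
  | zero => simp
  | succ j ih =>
    rw [← add_assoc, pow_succ', pow_mul, rootSeq_succ_pow, ih]

lemma rootSeq_pow (hA : Perf p A) (f : A) (k : ℕ) : rootSeq hA f k ^ p ^ k = f := by
  have := rootSeq_add_pow hA f 0 k
  rwa [zero_add] at this

/-- the radical of the principal ideal `(f)`. -/
abbrev rad (f : A) : Ideal A := (Ideal.span {f}).radical

lemma rootSeq_mem (hA : Perf p A) (f : A) (k : ℕ) : rootSeq hA f k ∈ rad f :=
  ⟨p ^ k, by rw [rootSeq_pow]; exact Ideal.subset_span rfl⟩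

lemma mem_rad (hA : Perf p A) (f x : A) (hx : x ∈ rad f) :
    ∃ (k : ℕ) (y : A), x = y * rootSeq hA f k := by
  obtain ⟨m, hm⟩ := hx
  obtain ⟨z, hz⟩ := Ideal.mem_span_singleton'.1 hm
  have hle : m ≤ p ^ m := (Nat.lt_pow_self hp.out.one_lt).le
  obtain ⟨w, hw⟩ := hA.exists_root_iter m (x ^ (p ^ m - m) * z)
  refine ⟨m, w, ?_⟩
  apply hA.pow_iter_injective m
  rw [mul_pow, hw, rootSeq_pow, mul_assoc, hz, ← pow_add, Nat.sub_add_cancel hle]

/-- the generator `g_k` as an element of `rad f`. -/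
noncomputable def G (hA : Perf p A) (f : A) (k : ℕ) : ↥(rad f) := ⟨rootSeq hA f k, rootSeq_mem hA f k⟩

lemma G_eq (hA : Perf p A) (f : A) (k j : ℕ) :
    G hA f k = (rootSeq hA f (k + j)) ^ (p ^ j - 1) • G hA f (k + j) := by
  apply Subtype.ext
  change rootSeq hA f k = (rootSeq hA f (k + j)) ^ (p ^ j - 1) * rootSeq hA f (k + j)
  rw [← pow_succ, Nat.sub_add_cancel (Nat.one_le_pow _ _ hp.out.pos), rootSeq_add_pow]

variable {N : Type*} [AddCommGroup N] [Module A N]

lemma tmul_G_le (hA : Perf p A) (f : A) {k K : ℕ} (h : k ≤ K) (n : N) :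
    ∃ n' : N, G hA f k ⊗ₜ[A] n = G hA f K ⊗ₜ[A] n' := by
  obtain ⟨j, rfl⟩ := Nat.exists_eq_add_of_le h
  exact ⟨(rootSeq hA f (k + j)) ^ (p ^ j - 1) • n, by rw [G_eq hA f k j, smul_tmul]⟩

lemma exists_rep (hA : Perf p A) (f : A) (x : ↥(rad f) ⊗[A] N) :
    ∃ (k : ℕ) (n : N), x = G hA f k ⊗ₜ[A] n := by
  induction x using TensorProduct.induction_on with
  | zero => exact ⟨0, 0, (tmul_zero _ _).symm⟩
  | tmul a n =>
    obtain ⟨k, y, hy⟩ := mem_rad hA f a.1 a.2
    refine ⟨k, y • n, ?_⟩
    have : a = y • G hA f k := Subtype.ext hy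
    rw [this, smul_tmul]
  | add x y hx hy =>
    obtain ⟨k, n, rfl⟩ := hx
    obtain ⟨l, m, rfl⟩ := hy
    obtain ⟨n', hn'⟩ := tmul_G_le hA f (le_max_left k l) n
    obtain ⟨m', hm'⟩ := tmul_G_le hA f (le_max_right k l) m
    exact ⟨max k l, n' + m', by rw [hn', hm', tmul_add]⟩

/-- key vanishing lemma. -/
theorem eq_zero_of_mul_eq_zero (hA : Perf p A) (f : A) {C : Type*} [CommRing C] [Algebra A C]
    (hC : ∀ c : C, c ^ p = 0 → c = 0) (ι : N →ₗ[A] C) (hι : Function.Injective ι)
    (x : ↥(rad f) ⊗[A] N)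
    (hx : TensorProduct.lid A C (TensorProduct.map (rad f).subtype ι x) = 0) : x = 0 := by
  obtain ⟨k, n, rfl⟩ := exists_rep hA f x
  rw [TensorProduct.map_tmul, TensorProduct.lid_tmul] at hx
  change rootSeq hA f k • ι n = 0 at hx
  rw [G_eq hA f k 1, smul_tmul]
  have : (rootSeq hA f (k + 1)) ^ (p ^ 1 - 1) • n = 0 := by
    apply hι
    rw [map_zero, map_smul]
    apply hC
    rw [smul_pow, ← pow_mul, pow_one, mul_comm, pow_mul, rootSeq_succ_pow]
    obtain ⟨q, hq⟩ : ∃ q, p = q + 2 := ⟨p - 2, by have := hp.out.two_le; omega⟩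
    have e1 : p - 1 = q + 1 := by omega
    have e2 : ι n ^ p = ι n ^ (q + 1) * ι n := by
      rw [← pow_succ]; congr 1
    rw [e1, e2]
    rw [Algebra.smul_def] at hx ⊢
    rw [map_pow, pow_succ]
    calc algebraMap A C (rootSeq hA f k) ^ q * algebraMap A C (rootSeq hA f k) *
          (ι n ^ (q + 1) * ι n)
        = algebraMap A C (rootSeq hA f k) ^ q * ι n ^ (q + 1) *
          (algebraMap A C (rootSeq hA f k) * ι n) := by ring
      _ = 0 := by rw [hx, mul_zero]
  rw [this, tmul_zero]

theorem rTensor_injective_rad (hA : Perf p A) (f : A) {C : Type*} [CommRing C] [Algebra A C]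
    (hC : Perf p C) : Function.Injective ((Submodule.subtype (rad f)).rTensor C) := by
  rw [injective_iff_map_eq_zero]
  intro x hx
  apply eq_zero_of_mul_eq_zero hA f (fun c hc => hC.eq_zero_of_pow hc) LinearMap.id
    Function.injective_id x
  have : TensorProduct.map (rad f).subtype (LinearMap.id : C →ₗ[A] C) x =
      (Submodule.subtype (rad f)).rTensor C x := rfl
  rw [this, hx, map_zero]

theorem flat_rad (hA : Perf p A) (f : A) : Module.Flat A ↥(rad f) := by
  rw [Module.Flat.iff_lTensor_injective']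
  intro J
  rw [injective_iff_map_eq_zero]
  intro x hx
  apply eq_zero_of_mul_eq_zero hA f (fun c hc => hA.eq_zero_of_pow hc) J.subtype
    (Submodule.injective_subtype J) x
  have : TensorProduct.map (rad f).subtype J.subtype x =
      (rad f).subtype.rTensor A (J.subtype.lTensor (rad f) x) := by
    rw [← LinearMap.comp_apply, LinearMap.rTensor_comp_lTensor]
  rw [this, hx, map_zero, map_zero]

end

section GoodOfFlat

variable {A : Type u} [CommRing A]

/-- if `I` is flat and `I ⊗ C → C` is injective for all perfect `C`, then `I` is good. -/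
theorem good_of_flat (I : Ideal A) (hflat : Module.Flat A ↥I)
    (hinj : ∀ (C : Type u) [CommRing C] [Algebra A C], Perf p C →
      Function.Injective ((Submodule.subtype I).rTensor C)) : Good p A I := by
  intro C _ _ hC n
  rcases n with _ | n
  · exact Groth.Agent.H9.isZero_tor_one_quotient_of_rTensor_injective I C (hinj C hC)
  · let S : ShortComplex (ModuleCat.{u} A) :=
      ShortComplex.mk (ModuleCat.ofHom (Submodule.subtype I)) (ModuleCat.ofHom (Submodule.mkQ I))
        (by ext x; simpa using Ideal.Quotient.eq_zero_iff_mem.2 x.2)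
    have hS : S.ShortExact :=
      ModuleCat.shortComplex_shortExact S (LinearMap.exact_subtype_mkQ I)
        (Submodule.injective_subtype I) (Submodule.mkQ_surjective I)
    haveI : Module.Flat A S.X₂ := inferInstanceAs (Module.Flat A A)
    haveI : Module.Flat A ↑(ModuleCat.of A ↥I) := hflat
    obtain ⟨φ, hφ⟩ := Groth.Agent.H9.exists_mono_tor_succ hS (ModuleCat.of A C) (n + 1)
    have hz : IsZero (((Tor (ModuleCat.{u} A) (n + 1)).obj S.X₁).obj (ModuleCat.of A C)) :=
      Groth.Agent.H9.isZero_tor_succ_of_flat_left (ModuleCat.of A ↥I) (ModuleCat.of A C) n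
    exact IsZero.of_mono φ hz

theorem good_rad (hA : Perf p A) (f : A) : Good p A (rad f) :=
  good_of_flat (rad f) (flat_rad hA f) (fun _ _ _ hC => rTensor_injective_rad hA f hC)

end GoodOfFlat

end Groth.Agent.H93.PerfTor
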