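import Groth.Agent.H93.PerfColim

/-! Every radical ideal of a perfect ring is good. -/

set_option autoImplicit false
universe u

namespace Groth.Agent.H93.PerfTor

open CategoryTheory CategoryTheory.Limits

variable {p : ℕ} [hp : Fact p.Prime]

theorem good_of_isRadical {A : Type u} [CommRing A] (hA : Perf p A) (I : Ideal A)
    (hI : I.IsRadical) : Good p A I := by
  classical
  let K : Finset ↥I → Ideal A := fun s =>
    (Ideal.span ((fun x : ↥I => (x : A)) '' (s : Set ↥I))).radical
  have hK : Monotone K := fun s t h =>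
    Ideal.radical_mono (Ideal.span_mono (Set.image_mono (Finset.coe_subset.2 h)))
  have hle : ∀ s, K s ≤ I := by
    intro s
    rw [hI.radical_le_iff, Ideal.span_le]
    rintro _ ⟨x, _, rfl⟩
    exact x.2
  have hmem : ∀ a ∈ I, ∃ s, a ∈ K s := by
    intro a ha
    refine ⟨{⟨a, ha⟩}, Ideal.le_radical (Ideal.subset_span ⟨⟨a, ha⟩, ?_, rfl⟩)⟩
    simp
  have hgood : ∀ s, Good p A (K s) := by
    intro s
    let f : Fin s.card → A := fun i => ((s.equivFin.symm i : ↥s) : ↥I)
    have hf : Set.range f = (fun x : ↥I => (x : A)) '' (s : Set ↥I) := by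
      ext a
      simp only [Set.mem_range, Set.mem_image]
      constructor
      · rintro ⟨i, rfl⟩
        exact ⟨(s.equivFin.symm i).1, (s.equivFin.symm i).2, rfl⟩
      · rintro ⟨x, hx, rfl⟩
        exact ⟨s.equivFin ⟨x, hx⟩, by simp [f]⟩
    have := good_span_radical (p := p) s.card A hA f
    rw [hf] at this
    exact this
  intro C _ _ hC n
  exact isZero_tor_quotient_of_directed K hK I hle hmem (ModuleCat.of A C) (n + 1)
    (fun s => hgood s C hC n)

end Groth.Agent.H93.PerfTor
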