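import Mathlib

/-! The category of perfect `B`-algebras (full subcategory of `Under B`): concrete API, a concrete
criterion for filtered colimits, and the consequence of compactness. -/

set_option autoImplicit false
universe u

namespace Groth.Agent.H93.Pfp

open CategoryTheory Limits

variable (p : ℕ) (B : CommRingCat.{u})

/-- the category of perfect `B`-algebras. -/
abbrev PerfB :=
  ObjectProperty.FullSubcategory fun Y : Under B =>
    (p : Y.right) = 0 ∧ Function.Bijective fun y : Y.right => y ^ p

variable {p B}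

/-- bundle a perfect `B`-algebra. -/
def mkObj (R : Type u) [CommRing R] (f : B →+* R) (h0 : (p : R) = 0)
    (hb : Function.Bijective fun y : R => y ^ p) : PerfB p B :=
  ⟨Under.mk (CommRingCat.ofHom f), ⟨h0, hb⟩⟩

/-- the structure map of a perfect `B`-algebra. -/
def str (X : PerfB p B) : B →+* X.obj.right := X.obj.hom.hom

/-- the ring hom underlying a morphism. -/
def toRingHom {X Y : PerfB p B} (f : X ⟶ Y) : X.obj.right →+* Y.obj.right := f.hom.right.hom

lemma toRingHom_comp_str {X Y : PerfB p B} (f : X ⟶ Y) : (toRingHom f).comp (str X) = str Y := by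
  have := Under.w f.hom
  exact congrArg CommRingCat.Hom.hom this

lemma toRingHom_str {X Y : PerfB p B} (f : X ⟶ Y) (b : B) : toRingHom f (str X b) = str Y b :=
  RingHom.congr_fun (toRingHom_comp_str f) b

/-- build a morphism from a ring hom compatible with the structure maps. -/
def mkHom {X Y : PerfB p B} (g : X.obj.right →+* Y.obj.right) (hg : g.comp (str X) = str Y) :
    X ⟶ Y :=
  ObjectProperty.homMk (Under.homMk (CommRingCat.ofHom g) (by
    ext x
    exact RingHom.congr_fun hg x))

@[simp] lemma toRingHom_mkHom {X Y : PerfB p B} (g : X.obj.right →+* Y.obj.right)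
    (hg : g.comp (str X) = str Y) : toRingHom (mkHom g hg) = g := rfl

/-- build a morphism between bundled perfect `B`-algebras from a ring hom. -/
def mkHom' {R R' : Type u} [CommRing R] [CommRing R'] {f : B →+* R} {f' : B →+* R'}
    {h0 : (p : R) = 0} {hb : Function.Bijective fun y : R => y ^ p}
    {h0' : (p : R') = 0} {hb' : Function.Bijective fun y : R' => y ^ p}
    (g : R →+* R') (hg : g.comp f = f') : mkObj R f h0 hb ⟶ mkObj R' f' h0' hb' :=
  ObjectProperty.homMk (Under.homMk (CommRingCat.ofHom g) (by
    change CommRingCat.ofHom f ≫ CommRingCat.ofHom g = CommRingCat.ofHom f'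
    rw [← CommRingCat.ofHom_comp, hg]))

lemma toRingHom_mkHom' {R R' : Type u} [CommRing R] [CommRing R'] {f : B →+* R} {f' : B →+* R'}
    {h0 : (p : R) = 0} {hb : Function.Bijective fun y : R => y ^ p}
    {h0' : (p : R') = 0} {hb' : Function.Bijective fun y : R' => y ^ p}
    (g : R →+* R') (hg : g.comp f = f') :
    toRingHom (mkHom' (h0 := h0) (hb := hb) (h0' := h0') (hb' := hb') g hg) = g := rfl

/-- build a morphism from a bundled perfect `B`-algebra to an arbitrary object. -/
def mkHomTo {R : Type u} [CommRing R] {f : B →+* R}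
    {h0 : (p : R) = 0} {hb : Function.Bijective fun y : R => y ^ p} (Y : PerfB p B)
    (g : R →+* Y.obj.right) (hg : g.comp f = str Y) : mkObj R f h0 hb ⟶ Y :=
  ObjectProperty.homMk (Under.homMk (CommRingCat.ofHom g) (by
    apply CommRingCat.hom_ext
    exact hg))

lemma toRingHom_mkHomTo {R : Type u} [CommRing R] {f : B →+* R}
    {h0 : (p : R) = 0} {hb : Function.Bijective fun y : R => y ^ p} (Y : PerfB p B)
    (g : R →+* Y.obj.right) (hg : g.comp f = str Y) :
    toRingHom (mkHomTo (h0 := h0) (hb := hb) Y g hg) = g := rfl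

lemma hom_ext' {X Y : PerfB p B} {f g : X ⟶ Y} (h : toRingHom f = toRingHom g) : f = g := by
  apply ObjectProperty.hom_ext
  apply Under.UnderMorphism.ext
  exact CommRingCat.hom_ext h

@[simp] lemma toRingHom_id (X : PerfB p B) : toRingHom (𝟙 X) = RingHom.id _ := rfl

@[simp] lemma toRingHom_comp {X Y Z : PerfB p B} (f : X ⟶ Y) (g : Y ⟶ Z) :
    toRingHom (f ≫ g) = (toRingHom g).comp (toRingHom f) := rfl

/-- the forgetful functor to types. -/
abbrev forgetT : PerfB p B ⥤ Type u :=
  ObjectProperty.ι _ ⋙ Under.forget B ⋙ forget CommRingCat.{u}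

/-- concrete criterion for a cocone over a filtered diagram of perfect `B`-algebras to be a
colimit. -/
noncomputable def isColimitOfConcrete {J : Type u} [SmallCategory J] [IsFiltered J]
    (F : J ⥤ PerfB p B) (c : Cocone F)
    (hsurj : ∀ a : c.pt.obj.right, ∃ (j : J) (x : (F.obj j).obj.right),
      toRingHom (c.ι.app j) x = a)
    (hinj : ∀ (j : J) (x : (F.obj j).obj.right), toRingHom (c.ι.app j) x = 0 →
      ∃ (j' : J) (f : j ⟶ j'), toRingHom (F.map f) x = 0) : IsColimit c := by
  haveI : ReflectsColimitsOfShape J (Under.forget B) :=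
    reflectsColimitsOfShape_of_reflectsIsomorphisms
  haveI : ReflectsColimitsOfShape J (forget CommRingCat.{u}) :=
    reflectsColimitsOfShape_of_reflectsIsomorphisms
  apply isColimitOfReflects (forgetT (p := p) (B := B))
  refine Types.FilteredColimit.isColimitOf _ _ ?_ ?_
  · intro a
    obtain ⟨j, x, hx⟩ := hsurj a
    exact ⟨j, x, hx.symm⟩
  · intro i j xi xj hij
    obtain ⟨k₀, f₀, g₀, -⟩ := IsFilteredOrEmpty.cocone_objs i j
    have h1 : toRingHom (c.ι.app k₀)
        (toRingHom (F.map f₀) xi - toRingHom (F.map g₀) xj) = 0 := by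
      rw [map_sub, sub_eq_zero]
      have e1 : toRingHom (c.ι.app k₀) (toRingHom (F.map f₀) xi) = toRingHom (c.ι.app i) xi := by
        rw [← RingHom.comp_apply, ← toRingHom_comp, c.w]
      have e2 : toRingHom (c.ι.app k₀) (toRingHom (F.map g₀) xj) = toRingHom (c.ι.app j) xj := by
        rw [← RingHom.comp_apply, ← toRingHom_comp, c.w]
      rw [e1, e2]
      exact hij
    obtain ⟨k, h, hk⟩ := hinj k₀ _ h1
    refine ⟨k, f₀ ≫ h, g₀ ≫ h, ?_⟩
    rw [map_sub, sub_eq_zero] at hk
    change toRingHom (F.map (f₀ ≫ h)) xi = toRingHom (F.map (g₀ ≫ h)) xj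
    rw [F.map_comp, F.map_comp, toRingHom_comp, toRingHom_comp]
    exact hk

attribute [local instance] Cardinal.fact_isRegular_aleph0

/-- a compact perfect `B`-algebra which is a filtered colimit is a retract of a term. -/
theorem exists_section_of_compact {J : Type u} [SmallCategory J] [IsFiltered J]
    (F : J ⥤ PerfB p B) (c : Cocone F) (hc : IsColimit c) [IsFinitelyPresentable.{u} c.pt] :
    ∃ (j : J) (s : c.pt ⟶ F.obj j), s ≫ c.ι.app j = 𝟙 c.pt := by
  haveI : IsCardinalFiltered J Cardinal.aleph0.{u} := (isCardinalFiltered_aleph0_iff J).2 inferInstance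
  exact IsCardinalPresentable.exists_hom_of_isColimit Cardinal.aleph0.{u} hc (𝟙 c.pt)

end Groth.Agent.H93.Pfp
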