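import Groth.Agent.H93.PfpCat
import Groth.Agent.H93.PerfBasic

/-! Step 2: a compact perfect `B`-algebra `A` which is a quotient of a perfect `B`-algebra `Q` is a
retract of `Q / rad(T)` for a finite subset `T` of the kernel. -/

set_option autoImplicit false
universe u

namespace Groth.Agent.H93.Pfp

open CategoryTheory Limits Groth.Agent.H93.PerfTor

section General

variable {Q : Type u} [CommRing Q] {A₀ : Type u} [CommRing A₀] {B₀ : Type u} [CommRing B₀]

lemma factor_comp_mk_comp (β : B₀ →+* Q) {I I' : Ideal Q} (h : I ≤ I') :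
    (Ideal.Quotient.factor h).comp ((Ideal.Quotient.mk I).comp β) =
      (Ideal.Quotient.mk I').comp β := by
  rw [← RingHom.comp_assoc, Ideal.Quotient.factor_comp_mk]

lemma lift_comp_mk_comp (β : B₀ →+* Q) (ρ : Q →+* A₀) {I : Ideal Q}
    (h : ∀ a ∈ I, ρ a = 0) :
    (Ideal.Quotient.lift I ρ h).comp ((Ideal.Quotient.mk I).comp β) = ρ.comp β := by
  rw [← RingHom.comp_assoc, Ideal.Quotient.lift_comp_mk]

lemma lift_comp_factor (ρ : Q →+* A₀) {I I' : Ideal Q} (hI : I ≤ I')
    (h : ∀ a ∈ I, ρ a = 0) (h' : ∀ a ∈ I', ρ a = 0) :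
    (Ideal.Quotient.lift I' ρ h').comp (Ideal.Quotient.factor hI) = Ideal.Quotient.lift I ρ h := by
  apply Ideal.Quotient.ringHom_ext
  rw [RingHom.comp_assoc, Ideal.Quotient.factor_comp_mk, Ideal.Quotient.lift_comp_mk,
    Ideal.Quotient.lift_comp_mk]

lemma factor_refl {I : Ideal Q} (h : I ≤ I) : Ideal.Quotient.factor h = RingHom.id _ :=
  Ideal.Quotient.factor_eq

end General

variable {p : ℕ} [hp : Fact p.Prime] {B : CommRingCat.{u}}

section

variable (A : PerfB p B) {Q : Type u} [CommRing Q] (hQ : Perf p Q)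
  (β : B →+* Q) (ρ : Q →+* A.obj.right) (hρβ : ρ.comp β = str A)

omit hp in
lemma perf_obj : Perf p A.obj.right := ⟨A.property.1, A.property.2⟩

/-- the radical ideal generated by a finite subset of the kernel. -/
def relIdeal (T : Finset (RingHom.ker ρ)) : Ideal Q :=
  (Ideal.span (Subtype.val '' (T : Set (RingHom.ker ρ)))).radical

omit hp in
lemma relIdeal_mono {T T' : Finset (RingHom.ker ρ)} (h : T ≤ T') :
    relIdeal A ρ T ≤ relIdeal A ρ T' :=
  Ideal.radical_mono (Ideal.span_mono (Set.image_mono (Finset.coe_subset.2 h)))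

lemma relIdeal_le_ker (T : Finset (RingHom.ker ρ)) : relIdeal A ρ T ≤ RingHom.ker ρ := by
  rw [relIdeal, ((perf_obj A).ker_isRadical ρ).radical_le_iff, Ideal.span_le]
  rintro _ ⟨t, -, rfl⟩
  exact t.2

lemma relIdeal_vanish (T : Finset (RingHom.ker ρ)) : ∀ a ∈ relIdeal A ρ T, ρ a = 0 :=
  fun a ha => RingHom.mem_ker.1 (relIdeal_le_ker A ρ T ha)

include hQ in
lemma quot_perf (T : Finset (RingHom.ker ρ)) : Perf p (Q ⧸ relIdeal A ρ T) :=
  hQ.quotient _ (Ideal.radical_isRadical _)

/-- the object `Q / rad(T)`. -/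
noncomputable def quotObj (T : Finset (RingHom.ker ρ)) : PerfB p B :=
  mkObj (Q ⧸ relIdeal A ρ T) ((Ideal.Quotient.mk _).comp β)
    (quot_perf A hQ ρ T).char (quot_perf A hQ ρ T).bij

/-- transition maps. -/
noncomputable def quotMap {T T' : Finset (RingHom.ker ρ)} (h : T ≤ T') :
    quotObj A hQ β ρ T ⟶ quotObj A hQ β ρ T' :=
  mkHom' (Ideal.Quotient.factor (relIdeal_mono A ρ h)) (factor_comp_mk_comp β _)

lemma toRingHom_quotMap {T T' : Finset (RingHom.ker ρ)} (h : T ≤ T') :
    toRingHom (quotMap A hQ β ρ h) = Ideal.Quotient.factor (relIdeal_mono A ρ h) :=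
  toRingHom_mkHom' _ _

include hρβ in
lemma lift_str (T : Finset (RingHom.ker ρ)) :
    (Ideal.Quotient.lift _ ρ (relIdeal_vanish A ρ T)).comp ((Ideal.Quotient.mk _).comp β) =
      str A := by
  rw [lift_comp_mk_comp, hρβ]

/-- the maps to `A`. -/
noncomputable def quotDesc (T : Finset (RingHom.ker ρ)) : quotObj A hQ β ρ T ⟶ A :=
  mkHomTo A (Ideal.Quotient.lift _ ρ (relIdeal_vanish A ρ T)) (lift_str A β ρ hρβ T)

lemma toRingHom_quotDesc (T : Finset (RingHom.ker ρ)) :
    toRingHom (quotDesc A hQ β ρ hρβ T) = Ideal.Quotient.lift _ ρ (relIdeal_vanish A ρ T) :=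
  toRingHom_mkHomTo _ _ _

/-- the directed system of quotients. -/
noncomputable def quotFunctor : Finset (RingHom.ker ρ) ⥤ PerfB p B where
  obj := quotObj A hQ β ρ
  map := fun f => quotMap A hQ β ρ (leOfHom f)
  map_id := fun T => by
    apply hom_ext'
    rw [toRingHom_quotMap]
    exact factor_refl _
  map_comp := fun f g => by
    apply hom_ext'
    rw [toRingHom_comp, toRingHom_quotMap, toRingHom_quotMap, toRingHom_quotMap]
    exact (Ideal.Quotient.factor_comp _ _).symm

/-- the cocone with vertex `A`. -/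
noncomputable def quotCocone : Cocone (quotFunctor A hQ β ρ) where
  pt := A
  ι :=
    { app := fun T => quotDesc A hQ β ρ hρβ T
      naturality := fun T T' f => by
        apply hom_ext'
        change toRingHom (quotMap A hQ β ρ (leOfHom f) ≫ quotDesc A hQ β ρ hρβ T') =
          toRingHom (quotDesc A hQ β ρ hρβ T ≫ 𝟙 A)
        rw [Category.comp_id, toRingHom_comp, toRingHom_quotMap, toRingHom_quotDesc,
          toRingHom_quotDesc]
        exact lift_comp_factor ρ _ _ _ }

lemma toRingHom_quotCocone_app (T : Finset (RingHom.ker ρ)) :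
    toRingHom ((quotCocone A hQ β ρ hρβ).ι.app T) =
      Ideal.Quotient.lift _ ρ (relIdeal_vanish A ρ T) :=
  toRingHom_quotDesc A hQ β ρ hρβ T

lemma toRingHom_quotFunctor_map {T T' : Finset (RingHom.ker ρ)} (f : T ⟶ T') :
    toRingHom ((quotFunctor A hQ β ρ).map f) =
      Ideal.Quotient.factor (relIdeal_mono A ρ (leOfHom f)) :=
  toRingHom_quotMap A hQ β ρ (leOfHom f)

noncomputable def quotCoconeIsColimit (hρ : Function.Surjective ρ) :
    IsColimit (quotCocone A hQ β ρ hρβ) := by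
  classical
  apply isColimitOfConcrete
  · intro a
    obtain ⟨q, rfl⟩ := hρ a
    refine ⟨∅, Ideal.Quotient.mk _ q, ?_⟩
    rw [toRingHom_quotCocone_app]
    exact Ideal.Quotient.lift_mk _ _ _
  · intro T x hx
    rw [toRingHom_quotCocone_app] at hx
    obtain ⟨q, rfl⟩ := Ideal.Quotient.mk_surjective x
    have hq : q ∈ RingHom.ker ρ := by
      rw [RingHom.mem_ker]
      exact hx
    refine ⟨insert ⟨q, hq⟩ T, homOfLE (Finset.subset_insert _ _), ?_⟩
    rw [toRingHom_quotFunctor_map]
    change Ideal.Quotient.factor _ (Ideal.Quotient.mk _ q) = 0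
    rw [Ideal.Quotient.factor_mk, Ideal.Quotient.eq_zero_iff_mem]
    apply Ideal.le_radical
    apply Ideal.subset_span
    exact ⟨⟨q, hq⟩, Finset.mem_coe.2 (Finset.mem_insert_self _ _), rfl⟩

end

/-- Step 2. -/
theorem exists_finite_section (A : PerfB p B) [IsFinitelyPresentable.{u} A]
    {Q : Type u} [CommRing Q] (hQ : Perf p Q)
    (β : B →+* Q) (ρ : Q →+* A.obj.right) (hρβ : ρ.comp β = str A)
    (hρ : Function.Surjective ρ) :
    ∃ (T₀ : Set Q), T₀.Finite ∧ ∃ (hle : ∀ a ∈ (Ideal.span T₀).radical, ρ a = 0)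
      (σ : A.obj.right →+* Q ⧸ (Ideal.span T₀).radical),
      σ.comp (str A) = (Ideal.Quotient.mk _).comp β ∧
      (Ideal.Quotient.lift _ ρ hle).comp σ = RingHom.id _ := by
  have : IsFinitelyPresentable.{u} (quotCocone A hQ β ρ hρβ).pt :=
    inferInstanceAs (IsFinitelyPresentable.{u} A)
  obtain ⟨T, s, hs⟩ := exists_section_of_compact (quotFunctor A hQ β ρ)
    (quotCocone A hQ β ρ hρβ) (quotCoconeIsColimit A hQ β ρ hρβ hρ)
  refine ⟨Subtype.val '' (T : Set (RingHom.ker ρ)), (Finset.finite_toSet T).image _,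
    relIdeal_vanish A ρ T, toRingHom s, ?_, ?_⟩
  · exact toRingHom_comp_str s
  · have h1 := congrArg toRingHom hs
    rw [toRingHom_comp, toRingHom_quotCocone_app] at h1
    exact h1

end Groth.Agent.H93.Pfp
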