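import Groth.Agent.H93.PerfBasic

/-! Step 3: the retract argument.  If a perfect ring `A₀` is a retract (over `B₀`) of
`Q / rad(T₀)`, `Q` the perfect closure of a polynomial ring `R` over `B₀` in finitely many variables
and `T₀` finite, then the kernel of `Q → A₀` is the radical of a finitely generated ideal, and
`A₀` receives a `p`-radical map from a finitely presented quotient of `R`. -/

set_option autoImplicit false
universe u

namespace Groth.Agent.H93.Pfp

open MvPolynomial Groth.Agent.H93.PerfTor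

variable (p : ℕ) [hp : Fact p.Prime] {B₀ : Type u} [CommRing B₀] [CharP B₀ p] {ι : Type u}
  {A₀ : Type u} [CommRing A₀] [CharP A₀ p] [PerfectRing A₀ p]

/-- every element of the perfect closure has a `p`-power in the image of `R`. -/
lemma exists_pow_eq_of (K : Type u) [CommRing K] [CharP K p] (w : PerfectClosure K p) :
    ∃ (n : ℕ) (z : K), w ^ p ^ n = PerfectClosure.of K p z := by
  induction w using PerfectClosure.induction_on with
  | _ x =>
    obtain ⟨n, z⟩ := x
    refine ⟨n, z, ?_⟩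
    rw [← iterate_frobenius, PerfectClosure.iterate_frobenius_mk]

omit hp [CharP B₀ p] in
/-- two evaluations of a polynomial differ by an element of the ideal generated by the
differences of the arguments. -/
lemma eval₂Hom_sub_mem {Q' : Type*} [CommRing Q'] (f : B₀ →+* Q') (u v : ι → Q')
    (z : MvPolynomial ι B₀) :
    eval₂Hom f u z - eval₂Hom f v z ∈ Ideal.span (Set.range fun j => u j - v j) := by
  rw [← Ideal.Quotient.eq]
  have h1 : ∀ w : ι → Q', Ideal.Quotient.mk (Ideal.span (Set.range fun j => u j - v j))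
      (eval₂Hom f w z) = eval₂ ((Ideal.Quotient.mk _).comp f)
        ((Ideal.Quotient.mk (Ideal.span (Set.range fun j => u j - v j))) ∘ w) z := by
    intro w
    exact eval₂_comp_left _ _ _ _
  rw [h1 u, h1 v]
  congr 1
  funext j
  change Ideal.Quotient.mk _ (u j) = Ideal.Quotient.mk _ (v j)
  rw [Ideal.Quotient.eq]
  exact Ideal.subset_span ⟨j, rfl⟩

lemma exists_root_of (K : Type u) [CommRing K] [CharP K p] (n : ℕ) (z : K) :
    ∃ w : PerfectClosure K p, w ^ p ^ n = PerfectClosure.of K p z :=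
  ⟨PerfectClosure.mk K p (n, z), by
    rw [← iterate_frobenius, PerfectClosure.iterate_frobenius_mk]⟩

lemma lift_of (π : MvPolynomial ι B₀ →+* A₀) (z : MvPolynomial ι B₀) :
    PerfectClosure.lift (MvPolynomial ι B₀) p A₀ π (PerfectClosure.of _ p z) = π z := by
  have := (PerfectClosure.lift (MvPolynomial ι B₀) p A₀).symm_apply_apply π
  exact RingHom.congr_fun this z

lemma of_eq_eval₂Hom (z : MvPolynomial ι B₀) :
    PerfectClosure.of (MvPolynomial ι B₀) p z =
      eval₂Hom ((PerfectClosure.of (MvPolynomial ι B₀) p).comp C)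
        (fun j => PerfectClosure.of (MvPolynomial ι B₀) p (X j)) z := by
  have : PerfectClosure.of (MvPolynomial ι B₀) p =
      eval₂Hom ((PerfectClosure.of (MvPolynomial ι B₀) p).comp C)
        (fun j => PerfectClosure.of (MvPolynomial ι B₀) p (X j)) := by
    apply MvPolynomial.ringHom_ext
    · intro b
      simp
    · intro j
      simp
  exact RingHom.congr_fun this z

lemma perf_of_classes : Perf p A₀ := Perf.of_classes (bijective_frobenius A₀ p)

theorem ker_eq_radical_span [Finite ι] (π : MvPolynomial ι B₀ →+* A₀)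
    (ρ : PerfectClosure (MvPolynomial ι B₀) p →+* A₀)
    (hρof : ∀ z, ρ (PerfectClosure.of (MvPolynomial ι B₀) p z) = π z)
    (T₀ : Set (PerfectClosure (MvPolynomial ι B₀) p)) (hT₀ : T₀.Finite)
    (hle : ∀ a ∈ (Ideal.span T₀).radical, ρ a = 0)
    (σ : A₀ →+* PerfectClosure (MvPolynomial ι B₀) p ⧸ (Ideal.span T₀).radical)
    (hσβ : σ.comp (π.comp C) =
      (Ideal.Quotient.mk _).comp ((PerfectClosure.of (MvPolynomial ι B₀) p).comp C))
    (hσ : (Ideal.Quotient.lift _ ρ hle).comp σ = RingHom.id _) :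
    ∃ T' : Set (PerfectClosure (MvPolynomial ι B₀) p), T'.Finite ∧
      RingHom.ker ρ = (Ideal.span T').radical := by
  obtain ⟨ofR, hofR⟩ : ∃ o, o = PerfectClosure.of (MvPolynomial ι B₀) p := ⟨_, rfl⟩
  obtain ⟨mkI, hmkI⟩ : ∃ m, m = Ideal.Quotient.mk (Ideal.span T₀).radical := ⟨_, rfl⟩
  have hmk_surj : Function.Surjective mkI := by
    rw [hmkI]; exact Ideal.Quotient.mk_surjective
  rw [← hofR, ← hmkI] at hσβ
  rw [← hofR] at hρof
  obtain ⟨ρI, hρI⟩ : ∃ r, r = Ideal.Quotient.lift (Ideal.span T₀).radical ρ hle := ⟨_, rfl⟩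
  rw [← hρI] at hσ
  have hρI_mk : ∀ w, ρI (mkI w) = ρ w := by
    intro w
    rw [hρI, hmkI]
    exact Ideal.Quotient.lift_mk _ _ _
  have hσ' : ∀ a, ρI (σ a) = a := fun a => RingHom.congr_fun hσ a
  have hmk_eq : ∀ a b, mkI a = mkI b ↔ a - b ∈ (Ideal.span T₀).radical := by
    intro a b
    rw [hmkI]
    exact Ideal.Quotient.eq
  have hq : ∀ j : ι, ∃ q, mkI q = σ (ρI (mkI (ofR (X j)))) := fun j => hmk_surj _
  choose q hq using hq
  refine ⟨T₀ ∪ Set.range (fun j => ofR (X j) - q j), hT₀.union (Set.finite_range _), ?_⟩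
  have hkr : (RingHom.ker ρ).IsRadical := (perf_of_classes p (A₀ := A₀)).ker_isRadical ρ
  have hI_le : (Ideal.span T₀).radical ≤
      (Ideal.span (T₀ ∪ Set.range (fun j => ofR (X j) - q j))).radical :=
    Ideal.radical_mono (Ideal.span_mono Set.subset_union_left)
  apply le_antisymm
  · intro w hw
    rw [RingHom.mem_ker] at hw
    obtain ⟨n, z, hz⟩ := exists_pow_eq_of p (MvPolynomial ι B₀) w
    rw [← hofR] at hz
    have hρz : ρ (ofR z) = 0 := by
      rw [← hz, map_pow, hw, zero_pow (pow_ne_zero _ hp.out.ne_zero)]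
    -- `e = σ ∘ ρI` fixes the image of `B₀`
    have he : (σ.comp ρI).comp (mkI.comp (ofR.comp C)) = mkI.comp (ofR.comp C) := by
      apply RingHom.ext
      intro b
      change σ (ρI (mkI (ofR (C b)))) = _
      rw [hρI_mk, hρof]
      exact RingHom.congr_fun hσβ b
    have h1 : mkI (ofR z) = eval₂ (mkI.comp (ofR.comp C)) (mkI ∘ fun j => ofR (X j)) z := by
      have := of_eq_eval₂Hom p z
      rw [← hofR] at this
      rw [this]
      exact eval₂_comp_left _ _ _ _
    have h2 : (σ.comp ρI) (mkI (ofR z)) = eval₂ (mkI.comp (ofR.comp C)) (mkI ∘ q) z := by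
      rw [h1, eval₂_comp_left (σ.comp ρI), he]
      congr 1
      funext j
      exact (hq j).symm
    have h3 : (σ.comp ρI) (mkI (ofR z)) = 0 := by
      change σ (ρI (mkI (ofR z))) = 0
      rw [hρI_mk, hρz, map_zero]
    have h4 : mkI (ofR z) ∈
        Ideal.span (Set.range fun j => (mkI ∘ fun j => ofR (X j)) j - (mkI ∘ q) j) := by
      have := eval₂Hom_sub_mem (mkI.comp (ofR.comp C)) (mkI ∘ fun j => ofR (X j)) (mkI ∘ q) z
      rw [coe_eval₂Hom, coe_eval₂Hom, ← h1, ← h2, h3, sub_zero] at this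
      exact this
    have hfun : (fun j => (mkI ∘ fun j => ofR (X j)) j - (mkI ∘ q) j) =
        mkI ∘ fun j => ofR (X j) - q j := by
      funext j
      simp
    have h5 : Ideal.span (Set.range fun j => (mkI ∘ fun j => ofR (X j)) j - (mkI ∘ q) j) =
        Ideal.map mkI (Ideal.span (Set.range fun j => ofR (X j) - q j)) := by
      rw [hfun, Set.range_comp, Ideal.map_span]
    rw [h5, hmkI, Ideal.mem_quotient_iff_mem_sup] at h4
    have h6 : Ideal.span (Set.range fun j => ofR (X j) - q j) ⊔ (Ideal.span T₀).radical ≤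
        (Ideal.span (T₀ ∪ Set.range (fun j => ofR (X j) - q j))).radical :=
      sup_le ((Ideal.span_mono Set.subset_union_right).trans Ideal.le_radical) hI_le
    have h7 := h6 h4
    rw [← hz] at h7
    exact (Ideal.radical_isRadical _) ⟨p ^ n, h7⟩
  · rw [hkr.radical_le_iff, Ideal.span_le]
    rintro t (ht | ⟨j, rfl⟩)
    · exact RingHom.mem_ker.2 (hle t (Ideal.le_radical (Ideal.subset_span ht)))
    · rw [SetLike.mem_coe, RingHom.mem_ker, map_sub, sub_eq_zero]
      have : ρ (q j) = ρI (mkI (q j)) := (hρI_mk _).symm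
      rw [this, hq j, hσ', hρI_mk]

/-- the ideal of elements of `Q` with a `p`-power in the image of `I₀`. -/
def powIdeal (I₀ : Ideal (MvPolynomial ι B₀)) : Ideal (PerfectClosure (MvPolynomial ι B₀) p) where
  carrier := {w | ∃ (n : ℕ) (r : MvPolynomial ι B₀), r ∈ I₀ ∧
    w ^ p ^ n = PerfectClosure.of (MvPolynomial ι B₀) p r}
  zero_mem' := ⟨0, 0, I₀.zero_mem, by simp⟩
  add_mem' := by
    rintro w₁ w₂ ⟨n₁, r₁, hr₁, h₁⟩ ⟨n₂, r₂, hr₂, h₂⟩
    refine ⟨n₁ + n₂, r₁ ^ p ^ n₂ + r₂ ^ p ^ n₁,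
      I₀.add_mem (Ideal.pow_mem_of_mem _ hr₁ _ (pow_pos hp.out.pos _))
        (Ideal.pow_mem_of_mem _ hr₂ _ (pow_pos hp.out.pos _)), ?_⟩
    have e1 : w₁ ^ p ^ (n₁ + n₂) = (w₁ ^ p ^ n₁) ^ p ^ n₂ := by rw [pow_add, pow_mul]
    have e2 : w₂ ^ p ^ (n₁ + n₂) = (w₂ ^ p ^ n₂) ^ p ^ n₁ := by
      rw [pow_add, mul_comm, pow_mul]
    rw [add_pow_char_pow, e1, e2, h₁, h₂, map_add, map_pow, map_pow]
  smul_mem' := by
    rintro c w ⟨n, r, hr, h⟩
    obtain ⟨l, d, hd⟩ := exists_pow_eq_of p (MvPolynomial ι B₀) c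
    refine ⟨l + n, d ^ p ^ n * r ^ p ^ l, I₀.mul_mem_left _
      (Ideal.pow_mem_of_mem _ hr _ (pow_pos hp.out.pos _)), ?_⟩
    have e1 : c ^ p ^ (l + n) = (c ^ p ^ l) ^ p ^ n := by rw [pow_add, pow_mul]
    have e2 : w ^ p ^ (l + n) = (w ^ p ^ n) ^ p ^ l := by rw [pow_add, mul_comm, pow_mul]
    rw [smul_eq_mul, mul_pow, e1, e2, hd, h, map_mul, map_pow, map_pow]

theorem exists_fp_model (π : MvPolynomial ι B₀ →+* A₀)
    (hπ : ∀ a : A₀, ∃ (n : ℕ) (z : MvPolynomial ι B₀), π z = a ^ p ^ n)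
    (T' : Set (PerfectClosure (MvPolynomial ι B₀) p)) (hT' : T'.Finite)
    (hker : RingHom.ker (PerfectClosure.lift (MvPolynomial ι B₀) p A₀ π) =
      (Ideal.span T').radical) :
    ∃ (I₀ : Ideal (MvPolynomial ι B₀)) (hI₀ : ∀ r ∈ I₀, π r = 0), I₀.FG ∧
      IsPRadical (Ideal.Quotient.lift I₀ π hI₀) p := by
  have hrep := exists_pow_eq_of p (MvPolynomial ι B₀)
  choose nn rr hrr using hrep
  have hperf : Perf p A₀ := perf_of_classes p
  have hvan : ∀ t ∈ T', π (rr t) = 0 := by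
    intro t ht
    have h1 : t ∈ RingHom.ker (PerfectClosure.lift (MvPolynomial ι B₀) p A₀ π) := by
      rw [hker]
      exact Ideal.le_radical (Ideal.subset_span ht)
    rw [RingHom.mem_ker] at h1
    rw [← lift_of p π, ← hrr t, map_pow, h1, zero_pow (pow_ne_zero _ hp.out.ne_zero)]
  have hI₀ : ∀ r ∈ Ideal.span (rr '' T'), π r = 0 := by
    intro r hr
    have hle : Ideal.span (rr '' T') ≤ RingHom.ker π := by
      rw [Ideal.span_le]
      rintro _ ⟨t, ht, rfl⟩
      exact RingHom.mem_ker.2 (hvan t ht)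
    exact RingHom.mem_ker.1 (hle hr)
  refine ⟨Ideal.span (rr '' T'), hI₀, Submodule.fg_span (hT'.image rr), ⟨?_, ?_⟩⟩
  · intro a
    obtain ⟨n, z, hz⟩ := hπ a
    exact ⟨n, Ideal.Quotient.mk _ z, by rw [Ideal.Quotient.lift_mk]; exact hz⟩
  · intro x hx
    obtain ⟨z, rfl⟩ := Ideal.Quotient.mk_surjective x
    rw [RingHom.mem_ker, Ideal.Quotient.lift_mk] at hx
    have h1 : PerfectClosure.of (MvPolynomial ι B₀) p z ∈
        RingHom.ker (PerfectClosure.lift (MvPolynomial ι B₀) p A₀ π) := by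
      rw [RingHom.mem_ker, lift_of, hx]
    rw [hker] at h1
    obtain ⟨M, hM⟩ := h1
    have h2 : Ideal.span T' ≤ powIdeal p (Ideal.span (rr '' T')) := by
      rw [Ideal.span_le]
      intro t ht
      exact ⟨nn t, rr t, Ideal.subset_span ⟨t, ht, rfl⟩, hrr t⟩
    obtain ⟨n, r, hr, hnr⟩ := h2 hM
    rw [← map_pow, ← map_pow, PerfectClosure.of_apply, PerfectClosure.of_apply,
      PerfectClosure.mk_eq_iff] at hnr
    obtain ⟨s, hs⟩ := hnr
    simp only [zero_add, iterate_frobenius] at hs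
    rw [mem_pNilradical]
    refine ⟨M + n + s, ?_⟩
    have h3 : ((z ^ M) ^ p ^ n) ^ p ^ s ∈ Ideal.span (rr '' T') := by
      rw [hs]
      exact Ideal.pow_mem_of_mem _ hr _ (pow_pos hp.out.pos _)
    have h4 : (Ideal.Quotient.mk (Ideal.span (rr '' T')) z) ^ (M * p ^ n * p ^ s) = 0 := by
      rw [← map_pow, Ideal.Quotient.eq_zero_iff_mem, pow_mul, pow_mul]
      exact h3
    refine pow_eq_zero_of_le ?_ h4
    have hM : M ≤ p ^ M := (Nat.lt_pow_self hp.out.one_lt).le
    calc M * p ^ n * p ^ s ≤ p ^ M * p ^ n * p ^ s := by gcongr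
      _ = p ^ (M + n + s) := by rw [pow_add, pow_add]

end Groth.Agent.H93.Pfp
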