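import Groth.Agent.H93.PfpCat

/-! Step 1: a compact perfect `B`-algebra is perfectly finitely generated. -/

set_option autoImplicit false
universe u

namespace Groth.Agent.H93.Pfp

open CategoryTheory Limits

section Algebra

variable (p : ℕ) [hp : Fact p.Prime] {B₀ : Type u} [CommRing B₀] {A : Type u} [CommRing A]
  [CharP A p]

/-- the perfect closure inside `A` of the subring generated by the image of `f` and `S`. -/
def perfSub (f : B₀ →+* A) (S : Set A) : Subring A where
  carrier := {a | ∃ n : ℕ, a ^ p ^ n ∈ Subring.closure (Set.range f ∪ S)}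
  mul_mem' := by
    rintro a b ⟨n, ha⟩ ⟨m, hb⟩
    refine ⟨n + m, ?_⟩
    have e1 : a ^ p ^ (n + m) = (a ^ p ^ n) ^ p ^ m := by rw [pow_add, pow_mul]
    have e2 : b ^ p ^ (n + m) = (b ^ p ^ m) ^ p ^ n := by rw [pow_add, mul_comm, pow_mul]
    rw [mul_pow, e1, e2]
    exact mul_mem (pow_mem ha _) (pow_mem hb _)
  add_mem' := by
    rintro a b ⟨n, ha⟩ ⟨m, hb⟩
    refine ⟨n + m, ?_⟩
    have e1 : a ^ p ^ (n + m) = (a ^ p ^ n) ^ p ^ m := by rw [pow_add, pow_mul]
    have e2 : b ^ p ^ (n + m) = (b ^ p ^ m) ^ p ^ n := by rw [pow_add, mul_comm, pow_mul]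
    rw [add_pow_char_pow, e1, e2]
    exact add_mem (pow_mem ha _) (pow_mem hb _)
  one_mem' := ⟨0, by simp⟩
  zero_mem' := ⟨0, by simp⟩
  neg_mem' := by
    rintro a ⟨n, ha⟩
    refine ⟨n, ?_⟩
    rw [neg_pow a (p ^ n)]
    rcases neg_one_pow_eq_or A (p ^ n) with h' | h'
    · rw [h', one_mul]; exact ha
    · rw [h', neg_one_mul]; exact neg_mem ha

lemma mem_perfSub (f : B₀ →+* A) (S : Set A) (a : A) :
    a ∈ perfSub p f S ↔ ∃ n : ℕ, a ^ p ^ n ∈ Subring.closure (Set.range f ∪ S) := Iff.rfl

lemma perfSub_mono (f : B₀ →+* A) {S S' : Set A} (h : S ⊆ S') :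
    perfSub p f S ≤ perfSub p f S' := by
  rintro a ⟨n, ha⟩
  exact ⟨n, Subring.closure_mono (Set.union_subset_union_right _ h) ha⟩

lemma subset_perfSub (f : B₀ →+* A) (S : Set A) {a : A} (ha : a ∈ S) : a ∈ perfSub p f S := by
  rw [mem_perfSub]
  refine ⟨0, ?_⟩
  rw [pow_zero, pow_one]
  exact Subring.subset_closure (Or.inr ha)

lemma range_le_perfSub (f : B₀ →+* A) (S : Set A) (b : B₀) : f b ∈ perfSub p f S := by
  rw [mem_perfSub]
  refine ⟨0, ?_⟩
  rw [pow_zero, pow_one]
  exact Subring.subset_closure (Or.inl ⟨b, rfl⟩)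

section General

omit [CharP A p] in
lemma incl_subtype {K K' : Subring A} (h : K ≤ K') :
    K'.subtype.comp (Subring.inclusion h) = K.subtype := by
  apply RingHom.ext
  intro x
  rfl

omit [CharP A p] in
lemma incl_trans {K K' K'' : Subring A} (h : K ≤ K') (h' : K' ≤ K'') (h'' : K ≤ K'') :
    Subring.inclusion h'' = (Subring.inclusion h').comp (Subring.inclusion h) := by
  apply RingHom.ext
  intro x
  apply Subtype.ext
  rfl

omit [CharP A p] in
lemma incl_refl {K : Subring A} (h : K ≤ K) : Subring.inclusion h = RingHom.id _ := by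
  apply RingHom.ext
  intro x
  apply Subtype.ext
  rfl

omit [CharP A p] in
lemma incl_codRestrict (f : B₀ →+* A) {K K' : Subring A} (h : K ≤ K') (hK : ∀ b, f b ∈ K)
    (hK' : ∀ b, f b ∈ K') :
    (Subring.inclusion h).comp (f.codRestrict K hK) = f.codRestrict K' hK' := by
  apply RingHom.ext
  intro b
  apply Subtype.ext
  rfl

omit [CharP A p] in
lemma subtype_codRestrict (f : B₀ →+* A) {K : Subring A} (hK : ∀ b, f b ∈ K) :
    K.subtype.comp (f.codRestrict K hK) = f := by
  apply RingHom.ext
  intro b
  rfl

end General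

lemma perfSub_char (f : B₀ →+* A) (S : Set A) : ((p : ℕ) : perfSub p f S) = 0 := by
  apply Subtype.ext
  simp

lemma perfSub_bij [PerfectRing A p] (f : B₀ →+* A) (S : Set A) :
    Function.Bijective fun y : perfSub p f S => y ^ p := by
  constructor
  · intro x y hxy
    apply Subtype.ext
    apply injective_frobenius A p
    exact congrArg Subtype.val hxy
  · rintro ⟨a, n, ha⟩
    obtain ⟨b, hb⟩ := surjective_frobenius A p a
    have hb' : b ^ p = a := hb
    refine ⟨⟨b, n + 1, ?_⟩, Subtype.ext hb'⟩
    rw [pow_succ', pow_mul, hb']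
    exact ha

/-- elements of the closure are values of polynomials. -/
lemma exists_eval₂_of_mem_closure (f : B₀ →+* A) (S : Finset A) {a : A}
    (ha : a ∈ Subring.closure (Set.range f ∪ (S : Set A))) :
    ∃ z : MvPolynomial S B₀, MvPolynomial.eval₂Hom f (fun s : S => (s : A)) z = a := by
  have hle : Subring.closure (Set.range f ∪ (S : Set A)) ≤
      (MvPolynomial.eval₂Hom f (fun s : S => (s : A))).range := by
    rw [Subring.closure_le]
    rintro x (⟨b, rfl⟩ | hx)
    · exact ⟨MvPolynomial.C b, by simp⟩
    · exact ⟨MvPolynomial.X ⟨x, hx⟩, by simp⟩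
  exact hle ha

end Algebra

variable {p : ℕ} [hp : Fact p.Prime] {B : CommRingCat.{u}}

section

variable (A : PerfB p B) [CharP A.obj.right p] [PerfectRing A.obj.right p]

/-- the perfectly finitely generated subalgebra attached to `S`. -/
noncomputable def subObj (S : Finset A.obj.right) : PerfB p B :=
  mkObj (perfSub p (str A) (S : Set A.obj.right))
    ((str A).codRestrict _ (range_le_perfSub p (str A) _))
    (perfSub_char p _ _) (perfSub_bij p _ _)

/-- transition maps. -/
noncomputable def subMap {S S' : Finset A.obj.right} (h : S ≤ S') : subObj A S ⟶ subObj A S' :=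
  mkHom' (Subring.inclusion (perfSub_mono p (str A) (Finset.coe_subset.2 h)))
    (incl_codRestrict (str A) _ _ _)

lemma toRingHom_subMap {S S' : Finset A.obj.right} (h : S ≤ S') :
    toRingHom (subMap A h) =
      Subring.inclusion (perfSub_mono p (str A) (Finset.coe_subset.2 h)) :=
  toRingHom_mkHom' _ _

/-- inclusions. -/
noncomputable def subIncl (S : Finset A.obj.right) : subObj A S ⟶ A :=
  mkHomTo A (perfSub p (str A) (S : Set A.obj.right)).subtype (subtype_codRestrict (str A) _)

lemma toRingHom_subIncl (S : Finset A.obj.right) :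
    toRingHom (subIncl A S) = (perfSub p (str A) (S : Set A.obj.right)).subtype :=
  toRingHom_mkHomTo _ _ _

/-- the directed system of perfectly finitely generated subalgebras. -/
noncomputable def subFunctor : Finset A.obj.right ⥤ PerfB p B where
  obj := subObj A
  map := fun f => subMap A (leOfHom f)
  map_id := fun S => by
    apply hom_ext'
    rw [toRingHom_subMap]
    exact incl_refl _
  map_comp := fun f g => by
    apply hom_ext'
    rw [toRingHom_comp, toRingHom_subMap, toRingHom_subMap, toRingHom_subMap]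
    exact incl_trans _ _ _

/-- the cocone with vertex `A`. -/
noncomputable def subCocone : Cocone (subFunctor A) where
  pt := A
  ι :=
    { app := fun S => subIncl A S
      naturality := fun S S' f => by
        apply hom_ext'
        change toRingHom (subMap A (leOfHom f) ≫ subIncl A S') = toRingHom (subIncl A S ≫ 𝟙 A)
        rw [Category.comp_id, toRingHom_comp, toRingHom_subMap, toRingHom_subIncl,
          toRingHom_subIncl]
        exact incl_subtype _ }

lemma toRingHom_subCocone_app (S : Finset A.obj.right) :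
    toRingHom ((subCocone A).ι.app S) = (perfSub p (str A) (S : Set A.obj.right)).subtype :=
  toRingHom_subIncl A S

noncomputable def subCoconeIsColimit : IsColimit (subCocone A) := by
  classical
  apply isColimitOfConcrete
  · intro a
    refine ⟨{a}, ⟨a, subset_perfSub p _ _ (Finset.mem_coe.2 (Finset.mem_singleton_self a))⟩, ?_⟩
    rw [toRingHom_subCocone_app]
    rfl
  · intro S x hx
    refine ⟨S, 𝟙 S, ?_⟩
    rw [CategoryTheory.Functor.map_id, toRingHom_id]
    rw [toRingHom_subCocone_app] at hx
    exact Subtype.ext hx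

end

/-- Step 1: a compact perfect `B`-algebra is perfectly finitely generated. -/
theorem exists_finset_generating (A : PerfB p B) [CharP A.obj.right p] [PerfectRing A.obj.right p]
    [IsFinitelyPresentable.{u} A] :
    ∃ S : Finset A.obj.right, ∀ a : A.obj.right, ∃ (n : ℕ) (z : MvPolynomial S B),
      MvPolynomial.eval₂Hom (str A) (fun s : S => (s : A.obj.right)) z = a ^ p ^ n := by
  have : IsFinitelyPresentable.{u} (subCocone A).pt := inferInstanceAs (IsFinitelyPresentable.{u} A)
  obtain ⟨S, s, hs⟩ := exists_section_of_compact (subFunctor A) (subCocone A) (subCoconeIsColimit A)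
  refine ⟨S, fun a => ?_⟩
  have h1 : toRingHom ((subCocone A).ι.app S) (toRingHom s a) = a := by
    have := congrArg (fun f => toRingHom f a) hs
    exact this
  rw [toRingHom_subCocone_app] at h1
  have h2 : a ∈ perfSub p (str A) (S : Set A.obj.right) := by
    rw [← h1]
    exact Subtype.property _
  obtain ⟨n, hn⟩ := h2
  obtain ⟨z, hz⟩ := exists_eval₂_of_mem_closure (str A) S hn
  exact ⟨n, z, hz⟩

end Groth.Agent.H93.Pfp
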