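import Groth.Agent.H93.PointExt

/-! Rational points of a commutative Hopf algebra over an algebraically closed field are dense:
every non-nilpotent element is nonzero at some rational point (no finiteness hypothesis). -/

set_option autoImplicit false
universe u v

open TensorProduct

namespace Groth.Agent.H93.PointExt

open Groth.Agent.H93.HopfSub

variable {k : Type u} [Field k] {A : Type v} [CommRing A] [HopfAlgebra k A]

/-- a non-nilpotent element of a commutative Hopf algebra over an algebraically closed field is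
nonzero at some rational point. -/
theorem exists_point_ne_zero [IsAlgClosed k] (f : A) (hf : ¬ IsNilpotent f) :
    ∃ g : A →ₐ[k] k, g f ≠ 0 := by
  classical
  obtain ⟨F, hfF, hFfg, hF⟩ := Groth.Agent.H83.HopfFG.exists_fg_hopfSub (k := k) ({f} : Finset A)
  have hfF' : f ∈ F := hfF (by simp)
  haveI : Algebra.FiniteType k ↥F := (Subalgebra.fg_iff_finiteType F).mp hFfg
  have hnil : ¬ IsNilpotent (⟨f, hfF'⟩ : ↥F) := by
    rintro ⟨n, hn⟩
    exact hf ⟨n, by simpa using congrArg Subtype.val hn⟩
  obtain ⟨g, hg⟩ := Groth.Agent.H48.exists_algHom_apply_ne_zero (k := k) _ hnil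
  obtain ⟨g', hg'⟩ := exists_extend hF g
  exact ⟨g', by rw [hg' ⟨f, hfF'⟩]; exact hg⟩

/-- the kernels of rational points are dense in the prime spectrum. -/
theorem dense_points [IsAlgClosed k] :
    Dense {x : PrimeSpectrum A | ∃ g : A →ₐ[k] k, PrimeSpectrum.comap (g : A →+* k)
      (IsLocalRing.closedPoint k) = x} := by
  rw [PrimeSpectrum.isTopologicalBasis_basic_opens.dense_iff]
  rintro _ ⟨f, rfl⟩ hne
  have hf : ¬ IsNilpotent f := by
    rintro ⟨n, hn⟩
    obtain ⟨x, hx⟩ := hne
    have hx' : f ∉ x.asIdeal := hx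
    apply hx'
    apply x.2.mem_of_pow_mem n
    rw [hn]
    exact zero_mem _
  obtain ⟨g, hg⟩ := exists_point_ne_zero (k := k) f hf
  refine ⟨_, ?_, ⟨g, rfl⟩⟩
  change f ∉ Ideal.comap (g : A →+* k) (IsLocalRing.closedPoint k).asIdeal
  rw [Ideal.mem_comap]
  change ¬ (g f ∈ IsLocalRing.maximalIdeal k)
  rw [IsLocalRing.mem_maximalIdeal, mem_nonunits_iff, not_not]
  exact isUnit_iff_ne_zero.mpr hg

end Groth.Agent.H93.PointExt
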