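import Groth.Agent.H83.HopfFG
import Groth.Agent.H93.HopfFaithfulSub
import Groth.Agent.H48.AlgClosedTensor

/-! Rational points of a Hopf subalgebra extend to the whole commutative Hopf algebra over an
algebraically closed field (no finiteness hypothesis). -/

set_option autoImplicit false
universe u v

open TensorProduct

namespace Groth.Agent.H93.PointExt

open Groth.Agent.H93.HopfSub

variable {k : Type u} [Field k] {A : Type v} [CommRing A] [HopfAlgebra k A]

theorem range_map_mono {C T : Subalgebra k A} (h : C ≤ T) :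
    LinearMap.range (TensorProduct.map C.val.toLinearMap C.val.toLinearMap) ≤
      LinearMap.range (TensorProduct.map T.val.toLinearMap T.val.toLinearMap) := by
  rintro _ ⟨t, rfl⟩
  refine ⟨TensorProduct.map (Subalgebra.inclusion h).toLinearMap
    (Subalgebra.inclusion h).toLinearMap t, ?_⟩
  rw [← LinearMap.comp_apply, ← TensorProduct.map_comp]
  rfl

/-- the supremum of two Hopf subalgebras is a Hopf subalgebra. -/
theorem isHopfSub_sup {C F : Subalgebra k A} (hC : IsHopfSub C) (hF : IsHopfSub F) :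
    IsHopfSub (C ⊔ F) := by
  constructor
  · have hle : C ⊔ F ≤ (ii (C ⊔ F)).range.comap (Bialgebra.comulAlgHom k A) := by
      apply sup_le
      · intro x hx
        obtain ⟨t, ht⟩ := range_map_mono (le_sup_left : C ≤ C ⊔ F) (hC.1 x hx)
        exact ⟨t, ht⟩
      · intro x hx
        obtain ⟨t, ht⟩ := range_map_mono (le_sup_right : F ≤ C ⊔ F) (hF.1 x hx)
        exact ⟨t, ht⟩
    intro b hb
    obtain ⟨t, ht⟩ := hle hb
    exact ⟨t, ht⟩
  · have hle : C ⊔ F ≤ (C ⊔ F).comap (HopfAlgebra.antipodeAlgHom k A) := by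
      apply sup_le
      · intro x hx
        exact (le_sup_left : C ≤ C ⊔ F) (hC.2 x hx)
      · intro x hx
        exact (le_sup_right : F ≤ C ⊔ F) (hF.2 x hx)
    intro b hb
    exact hle hb

/-- a directed union of Hopf subalgebras is a Hopf subalgebra. -/
theorem isHopfSub_iSup_of_directed {ι : Type*} [Nonempty ι] (K : ι → Subalgebra k A)
    (dir : Directed (· ≤ ·) K) (hK : ∀ i, IsHopfSub (K i)) : IsHopfSub (⨆ i, K i) := by
  have hmem : ∀ b, b ∈ (⨆ i, K i) → ∃ i, b ∈ K i := by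
    intro b hb
    have h := Subalgebra.coe_iSup_of_directed dir
    have hb' : b ∈ ((iSup K : Subalgebra k A) : Set A) := hb
    rw [h] at hb'
    exact Set.mem_iUnion.mp hb'
  constructor
  · intro b hb
    obtain ⟨i, hi⟩ := hmem b hb
    exact range_map_mono (le_iSup K i) ((hK i).1 b hi)
  · intro b hb
    obtain ⟨i, hi⟩ := hmem b hb
    exact (le_iSup K i) ((hK i).2 b hi)

/-- one-step extension: a point of a Hopf subalgebra `C` extends to `C ⊔ F` for `F` a finitely
generated subalgebra. -/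
theorem exists_extend_sup [IsAlgClosed k] {C F T : Subalgebra k A} (hC : IsHopfSub C)
    (hF : F.FG) (φ : ↥C →ₐ[k] k) (hCT : C ≤ T) (hFT : F ≤ T) (hT : T ≤ C ⊔ F) :
    ∃ φ' : ↥T →ₐ[k] k, ∀ c : C, φ' (Subalgebra.inclusion hCT c) = φ c := by
  classical
  let 𝔪 : Ideal ↥C := RingHom.ker (φ : ↥C →+* k)
  let I : Ideal ↥T := Ideal.map ((Subalgebra.inclusion hCT : ↥C →ₐ[k] ↥T) : ↥C →+* ↥T) 𝔪
  have hI : I ≠ ⊤ := by
    intro htop
    haveI : Module.FaithfullyFlat ↥C A := HopfFaithful.faithfullyFlat_sub C hC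
    have h1 : (1 : A) ∈ Ideal.map (algebraMap ↥C A) 𝔪 := by
      have h0 : (1 : ↥T) ∈ I := by rw [htop]; trivial
      have h2 := Ideal.mem_map_of_mem ((T.val : ↥T →ₐ[k] A) : ↥T →+* A) h0
      rw [Ideal.map_map] at h2
      exact h2
    have h3 : (1 : ↥C) ∈ (Ideal.map (algebraMap ↥C A) 𝔪).comap (algebraMap ↥C A) := by
      rw [Ideal.mem_comap, map_one]; exact h1
    rw [Ideal.comap_map_eq_self_of_faithfullyFlat] at h3
    have h4 : φ 1 = 0 := h3
    rw [map_one] at h4
    exact one_ne_zero h4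
  haveI : Nontrivial (↥T ⧸ I) := Ideal.Quotient.nontrivial_iff.mpr hI
  let π : ↥T →ₐ[k] ↥T ⧸ I := Ideal.Quotient.mkₐ k I
  let f : ↥F →ₐ[k] ↥T ⧸ I := π.comp (Subalgebra.inclusion hFT)
  have hπC : ∀ c : C, π (Subalgebra.inclusion hCT c) = algebraMap k (↥T ⧸ I) (φ c) := by
    intro c
    have hmem : c - algebraMap k ↥C (φ c) ∈ 𝔪 := by
      rw [RingHom.mem_ker]
      change φ (c - algebraMap k ↥C (φ c)) = 0
      rw [map_sub, AlgHom.commutes]
      exact sub_self _
    have h2 : Subalgebra.inclusion hCT (c - algebraMap k ↥C (φ c)) ∈ I :=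
      Ideal.mem_map_of_mem _ hmem
    have h3 : π (Subalgebra.inclusion hCT (c - algebraMap k ↥C (φ c))) = 0 :=
      Ideal.Quotient.eq_zero_iff_mem.mpr h2
    rw [map_sub, map_sub, AlgHom.commutes, AlgHom.commutes, sub_eq_zero] at h3
    exact h3
  have hsurj : Function.Surjective f := by
    let T' : Subalgebra k ↥T := f.range.comap π
    have hle : T ≤ T'.map T.val := by
      refine le_trans hT ?_
      have hCle : C ≤ T'.map T.val := by
        intro c hc
        refine ⟨Subalgebra.inclusion hCT ⟨c, hc⟩, ?_, rfl⟩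
        change π _ ∈ f.range
        rw [hπC]
        exact Subalgebra.algebraMap_mem _ _
      have hFle : F ≤ T'.map T.val := by
        intro x hx
        refine ⟨Subalgebra.inclusion hFT ⟨x, hx⟩, ?_, rfl⟩
        exact ⟨⟨x, hx⟩, rfl⟩
      exact sup_le hCle hFle
    intro r
    obtain ⟨t, rfl⟩ := Ideal.Quotient.mkₐ_surjective k I r
    obtain ⟨t', ht', htt⟩ := hle t.2
    have hteq : t' = t := Subtype.ext htt
    rw [hteq] at ht'
    exact ht'
  haveI : Algebra.FiniteType k ↥F := (Subalgebra.fg_iff_finiteType F).mp hF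
  haveI : Algebra.FiniteType k (↥T ⧸ I) := Algebra.FiniteType.of_surjective f hsurj
  obtain ⟨ψ, -⟩ := Groth.Agent.H48.exists_algHom_apply_ne_zero (k := k) (1 : ↥T ⧸ I)
    not_isNilpotent_one
  refine ⟨ψ.comp π, fun c => ?_⟩
  change ψ (π (Subalgebra.inclusion hCT c)) = φ c
  rw [hπC, AlgHom.commutes]
  rfl

/-- partial extensions of a point `g` of the Hopf subalgebra `B`. -/
structure Ext (B : Subalgebra k A) (g : ↥B →ₐ[k] k) where
  C : Subalgebra k A
  hC : IsHopfSub C
  hBC : B ≤ C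
  φ : ↥C →ₐ[k] k
  hφ : ∀ b : B, φ (Subalgebra.inclusion hBC b) = g b

namespace Ext

variable {B : Subalgebra k A} {g : ↥B →ₐ[k] k}

instance : Preorder (Ext B g) where
  le X Y := ∃ h : X.C ≤ Y.C, ∀ c : X.C, Y.φ (Subalgebra.inclusion h c) = X.φ c
  le_refl X := ⟨le_rfl, fun c => rfl⟩
  le_trans X Y Z := by
    rintro ⟨h1, h1'⟩ ⟨h2, h2'⟩
    refine ⟨h1.trans h2, fun c => ?_⟩
    rw [← h1' c, ← h2' (Subalgebra.inclusion h1 c)]
    rfl

theorem le_def (X Y : Ext B g) :
    X ≤ Y ↔ ∃ h : X.C ≤ Y.C, ∀ c : X.C, Y.φ (Subalgebra.inclusion h c) = X.φ c := Iff.rfl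

end Ext

/-- **Extension of rational points.** Over an algebraically closed field, a `k`-point of a Hopf
subalgebra of a commutative Hopf algebra extends to a `k`-point of the whole Hopf algebra. -/
theorem exists_extend [IsAlgClosed k] {B : Subalgebra k A} (hB : IsHopfSub B) (g : ↥B →ₐ[k] k) :
    ∃ g' : A →ₐ[k] k, ∀ b : B, g' b = g b := by
  classical
  haveI : Nonempty (Ext B g) := ⟨⟨B, hB, le_rfl, g, fun b => rfl⟩⟩
  obtain ⟨M, hM⟩ := zorn_le_nonempty (α := Ext B g) (by
    intro c hc hne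
    obtain ⟨X₀, hX₀⟩ := hne
    haveI : Nonempty ↥c := ⟨⟨X₀, hX₀⟩⟩
    let K : ↥c → Subalgebra k A := fun i => i.1.C
    have dir : Directed (· ≤ ·) K := by
      intro i j
      rcases hc.total i.2 j.2 with h | h
      · exact ⟨j, h.1, le_rfl⟩
      · exact ⟨i, le_rfl, h.1⟩
    let f : ∀ i : ↥c, ↥(K i) →ₐ[k] k := fun i => i.1.φ
    have hf : ∀ (i j : ↥c) (h : K i ≤ K j), f i = (f j).comp (Subalgebra.inclusion h) := by
      intro i j h
      apply AlgHom.ext
      intro x
      rcases hc.total i.2 j.2 with h' | h'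
      · obtain ⟨h1, h2⟩ := h'
        exact (h2 x).symm
      · obtain ⟨h1, h2⟩ := h'
        have := h2 (Subalgebra.inclusion h x)
        change f i (Subalgebra.inclusion h1 (Subalgebra.inclusion h x)) = _ at this
        have hx : Subalgebra.inclusion h1 (Subalgebra.inclusion h x) = x := Subtype.ext rfl
        rw [hx] at this
        exact this
    have hBU : B ≤ iSup K := X₀.hBC.trans (le_iSup K ⟨X₀, hX₀⟩)
    refine ⟨⟨iSup K, isHopfSub_iSup_of_directed K dir (fun i => i.1.hC), hBU,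
      Subalgebra.iSupLift K dir f hf (iSup K) le_rfl, ?_⟩, ?_⟩
    · intro b
      have hb : Subalgebra.inclusion hBU b =
          Subalgebra.inclusion (le_iSup K ⟨X₀, hX₀⟩) (Subalgebra.inclusion X₀.hBC b) :=
        Subtype.ext rfl
      rw [hb, Subalgebra.iSupLift_inclusion]
      exact X₀.hφ b
    · intro X hX
      refine ⟨le_iSup K ⟨X, hX⟩, fun x => ?_⟩
      exact Subalgebra.iSupLift_inclusion (K := K) (dir := dir) (f := f) (hf := hf)
        (i := ⟨X, hX⟩) x (le_iSup K ⟨X, hX⟩))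
  have hmem : ∀ a : A, a ∈ M.C := by
    intro a
    obtain ⟨F, haF, hFfg, hFhopf⟩ := Groth.Agent.H83.HopfFG.exists_fg_hopfSub (k := k) ({a} : Finset A)
    obtain ⟨φ', hφ'⟩ := exists_extend_sup M.hC hFfg M.φ (le_sup_left : M.C ≤ M.C ⊔ F)
      le_sup_right le_rfl
    let Y : Ext B g := ⟨M.C ⊔ F, isHopfSub_sup M.hC hFhopf, M.hBC.trans le_sup_left, φ', by
      intro b
      have hb : Subalgebra.inclusion (M.hBC.trans (le_sup_left : M.C ≤ M.C ⊔ F)) b =
          Subalgebra.inclusion (le_sup_left : M.C ≤ M.C ⊔ F) (Subalgebra.inclusion M.hBC b) :=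
        Subtype.ext rfl
      rw [hb, hφ']
      exact M.hφ b⟩
    have hMY : M ≤ Y := ⟨le_sup_left, hφ'⟩
    obtain ⟨h1, -⟩ := hM hMY
    apply h1
    apply (le_sup_right : F ≤ M.C ⊔ F)
    apply haF
    simp
  refine ⟨M.φ.comp (AlgHom.codRestrict (AlgHom.id k A) M.C hmem), fun b => ?_⟩
  rw [← M.hφ b]
  rfl

end Groth.Agent.H93.PointExt
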