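import Groth.Agent.H93.PointExt

/-! Lifting rational points along a homomorphism of commutative Hopf algebras which is surjective
on prime spectra (algebraically closed base field, no finiteness hypothesis). -/

set_option autoImplicit false
universe u v w

open TensorProduct

namespace Groth.Agent.H93.PointExt

open Groth.Agent.H93.HopfSub

variable {k : Type u} [Field k] {H : Type v} [CommRing H] [HopfAlgebra k H]
  {H' : Type w} [CommRing H'] [HopfAlgebra k H']

/-- if `φ : H' → H` is a map of commutative Hopf algebras over an algebraically closed field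
which is surjective on prime spectra, then every rational point of `H'` lifts to `H`. -/
theorem exists_lift_point [IsAlgClosed k] (φ : H' →ₐc[k] H)
    (hφ : Function.Surjective (PrimeSpectrum.comap ((φ : H' →ₐ[k] H) : H' →+* H)))
    (ψ : H' →ₐ[k] k) : ∃ g : H →ₐ[k] k, ∀ a, g (φ a) = ψ a := by
  classical
  have hker : ∀ a, φ a = 0 → ψ a = 0 := by
    intro a ha
    have hnil : a ∈ nilradical H' := by
      rw [nilradical_eq_sInf, Ideal.mem_sInf]
      intro p hp
      obtain ⟨q, hq⟩ := hφ ⟨p, hp⟩
      have h1 : a ∈ (PrimeSpectrum.comap ((φ : H' →ₐ[k] H) : H' →+* H) q).asIdeal := by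
        change φ a ∈ q.asIdeal
        rw [ha]
        exact zero_mem _
      rw [hq] at h1
      exact h1
    have h2 : IsNilpotent (ψ a) := (mem_nilradical.mp hnil).map ψ
    exact h2.eq_zero
  let B : Subalgebra k H := (φ : H' →ₐ[k] H).range
  have hB : IsHopfSub B := HopfFaithful.isHopfSub_range φ
  let ψ' : ↥B →ₐ[k] k := AlgHom.liftOfSurjective (φ : H' →ₐ[k] H).rangeRestrict
    (φ : H' →ₐ[k] H).rangeRestrict_surjective ψ (by
      intro a ha
      rw [RingHom.mem_ker] at ha ⊢
      apply hker a
      exact congrArg Subtype.val ha)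
  obtain ⟨g, hg⟩ := exists_extend hB ψ'
  refine ⟨g, fun a => ?_⟩
  have h1 := hg ((φ : H' →ₐ[k] H).rangeRestrict a)
  rw [AlgHom.liftOfSurjective_apply] at h1
  exact h1

end Groth.Agent.H93.PointExt
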