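import Groth.Agent.H93.PointLift
import Mathlib

open CategoryTheory MonoidalCategory CartesianMonoidalCategory MonObj GrpObj AlgebraicGeometry Opposite

universe u

namespace Groth.Agent.H93.PointSchemeLift

variable (k : Type u) [Field k]

/-- sections of `Spec H → Spec k` come from `k`-algebra maps `H → k`. -/
theorem exists_algHom_of_section (H : Type u) [CommRing H] [Algebra k H]
    (p : Spec (CommRingCat.of k) ⟶ Spec (CommRingCat.of H))
    (hp : p ≫ Spec.map (CommRingCat.ofHom (algebraMap k H)) = 𝟙 _) :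
    ∃ ψ : H →ₐ[k] k, p = Spec.map (CommRingCat.ofHom (ψ : H →+* k)) := by
  have h1 : Spec.map (Spec.preimage p) = p := Spec.map_preimage p
  have h2 : CommRingCat.ofHom (algebraMap k H) ≫ Spec.preimage p = 𝟙 _ := by
    apply Spec.map_injective
    rw [Spec.map_comp, h1, hp, Spec.map_id]
  refine ⟨⟨(Spec.preimage p).hom, fun r => ?_⟩, ?_⟩
  · have := congrArg (fun f => f.hom r) h2
    exact this
  · exact h1.symm

theorem spec_map_comp {A B C : Type u} [CommRing A] [CommRing B] [CommRing C] (f : A →+* B)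
    (g : B →+* C) : Spec.map (CommRingCat.ofHom g) ≫ Spec.map (CommRingCat.ofHom f) =
      Spec.map (CommRingCat.ofHom (g.comp f)) := by
  rw [← Spec.map_comp, ← CommRingCat.ofHom_comp]

theorem spec_map_section {H : Type u} [CommRing H] [Algebra k H] (g : H →ₐ[k] k) :
    Spec.map (CommRingCat.ofHom (g : H →+* k)) ≫ Spec.map (CommRingCat.ofHom (algebraMap k H)) =
      𝟙 _ := by
  rw [spec_map_comp]
  have : (g : H →+* k).comp (algebraMap k H) = RingHom.id k := by
    ext r
    exact g.commutes r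
  rw [this]
  exact Spec.map_id _

/-- a homomorphism of affine group schemes over an algebraically closed field which is surjective
on underlying spaces is surjective on rational points. -/
theorem points_surjective [IsAlgClosed k] (G G' : Over (Spec (CommRingCat.of k))) [GrpObj G]
    [GrpObj G'] [IsAffine G.left] [IsAffine G'.left] (h : G ⟶ G') [IsMonHom h]
    (hs : Surjective h.left) (x : 𝟙_ (Over (Spec (CommRingCat.of k))) ⟶ G') :
    ∃ g : 𝟙_ (Over (Spec (CommRingCat.of k))) ⟶ G, g ≫ h = x := by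
  obtain ⟨Hop, ⟨e⟩⟩ := (essImage_hopfSpec (R := CommRingCat.of k) (G := Grp.mk G)).mpr
    (inferInstance : IsAffine G.left)
  obtain ⟨Hop', ⟨e'⟩⟩ := (essImage_hopfSpec (R := CommRingCat.of k) (G := Grp.mk G')).mpr
    (inferInstance : IsAffine G'.left)
  let F := e.hom ≫ Grp.ofHom h ≫ e'.inv
  let f := (hopfSpec.fullyFaithful (R := CommRingCat.of k)).preimage F
  have hf : (hopfSpec (CommRingCat.of k)).map f = F :=
    (hopfSpec.fullyFaithful (R := CommRingCat.of k)).map_preimage F
  let iH : HopfAlgebra k Hop.unop := Hop.unop.hopfAlgebra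
  let iH' : HopfAlgebra k Hop'.unop := Hop'.unop.hopfAlgebra
  let φ : Hop'.unop →ₐc[k] Hop.unop := f.unop.hom
  have hleft : ((hopfSpec (CommRingCat.of k)).map f).hom.hom.left =
      Spec.map (CommRingCat.ofHom ((φ : Hop'.unop →ₐ[k] Hop.unop) : Hop'.unop →+* Hop.unop)) := rfl
  -- the point of `H'`
  let x' : 𝟙_ (Over (Spec (CommRingCat.of k))) ⟶ ((hopfSpec (CommRingCat.of k)).obj Hop').X :=
    x ≫ e'.inv.hom.hom
  have hx' : x'.left ≫ Spec.map (CommRingCat.ofHom (algebraMap k Hop'.unop)) = 𝟙 _ := Over.w x'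
  have key := exists_algHom_of_section k Hop'.unop
  obtain ⟨ψ, hψ⟩ := key x'.left hx'
  -- surjectivity on spectra
  have hsurj : Function.Surjective
      (PrimeSpectrum.comap ((φ : Hop'.unop →ₐ[k] Hop.unop) : Hop'.unop →+* Hop.unop)) := by
    have h1 : ((hopfSpec (CommRingCat.of k)).map f).hom.hom.left =
        e.hom.hom.hom.left ≫ h.left ≫ e'.inv.hom.hom.left := by
      rw [hf]; rfl
    have : IsIso e.hom.hom.hom.left :=
      ((Grp.forget _ ⋙ Over.forget _).mapIso e).isIso_hom
    have : IsIso e'.inv.hom.hom.left :=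
      ((Grp.forget _ ⋙ Over.forget _).mapIso e').isIso_inv
    have := hs
    have h2 : Surjective (((hopfSpec (CommRingCat.of k)).map f).hom.hom.left) := by
      rw [h1]; infer_instance
    rw [hleft] at h2
    exact h2.surj
  obtain ⟨g, hg⟩ := Groth.Agent.H93.PointExt.exists_lift_point φ hsurj ψ
  let gH : 𝟙_ (Over (Spec (CommRingCat.of k))) ⟶ ((hopfSpec (CommRingCat.of k)).obj Hop).X :=
    Over.homMk (Spec.map (CommRingCat.ofHom (g : Hop.unop →+* k))) (spec_map_section k g)
  refine ⟨gH ≫ e.hom.hom.hom, ?_⟩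
  have h3 : e.hom ≫ Grp.ofHom h = (hopfSpec (CommRingCat.of k)).map f ≫ e'.hom := by
    rw [hf]
    simp [F]
  have h4 : e.hom.hom.hom ≫ h =
      ((hopfSpec (CommRingCat.of k)).map f).hom.hom ≫ e'.hom.hom.hom :=
    congrArg (fun m => m.hom.hom) h3
  rw [Category.assoc, h4, ← Category.assoc]
  have h5 : gH ≫ ((hopfSpec (CommRingCat.of k)).map f).hom.hom = x' := by
    apply Over.OverMorphism.ext
    change Spec.map _ ≫ ((hopfSpec (CommRingCat.of k)).map f).hom.hom.left = x'.left
    rw [hleft, hψ]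
    refine (spec_map_comp _ _).trans ?_
    congr 2
    ext a
    exact hg a
  rw [h5]
  change (x ≫ e'.inv.hom.hom) ≫ e'.hom.hom.hom = x
  rw [Category.assoc]
  have h6 : e'.inv.hom.hom ≫ e'.hom.hom.hom = 𝟙 _ :=
    congrArg (fun m => m.hom.hom) e'.inv_hom_id
  rw [h6, Category.comp_id]

end Groth.Agent.H93.PointSchemeLift
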