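import Mathlib
import Groth.Agent.H93.AcyclicSub

/-!
# `J^(n+m) ⊗ K → J^m ⊗ K` is zero in the derived category when `J` kills `H^*(K)` (helper93)

`K` a bounded complex of finite projective modules over a Noetherian ring `A`, `J` an ideal killing
all cohomology of `K`.  By Artin–Rees there is `c'` with `Z^{q+1} ∩ J^{e+c'} K^{q+1} ⊆ d(J^e K^q)`.
With `L i q = J^{m+i c'} K^q` the family `C^q = L_{i_q}^q + d(L_{i_{q-1}}^{q-1})`,
`i_q = q - a + 1`, is an exact subcomplex of `J^m K` containing `J^{m+N c'} K`.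
-/

set_option autoImplicit false

open CategoryTheory Limits MonoidalCategory TensorProduct

namespace Groth.Agent.H93.PowTensorZero

universe w u

variable {A : Type u} [CommRing A]

section Homology

/-- If `x` kills the homology of `K` in degree `q+1`, then `x • z` is a boundary for every
cycle `z`. -/
lemma exists_d_eq_smul (K : CochainComplex (ModuleCat.{u} A) ℤ) (q : ℤ) (x : A)
    (hx : ∀ c : ↑(K.homology (q + 1)), x • c = 0) (z : K.X (q + 1))
    (hz : (K.d (q + 1) (q + 1 + 1)).hom z = 0) :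
    ∃ w : K.X q, (K.d q (q + 1)).hom w = x • z := by
  have hi : (ComplexShape.up ℤ).prev (q + 1) = q := by simp
  have hk : (ComplexShape.up ℤ).next (q + 1) = q + 1 + 1 := by simp
  let S := K.sc' q (q + 1) (q + 1 + 1)
  let e : K.homology (q + 1) ≅ S.moduleCatLeftHomologyData.H :=
    ShortComplex.homologyMapIso (K.isoSc' q (q + 1) (q + 1 + 1) hi hk) ≪≫ S.moduleCatHomologyIso
  let E := e.toLinearEquiv
  let c : LinearMap.ker S.g.hom := ⟨z, hz⟩
  have h0 : x • (LinearMap.range S.moduleCatToCycles).mkQ c = 0 := by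
    have := hx (E.symm ((LinearMap.range S.moduleCatToCycles).mkQ c))
    have h2 := congrArg E this
    rwa [map_smul, LinearEquiv.apply_symm_apply, map_zero] at h2
  rw [← map_smul, Submodule.mkQ_apply, Submodule.Quotient.mk_eq_zero] at h0
  obtain ⟨w, hw⟩ := h0
  exact ⟨w, congrArg Subtype.val hw⟩

end Homology

section AR

variable [IsNoetherianRing A] (J : Ideal A)

lemma ar_single {M : Type u} [AddCommGroup M] [Module A M] [Module.Finite A M]
    (Z : Submodule A M) :
    ∃ c : ℕ, ∀ m : ℕ, Z ⊓ (J ^ (m + c) • (⊤ : Submodule A M)) ≤ J ^ m • Z := by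
  obtain ⟨k, hk⟩ := J.exists_pow_inf_eq_pow_smul Z
  refine ⟨k, fun m => ?_⟩
  rw [inf_comm, hk (m + k) (Nat.le_add_left _ _), Nat.add_sub_cancel]
  exact Submodule.smul_mono le_rfl inf_le_right

end AR

section MulMap

variable (I : Ideal A) (M : Type u) [AddCommGroup M] [Module A M]

/-- The multiplication map `I ⊗ M → M`. -/
noncomputable def mulMap : (↥I ⊗[A] M) →ₗ[A] M :=
  (TensorProduct.lid A M).toLinearMap ∘ₗ (Submodule.subtype I).rTensor M

@[simp] lemma mulMap_tmul (x : I) (k : M) : mulMap I M (x ⊗ₜ k) = (x : A) • k := by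
  simp [mulMap]

lemma mulMap_injective [Module.Flat A M] : Function.Injective (mulMap I M) := by
  unfold mulMap
  rw [LinearMap.coe_comp]
  exact (TensorProduct.lid A M).injective.comp
    (Module.Flat.rTensor_preserves_injective_linearMap _ (Submodule.injective_subtype I))

lemma mulMap_mem (y : ↥I ⊗[A] M) : mulMap I M y ∈ I • (⊤ : Submodule A M) := by
  induction y using TensorProduct.induction_on with
  | zero => simp
  | tmul x k => rw [mulMap_tmul]; exact Submodule.smul_mem_smul x.2 trivial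
  | add y₁ y₂ h₁ h₂ => rw [map_add]; exact add_mem h₁ h₂

lemma exists_mulMap_eq {k : M} (hk : k ∈ I • (⊤ : Submodule A M)) :
    ∃ y : ↥I ⊗[A] M, mulMap I M y = k := by
  refine Submodule.smul_induction_on hk (fun r hr n _ => ⟨(⟨r, hr⟩ : I) ⊗ₜ n, by simp⟩) ?_
  rintro x y ⟨x', rfl⟩ ⟨y', rfl⟩
  exact ⟨x' + y', map_add _ _ _⟩

variable {M}

lemma mulMap_lTensor {N : Type u} [AddCommGroup N] [Module A N] (f : M →ₗ[A] N)
    (y : ↥I ⊗[A] M) : mulMap I N (f.lTensor I y) = f (mulMap I M y) := by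
  induction y using TensorProduct.induction_on with
  | zero => simp
  | tmul x k => simp
  | add y₁ y₂ h₁ h₂ => simp only [map_add, h₁, h₂]

lemma mulMap_rTensor_inclusion {I I' : Ideal A} (h : I ≤ I') (y : ↥I ⊗[A] M) :
    mulMap I' M ((Submodule.inclusion h).rTensor M y) = mulMap I M y := by
  induction y using TensorProduct.induction_on with
  | zero => simp
  | tmul x k => simp
  | add y₁ y₂ h₁ h₂ => simp only [map_add, h₁, h₂]

end MulMap

section Main

variable [IsNoetherianRing A] (K : CochainComplex (ModuleCat.{u} A) ℤ) (a b : ℤ)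
    (hK : ∀ q : ℤ, q < a ∨ b < q → IsZero (K.X q))
    (hfin : ∀ q : ℤ, Module.Finite A (K.X q))
    (J : Ideal A) (hJ : ∀ q : ℤ, ∀ x ∈ J, ∀ c : ↑(K.homology q), x • c = 0)

/-- cycles -/
def Zc (q : ℤ) : Submodule A (K.X q) := LinearMap.ker (K.d q (q + 1)).hom

include hK hfin in
lemma exists_uniform : ∃ c : ℕ, ∀ q : ℤ, ∀ m : ℕ,
    Zc K q ⊓ (J ^ (m + c) • (⊤ : Submodule A (K.X q))) ≤ J ^ m • Zc K q := by
  have h1 : ∀ q : ℤ, ∃ c : ℕ, ∀ m : ℕ,
      Zc K q ⊓ (J ^ (m + c) • (⊤ : Submodule A (K.X q))) ≤ J ^ m • Zc K q := fun q => by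
    haveI := hfin q
    exact ar_single J (Zc K q)
  choose cq hcq using h1
  refine ⟨(Finset.Icc a b).sup cq, fun q m => ?_⟩
  by_cases hq : a ≤ q ∧ q ≤ b
  · have hle : cq q ≤ (Finset.Icc a b).sup cq := Finset.le_sup (Finset.mem_Icc.2 hq)
    refine le_trans (inf_le_inf_left _ (Submodule.smul_mono_left ?_)) (hcq q m)
    exact Ideal.pow_le_pow_right (by omega)
  · haveI : Subsingleton (K.X q) := ModuleCat.subsingleton_of_isZero (hK q (by omega))
    exact le_of_eq (Subsingleton.elim _ _)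

include hJ in
lemma key (c : ℕ)
    (hc : ∀ q : ℤ, ∀ m : ℕ,
      Zc K q ⊓ (J ^ (m + c) • (⊤ : Submodule A (K.X q))) ≤ J ^ m • Zc K q)
    (q : ℤ) (e : ℕ) (u : K.X (q + 1))
    (hu : u ∈ J ^ (e + (c + 1)) • (⊤ : Submodule A (K.X (q + 1))))
    (hdu : (K.d (q + 1) (q + 1 + 1)).hom u = 0) :
    ∃ v ∈ J ^ e • (⊤ : Submodule A (K.X q)), (K.d q (q + 1)).hom v = u := by
  have h1 : u ∈ J ^ (e + 1) • Zc K (q + 1) := by
    apply hc (q + 1) (e + 1)
    refine ⟨hdu, ?_⟩
    rwa [show e + 1 + c = e + (c + 1) by ring]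
  have h2 : J • Zc K (q + 1) ≤ Submodule.map (K.d q (q + 1)).hom ⊤ := by
    rw [Submodule.smul_le]
    intro x hx z hz
    obtain ⟨w, hw⟩ := exists_d_eq_smul K q x (hJ (q + 1) x hx) z hz
    exact ⟨w, trivial, hw⟩
  have h3 : J ^ (e + 1) • Zc K (q + 1) ≤
      Submodule.map (K.d q (q + 1)).hom (J ^ e • (⊤ : Submodule A (K.X q))) := by
    rw [pow_succ, Submodule.mul_smul, Submodule.map_smul'']
    exact Submodule.smul_mono le_rfl h2
  obtain ⟨v, hv, hvu⟩ := h3 h1
  exact ⟨v, hv, hvu⟩

variable [HasDerivedCategory.{w} (ModuleCat.{u} A)]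

include hK hfin hJ in
theorem main (hproj : ∀ q : ℤ, Module.Projective A (K.X q)) :
    ∃ n : ℕ, ∀ m : ℕ, 0 < m →
      DerivedCategory.Q.map
        ((NatTrans.mapHomologicalComplex
          ((curriedTensor (ModuleCat.{u} A)).map
            (ModuleCat.ofHom (Submodule.inclusion (p := J ^ (n + m)) (p' := J ^ m)
              (Ideal.pow_le_pow_right (Nat.le_add_left m n)))))
          (ComplexShape.up ℤ)).app K) = 0 := by
  obtain ⟨c, hc⟩ := exists_uniform K a b hK hfin J
  refine ⟨(b - a + 1).toNat * (c + 1), fun m _ => ?_⟩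
  -- notation
  let idx : ℤ → ℕ := fun q => (q - a + 1).toNat
  let L : ℕ → ∀ q : ℤ, Submodule A (K.X q) := fun i q => J ^ (m + i * (c + 1)) • ⊤
  let CK : ∀ p q : ℤ, Submodule A (K.X q) :=
    fun p q => L (idx q) q ⊔ (L (idx p) p).map (K.d p q).hom
  let Y := (((curriedTensor (ModuleCat.{u} A)).obj
    (ModuleCat.of A ↥(J ^ m))).mapHomologicalComplex (ComplexShape.up ℤ)).obj K
  let ι : ∀ q, ↑(Y.X q) →ₗ[A] ↑(K.X q) := fun q => mulMap (J ^ m) (K.X q)
  have hιd : ∀ q (y : ↑(Y.X q)),
      ι (q + 1) ((Y.d q (q + 1)).hom y) = (K.d q (q + 1)).hom (ι q y) := fun q y =>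
    mulMap_lTensor (J ^ m) (K.d q (q + 1)).hom y
  have hιinj : ∀ q, Function.Injective (ι q) := fun q => by
    haveI := hproj q
    exact mulMap_injective _ _
  have hdd : ∀ p q r (x : K.X p), (K.d q r).hom ((K.d p q).hom x) = 0 := fun p q r x =>
    LinearMap.congr_fun (congrArg ModuleCat.Hom.hom (K.d_comp_d p q r)) x
  have hLmono : ∀ i j q, i ≤ j → L j q ≤ L i q := fun i j q hij =>
    Submodule.smul_mono_left (Ideal.pow_le_pow_right (by
      have := Nat.mul_le_mul_right (c + 1) hij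
      omega))
  have hLrange : ∀ i q (k : K.X q), k ∈ L i q → ∃ y : ↑(Y.X q), ι q y = k := fun i q k hk => by
    have h0 : k ∈ L 0 q := hLmono 0 i q (Nat.zero_le _) hk
    have h0' : k ∈ J ^ m • (⊤ : Submodule A (K.X q)) := by simpa [L] using h0
    exact exists_mulMap_eq (J ^ m) (K.X q) h0'
  apply AcyclicSub.Q_map_eq_zero_of_range_le_exact Y (fun q => (CK (q - 1) q).comap (ι q))
  · -- stability under d
    intro q y hy
    rw [Submodule.mem_comap] at hy ⊢
    rw [show q + 1 - 1 = q by ring, hιd]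
    obtain ⟨u, hu, w, hw, huw⟩ := Submodule.mem_sup.1 hy
    obtain ⟨v, hv, rfl⟩ := hw
    rw [← huw, map_add, hdd, add_zero]
    exact Submodule.mem_sup_right ⟨u, hu, rfl⟩
  · -- exactness
    intro q y hy hdy
    rw [Submodule.mem_comap, show q + 1 - 1 = q by ring] at hy
    by_cases hq : q + 1 < a
    · haveI : Subsingleton (K.X (q + 1)) := ModuleCat.subsingleton_of_isZero (hK _ (Or.inl hq))
      refine ⟨0, Submodule.zero_mem _, ?_⟩
      rw [map_zero]
      exact hιinj (q + 1) (Subsingleton.elim _ _)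
    · obtain ⟨u, hu, w, hw, huw⟩ := Submodule.mem_sup.1 hy
      obtain ⟨v, hv, rfl⟩ := hw
      have hdu : (K.d (q + 1) (q + 1 + 1)).hom u = 0 := by
        have h1 : (K.d (q + 1) (q + 1 + 1)).hom (ι (q + 1) y) = 0 := by
          rw [← hιd, hdy, map_zero]
        rw [← huw, map_add, hdd, add_zero] at h1
        exact h1
      have hidx : idx (q + 1) = idx q + 1 := by
        simp only [idx]
        omega
      have hu' : u ∈ J ^ (m + idx q * (c + 1) + (c + 1)) • (⊤ : Submodule A (K.X (q + 1))) := by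
        have : m + idx (q + 1) * (c + 1) = m + idx q * (c + 1) + (c + 1) := by
          rw [hidx]; ring
        rw [← this]
        exact hu
      obtain ⟨v', hv', hv'u⟩ := key K J hJ c hc q (m + idx q * (c + 1)) u hu' hdu
      have hvv : v' + v ∈ L (idx q) q := add_mem hv' hv
      obtain ⟨w, hw⟩ := hLrange (idx q) q (v' + v) hvv
      refine ⟨w, ?_, ?_⟩
      · rw [Submodule.mem_comap, hw]
        exact Submodule.mem_sup_left hvv
      · apply hιinj (q + 1)
        rw [hιd, hw, map_add, hv'u, huw]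
  · -- the image of the map lies in the family
    intro q x
    rw [Submodule.mem_comap]
    have h1 : ι q ((((NatTrans.mapHomologicalComplex
          ((curriedTensor (ModuleCat.{u} A)).map
            (ModuleCat.ofHom (Submodule.inclusion (p := J ^ ((b - a + 1).toNat * (c + 1) + m))
              (p' := J ^ m)
              (Ideal.pow_le_pow_right (Nat.le_add_left m ((b - a + 1).toNat * (c + 1)))))))
          (ComplexShape.up ℤ)).app K).f q).hom x) =
        mulMap (J ^ ((b - a + 1).toNat * (c + 1) + m)) (K.X q) x :=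
      mulMap_rTensor_inclusion
        (Ideal.pow_le_pow_right (Nat.le_add_left m ((b - a + 1).toNat * (c + 1)))) x
    rw [h1]
    by_cases hq : q ≤ b
    · refine Submodule.mem_sup_left ?_
      have h2 := mulMap_mem (J ^ ((b - a + 1).toNat * (c + 1) + m)) (K.X q) x
      have h3 : idx q ≤ (b - a + 1).toNat := Int.toNat_le_toNat (by omega)
      have h4 := hLmono _ _ q h3
      apply h4
      simpa [L, add_comm] using h2
    · haveI : Subsingleton (K.X q) := ModuleCat.subsingleton_of_isZero (hK _ (Or.inr (by omega)))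
      rw [Subsingleton.elim (mulMap _ _ x) 0]
      exact Submodule.zero_mem _

end Main

end Groth.Agent.H93.PowTensorZero
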