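import Mathlib

/-!
# Derivations of `R[x]/(x^p - a)` in characteristic `p`
-/

set_option autoImplicit false
set_option linter.unusedSectionVars false
universe u
open Polynomial

noncomputable section

namespace Groth.Agent.H93.PthTr

/-- the op-module structure on a module over a commutative ring -/
@[reducible] def opModule (S M : Type*) [CommRing S] [AddCommGroup M] [Module S M] : Module Sᵐᵒᵖ M :=
  Module.compHom M ((RingEquiv.toOpposite S).symm : Sᵐᵒᵖ →+* S)

lemma opModule_central (S M : Type*) [CommRing S] [AddCommGroup M] [Module S M] :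
    let _ := opModule S M
    IsCentralScalar S M := by
  let _ := opModule S M
  exact ⟨fun s m => rfl⟩

section Der

variable {Λ S M : Type*} [CommRing Λ] [CommRing S] [Algebra Λ S] [AddCommGroup M] [Module S M]
  [Module Λ M] [IsScalarTower Λ S M] [Module Sᵐᵒᵖ M] [IsCentralScalar S M]

/-- A ring hom into the trivial square zero extension which is a section of the projection and
trivial on `Λ` gives a derivation. -/
def derOfHom (φ : S →+* TrivSqZeroExt S M) (h1 : ∀ s, (φ s).fst = s)
    (h2 : ∀ l : Λ, (φ (algebraMap Λ S l)).snd = 0) : Derivation Λ S M :=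
  Derivation.mk'
    { toFun := fun s => (φ s).snd
      map_add' := fun x y => by rw [map_add, TrivSqZeroExt.snd_add]
      map_smul' := fun l s => by
        rw [Algebra.smul_def, map_mul, TrivSqZeroExt.snd_mul, h1, h1, h2, smul_zero, add_zero,
          RingHom.id_apply, algebraMap_smul] }
    (fun x y => by
      change (φ (x * y)).snd = x • (φ y).snd + y • (φ x).snd
      rw [map_mul, TrivSqZeroExt.snd_mul, h1, h1, op_smul_eq_smul])

@[simp] lemma derOfHom_apply (φ : S →+* TrivSqZeroExt S M) (h1 : ∀ s, (φ s).fst = s)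
    (h2 : ∀ l : Λ, (φ (algebraMap Λ S l)).snd = 0) (s : S) :
    derOfHom φ h1 h2 s = (φ s).snd := rfl

end Der

end Groth.Agent.H93.PthTr

namespace Groth.Agent.H93.PthTr

/-- the ring `R[x]/(x^p - a)` -/
abbrev Sp (p : ℕ) {R : Type*} [CommRing R] (a : R) := AdjoinRoot (X ^ p - C a : R[X])

section AR

variable (p : ℕ) [Fact p.Prime] {Λ R : Type*} [CommRing Λ] [CommRing R] [Algebra Λ R]
  [CharP R p] (a : R)

variable {M : Type*} [AddCommGroup M] [Module (Sp p a) M] [Module R M] [IsScalarTower R (Sp p a) M]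
  [Module Λ M] [IsScalarTower Λ R M] [Module (Sp p a)ᵐᵒᵖ M] [IsCentralScalar (Sp p a) M]

/-- the ring hom `R → S ⊕ εM` attached to a derivation -/
def baseHom (d : Derivation Λ R M) : R →+* TrivSqZeroExt (Sp p a) M where
  toFun r := TrivSqZeroExt.inl (algebraMap R (Sp p a) r) + TrivSqZeroExt.inr (d r)
  map_one' := by
    rw [map_one, Derivation.map_one_eq_zero, TrivSqZeroExt.inr_zero, add_zero]
    rfl
  map_mul' x y := by
    apply TrivSqZeroExt.ext
    · simp
    · simp only [TrivSqZeroExt.snd_add, TrivSqZeroExt.snd_inl, TrivSqZeroExt.snd_inr, zero_add,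
        TrivSqZeroExt.snd_mul, TrivSqZeroExt.fst_add, TrivSqZeroExt.fst_inl, TrivSqZeroExt.fst_inr,
        add_zero, Derivation.leibniz, op_smul_eq_smul, algebraMap_smul]
  map_zero' := by
    rw [map_zero, map_zero, TrivSqZeroExt.inr_zero, add_zero]
    rfl
  map_add' x y := by
    rw [map_add, map_add, TrivSqZeroExt.inl_add, TrivSqZeroExt.inr_add]
    abel

omit [Fact p.Prime] [CharP R p] in
lemma root_pow : (AdjoinRoot.root (X ^ p - C a : R[X])) ^ p = algebraMap R (Sp p a) a := by
  have h := AdjoinRoot.eval₂_root (X ^ p - C a : R[X])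
  rw [eval₂_sub, eval₂_pow, eval₂_X, eval₂_C, sub_eq_zero] at h
  exact h

omit [Fact p.Prime] in
lemma natCast_eq_zero : ((p : ℕ) : Sp p a) = 0 := by
  rw [← map_natCast (algebraMap R (Sp p a)) p, CharP.cast_eq_zero, map_zero]

omit [Fact p.Prime] [Module R M] [IsScalarTower R (Sp p a) M] [Module (Sp p a)ᵐᵒᵖ M]
  [IsCentralScalar (Sp p a) M] in
lemma nat_smul_eq_zero (s : Sp p a) (m : M) : (p : ℕ) • (s • m) = 0 := by
  rw [← Nat.cast_smul_eq_nsmul (Sp p a), natCast_eq_zero, zero_smul]

/-- the ring hom `S → S ⊕ εM` attached to a derivation killing `a` and an element `m` -/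
def liftHom (d : Derivation Λ R M) (hd : d a = 0) (m : M) : Sp p a →+* TrivSqZeroExt (Sp p a) M :=
  AdjoinRoot.lift (baseHom p a d)
    (TrivSqZeroExt.inl (AdjoinRoot.root (X ^ p - C a : R[X])) + TrivSqZeroExt.inr m) (by
      rw [eval₂_sub, eval₂_pow, eval₂_X, eval₂_C, sub_eq_zero]
      apply TrivSqZeroExt.ext
      · simp [baseHom, root_pow]
      · rw [TrivSqZeroExt.snd_pow]
        simp only [baseHom, RingHom.coe_mk, MonoidHom.coe_mk, OneHom.coe_mk, hd,
          TrivSqZeroExt.inr_zero, add_zero, TrivSqZeroExt.snd_inl]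
        exact nat_smul_eq_zero p a _ _)

variable [IsScalarTower Λ (Sp p a) M]

lemma liftHom_fst (d : Derivation Λ R M) (hd : d a = 0) (m : M) (s : Sp p a) :
    (liftHom p a d hd m s).fst = s := by
  have : ((TrivSqZeroExt.fstHom (Sp p a) (Sp p a) M).toRingHom).comp (liftHom p a d hd m) =
      RingHom.id (Sp p a) := by
    apply AdjoinRoot.ringHom_ext
    · ext r
      simp [liftHom, baseHom]
    · simp [liftHom]
  exact congrFun (congrArg DFunLike.coe this) s

lemma liftHom_of (d : Derivation Λ R M) (hd : d a = 0) (m : M) (r : R) :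
    liftHom p a d hd m (algebraMap R (Sp p a) r) =
      TrivSqZeroExt.inl (algebraMap R (Sp p a) r) + TrivSqZeroExt.inr (d r) := by
  unfold liftHom
  rw [AdjoinRoot.algebraMap_eq, AdjoinRoot.lift_of]
  rfl

lemma liftHom_root (d : Derivation Λ R M) (hd : d a = 0) (m : M) :
    liftHom p a d hd m (AdjoinRoot.root _) =
      TrivSqZeroExt.inl (AdjoinRoot.root (X ^ p - C a : R[X])) + TrivSqZeroExt.inr m := by
  unfold liftHom
  rw [AdjoinRoot.lift_root]

/-- the derivation of `S = R[x]/(x^p-a)` extending a derivation `d` of `R` with `d a = 0`,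
with prescribed value at `x` -/
def pthDer (d : Derivation Λ R M) (hd : d a = 0) (m : M) : Derivation Λ (Sp p a) M :=
  derOfHom (liftHom p a d hd m) (liftHom_fst p a d hd m) (fun l => by
    rw [IsScalarTower.algebraMap_apply Λ R (Sp p a), liftHom_of]
    simp)

lemma pthDer_of (d : Derivation Λ R M) (hd : d a = 0) (m : M) (r : R) :
    pthDer p a d hd m (algebraMap R (Sp p a) r) = d r := by
  rw [pthDer, derOfHom_apply, liftHom_of]
  simp

lemma pthDer_root (d : Derivation Λ R M) (hd : d a = 0) (m : M) :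
    pthDer p a d hd m (AdjoinRoot.root _) = m := by
  rw [pthDer, derOfHom_apply, liftHom_root]
  simp

end AR

end Groth.Agent.H93.PthTr
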