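import Mathlib

/-!
# Exterior algebra lemmas: right multiplication by `ι n₀` descends to the quotient by `n₀`;
contraction kills the image of a map; graded projection
-/

set_option autoImplicit false
set_option linter.unusedSectionVars false
universe u

noncomputable section

namespace Groth.Agent.H93.PthTr

open ExteriorAlgebra

variable {R : Type*} [CommRing R] {N : Type*} [AddCommGroup N] [Module R N]

lemma exists_ι_mul (m : N) (ω : ExteriorAlgebra R N) :
    ∃ ω' : ExteriorAlgebra R N, ι R m * ω = ω' * ι R m := by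
  induction ω using ExteriorAlgebra.induction with
  | algebraMap r => exact ⟨algebraMap R _ r, (Algebra.commutes r _).symm⟩
  | ι n =>
    refine ⟨-ι R n, ?_⟩
    rw [neg_mul, eq_neg_iff_add_eq_zero]
    exact ι_add_mul_swap m n
  | mul a b ha hb =>
    obtain ⟨a', ha'⟩ := ha
    obtain ⟨b', hb'⟩ := hb
    exact ⟨a' * b', by rw [← mul_assoc, ha', mul_assoc, hb', mul_assoc]⟩
  | add a b ha hb =>
    obtain ⟨a', ha'⟩ := ha
    obtain ⟨b', hb'⟩ := hb
    exact ⟨a' + b', by rw [mul_add, ha', hb', add_mul]⟩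

lemma ι_mul_mul_ι (m : N) (ω : ExteriorAlgebra R N) : ι R m * (ω * ι R m) = 0 := by
  obtain ⟨ω', h⟩ := exists_ι_mul m ω
  rw [← mul_assoc, h, mul_assoc, ι_sq_zero, mul_zero]

variable (R) (n₀ : N)

/-- the left ideal `∧N · ι n₀`, as a submodule -/
def LL : Submodule R (ExteriorAlgebra R N) := LinearMap.range (LinearMap.mulRight R (ι R n₀))

lemma ι_mem_LL : ι R n₀ ∈ LL R n₀ := ⟨1, by simp⟩

lemma mul_mem_LL (x : ExteriorAlgebra R N) {y : ExteriorAlgebra R N} (hy : y ∈ LL R n₀) :
    x * y ∈ LL R n₀ := by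
  obtain ⟨z, rfl⟩ := hy
  exact ⟨x * z, by simp [mul_assoc]⟩

/-- left multiplication by `ι n` on `LL` -/
def g₀ : N →ₗ[R] Module.End R (LL R n₀) where
  toFun n := (LinearMap.mulLeft R (ι R n)).restrict (fun y hy => mul_mem_LL R n₀ (ι R n) hy)
  map_add' x y := by
    ext z
    simp [add_mul]
  map_smul' r x := by
    ext z
    simp

lemma g₀_apply (n : N) (y : LL R n₀) : ((g₀ R n₀ n y : LL R n₀) : ExteriorAlgebra R N) = ι R n * y := rfl

lemma g₀_self : g₀ R n₀ n₀ = 0 := by
  ext y
  obtain ⟨y, z, rfl⟩ := y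
  rw [g₀_apply]
  simp only [LinearMap.mulRight_apply, LinearMap.zero_apply, ZeroMemClass.coe_zero]
  exact ι_mul_mul_ι n₀ z

lemma span_le_ker_g₀ : Submodule.span R {n₀} ≤ LinearMap.ker (g₀ R n₀) := by
  rw [Submodule.span_singleton_le_iff_mem, LinearMap.mem_ker]
  exact g₀_self R n₀

/-- left multiplication on `LL`, descended to the quotient by `n₀` -/
def gq : (N ⧸ Submodule.span R {n₀}) →ₗ[R] Module.End R (LL R n₀) :=
  Submodule.liftQ (R₂ := R) (M₂ := Module.End R (LL R n₀)) (τ₁₂ := RingHom.id R)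
    (Submodule.span R {n₀}) (g₀ R n₀) (span_le_ker_g₀ R n₀)

lemma gq_mk (n : N) : gq R n₀ (Submodule.Quotient.mk n) = g₀ R n₀ n := by
  unfold gq
  exact Submodule.liftQ_apply (R₂ := R) (M₂ := Module.End R (LL R n₀)) (τ₁₂ := RingHom.id R)
    (Submodule.span R {n₀}) (g₀ R n₀) n

lemma gq_sq (x : N ⧸ Submodule.span R {n₀}) : gq R n₀ x * gq R n₀ x = 0 := by
  obtain ⟨n, rfl⟩ := Submodule.Quotient.mk_surjective _ x
  rw [gq_mk]
  ext y
  rw [Module.End.mul_apply, g₀_apply, g₀_apply, ← mul_assoc, ι_sq_zero, zero_mul]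
  rfl

/-- the algebra map `∧(N/n₀) → End(LL)` -/
def Lam : ExteriorAlgebra R (N ⧸ Submodule.span R {n₀}) →ₐ[R] Module.End R (LL R n₀) :=
  ExteriorAlgebra.lift R ⟨gq R n₀, gq_sq R n₀⟩

/-- right multiplication by `ι n₀`, descended to `∧(N/n₀)` -/
def mu : ExteriorAlgebra R (N ⧸ Submodule.span R {n₀}) →ₗ[R] ExteriorAlgebra R N :=
  (LL R n₀).subtype ∘ₗ (LinearMap.applyₗ (⟨ι R n₀, ι_mem_LL R n₀⟩ : LL R n₀)) ∘ₗ (Lam R n₀).toLinearMap

lemma mu_apply (x : ExteriorAlgebra R (N ⧸ Submodule.span R {n₀})) :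
    mu R n₀ x = ((Lam R n₀ x) ⟨ι R n₀, ι_mem_LL R n₀⟩ : LL R n₀) := rfl

lemma Lam_ιMulti {k : ℕ} (v : Fin k → N) (y : LL R n₀) :
    ((Lam R n₀ (ιMulti R k (fun j => Submodule.Quotient.mk (v j))) y : LL R n₀) :
      ExteriorAlgebra R N) = ιMulti R k v * y := by
  induction k with
  | zero =>
    rw [ιMulti_zero_apply, ιMulti_zero_apply, map_one, one_mul]
    rfl
  | succ k ih =>
    rw [ιMulti_succ_apply, ιMulti_succ_apply, map_mul, Module.End.mul_apply]
    unfold Lam
    rw [ExteriorAlgebra.lift_ι_apply]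
    change ((gq R n₀ (Submodule.Quotient.mk (v 0))) _ : LL R n₀).1 = _
    rw [gq_mk, g₀_apply]
    have := ih (Matrix.vecTail v)
    unfold Lam at this
    have e : (Matrix.vecTail fun j => (Submodule.Quotient.mk (v j) : N ⧸ Submodule.span R {n₀})) =
        fun j => Submodule.Quotient.mk (Matrix.vecTail v j) := rfl
    rw [e, this, mul_assoc]

lemma mu_ιMulti {k : ℕ} (v : Fin k → N) :
    mu R n₀ (ιMulti R k (fun j => Submodule.Quotient.mk (v j))) = ιMulti R k v * ι R n₀ := by
  rw [mu_apply, Lam_ιMulti]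

/-- contraction by a functional killing the image of `j` kills the image of `map j` -/
lemma contractRight_map_eq_zero {N' : Type*} [AddCommGroup N'] [Module R N'] (j : N' →ₗ[R] N)
    (d : Module.Dual R N) (hd : d ∘ₗ j = 0) (y : ExteriorAlgebra R N') :
    CliffordAlgebra.contractRight (Q := (0 : QuadraticForm R N)) (ExteriorAlgebra.map j y) d = 0 := by
  induction y using CliffordAlgebra.right_induction with
  | algebraMap r =>
    have : ExteriorAlgebra.map j (algebraMap R (CliffordAlgebra (0 : QuadraticForm R N')) r) =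
        algebraMap R (CliffordAlgebra (0 : QuadraticForm R N)) r :=
      (ExteriorAlgebra.map j).commutes r
    rw [this]
    exact CliffordAlgebra.contractRight_algebraMap (Q := (0 : QuadraticForm R N)) d r
  | add x y hx hy => rw [map_add, LinearMap.map_add₂, hx, hy, add_zero]
  | mul_ι m x hx =>
    rw [map_mul]
    have : ExteriorAlgebra.map j (CliffordAlgebra.ι 0 m) = CliffordAlgebra.ι 0 (j m) :=
      ExteriorAlgebra.map_apply_ι j m
    rw [this, CliffordAlgebra.contractRight_mul_ι, hx, zero_mul, sub_zero]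
    have : d (j m) = 0 := LinearMap.congr_fun hd m
    rw [this, zero_smul]

lemma ιMulti_snoc {k : ℕ} (v : Fin k → N) (x : N) :
    ιMulti R (k + 1) (Fin.snoc v x) = ιMulti R k v * ι R x := by
  rw [ιMulti_apply, ιMulti_apply, List.ofFn_succ', List.concat_eq_append, List.prod_append]
  simp

/-- the projection of the exterior algebra to its degree `k` part -/
def projDeg (k : ℕ) : ExteriorAlgebra R N →ₗ[R] ⋀[R]^k N :=
  (DirectSum.component R ℕ (fun i => ⋀[R]^i N) k) ∘ₗ
    (DirectSum.decomposeLinearEquiv (fun i => ⋀[R]^i N)).toLinearMap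

lemma projDeg_of_mem {k : ℕ} (x : ⋀[R]^k N) : projDeg R k (x : ExteriorAlgebra R N) = x := by
  unfold projDeg
  simp only [LinearMap.coe_comp, LinearEquiv.coe_coe, Function.comp_apply,
    DirectSum.decomposeLinearEquiv_apply]
  classical
  rw [DirectSum.decompose_coe, ← DirectSum.lof_eq_of R, DirectSum.component.of, dif_pos rfl]

end Groth.Agent.H93.PthTr
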