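import Groth.Agent.H93.PthDer
import Groth.Agent.H93.PthMu

/-!
# The trace `Ω^{t+1}_{S/Λ} → Ω^{t+1}_{R/Λ}` for `S = R[x]/(x^p - a)` in characteristic `p`
-/

set_option autoImplicit false
set_option linter.unusedSectionVars false
set_option linter.style.haveILetI false
universe u

noncomputable section

open Polynomial ExteriorAlgebra
open scoped TensorProduct

namespace Groth.Agent.H93.PthTr

variable (p : ℕ) [Fact p.Prime] (Λ R : Type u) [CommRing Λ] [CommRing R] [Algebra Λ R]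
  [CharP R p] (a : R)

/-- `Ω_R / (da)` -/
abbrev Obar := Ω[R⁄Λ] ⧸ Submodule.span R {KaehlerDifferential.D Λ R a}

/-- `Ω_R/(da) ⊕ R` -/
abbrev Nbar := Obar Λ R a × R

/-- `S ⊗ (Ω_R/(da) ⊕ R)` -/
abbrev M1 := Sp p a ⊗[R] Nbar Λ R a

/-- `S ⊗ ∧(Ω_R/(da) ⊕ R)` -/
abbrev Bbar := Sp p a ⊗[R] ExteriorAlgebra R (Nbar Λ R a)

/-- the linear map `Ω_R → M1` -/
def dbarLin : Ω[R⁄Λ] →ₗ[R] M1 p Λ R a :=
  (TensorProduct.mk R (Sp p a) (Nbar Λ R a) 1) ∘ₗ (LinearMap.inl R (Obar Λ R a) R) ∘ₗ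
    (Submodule.mkQ _)

lemma dbarLin_apply (η : Ω[R⁄Λ]) :
    dbarLin p Λ R a η = (1 : Sp p a) ⊗ₜ[R] ((Submodule.Quotient.mk η, 0) : Nbar Λ R a) := rfl

/-- the derivation `R → M1` -/
def dbar : Derivation Λ R (M1 p Λ R a) := (dbarLin p Λ R a).compDer (KaehlerDifferential.D Λ R)

lemma dbar_apply (r : R) :
    dbar p Λ R a r = (1 : Sp p a) ⊗ₜ[R] ((Submodule.Quotient.mk (KaehlerDifferential.D Λ R r), 0) : Nbar Λ R a) := rfl

lemma dbar_a : dbar p Λ R a a = 0 := by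
  rw [dbar_apply]
  have : (Submodule.Quotient.mk (KaehlerDifferential.D Λ R a) : Obar Λ R a) = 0 := by
    rw [Submodule.Quotient.mk_eq_zero]
    exact Submodule.mem_span_singleton_self _
  rw [this]
  have : ((0, 0) : Nbar Λ R a) = 0 := rfl
  rw [this, TensorProduct.tmul_zero]

/-- the derivation `S → M1` -/
def Dtil : Derivation Λ (Sp p a) (M1 p Λ R a) :=
  letI := opModule (Sp p a) (M1 p Λ R a)
  haveI := opModule_central (Sp p a) (M1 p Λ R a)
  pthDer p a (dbar p Λ R a) (dbar_a p Λ R a) ((1 : Sp p a) ⊗ₜ[R] ((0, 1) : Nbar Λ R a))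

lemma Dtil_of (r : R) : Dtil p Λ R a (algebraMap R (Sp p a) r) = dbar p Λ R a r := by
  letI := opModule (Sp p a) (M1 p Λ R a)
  haveI := opModule_central (Sp p a) (M1 p Λ R a)
  exact pthDer_of p a (dbar p Λ R a) (dbar_a p Λ R a) _ r

lemma Dtil_root : Dtil p Λ R a (AdjoinRoot.root _) = (1 : Sp p a) ⊗ₜ[R] ((0, 1) : Nbar Λ R a) := by
  letI := opModule (Sp p a) (M1 p Λ R a)
  haveI := opModule_central (Sp p a) (M1 p Λ R a)
  exact pthDer_root p a (dbar p Λ R a) (dbar_a p Λ R a) _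

/-- the linear map `Ω_S → M1` -/
def fOm : Ω[Sp p a⁄Λ] →ₗ[Sp p a] M1 p Λ R a := (Dtil p Λ R a).liftKaehlerDifferential

lemma fOm_D (s : Sp p a) : fOm p Λ R a (KaehlerDifferential.D Λ (Sp p a) s) = Dtil p Λ R a s :=
  Derivation.liftKaehlerDifferential_comp_D _ _

lemma fOm_map (η : Ω[R⁄Λ]) :
    fOm p Λ R a (KaehlerDifferential.map Λ Λ R (Sp p a) η) =
      (1 : Sp p a) ⊗ₜ[R] ((Submodule.Quotient.mk η, 0) : Nbar Λ R a) := by
  have h : ((fOm p Λ R a).restrictScalars R) ∘ₗ (KaehlerDifferential.map Λ Λ R (Sp p a)) =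
      dbarLin p Λ R a := by
    apply Derivation.liftKaehlerDifferential_unique (R := Λ) (S := R)
    ext r
    simp only [Derivation.coe_comp, LinearMap.coe_comp, LinearMap.coe_restrictScalars,
      Function.comp_apply, KaehlerDifferential.map_D, Derivation.coeFn_coe]
    rw [fOm_D, Dtil_of]
    rfl
  exact LinearMap.congr_fun h η

lemma fOm_root_smul (i : ℕ) :
    fOm p Λ R a ((AdjoinRoot.root (X ^ p - C a : R[X])) ^ i •
      KaehlerDifferential.D Λ (Sp p a) (AdjoinRoot.root _)) =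
      ((AdjoinRoot.root (X ^ p - C a : R[X])) ^ i) ⊗ₜ[R] ((0, 1) : Nbar Λ R a) := by
  rw [map_smul, fOm_D, Dtil_root, TensorProduct.smul_tmul', smul_eq_mul, mul_one]

/-- `id ⊗ ι : M1 → Bbar` -/
def Xi : M1 p Λ R a →ₗ[Sp p a] Bbar p Λ R a :=
  LinearMap.baseChange (Sp p a) (ExteriorAlgebra.ι R (M := Nbar Λ R a))

lemma Xi_tmul (s : Sp p a) (n : Nbar Λ R a) :
    Xi p Λ R a (s ⊗ₜ[R] n) = s ⊗ₜ[R] ExteriorAlgebra.ι R n := rfl

lemma Xi_anticomm (x y : M1 p Λ R a) :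
    Xi p Λ R a x * Xi p Λ R a y + Xi p Λ R a y * Xi p Λ R a x = 0 := by
  induction x using TensorProduct.induction_on with
  | zero => simp
  | tmul s n =>
    induction y using TensorProduct.induction_on with
    | zero => simp
    | tmul s' n' =>
      rw [Xi_tmul, Xi_tmul, Algebra.TensorProduct.tmul_mul_tmul, Algebra.TensorProduct.tmul_mul_tmul,
        mul_comm s' s, ← TensorProduct.tmul_add, ExteriorAlgebra.ι_add_mul_swap,
        TensorProduct.tmul_zero]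
    | add y y' hy hy' =>
      rw [map_add, mul_add, add_mul]
      calc _ = (Xi p Λ R a (s ⊗ₜ[R] n) * Xi p Λ R a y + Xi p Λ R a y * Xi p Λ R a (s ⊗ₜ[R] n)) +
          (Xi p Λ R a (s ⊗ₜ[R] n) * Xi p Λ R a y' + Xi p Λ R a y' * Xi p Λ R a (s ⊗ₜ[R] n)) := by abel
        _ = 0 := by rw [hy, hy', add_zero]
  | add x x' hx hx' =>
    rw [map_add, mul_add, add_mul]
    calc _ = (Xi p Λ R a x * Xi p Λ R a y + Xi p Λ R a y * Xi p Λ R a x) +
        (Xi p Λ R a x' * Xi p Λ R a y + Xi p Λ R a y * Xi p Λ R a x') := by abel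
      _ = 0 := by rw [hx, hx', add_zero]

lemma Xi_sq (x : M1 p Λ R a) : Xi p Λ R a x * Xi p Λ R a x = 0 := by
  induction x using TensorProduct.induction_on with
  | zero => simp
  | tmul s n =>
    rw [Xi_tmul, Algebra.TensorProduct.tmul_mul_tmul, ExteriorAlgebra.ι_sq_zero,
      TensorProduct.tmul_zero]
  | add x y hx hy =>
    rw [map_add, mul_add, add_mul, add_mul, hx, hy]
    have := Xi_anticomm p Λ R a x y
    calc _ = Xi p Λ R a x * Xi p Λ R a y + Xi p Λ R a y * Xi p Λ R a x := by abel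
      _ = 0 := this

/-- the algebra map `∧_S Ω_S → S ⊗ ∧(Ω_R/(da) ⊕ R)` -/
def Phi : ExteriorAlgebra (Sp p a) (Ω[Sp p a⁄Λ]) →ₐ[Sp p a] Bbar p Λ R a :=
  ExteriorAlgebra.lift (Sp p a) ⟨(Xi p Λ R a) ∘ₗ (fOm p Λ R a), fun _ => Xi_sq p Λ R a _⟩

lemma Phi_ι (ω : Ω[Sp p a⁄Λ]) :
    Phi p Λ R a (ExteriorAlgebra.ι (Sp p a) ω) = Xi p Λ R a (fOm p Λ R a ω) :=
  ExteriorAlgebra.lift_ι_apply _ _ _ _

lemma Phi_ιMulti {k : ℕ} (v : Fin k → Ω[Sp p a⁄Λ]) (n : Fin k → Nbar Λ R a)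
    (h : ∀ j, fOm p Λ R a (v j) = (1 : Sp p a) ⊗ₜ[R] n j) :
    Phi p Λ R a (ExteriorAlgebra.ιMulti (Sp p a) k v) =
      (1 : Sp p a) ⊗ₜ[R] ExteriorAlgebra.ιMulti R k n := by
  induction k with
  | zero =>
    rw [ιMulti_zero_apply, ιMulti_zero_apply, map_one]
    rfl
  | succ k ih =>
    rw [ιMulti_succ_apply, ιMulti_succ_apply, map_mul, Phi_ι, h 0, Xi_tmul,
      ih (Matrix.vecTail v) (Matrix.vecTail n) (fun j => h j.succ),
      Algebra.TensorProduct.tmul_mul_tmul, mul_one]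

lemma monicf : (X ^ p - C a : R[X]).Monic :=
  monic_X_pow_sub_C a (Fact.out : p.Prime).ne_zero

/-- the coefficient of `x^(p-1)` -/
def cc : Sp p a →ₗ[R] R :=
  (Polynomial.lcoeff R (p - 1)) ∘ₗ (AdjoinRoot.modByMonicHom (monicf p R a))

lemma cc_root_pow (i : ℕ) (hi : i < p) :
    cc p R a ((AdjoinRoot.root (X ^ p - C a : R[X])) ^ i) = if i = p - 1 then 1 else 0 := by
  haveI : Nontrivial R :=
    CharP.nontrivial_of_char_ne_one (R := R) (Fact.out : p.Prime).ne_one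
  unfold cc
  rw [LinearMap.comp_apply, ← AdjoinRoot.mk_X, ← map_pow, AdjoinRoot.modByMonicHom_mk,
    (Polynomial.modByMonic_eq_self_iff (monicf p R a)).mpr, Polynomial.lcoeff_apply,
    Polynomial.coeff_X_pow]
  · by_cases h : i = p - 1
    · rw [if_pos h, if_pos h.symm]
    · rw [if_neg h, if_neg (Ne.symm h)]
  · rw [degree_X_pow, degree_X_pow_sub_C (Fact.out : p.Prime).pos a]
    exact_mod_cast hi

/-- `c ⊗ id` -/
def cT : Bbar p Λ R a →ₗ[R] ExteriorAlgebra R (Nbar Λ R a) :=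
  (TensorProduct.lid R _).toLinearMap ∘ₗ (LinearMap.rTensor _ (cc p R a))

lemma cT_tmul (s : Sp p a) (α : ExteriorAlgebra R (Nbar Λ R a)) :
    cT p Λ R a (s ⊗ₜ[R] α) = cc p R a s • α := by
  unfold cT
  rw [LinearMap.comp_apply, LinearMap.rTensor_tmul]
  rfl

/-- contraction with the second projection -/
def contr : ExteriorAlgebra R (Nbar Λ R a) →ₗ[R] ExteriorAlgebra R (Nbar Λ R a) :=
  (CliffordAlgebra.contractRight (Q := (0 : QuadraticForm R (Nbar Λ R a)))).flip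
    (LinearMap.snd R (Obar Λ R a) R)

lemma contr_map_inl (y : ExteriorAlgebra R (Obar Λ R a)) :
    contr Λ R a (ExteriorAlgebra.map (LinearMap.inl R (Obar Λ R a) R) y) = 0 :=
  contractRight_map_eq_zero R _ _ (by ext; simp) y

lemma contr_map_inl_mul_ι (y : ExteriorAlgebra R (Obar Λ R a)) :
    contr Λ R a (ExteriorAlgebra.map (LinearMap.inl R (Obar Λ R a) R) y *
      ExteriorAlgebra.ι R ((0, 1) : Nbar Λ R a)) =
      ExteriorAlgebra.map (LinearMap.inl R (Obar Λ R a) R) y := by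
  have h := CliffordAlgebra.contractRight_mul_ι (Q := (0 : QuadraticForm R (Nbar Λ R a)))
    (LinearMap.snd R (Obar Λ R a) R) ((0, 1) : Nbar Λ R a)
    (ExteriorAlgebra.map (LinearMap.inl R (Obar Λ R a) R) y)
  have h0 := contr_map_inl Λ R a y
  unfold contr at h0 ⊢
  rw [LinearMap.flip_apply] at h0 ⊢
  change CliffordAlgebra.contractRight _ _ = _
  rw [h, h0, zero_mul, sub_zero]
  simp

/-- the trace on the whole exterior algebra -/
def TrAlg (t : ℕ) : ExteriorAlgebra (Sp p a) (Ω[Sp p a⁄Λ]) →ₗ[R] ⋀[R]^(t + 1) (Ω[R⁄Λ]) :=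
  (projDeg R (t + 1)) ∘ₗ (mu R (KaehlerDifferential.D Λ R a)) ∘ₗ
    (ExteriorAlgebra.map (LinearMap.fst R (Obar Λ R a) R)).toLinearMap ∘ₗ (contr Λ R a) ∘ₗ
    (cT p Λ R a) ∘ₗ ((Phi p Λ R a).toLinearMap.restrictScalars R)

lemma map_fst_map_inl (y : ExteriorAlgebra R (Obar Λ R a)) :
    ExteriorAlgebra.map (LinearMap.fst R (Obar Λ R a) R)
      (ExteriorAlgebra.map (LinearMap.inl R (Obar Λ R a) R) y) = y := by
  have := ExteriorAlgebra.map_comp_map (LinearMap.inl R (Obar Λ R a) R)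
    (LinearMap.fst R (Obar Λ R a) R)
  rw [LinearMap.fst_comp_inl, ExteriorAlgebra.map_id] at this
  exact AlgHom.congr_fun this y

lemma TrAlg_smul (t : ℕ) (r : R) (x : ExteriorAlgebra (Sp p a) (Ω[Sp p a⁄Λ])) :
    TrAlg p Λ R a t (algebraMap R (Sp p a) r • x) = r • TrAlg p Λ R a t x := by
  rw [algebraMap_smul, map_smul]

lemma TrAlg_basic (t : ℕ) (η : Fin t → Ω[R⁄Λ]) (s : Sp p a) :
    TrAlg p Λ R a t (ExteriorAlgebra.ιMulti (Sp p a) (t + 1)
      (Fin.snoc (fun j => KaehlerDifferential.map Λ Λ R (Sp p a) (η j))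
        (s • KaehlerDifferential.D Λ (Sp p a) (AdjoinRoot.root _)))) =
      cc p R a s • exteriorPower.ιMulti R (t + 1) (Fin.snoc η (KaehlerDifferential.D Λ R a)) := by
  unfold TrAlg
  simp only [LinearMap.coe_comp, Function.comp_apply, LinearMap.coe_restrictScalars,
    AlgHom.toLinearMap_apply]
  rw [ιMulti_snoc, map_mul, Phi_ι,
    Phi_ιMulti p Λ R a _ (fun j => ((Submodule.Quotient.mk (η j), 0) : Nbar Λ R a))
      (fun j => fOm_map p Λ R a (η j)),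
    map_smul, fOm_D, Dtil_root, TensorProduct.smul_tmul', smul_eq_mul, mul_one, Xi_tmul,
    Algebra.TensorProduct.tmul_mul_tmul, one_mul, cT_tmul, map_smul, map_smul, map_smul, map_smul]
  congr 1
  have e1 : ExteriorAlgebra.ιMulti R t (fun j => ((Submodule.Quotient.mk (η j), 0) : Nbar Λ R a)) =
      ExteriorAlgebra.map (LinearMap.inl R (Obar Λ R a) R)
        (ExteriorAlgebra.ιMulti R t (fun j => (Submodule.Quotient.mk (η j) : Obar Λ R a))) := by
    rw [ExteriorAlgebra.map_apply_ιMulti]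
    rfl
  rw [e1, contr_map_inl_mul_ι, map_fst_map_inl, mu_ιMulti, ← ιMulti_snoc]
  exact projDeg_of_mem R (exteriorPower.ιMulti R (t + 1) (Fin.snoc η (KaehlerDifferential.D Λ R a)))

lemma TrAlg_pure (t : ℕ) (η : Fin (t + 1) → Ω[R⁄Λ]) (s : Sp p a) :
    TrAlg p Λ R a t (s • ExteriorAlgebra.ιMulti (Sp p a) (t + 1)
      (fun j => KaehlerDifferential.map Λ Λ R (Sp p a) (η j))) = 0 := by
  unfold TrAlg
  simp only [LinearMap.coe_comp, Function.comp_apply, LinearMap.coe_restrictScalars,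
    AlgHom.toLinearMap_apply]
  rw [map_smul,
    Phi_ιMulti p Λ R a _ (fun j => ((Submodule.Quotient.mk (η j), 0) : Nbar Λ R a))
      (fun j => fOm_map p Λ R a (η j)),
    TensorProduct.smul_tmul', smul_eq_mul, mul_one, cT_tmul, map_smul]
  have e1 : ExteriorAlgebra.ιMulti R (t + 1)
      (fun j => ((Submodule.Quotient.mk (η j), 0) : Nbar Λ R a)) =
      ExteriorAlgebra.map (LinearMap.inl R (Obar Λ R a) R)
        (ExteriorAlgebra.ιMulti R (t + 1) (fun j => (Submodule.Quotient.mk (η j) : Obar Λ R a))) := by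
    rw [ExteriorAlgebra.map_apply_ιMulti]
    rfl
  rw [e1, contr_map_inl, smul_zero, map_zero, map_zero, map_zero]

/-- the trace map -/
def Tr (t : ℕ) : (⋀[Sp p a]^(t + 1) (Ω[Sp p a⁄Λ])) →+ (⋀[R]^(t + 1) (Ω[R⁄Λ])) :=
  (TrAlg p Λ R a t).toAddMonoidHom.comp
    ((⋀[Sp p a]^(t + 1) (Ω[Sp p a⁄Λ])).subtype.toAddMonoidHom)

lemma Tr_apply (t : ℕ) (ω : ⋀[Sp p a]^(t + 1) (Ω[Sp p a⁄Λ])) :
    Tr p Λ R a t ω = TrAlg p Λ R a t (ω : ExteriorAlgebra (Sp p a) (Ω[Sp p a⁄Λ])) := rfl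

theorem main (t : ℕ) :
    (∀ (r : R) (ω : ⋀[Sp p a]^(t + 1) (Ω[Sp p a⁄Λ])),
        Tr p Λ R a t (algebraMap R (Sp p a) r • ω) = r • Tr p Λ R a t ω) ∧
      (∀ (η : Fin t → Ω[R⁄Λ]) (i : ℕ), i + 2 ≤ p →
        Tr p Λ R a t (exteriorPower.ιMulti _ (t + 1)
          (Fin.snoc (fun j => KaehlerDifferential.map Λ Λ R (Sp p a) (η j))
          (AdjoinRoot.root (X ^ p - C a) ^ i • KaehlerDifferential.D Λ _
            (AdjoinRoot.root (X ^ p - C a))))) = 0) ∧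
      (∀ (η : Fin t → Ω[R⁄Λ]),
        Tr p Λ R a t (exteriorPower.ιMulti _ (t + 1)
          (Fin.snoc (fun j => KaehlerDifferential.map Λ Λ R (Sp p a) (η j))
          (AdjoinRoot.root (X ^ p - C a) ^ (p - 1) • KaehlerDifferential.D Λ _
            (AdjoinRoot.root (X ^ p - C a))))) =
          exteriorPower.ιMulti R (t + 1) (Fin.snoc η (KaehlerDifferential.D Λ R a))) ∧
      (∀ (s : Sp p a) (η : Fin (t + 1) → Ω[R⁄Λ]),
        Tr p Λ R a t (s • exteriorPower.ιMulti _ (t + 1)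
          (fun j => KaehlerDifferential.map Λ Λ R (Sp p a) (η j))) = 0) := by
  have hp := (Fact.out : p.Prime)
  refine ⟨fun r ω => ?_, fun η i hi => ?_, fun η => ?_, fun s η => ?_⟩
  · rw [Tr_apply, Tr_apply, Submodule.coe_smul, TrAlg_smul]
  · rw [Tr_apply, exteriorPower.ιMulti_apply_coe, TrAlg_basic, cc_root_pow p R a i (by omega),
      if_neg (by omega), zero_smul]
  · rw [Tr_apply, exteriorPower.ιMulti_apply_coe, TrAlg_basic,
      cc_root_pow p R a (p - 1) (by have := hp.pos; omega), if_pos rfl, one_smul]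
  · rw [Tr_apply, Submodule.coe_smul, exteriorPower.ιMulti_apply_coe, TrAlg_pure]

end Groth.Agent.H93.PthTr
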