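import Groth.Agent.H93.Integral

set_option autoImplicit false
universe u v w

open TensorProduct

namespace Groth.Agent.H93

section Reynolds

variable {k : Type u} [Field k] {H : Type v} [CommRing H] [HopfAlgebra k H]
variable {V : Type w} [AddCommGroup V] [Module k V] [HopfRep.Comod k H V]
variable (α : H →ₗ[k] k)

variable (k H) in
/-- the functional `α ∘ S` -/
noncomputable def reynFun : H →ₗ[k] k := α ∘ₗ mS k H ∘ₗ (TensorProduct.mk k H H).flip 1

variable (V) in
/-- The Reynolds operator of a total integral: `v ↦ Σ v₀ α(S v₁)`. -/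
noncomputable def reyn : V →ₗ[k] V := dualAct V (reynFun k H α)

theorem reyn_eq_retr (v : V) : reyn V α v = retr (V := V) α (v ⊗ₜ[k] (1 : H)) := by
  rw [retr_tmul]; rfl

variable (hα : @Hoch.IsComodHom k _ H _ _ _ H _ _ _ k _ _ (HopfRep.Comod.trivial k H k) α)

include hα in
theorem reyn_mem_fixedPts (v : V) : reyn V α v ∈ HopfRep.fixedPts k H V := by
  change HopfRep.Comod.coact (k := k) (A := H) (reyn V α v) = reyn V α v ⊗ₜ[k] (1 : H)
  rw [← sub_eq_zero]
  apply eq_zero_of_slice_eq_zero
  intro ψ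
  rw [map_sub, slice_tmul, sub_eq_zero, ← dualAct_apply, reyn_eq_retr]
  have h := LinearMap.congr_fun (retr_comp_lTensor (V := V) α hα ψ) (v ⊗ₜ[k] (1 : H))
  simp only [LinearMap.comp_apply, LinearMap.lTensor_tmul] at h
  rw [← h]
  have h1 : dualAct H ψ (1 : H) = ψ 1 • (1 : H) := by
    rw [dualAct_apply]
    change slice H ψ (Coalgebra.comul (R := k) (1 : H)) = _
    rw [Bialgebra.comul_one, Algebra.TensorProduct.one_def, slice_tmul]
  rw [h1, TensorProduct.tmul_smul, map_smul]

theorem reyn_of_mem_fixedPts (h1 : α 1 = 1) (v : V) (hv : v ∈ HopfRep.fixedPts k H V) :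
    reyn V α v = v := by
  have hv' : HopfRep.Comod.coact (k := k) (A := H) v = v ⊗ₜ[k] (1 : H) := hv
  rw [reyn_eq_retr, ← hv', retr_coact α h1]

end Reynolds

end Groth.Agent.H93
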