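import Groth.Agent.H98.SegreFinite
import Groth.Agent.H98.SegreRingNoeth

/-!
# Existence of Segre products of graded modules (helper93)

For graded modules `M` over `R` and `N` over `S` (graded `k`-algebras) and a Segre product ring
`T = R # S` presented by `ψ : T → R ⊗ S`, we construct the Segre product `M # N` as the `k`-subspace
`⨁_n M_n ⊗ N_n` of `M ⊗_k N` with `T` acting through `ψ`, together with its grading and all the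
instances, and prove `GrSeg.IsSegreMod`.
-/

set_option autoImplicit false

universe u

noncomputable section

namespace Groth.Agent.H93.SegModEx

open scoped TensorProduct
open Groth.Agent.H98

section Construction

variable {k : Type u} [Field k] {R S T : Type u} [CommRing R] [CommRing S] [CommRing T]
  [Algebra k R] [Algebra k S] [Algebra k T]
  (𝒜 : ℤ → Submodule k R) [GradedAlgebra 𝒜] (ℬ : ℤ → Submodule k S) [GradedAlgebra ℬ]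
  (𝒯 : ℤ → Submodule k T) [GradedAlgebra 𝒯]
  (ψ : T →ₐ[k] R ⊗[k] S) (hT : GrSeg.IsSegreRing 𝒜 ℬ 𝒯 ψ)
  {M N : Type u} [AddCommGroup M] [Module R M] [Module k M] [IsScalarTower k R M]
  [AddCommGroup N] [Module S N] [Module k N] [IsScalarTower k S N]
  (ℳ : ℤ → AddSubgroup M) [DirectSum.Decomposition ℳ] [SetLike.GradedSMul 𝒜 ℳ]
  (𝒩 : ℤ → AddSubgroup N) [DirectSum.Decomposition 𝒩] [SetLike.GradedSMul ℬ 𝒩]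

/-- the underlying `k`-subspace `⨁_n M_n ⊗ N_n` of `M ⊗ N` -/
def segSub : Submodule k (M ⊗[k] N) := ⨆ n : ℤ, GrSeg.segrePiece k ℳ 𝒩 n

theorem piece_le_segSub (n : ℤ) : GrSeg.segrePiece k ℳ 𝒩 n ≤ segSub (k := k) ℳ 𝒩 :=
  le_iSup (fun n : ℤ => GrSeg.segrePiece k ℳ 𝒩 n) n

include hT in
theorem psi_mem_piece {i : ℤ} {t : T} (ht : t ∈ 𝒯 i) : ψ t ∈ GrSeg.segrePiece k 𝒜 ℬ i := by
  rw [← hT.2 i]
  exact ⟨t, ht, rfl⟩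

include hT in
theorem act_psi_mem_piece {i j : ℤ} {t : T} (ht : t ∈ 𝒯 i) {v : M ⊗[k] N}
    (hv : v ∈ GrSeg.segrePiece k ℳ 𝒩 j) :
    GrSeg.act k R S M N (ψ t) v ∈ GrSeg.segrePiece k ℳ 𝒩 (j + i) :=
  act_segrePiece_mem 𝒜 ℬ ℳ 𝒩 i j (ψ t) (psi_mem_piece 𝒜 ℬ 𝒯 ψ hT ht) v hv

include hT in
theorem act_psi_mem_segSub (t : T) {v : M ⊗[k] N} (hv : v ∈ segSub (k := k) ℳ 𝒩) :
    GrSeg.act k R S M N (ψ t) v ∈ segSub (k := k) ℳ 𝒩 := by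
  classical
  rw [← DirectSum.sum_support_decompose 𝒯 t, map_sum, map_sum, LinearMap.sum_apply]
  apply Submodule.sum_mem
  intro i _
  have hti : ((DirectSum.decompose 𝒯 t i : 𝒯 i) : T) ∈ 𝒯 i := SetLike.coe_mem _
  unfold segSub at hv
  induction hv using Submodule.iSup_induction' with
  | mem j x hx =>
    exact piece_le_segSub ℳ 𝒩 (j + i) (act_psi_mem_piece 𝒜 ℬ 𝒯 ψ hT ℳ 𝒩 hti hx)
  | zero => rw [map_zero]; exact Submodule.zero_mem _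
  | add x y _ _ hx hy => rw [map_add]; exact Submodule.add_mem _ hx hy

/-- the carrier of the Segre product `M # N` -/
def SegMod (_hT : GrSeg.IsSegreRing 𝒜 ℬ 𝒯 ψ) (ℳ : ℤ → AddSubgroup M) (𝒩 : ℤ → AddSubgroup N) :
    Type u :=
  ↥(segSub (k := k) ℳ 𝒩)

noncomputable instance : AddCommGroup (SegMod 𝒜 ℬ 𝒯 ψ hT ℳ 𝒩) :=
  inferInstanceAs (AddCommGroup ↥(segSub (k := k) ℳ 𝒩))

noncomputable instance : Module k (SegMod 𝒜 ℬ 𝒯 ψ hT ℳ 𝒩) :=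
  inferInstanceAs (Module k ↥(segSub (k := k) ℳ 𝒩))

/-- the inclusion into `M ⊗ N` -/
noncomputable def incl : SegMod 𝒜 ℬ 𝒯 ψ hT ℳ 𝒩 →ₗ[k] M ⊗[k] N :=
  (segSub (k := k) ℳ 𝒩).subtype

theorem incl_injective : Function.Injective (incl 𝒜 ℬ 𝒯 ψ hT ℳ 𝒩) :=
  Subtype.val_injective

theorem incl_mem (p : SegMod 𝒜 ℬ 𝒯 ψ hT ℳ 𝒩) :
    incl 𝒜 ℬ 𝒯 ψ hT ℳ 𝒩 p ∈ segSub (k := k) ℳ 𝒩 := p.2

noncomputable instance : SMul T (SegMod 𝒜 ℬ 𝒯 ψ hT ℳ 𝒩) where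
  smul t p := ⟨GrSeg.act k R S M N (ψ t) p.1, act_psi_mem_segSub 𝒜 ℬ 𝒯 ψ hT ℳ 𝒩 t p.2⟩

theorem incl_smul (t : T) (p : SegMod 𝒜 ℬ 𝒯 ψ hT ℳ 𝒩) :
    incl 𝒜 ℬ 𝒯 ψ hT ℳ 𝒩 (t • p) = GrSeg.act k R S M N (ψ t) (incl 𝒜 ℬ 𝒯 ψ hT ℳ 𝒩 p) := rfl

noncomputable instance : Module T (SegMod 𝒜 ℬ 𝒯 ψ hT ℳ 𝒩) where
  one_smul p := by
    apply incl_injective 𝒜 ℬ 𝒯 ψ hT ℳ 𝒩
    rw [incl_smul, map_one, act_one]
    rfl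
  mul_smul t t' p := by
    apply incl_injective 𝒜 ℬ 𝒯 ψ hT ℳ 𝒩
    rw [incl_smul, incl_smul, incl_smul, map_mul, act_mul]
    rfl
  smul_zero t := by
    apply incl_injective 𝒜 ℬ 𝒯 ψ hT ℳ 𝒩
    rw [incl_smul, map_zero, map_zero]
  smul_add t p q := by
    apply incl_injective 𝒜 ℬ 𝒯 ψ hT ℳ 𝒩
    rw [incl_smul, map_add, map_add, map_add, incl_smul, incl_smul]
  add_smul t t' p := by
    apply incl_injective 𝒜 ℬ 𝒯 ψ hT ℳ 𝒩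
    rw [incl_smul, map_add, map_add, map_add, LinearMap.add_apply, incl_smul, incl_smul]
  zero_smul p := by
    apply incl_injective 𝒜 ℬ 𝒯 ψ hT ℳ 𝒩
    rw [incl_smul, map_zero, map_zero, map_zero, LinearMap.zero_apply]

instance : IsScalarTower k T (SegMod 𝒜 ℬ 𝒯 ψ hT ℳ 𝒩) where
  smul_assoc c t p := by
    apply incl_injective 𝒜 ℬ 𝒯 ψ hT ℳ 𝒩
    rw [incl_smul, map_smul, map_smul, LinearMap.smul_apply, map_smul, incl_smul]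

/-- the pieces of `M # N` -/
def segGr (n : ℤ) : AddSubgroup (SegMod 𝒜 ℬ 𝒯 ψ hT ℳ 𝒩) :=
  ((GrSeg.segrePiece k ℳ 𝒩 n).comap (incl 𝒜 ℬ 𝒯 ψ hT ℳ 𝒩)).toAddSubgroup

theorem mem_segGr {n : ℤ} {p : SegMod 𝒜 ℬ 𝒯 ψ hT ℳ 𝒩} :
    p ∈ segGr 𝒜 ℬ 𝒯 ψ hT ℳ 𝒩 n ↔ incl 𝒜 ℬ 𝒯 ψ hT ℳ 𝒩 p ∈ GrSeg.segrePiece k ℳ 𝒩 n := Iff.rfl

/-! ### The grading -/

include 𝒜 in
theorem smul_mem_M (c : k) (i : ℤ) (x : M) (hx : x ∈ ℳ i) : c • x ∈ ℳ i :=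
  smul_mem_piece 𝒜 ℳ c i x hx

include ℬ in
theorem smul_mem_N (c : k) (i : ℤ) (x : N) (hx : x ∈ 𝒩 i) : c • x ∈ 𝒩 i :=
  smul_mem_piece ℬ 𝒩 c i x hx

/-- the projection of `M ⊗ N` onto `M_n ⊗ N_n` -/
def dproj (n : ℤ) : M ⊗[k] N →ₗ[k] M ⊗[k] N :=
  bproj ℳ 𝒩 (smul_mem_M 𝒜 ℳ) (smul_mem_N ℬ 𝒩) n n

theorem dproj_of_mem_same {n : ℤ} {v : M ⊗[k] N} (hv : v ∈ GrSeg.segrePiece k ℳ 𝒩 n) :
    dproj 𝒜 ℬ ℳ 𝒩 n v = v := by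
  induction hv using Submodule.span_induction with
  | mem x hx =>
    obtain ⟨a, ha, b, hb, rfl⟩ := hx
    rw [dproj, bproj, TensorProduct.map_tmul, gproj_of_mem_same ℳ _ ha, gproj_of_mem_same 𝒩 _ hb]
  | zero => exact map_zero _
  | add x y _ _ hx hy => rw [map_add, hx, hy]
  | smul c x _ hx => rw [map_smul, hx]

theorem dproj_of_mem_ne {n j : ℤ} (hj : j ≠ n) {v : M ⊗[k] N}
    (hv : v ∈ GrSeg.segrePiece k ℳ 𝒩 j) : dproj 𝒜 ℬ ℳ 𝒩 n v = 0 := by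
  induction hv using Submodule.span_induction with
  | mem x hx =>
    obtain ⟨a, ha, b, hb, rfl⟩ := hx
    rw [dproj, bproj, TensorProduct.map_tmul, gproj_of_mem_ne ℳ _ ha hj, TensorProduct.zero_tmul]
  | zero => exact map_zero _
  | add x y _ _ hx hy => rw [map_add, hx, hy, add_zero]
  | smul c x _ hx => rw [map_smul, hx, smul_zero]

/-- the pieces, as `k`-subspaces -/
def segGrK (n : ℤ) : Submodule k (SegMod 𝒜 ℬ 𝒯 ψ hT ℳ 𝒩) :=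
  (GrSeg.segrePiece k ℳ 𝒩 n).comap (incl 𝒜 ℬ 𝒯 ψ hT ℳ 𝒩)

theorem iSupIndep_segGrK : iSupIndep (segGrK 𝒜 ℬ 𝒯 ψ hT ℳ 𝒩) := by
  intro n
  rw [Submodule.disjoint_def]
  intro p hp hp'
  -- `dproj n ∘ incl` kills all the other pieces
  have hker : (⨆ (j : ℤ) (_ : j ≠ n), segGrK 𝒜 ℬ 𝒯 ψ hT ℳ 𝒩 j) ≤
      LinearMap.ker ((dproj 𝒜 ℬ ℳ 𝒩 n) ∘ₗ (incl 𝒜 ℬ 𝒯 ψ hT ℳ 𝒩)) := by
    apply iSup₂_le
    intro j hj q hq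
    rw [LinearMap.mem_ker, LinearMap.comp_apply]
    exact dproj_of_mem_ne 𝒜 ℬ ℳ 𝒩 hj hq
  have h0 := hker hp'
  rw [LinearMap.mem_ker, LinearMap.comp_apply, dproj_of_mem_same 𝒜 ℬ ℳ 𝒩 hp] at h0
  exact incl_injective 𝒜 ℬ 𝒯 ψ hT ℳ 𝒩 (h0.trans (map_zero _).symm)

/-- constructor of elements of `M # N` -/
def mk (w : M ⊗[k] N) (hw : w ∈ segSub (k := k) ℳ 𝒩) : SegMod 𝒜 ℬ 𝒯 ψ hT ℳ 𝒩 := ⟨w, hw⟩

theorem mk_mem_iSup (w : M ⊗[k] N) (hw : w ∈ ⨆ n : ℤ, GrSeg.segrePiece k ℳ 𝒩 n) :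
    mk 𝒜 ℬ 𝒯 ψ hT ℳ 𝒩 w hw ∈ ⨆ n, segGrK 𝒜 ℬ 𝒯 ψ hT ℳ 𝒩 n := by
  refine Submodule.iSup_induction' (fun n : ℤ => GrSeg.segrePiece k ℳ 𝒩 n)
    (motive := fun w hw => mk 𝒜 ℬ 𝒯 ψ hT ℳ 𝒩 w hw ∈ ⨆ n, segGrK 𝒜 ℬ 𝒯 ψ hT ℳ 𝒩 n) ?_ ?_ ?_ hw
  · intro j x hx
    have h1 : mk 𝒜 ℬ 𝒯 ψ hT ℳ 𝒩 x (Submodule.mem_iSup_of_mem j hx) ∈
        segGrK 𝒜 ℬ 𝒯 ψ hT ℳ 𝒩 j := hx
    exact Submodule.mem_iSup_of_mem j h1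
  · exact Submodule.zero_mem (⨆ n, segGrK 𝒜 ℬ 𝒯 ψ hT ℳ 𝒩 n)
  · intro x y hx hy hx' hy'
    exact Submodule.add_mem (⨆ n, segGrK 𝒜 ℬ 𝒯 ψ hT ℳ 𝒩 n) hx' hy'

theorem iSup_segGrK : ⨆ n, segGrK 𝒜 ℬ 𝒯 ψ hT ℳ 𝒩 n = ⊤ := by
  rw [eq_top_iff]
  rintro ⟨v, hv⟩ -
  exact mk_mem_iSup 𝒜 ℬ 𝒯 ψ hT ℳ 𝒩 v hv

theorem isInternal_segGrK : DirectSum.IsInternal (segGrK 𝒜 ℬ 𝒯 ψ hT ℳ 𝒩) :=
  DirectSum.isInternal_submodule_of_iSupIndep_of_iSup_eq_top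
    (iSupIndep_segGrK 𝒜 ℬ 𝒯 ψ hT ℳ 𝒩) (iSup_segGrK 𝒜 ℬ 𝒯 ψ hT ℳ 𝒩)

instance segGrDecomposition : DirectSum.Decomposition (segGr 𝒜 ℬ 𝒯 ψ hT ℳ 𝒩) :=
  let D : DirectSum.Decomposition (segGrK 𝒜 ℬ 𝒯 ψ hT ℳ 𝒩) :=
    (isInternal_segGrK 𝒜 ℬ 𝒯 ψ hT ℳ 𝒩).chooseDecomposition
  { decompose' := fun x => D.decompose' x
    left_inv := D.left_inv
    right_inv := D.right_inv }

instance segGrGradedSMul : SetLike.GradedSMul 𝒯 (segGr 𝒜 ℬ 𝒯 ψ hT ℳ 𝒩) where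
  smul_mem := by
    intro i j t p ht hp
    rw [vadd_eq_add, add_comm]
    exact act_psi_mem_piece 𝒜 ℬ 𝒯 ψ hT ℳ 𝒩 ht hp

/-- **the Segre product `M # N` exists** -/
theorem isSegreMod :
    GrSeg.IsSegreMod ψ ℳ 𝒩 (segGr 𝒜 ℬ 𝒯 ψ hT ℳ 𝒩) (incl 𝒜 ℬ 𝒯 ψ hT ℳ 𝒩) where
  injective := incl_injective 𝒜 ℬ 𝒯 ψ hT ℳ 𝒩
  image_piece n := by
    ext v
    constructor
    · rintro ⟨p, hp, rfl⟩
      exact hp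
    · intro hv
      exact ⟨⟨v, piece_le_segSub ℳ 𝒩 n hv⟩, hv, rfl⟩
  map_smul t p := incl_smul 𝒜 ℬ 𝒯 ψ hT ℳ 𝒩 t p

end Construction

end Groth.Agent.H93.SegModEx
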