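import Groth.Agent.H93.ShiftCanon
import Groth.Agent.H93.SegModEx
import Groth.Agent.H98.SegCM.RingCM
import Groth.Agent.H85.SegreRingFacts

/-!
# Auxiliary facts for the type of a Segre product (helper93)

* `algebraMap_quot_bijective` : `k → T/T_+` is bijective for a graded `k`-algebra with `T_0 = k`;
* `finrank_quot_tensor_eq` : `dim_{T/m} (T/m) ⊗_T P = dim_k P/mP`.
-/

set_option autoImplicit false

universe u

noncomputable section

namespace Groth.Agent.H93.SegType

open scoped TensorProduct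

section Residue

variable {k : Type u} [Field k] {T : Type u} [CommRing T] [Algebra k T]
  (𝒯 : ℤ → Submodule k T) [GradedAlgebra 𝒯] (hpos : ∀ n : ℤ, n < 0 → 𝒯 n = ⊥)
  (h0 : 𝒯 0 = Submodule.span k {(1 : T)})
  (m : HomogeneousIdeal 𝒯)
  (hmsp : m.toIdeal = Ideal.span (⋃ n ∈ Set.Ioi (0 : ℤ), (𝒯 n : Set T)))

include hpos h0 hmsp in
theorem algebraMap_quot_surjective :
    Function.Surjective (algebraMap k (T ⧸ m.toIdeal)) := by
  classical
  intro y
  obtain ⟨t, rfl⟩ := Ideal.Quotient.mk_surjective y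
  have h1 : ((DirectSum.decompose 𝒯 t 0 : 𝒯 0) : T) ∈ Submodule.span k {(1 : T)} := by
    rw [← h0]
    exact SetLike.coe_mem _
  rw [Submodule.mem_span_singleton] at h1
  obtain ⟨c, hc⟩ := h1
  refine ⟨c, ?_⟩
  rw [IsScalarTower.algebraMap_apply k T (T ⧸ m.toIdeal), Ideal.Quotient.algebraMap_eq,
    Algebra.algebraMap_eq_smul_one, hc]
  symm
  rw [← sub_eq_zero, ← map_sub, Ideal.Quotient.eq_zero_iff_mem]
  have hmem : ∀ i : ℤ, i ≠ 0 → ((DirectSum.decompose 𝒯 t i : 𝒯 i) : T) ∈ m.toIdeal := by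
    intro i hi
    rcases lt_or_gt_of_ne hi with hneg | hposi
    · have h2 : ((DirectSum.decompose 𝒯 t i : 𝒯 i) : T) ∈ (⊥ : Submodule k T) := by
        rw [← hpos i hneg]
        exact SetLike.coe_mem _
      rw [Submodule.mem_bot] at h2
      rw [h2]
      exact Ideal.zero_mem _
    · rw [hmsp]
      apply Ideal.subset_span
      simp only [Set.mem_iUnion, Set.mem_Ioi, SetLike.mem_coe]
      exact ⟨i, hposi, SetLike.coe_mem _⟩
  have hsum := DirectSum.sum_support_decompose 𝒯 t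
  have hdiff : t - ((DirectSum.decompose 𝒯 t 0 : 𝒯 0) : T) =
      ∑ i ∈ (DirectSum.decompose 𝒯 t).support.erase 0, ((DirectSum.decompose 𝒯 t i : 𝒯 i) : T) := by
    by_cases h0s : (0 : ℤ) ∈ (DirectSum.decompose 𝒯 t).support
    · rw [sub_eq_iff_eq_add, Finset.sum_erase_add _ _ h0s, hsum]
    · rw [Finset.erase_eq_of_notMem h0s, hsum]
      rw [DFinsupp.notMem_support_iff] at h0s
      rw [h0s, ZeroMemClass.coe_zero, sub_zero]
  rw [hdiff]
  apply Ideal.sum_mem
  intro i hi
  exact hmem i (Finset.ne_of_mem_erase hi)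

include hpos h0 hmsp in
theorem algebraMap_quot_bijective [Nontrivial (T ⧸ m.toIdeal)] :
    Function.Bijective (algebraMap k (T ⧸ m.toIdeal)) :=
  ⟨(algebraMap k (T ⧸ m.toIdeal)).injective, algebraMap_quot_surjective 𝒯 hpos h0 m hmsp⟩

variable {P : Type u} [AddCommGroup P] [Module T P] [Module k P] [IsScalarTower k T P]

include hpos h0 hmsp in
/-- `dim_{T/m} (T/m) ⊗_T P = dim_k P/mP` -/
theorem finrank_quot_tensor_eq [Nontrivial (T ⧸ m.toIdeal)] :
    Module.finrank (T ⧸ m.toIdeal) ((T ⧸ m.toIdeal) ⊗[T] P) =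
      Module.finrank k (P ⧸ (m.toIdeal • (⊤ : Submodule T P))) := by
  unfold Module.finrank
  congr 1
  symm
  refine rank_eq_of_equiv_equiv (algebraMap k (T ⧸ m.toIdeal))
    (TensorProduct.quotTensorEquivQuotSMul P m.toIdeal).symm.toAddEquiv
    (algebraMap_quot_bijective 𝒯 hpos h0 m hmsp) ?_
  intro c y
  obtain ⟨p, rfl⟩ := Submodule.Quotient.mk_surjective _ y
  change (TensorProduct.quotTensorEquivQuotSMul P m.toIdeal).symm (c • Submodule.Quotient.mk p) =
    algebraMap k (T ⧸ m.toIdeal) c •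
      (TensorProduct.quotTensorEquivQuotSMul P m.toIdeal).symm (Submodule.Quotient.mk p)
  rw [← Submodule.Quotient.mk_smul, TensorProduct.quotTensorEquivQuotSMul_symm_mk,
    TensorProduct.quotTensorEquivQuotSMul_symm_mk, TensorProduct.smul_tmul', smul_eq_mul, mul_one]
  have e1 : algebraMap k (T ⧸ m.toIdeal) c = (algebraMap k T c) • (1 : T ⧸ m.toIdeal) := by
    rw [Algebra.smul_def, mul_one, ← IsScalarTower.algebraMap_apply]
  rw [e1, TensorProduct.smul_tmul, algebraMap_smul]

end Residue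

end Groth.Agent.H93.SegType
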