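import Mathlib
import Groth.Agent.H81.Kun.Main

/-!
# Top-degree Künneth formula for the torsion subcomplex, without depth hypotheses (helper93)

Built on helper81's `Groth.Agent.H81.Kun` library.  `U`, `V` resolutions (exact in positive
degrees), `U' ⊆ U`, `V' ⊆ V` subcomplexes with `H^i(U') = 0` for `i > r`, `H^j(V') = 0` for `j > s`,
`r, s ≥ 2`.  Then `dim H^{r+s-1}(GG) = dim H^r(U') · dim H^s(V')` where `GG` is the kernel of
`Tot(U ⊗ V) → Tot(U/U' ⊗ V/V')`.
-/

set_option autoImplicit false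
set_option linter.unusedSectionVars false
set_option linter.style.haveILetI false

universe u

namespace Groth.Agent.H93.TopKun

open scoped TensorProduct
open Groth.Agent.H81.Kun

section Conn0

variable {k : Type u} [Field k]
variable {X : ℕ → Type u} [∀ n, AddCommGroup (X n)] [∀ n, Module k (X n)]
  {Y : ℕ → Type u} [∀ n, AddCommGroup (Y n)] [∀ n, Module k (Y n)]
  (D : ∀ n, X n →ₗ[k] X (n + 1)) (E : ∀ n, Y n →ₗ[k] Y (n + 1))
  (Q : ∀ n, X n →ₗ[k] Y n)
  (hD : ∀ n x, D (n + 1) (D n x) = 0)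
  (hQ : ∀ n x, Q (n + 1) (D n x) = E n (Q n x))
  (hQs : ∀ n, Function.Surjective (Q n))

include hD hQ hQs in
/-- `H^0` of the quotient complex is finite dimensional as soon as `H^0` of the big complex and
`H^1` of the kernel complex are (no vanishing hypotheses). -/
theorem finite_Hs_top_zero [Module.Finite k (LinearMap.ker (D 0))]
    [Module.Finite k (Hs D (kerSub Q) 1)] : Module.Finite k (Hs E (topSub Y) 0) := by
  -- inclusion of the `0`-cocycles of `X` into `Zt`
  let j : LinearMap.ker (D 0) →ₗ[k] Zt E Q 0 :=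
    (LinearMap.ker (D 0)).subtype.codRestrict (Zt E Q 0) (fun x => by
      rw [mem_Zt, ← hQ]
      have hx : D 0 ((LinearMap.ker (D 0)).subtype x) = 0 := x.2
      rw [hx, map_zero])
  let P : Submodule k (Hs E (topSub Y) 0) := LinearMap.range (alpha E Q 0 ∘ₗ j)
  haveI : Module.Finite k P := Module.Finite.range _
  let f : Zt E Q 0 →ₗ[k] (Hs E (topSub Y) 0 ⧸ P) := P.mkQ ∘ₗ alpha E Q 0
  have hf : Function.Surjective f :=
    (Submodule.mkQ_surjective P).comp (alpha_surjective E Q hQs 0)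
  have hle : LinearMap.ker (beta D E Q hD hQ 0) ≤ LinearMap.ker f := by
    intro c hc
    rw [ker_beta] at hc
    obtain ⟨g, hg, hgc⟩ := hc
    rw [LinearMap.mem_ker]
    change P.mkQ (alpha E Q 0 c) = 0
    rw [Submodule.mkQ_apply, Submodule.Quotient.mk_eq_zero]
    refine ⟨⟨(c : X 0) - g, hgc⟩, ?_⟩
    change alpha E Q 0 (j ⟨(c : X 0) - g, hgc⟩) = alpha E Q 0 c
    rw [← sub_eq_zero, ← map_sub]
    change Submodule.Quotient.mk _ = 0
    rw [Submodule.Quotient.mk_eq_zero]
    change Q 0 ((c : X 0) - g - (c : X 0)) ∈ cobdy E (topSub Y) 0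
    rw [sub_sub_cancel_left, map_neg, LinearMap.mem_ker.mp hg, neg_zero]
    exact Submodule.zero_mem _
  haveI : Module.Finite k (LinearMap.range (beta D E Q hD hQ 0)) := inferInstance
  haveI : Module.Finite k (Zt E Q 0 ⧸ LinearMap.ker (beta D E Q hD hQ 0)) :=
    Module.Finite.equiv (beta D E Q hD hQ 0).quotKerEquivRange.symm
  haveI : Module.Finite k (Hs E (topSub Y) 0 ⧸ P) := by
    refine Module.Finite.of_surjective
      ((LinearMap.ker (beta D E Q hD hQ 0)).liftQ f hle) ?_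
    intro y
    obtain ⟨c, rfl⟩ := hf y
    exact ⟨Submodule.Quotient.mk c, rfl⟩
  exact Module.Finite.of_submodule_quotient P

end Conn0

section Top

variable {k : Type u} [Field k]
variable {U : ℕ → Type u} [∀ a, AddCommGroup (U a)] [∀ a, Module k (U a)]
  {V : ℕ → Type u} [∀ b, AddCommGroup (V b)] [∀ b, Module k (V b)]

/-- finiteness of the cohomology of the quotient complex, without vanishing hypotheses -/
theorem finite_Hs_Ub' (dU : ∀ a, U a →ₗ[k] U (a + 1)) (U' : ∀ a, Submodule k (U a))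
    (hU' : ∀ a x, x ∈ U' a → dU a x ∈ U' (a + 1)) (hdU : ∀ a x, dU (a + 1) (dU a x) = 0)
    (hexU : ∀ a, LinearMap.ker (dU (a + 1)) = LinearMap.range (dU a))
    (hfU : ∀ i, Module.Finite k (Hs dU U' i)) (hfU0 : Module.Finite k (LinearMap.ker (dU 0)))
    (i : ℕ) : Module.Finite k (Hs (dUb dU U' hU') (topSub (Ub U')) i) := by
  cases i with
  | zero =>
    haveI : Module.Finite k (Hs dU (kerSub fun a => (U' a).mkQ) 1) := by
      rw [kerSub_mkQ]
      exact hfU 1
    exact finite_Hs_top_zero dU (dUb dU U' hU') (fun a => (U' a).mkQ) hdU (fun _ _ => rfl)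
      (fun a => Submodule.mkQ_surjective _)
  | succ i =>
    obtain ⟨e⟩ := nonempty_conn_equiv dU (dUb dU U' hU') (fun a => (U' a).mkQ) hdU
      (fun _ _ => rfl) (fun a => Submodule.mkQ_surjective _) i (hexU i) (hexU (i + 1))
    rw [kerSub_mkQ] at e
    haveI := hfU (i + 2)
    exact Module.Finite.equiv e.symm

/-- **Top-degree Künneth formula for the torsion subcomplex** (no depth hypotheses). -/
theorem top (dU : ∀ a, U a →ₗ[k] U (a + 1)) (dV : ∀ b, V b →ₗ[k] V (b + 1))
    (hdU : ∀ a x, dU (a + 1) (dU a x) = 0) (hdV : ∀ b y, dV (b + 1) (dV b y) = 0)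
    (U' : ∀ a, Submodule k (U a)) (hU' : ∀ a x, x ∈ U' a → dU a x ∈ U' (a + 1))
    (V' : ∀ b, Submodule k (V b)) (hV' : ∀ b y, y ∈ V' b → dV b y ∈ V' (b + 1))
    (hexU : ∀ a, LinearMap.ker (dU (a + 1)) = LinearMap.range (dU a))
    (hexV : ∀ b, LinearMap.ker (dV (b + 1)) = LinearMap.range (dV b))
    (hfU : ∀ i, Module.Finite k (Hs dU U' i)) (hfV : ∀ j, Module.Finite k (Hs dV V' j))
    (hfU0 : Module.Finite k (LinearMap.ker (dU 0))) (hfV0 : Module.Finite k (LinearMap.ker (dV 0)))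
    (r s : ℕ)
    (hvU : ∀ i, r + 2 < i → Module.finrank k (Hs dU U' i) = 0)
    (hvV : ∀ j, s + 2 < j → Module.finrank k (Hs dV V' j) = 0) :
    Module.finrank k (Hs (TotD dU dV)
        (fun n => LinearMap.ker (TotMap (fun a => (U' a).mkQ) (fun b => (V' b).mkQ) n))
        (r + s + 3)) =
      Module.finrank k (Hs dU U' (r + 2)) * Module.finrank k (Hs dV V' (s + 2)) := by
  have h1 := finrank_Hs_GG_succ dU dV U' hU' V' hV' hdU hdV hexU hexV (r + s + 1)
  rw [show r + s + 3 = r + s + 1 + 2 by ring, ← h1,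
    finrank_Hs_tot (dUb dU U' hU') (dUb dV V' hV') (dUb_dUb dU U' hU' hdU)
      (dUb_dUb dV V' hV' hdV)
      (finite_Hs_Ub' dU U' hU' hdU hexU hfU hfU0)
      (finite_Hs_Ub' dV V' hV' hdV hexV hfV hfV0) (r + s + 1 + 1)]
  have hf : ∀ i, r + 1 < i → Module.finrank k (Hs (dUb dU U' hU') (topSub (Ub U')) i) = 0 := by
    intro i hi
    obtain ⟨i', rfl⟩ : ∃ i', i = i' + 1 := ⟨i - 1, by omega⟩
    rw [finrank_Hs_Ub_succ dU U' hU' hdU hexU i']
    exact hvU _ (by omega)
  have hg : ∀ j, s + 1 < j → Module.finrank k (Hs (dUb dV V' hV') (topSub (Ub V')) j) = 0 := by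
    intro j hj
    obtain ⟨j', rfl⟩ : ∃ j', j = j' + 1 := ⟨j - 1, by omega⟩
    rw [finrank_Hs_Ub_succ dV V' hV' hdV hexV j']
    exact hvV _ (by omega)
  rw [Finset.sum_eq_single (⟨(r + 1, s + 1), by ring⟩ : Idx (r + s + 1 + 1))]
  · rw [finrank_Hs_Ub_succ dU U' hU' hdU hexU r, finrank_Hs_Ub_succ dV V' hV' hdV hexV s]
  · rintro ⟨⟨a, b⟩, hab⟩ _ hne
    by_cases ha : r + 1 < a
    · rw [hf a ha, zero_mul]
    · by_cases hb : s + 1 < b
      · rw [hg b hb, mul_zero]
      · exfalso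
        apply hne
        simp only at hab
        have h1 : a = r + 1 := by omega
        have h2 : b = s + 1 := by omega
        subst h1 h2
        rfl
  · intro h
    exact absurd (Finset.mem_univ _) h

end Top

end Groth.Agent.H93.TopKun
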