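import Mathlib
import Groth.Agent.H81.Seg.SelfRes
import Groth.Agent.H81.Seg.TotMainProof
import Groth.Agent.H93.TopKun

/-!
# Top-degree Künneth formula for the local cohomology of Segre products (helper93)

`dim H^{r+s-1}_P(M # N)_d = dim H^r_m(M)_d · dim H^s_n(N)_d` when `H^i_m(M)_d = 0` for `i > r`,
`H^j_n(N)_d = 0` for `j > s` and `r, s ≥ 2` — no depth hypotheses.  Built on helper81's
`Groth.Agent.H81.Seg` library.
-/

set_option autoImplicit false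
set_option linter.unusedSectionVars false
set_option linter.style.haveILetI false

universe u

namespace Groth.Agent.H93.SegreTop

open scoped TensorProduct
open Groth.Agent.H98 Groth.Agent.H81.Kun Groth.Agent.H81.Seg Groth.Agent.H98.GrStar

section Mod

variable {k : Type u} [Field k] {R : Type u} [CommRing R] [Nontrivial R] [Algebra k R]
  (𝒜 : ℤ → Submodule k R) [GradedAlgebra 𝒜] (hposR : ∀ n : ℤ, n < 0 → 𝒜 n = ⊥)
  (h0R : 𝒜 0 = Submodule.span k {(1 : R)}) [Algebra.FiniteType k R]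
  {S : Type u} [CommRing S] [Nontrivial S] [Algebra k S]
  (ℬ : ℤ → Submodule k S) [GradedAlgebra ℬ] (hposS : ∀ n : ℤ, n < 0 → ℬ n = ⊥)
  (h0S : ℬ 0 = Submodule.span k {(1 : S)}) [Algebra.FiniteType k S]
  {T : Type u} [CommRing T] [Algebra k T] (𝒯 : ℤ → Submodule k T) [GradedAlgebra 𝒯]
  {ψ : T →ₐ[k] R ⊗[k] S} (hT : GrSeg.IsSegreRing 𝒜 ℬ 𝒯 ψ)
  (mR : HomogeneousIdeal 𝒜)
  (hmR : mR.toIdeal = Ideal.span (⋃ n ∈ Set.Ioi (0 : ℤ), (𝒜 n : Set R)))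
  (mS : HomogeneousIdeal ℬ)
  (hmS : mS.toIdeal = Ideal.span (⋃ n ∈ Set.Ioi (0 : ℤ), (ℬ n : Set S)))
  (mT : HomogeneousIdeal 𝒯)
  (hmT : mT.toIdeal = Ideal.span (⋃ n ∈ Set.Ioi (0 : ℤ), (𝒯 n : Set T)))
  {M : Type u} [AddCommGroup M] [Module R M] [Module k M] [IsScalarTower k R M]
  {ℳ : ℤ → AddSubgroup M} [DirectSum.Decomposition ℳ] [SetLike.GradedSMul 𝒜 ℳ]
  [Module.Finite R M] (EM : GrLC.StarInjRes 𝒜 ℳ)
  {N : Type u} [AddCommGroup N] [Module S N] [Module k N] [IsScalarTower k S N]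
  {𝒩 : ℤ → AddSubgroup N} [DirectSum.Decomposition 𝒩] [SetLike.GradedSMul ℬ 𝒩]
  [Module.Finite S N] (EN : GrLC.StarInjRes ℬ 𝒩)
  {P : Type u} [AddCommGroup P] [Module T P] [Module k P] [IsScalarTower k T P]
  {𝒬 : ℤ → AddSubgroup P} [DirectSum.Decomposition 𝒬] [SetLike.GradedSMul 𝒯 𝒬]
  {φ : P →ₗ[k] M ⊗[k] N} (hP : GrSeg.IsSegreMod ψ ℳ 𝒩 𝒬 φ)
  (EP : GrLC.StarInjRes 𝒯 𝒬)

include hposR h0R hposS h0S hT hmR hmS hmT hP in
/-- **top-degree Künneth formula** for the local cohomology of a Segre product of modules -/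
theorem top_modules (r s : ℕ) (d : ℤ)
    (hvM : ∀ i, r + 2 < i → EM.Hcomp mR i d = ⊥)
    (hvN : ∀ j, s + 2 < j → EN.Hcomp mS j d = ⊥) :
    Module.finrank (GrLC.deg0 𝒯) (EP.Hcomp mT (r + s + 3) d) =
      Module.finrank (GrLC.deg0 𝒜) (EM.Hcomp mR (r + 2) d) *
        Module.finrank (GrLC.deg0 ℬ) (EN.Hcomp mS (s + 2) d) := by
  haveI : IsNoetherianRing R := Algebra.FiniteType.isNoetherianRing k R
  haveI : IsNoetherianRing S := Algebra.FiniteType.isNoetherianRing k S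
  have hdC : ∀ a x, (ofRes (k := k) EM).dk (a + 1) ((ofRes (k := k) EM).dk a x) = 0 :=
    (ofRes (k := k) EM).dk_dk
  have hdD : ∀ b y, (ofRes (k := k) EN).dk (b + 1) ((ofRes (k := k) EN).dk b y) = 0 :=
    (ofRes (k := k) EN).dk_dk
  have hexC : ∀ a, LinearMap.ker ((ofRes (k := k) EM).dk (a + 1)) =
      LinearMap.range ((ofRes (k := k) EM).dk a) := by
    intro a
    ext x
    have h := EM.exact_succ a
    constructor
    · intro hx
      have : x ∈ LinearMap.ker (EM.d (a + 1)) := hx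
      rw [h] at this
      obtain ⟨y, rfl⟩ := this
      exact ⟨y, rfl⟩
    · rintro ⟨y, rfl⟩
      exact hdC a y
  have hexD : ∀ b, LinearMap.ker ((ofRes (k := k) EN).dk (b + 1)) =
      LinearMap.range ((ofRes (k := k) EN).dk b) := by
    intro b
    ext x
    have h := EN.exact_succ b
    constructor
    · intro hx
      have : x ∈ LinearMap.ker (EN.d (b + 1)) := hx
      rw [h] at this
      obtain ⟨y, rfl⟩ := this
      exact ⟨y, rfl⟩
    · rintro ⟨y, rfl⟩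
      exact hdD b y
  have hex : TotExact (ofRes (k := k) EM) (ofRes (k := k) EN) :=
    ⟨tot_ker_zero (ofRes (k := k) EM).dk (ofRes (k := k) EN).dk hdC hdD hexC hexD,
      tot_exact_succ (ofRes (k := k) EM).dk (ofRes (k := k) EN).dk hdC hdD hexC hexD⟩
  rw [finrank_Hcomp_segre_eq 𝒜 h0R ℬ h0S 𝒯 hT mR hmR mS hmS mT hmT EM EN hP EP hex (r + s + 3) d,
    finrank_Hcomp_eq 𝒜 h0R EM mR (r + 2) d, finrank_Hcomp_eq ℬ h0S EN mS (s + 2) d]
  exact Groth.Agent.H93.TopKun.top ((ofRes (k := k) EM).dP d) ((ofRes (k := k) EN).dP d)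
    ((ofRes (k := k) EM).dP_dP d) ((ofRes (k := k) EN).dP_dP d)
    ((ofRes (k := k) EM).tor d mR.toIdeal) ((ofRes (k := k) EM).dP_mem_tor d mR.toIdeal)
    ((ofRes (k := k) EN).tor d mS.toIdeal) ((ofRes (k := k) EN).dP_mem_tor d mS.toIdeal)
    (fun a => (ofRes (k := k) EM).dP_exact d a (EM.exact_succ a))
    (fun b => (ofRes (k := k) EN).dP_exact d b (EN.exact_succ b))
    (fun i => finite_Hs 𝒜 h0R EM mR hposR hmR i d)
    (fun j => finite_Hs ℬ h0S EN mS hposS hmS j d)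
    (finite_ker0 𝒜 h0R EM hposR d) (finite_ker0 ℬ h0S EN hposS d) r s
    (fun i hi => by
      rw [← finrank_Hcomp_eq 𝒜 h0R EM mR i d, hvM i hi]
      exact finrank_bot _ _)
    (fun j hj => by
      rw [← finrank_Hcomp_eq ℬ h0S EN mS j d, hvN j hj]
      exact finrank_bot _ _)

end Mod

section Ring

variable {k : Type u} [Field k] {R : Type u} [CommRing R] [Nontrivial R] [Algebra k R]
  (𝒜 : ℤ → Submodule k R) [GradedAlgebra 𝒜] (hposR : ∀ n : ℤ, n < 0 → 𝒜 n = ⊥)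
  (h0R : 𝒜 0 = Submodule.span k {(1 : R)}) [Algebra.FiniteType k R]
  {S : Type u} [CommRing S] [Nontrivial S] [Algebra k S]
  (ℬ : ℤ → Submodule k S) [GradedAlgebra ℬ] (hposS : ∀ n : ℤ, n < 0 → ℬ n = ⊥)
  (h0S : ℬ 0 = Submodule.span k {(1 : S)}) [Algebra.FiniteType k S]
  {T : Type u} [CommRing T] [Algebra k T] (𝒯 : ℤ → Submodule k T) [GradedAlgebra 𝒯]
  {ψ : T →ₐ[k] R ⊗[k] S} (hT : GrSeg.IsSegreRing 𝒜 ℬ 𝒯 ψ)
  (mR : HomogeneousIdeal 𝒜)
  (hmR : mR.toIdeal = Ideal.span (⋃ n ∈ Set.Ioi (0 : ℤ), (𝒜 n : Set R)))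
  (mS : HomogeneousIdeal ℬ)
  (hmS : mS.toIdeal = Ideal.span (⋃ n ∈ Set.Ioi (0 : ℤ), (ℬ n : Set S)))
  (mT : HomogeneousIdeal 𝒯)
  (hmT : mT.toIdeal = Ideal.span (⋃ n ∈ Set.Ioi (0 : ℤ), (𝒯 n : Set T)))
  (I : GrLC.StarInjRes 𝒜 𝒜) (J : GrLC.StarInjRes ℬ ℬ) (IT : GrLC.StarInjRes 𝒯 𝒯)

include hposR h0R hposS h0S hT hmR hmS hmT in
/-- **top-degree Künneth formula** for the local cohomology of a Segre product of rings -/
theorem top_rings (r s : ℕ) (d : ℤ)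
    (hvR : ∀ i, r + 2 < i → I.Hcomp mR i d = ⊥)
    (hvS : ∀ j, s + 2 < j → J.Hcomp mS j d = ⊥) :
    Module.finrank (GrLC.deg0 𝒯) (IT.Hcomp mT (r + s + 3) d) =
      Module.finrank (GrLC.deg0 𝒜) (I.Hcomp mR (r + 2) d) *
        Module.finrank (GrLC.deg0 ℬ) (J.Hcomp mS (s + 2) d) :=
  top_modules 𝒜 hposR h0R ℬ hposS h0S 𝒯 hT mR hmR mS hmS mT hmT
    (selfRes 𝒜 I) (selfRes ℬ J) (isSegreMod_self 𝒜 ℬ 𝒯 hT) (selfRes 𝒯 IT) r s d hvR hvS

end Ring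

end Groth.Agent.H93.SegreTop
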