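import Groth.Agent.H98.Canon.GorFwd
import Groth.Agent.H98.Canon.TopDeg
import Groth.Agent.H98.Canon.ToSelf
import Groth.Agent.H93.CanonDim

/-!
# The shifted module `R(a)` is a *canonical module of a graded Gorenstein ring (helper93)

* `shiftGr 𝒜 a` : the grading `n ↦ 𝒜 (n + a)` of `R(a)`, with its decomposition and graded action;
* `isStarCanonical_shift` : if `H^n_m(R) ≅ *E(R/m)` by a map of degree `g` then `R(-g)` is *canonical;
* `exists_hull_canonical_shift` : for a Gorenstein graded `k`-algebra with `a`-invariant `a`, there is a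
  *injective hull `E` of `R/m` for which `R(a)` is *canonical.
-/

set_option autoImplicit false

universe u

noncomputable section

namespace Groth.Agent.H93.ShiftCanon

open Groth.Agent.H98.GrStar Groth.Agent.H98.Canon Groth.Agent.H98.Bass0

section Shift

variable {R : Type u} [CommRing R] {σ : Type u} [SetLike σ R] [AddSubgroupClass σ R]
  (𝒜 : ℤ → σ) [GradedRing 𝒜]

/-- the pieces of the shifted module `R(a)` -/
def shiftGr (a : ℤ) : ℤ → AddSubgroup R := fun n => selfGr 𝒜 (n + a)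

omit [GradedRing 𝒜] in
theorem mem_shiftGr {a n : ℤ} {x : R} : x ∈ shiftGr 𝒜 a n ↔ x ∈ 𝒜 (n + a) := Iff.rfl

theorem isInternal_shiftGr (a : ℤ) : DirectSum.IsInternal (shiftGr 𝒜 a) := by
  have h : DirectSum.IsInternal (selfGr 𝒜) := DirectSum.Decomposition.isInternal (selfGr 𝒜)
  have h1 : DirectSum.IsInternal (fun n => (selfGr 𝒜 n).toIntSubmodule) := h
  have h2 : DirectSum.IsInternal (fun n => (selfGr 𝒜 (n + a)).toIntSubmodule) := by
    apply DirectSum.isInternal_submodule_of_iSupIndep_of_iSup_eq_top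
    · exact h1.submodule_iSupIndep.comp (add_left_injective a)
    · have := h1.submodule_iSup_eq_top
      rw [← this]
      exact (Equiv.addRight a).surjective.iSup_comp (fun n => (selfGr 𝒜 n).toIntSubmodule)
  exact h2

instance shiftGrDecomposition (a : ℤ) : DirectSum.Decomposition (shiftGr 𝒜 a) :=
  (isInternal_shiftGr 𝒜 a).chooseDecomposition

instance shiftGrGradedSMul (a : ℤ) : SetLike.GradedSMul 𝒜 (shiftGr 𝒜 a) where
  smul_mem := by
    intro i j x y hx hy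
    have h := SetLike.GradedMul.mul_mem (A := 𝒜) hx (show y ∈ 𝒜 (j + a) from hy)
    rw [vadd_eq_add]
    change x * y ∈ 𝒜 (i + j + a)
    rwa [add_assoc]

end Shift

section Canon

variable {R : Type u} [CommRing R] (𝒜 : ℤ → AddSubgroup R) [GradedRing 𝒜]
variable {E' : Type u} [AddCommGroup E'] [Module R E'] (𝓔 : ℤ → AddSubgroup E')
  [DirectSum.Decomposition 𝓔] [SetLike.GradedSMul 𝒜 𝓔]

/-- if `H^n_m(R) ≅ *E` by a map of degree `g`, then `R(-g)` is a *canonical module -/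
theorem isStarCanonical_shift (m : HomogeneousIdeal 𝒜) (n : ℕ) (I : GrLC.StarInjRes 𝒜 𝒜)
    (g : ℤ) (φG : I.H m n ≃ₗ[R] E') (hφG : ∀ i, ∀ y ∈ I.Hgr m n i, φG y ∈ 𝓔 (i + g)) :
    GrLC.IsStarCanonical 𝒜 (shiftGr 𝒜 (-g)) 𝓔 m n I := by
  classical
  letI decH : DirectSum.Decomposition (I.Hgr m n) :=
    (Hgr_isInternal 𝒜 𝒜 I m n).chooseDecomposition
  refine ⟨Module.Finite.self R, (LinearMap.ringLmapEquivSelf R R E').trans φG.symm, ?_⟩
  intro d f hf
  have hf' : GrLC.IsGrHomDeg (shiftGr 𝒜 (-g)) 𝓔 f d := hf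
  have h1 : f 1 ∈ 𝓔 (- -g + d) := by
    apply hf' (- -g) 1
    change (1 : R) ∈ 𝒜 (- -g + -g)
    rw [neg_add_cancel]
    exact SetLike.GradedOne.one_mem
  have h2 := symm_mem_of_shift (I.Hgr m n) 𝓔 φG.toAddEquiv g
    (fun i y hy => by
      have := hφG i y hy
      rwa [add_comm] at this) (- -g + d) (f 1) h1
  have h3 : - -g + d - g = d := by ring
  rw [h3] at h2
  exact h2

end Canon

section Field

variable {k : Type u} [Field k] {R : Type u} [CommRing R] [Nontrivial R] [Algebra k R]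
  (𝒜 : ℤ → Submodule k R) [GradedAlgebra 𝒜] (hpos : ∀ n : ℤ, n < 0 → 𝒜 n = ⊥)
  (h0 : 𝒜 0 = Submodule.span k {(1 : R)}) [Algebra.FiniteType k R]
  (m : HomogeneousIdeal 𝒜)
  (hmsp : m.toIdeal = Ideal.span (⋃ n ∈ Set.Ioi (0 : ℤ), (𝒜 n : Set R)))

/-- transport of *injectivity back from the additive-subgroup grading -/
theorem isStarInj_ofSelf {M : Type u} [AddCommGroup M] [Module R M] (ℳ : ℤ → AddSubgroup M)
    [DirectSum.Decomposition ℳ] [SetLike.GradedSMul 𝒜 ℳ] [SetLike.GradedSMul (selfGr 𝒜) ℳ]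
    (h : GrLC.IsStarInj (selfGr 𝒜) ℳ) : GrLC.IsStarInj 𝒜 ℳ := by
  intro A B f hf hfi g hg
  exact h (gmodToSelf 𝒜 A) (gmodToSelf 𝒜 B) f hf hfi g hg

include hpos h0 hmsp in
/-- **`K_R = R(a)`** for a graded Gorenstein algebra over a field: existence of a *injective hull of
`R/m` for which the shifted module `R(a)`, `a = a(R)`, is *canonical -/
theorem exists_hull_canonical_shift [LocCoh.IsGorensteinRing R] (r : ℕ)
    (hr : ringKrullDim R = r) (I : GrLC.StarInjRes 𝒜 𝒜) (a : ℤ)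
    (ha : GrLC.endDeg (I.Hgr m r) = ((a : WithTop ℤ) : WithBot (WithTop ℤ))) :
    ∃ (E : GrLC.GMod.{u} 𝒜) (e : (R ⧸ m.toIdeal) →ₗ[R] E.carrier),
      GrLC.IsStarInjHull 𝒜 (GrLC.quotGr 𝒜 m) E.gr e ∧
        GrLC.IsStarCanonical 𝒜 (shiftGr 𝒜 a) E.gr m r I := by
  haveI : IsNoetherianRing R := Algebra.FiniteType.isNoetherianRing k R
  have hpos' := Groth.Agent.H85.SegreOneCM.selfGr_neg 𝒜 hpos
  have hm' := Groth.Agent.H93.CanonDim.isStarLocal_toSelf_of_span 𝒜 hpos h0 m hmsp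
  obtain ⟨Eh, e, he⟩ := exists_isStarInjHull (selfGr 𝒜) (quotIdealGMod (selfGr 𝒜) (toSelfIdeal 𝒜 m)).gr
  have h1 := Groth.Agent.H98.GrHt.height_eq_ringKrullDim_of_isStarLocal (selfGr 𝒜) hpos' hm'
  rw [hr] at h1
  have hht : (toSelfIdeal 𝒜 m).toIdeal.height = r := by exact_mod_cast h1
  obtain ⟨g, φG, hφG⟩ := exists_top_H_equiv R (selfGr 𝒜) (toSelfIdeal 𝒜 m) hm' r hht
    (resToSelf 𝒜 I) Eh.carrier Eh.gr e he
  letI decH : DirectSum.Decomposition ((resToSelf 𝒜 I).Hgr (toSelfIdeal 𝒜 m) r) :=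
    (Hgr_isInternal (selfGr 𝒜) (selfGr 𝒜) (resToSelf 𝒜 I) (toSelfIdeal 𝒜 m) r).chooseDecomposition
  have hsymm : ∀ j x, x ∈ Eh.gr j →
      φG.symm x ∈ (resToSelf 𝒜 I).Hgr (toSelfIdeal 𝒜 m) r (j + -g) := by
    intro j x hx
    have := symm_mem_of_shift ((resToSelf 𝒜 I).Hgr (toSelfIdeal 𝒜 m) r) Eh.gr φG.toAddEquiv g
      (fun i y hy => by
        have := hφG i y hy
        rwa [add_comm] at this) j x hx
    rwa [sub_eq_add_neg] at this
  have hmsp' : (toSelfIdeal 𝒜 m).toIdeal =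
      Ideal.span (⋃ n ∈ Set.Ioi (0 : ℤ), (selfGr 𝒜 n : Set R)) := hmsp
  have hga : g = -a := by
    have h2 := endDeg_eq_of_hull_equiv (selfGr 𝒜) (fun n hn r hr => by
        have := hpos' n hn
        rw [this] at hr
        exact AddSubgroup.mem_bot.mp hr) hm' hmsp' Eh.gr e he.toIsStarEss
      (resToSelf 𝒜 I) r (-g) φG.symm hsymm
    have h3 : GrLC.endDeg ((resToSelf 𝒜 I).Hgr (toSelfIdeal 𝒜 m) r) =
        ((a : WithTop ℤ) : WithBot (WithTop ℤ)) := ha
    rw [h3, WithBot.coe_inj, WithTop.coe_inj] at h2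
    omega
  subst hga
  let E : GrLC.GMod.{u} 𝒜 := gmodOfSelf 𝒜 Eh
  refine ⟨E, e, ?_, ?_⟩
  · exact
      { injective := he.injective
        grHom := fun g x hx => he.grHom g x hx
        essential := he.essential
        starInj := by
          haveI : SetLike.GradedSMul (selfGr 𝒜) E.gr := Eh.gsmul
          exact isStarInj_ofSelf 𝒜 E.gr he.starInj }
  · haveI : SetLike.GradedSMul 𝒜 Eh.gr := gradedSMul_ofSelf 𝒜 Eh.gr
    have hcan := isStarCanonical_shift (selfGr 𝒜) Eh.gr (toSelfIdeal 𝒜 m) r (resToSelf 𝒜 I)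
      (-a) φG (fun i y hy => hφG i y hy)
    obtain ⟨hfin, φ, hφ⟩ := hcan
    rw [neg_neg] at hφ
    exact ⟨hfin, φ, fun d h hh => hφ d h hh⟩

end Field

end Groth.Agent.H93.ShiftCanon
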