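import Mathlib.CategoryTheory.Localization.CalculusOfFractions
import Mathlib.CategoryTheory.ObjectProperty.FullSubcategory
import Groth.Agent.H84.OverLoc

/-!
# Localization of a full subcategory closed under denominators

Let `W` be a class of morphisms of `C` with a calculus of right fractions and `P` a property of
objects of `C` such that the source of a morphism of `W` with target in `P` is in `P`.  Then the
class `W_P` of morphisms of the full subcategory `P` lying in `W` has a calculus of right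
fractions (`hasRightCalculusOfFractions_fullSubcategory`) and the functor from the localization of
the full subcategory at `W_P` to the localization of `C` at `W` is fully faithful
(`full`, `faithful`).
-/

set_option autoImplicit false

open CategoryTheory

universe v₁ v₂ v₃ u₁ u₂ u₃

namespace Groth.Agent.H93.SubLoc

variable {C : Type u₁} [Category.{v₁} C] (W : MorphismProperty C) [W.HasRightCalculusOfFractions]
  (P : ObjectProperty C)
  (hP : ∀ ⦃X' X : C⦄ (s : X' ⟶ X), W s → P X → P X')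

include hP in
theorem hasRightCalculusOfFractions_fullSubcategory :
    (W.inverseImage P.ι).HasRightCalculusOfFractions where
  exists_rightFraction X Y φ := by
    obtain ⟨ψ, hψ⟩ :=
      (MorphismProperty.LeftFraction.mk (W := W) φ.f.hom φ.s.hom φ.hs).exists_rightFraction
    have hψ' : ψ.s ≫ φ.f.hom = ψ.f ≫ φ.s.hom := hψ
    let X' : P.FullSubcategory := ⟨ψ.X', hP ψ.s ψ.hs X.property⟩
    refine ⟨⟨(ObjectProperty.homMk ψ.s : X' ⟶ X), ψ.hs,
      (ObjectProperty.homMk ψ.f : X' ⟶ Y)⟩, ?_⟩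
    apply ObjectProperty.hom_ext
    exact hψ'
  ext X Y Y' f₁ f₂ s hs h := by
    obtain ⟨X', t, ht, hft⟩ := MorphismProperty.HasRightCalculusOfFractions.ext
      f₁.hom f₂.hom s.hom hs (congrArg InducedCategory.Hom.hom h)
    let X'' : P.FullSubcategory := ⟨X', hP t ht X.property⟩
    refine ⟨X'', (ObjectProperty.homMk t : X'' ⟶ X), ht, ?_⟩
    apply ObjectProperty.hom_ext
    exact hft

variable {D : Type u₂} [Category.{v₂} D] (L : C ⥤ D) [L.IsLocalization W]
  {E : Type u₃} [Category.{v₃} E] (L' : P.FullSubcategory ⥤ E)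
  [L'.IsLocalization (W.inverseImage P.ι)]
  (Φ : E ⥤ D) (e : L' ⋙ Φ ≅ P.ι ⋙ L)

include W hP L' e

theorem full_aux (A B : P.FullSubcategory) (ψ : Φ.obj (L'.obj A) ⟶ Φ.obj (L'.obj B)) :
    ∃ χ : L'.obj A ⟶ L'.obj B, Φ.map χ = ψ := by
  let ψ' : L.obj A.obj ⟶ L.obj B.obj := (e.app A).inv ≫ ψ ≫ (e.app B).hom
  have hψ : ψ = (e.app A).hom ≫ ψ' ≫ (e.app B).inv := by simp [ψ']
  obtain ⟨φ, hφ⟩ := Localization.exists_rightFraction L W ψ'
  have hφ' : L.map φ.s ≫ ψ' = L.map φ.f := by rw [hφ]; exact φ.map_s_comp_map L _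
  let A'' : P.FullSubcategory := ⟨φ.X', hP φ.s φ.hs A.property⟩
  let σ : A'' ⟶ A := ObjectProperty.homMk φ.s
  have hσ : (W.inverseImage P.ι) σ := φ.hs
  let ν : A'' ⟶ B := ObjectProperty.homMk φ.f
  have hσiso : IsIso (L'.map σ) := Localization.inverts L' _ σ hσ
  have key : (P.ι ⋙ L).map σ ≫ ψ' = (P.ι ⋙ L).map ν := hφ'
  have n1 : Φ.map (L'.map σ) ≫ (e.app A).hom = (e.app A'').hom ≫ (P.ι ⋙ L).map σ :=
    e.hom.naturality σ
  have n2 : Φ.map (L'.map ν) ≫ (e.app B).hom = (e.app A'').hom ≫ (P.ι ⋙ L).map ν :=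
    e.hom.naturality ν
  refine ⟨inv (L'.map σ) ≫ L'.map ν, ?_⟩
  rw [Φ.map_comp, Functor.map_inv, IsIso.inv_comp_eq, hψ, ← Category.assoc, n1, Category.assoc,
    ← Category.assoc ((P.ι ⋙ L).map σ), key, ← Category.assoc, ← n2, Category.assoc]
  simp

theorem full : Φ.Full := ⟨fun {X Y} ψ => by
  have := Localization.essSurj L' (W.inverseImage P.ι)
  let iX : L'.obj (L'.objPreimage X) ≅ X := L'.objObjPreimageIso X
  let iY : L'.obj (L'.objPreimage Y) ≅ Y := L'.objObjPreimageIso Y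
  obtain ⟨χ, hχ⟩ := full_aux W P hP L L' Φ e (L'.objPreimage X) (L'.objPreimage Y)
    (Φ.map iX.hom ≫ ψ ≫ Φ.map iY.inv)
  refine ⟨iX.inv ≫ χ ≫ iY.hom, ?_⟩
  rw [Φ.map_comp, Φ.map_comp, hχ]
  simp [← Φ.map_comp_assoc, ← Φ.map_comp]⟩

theorem faithful_aux (A B : P.FullSubcategory) (χ₁ χ₂ : L'.obj A ⟶ L'.obj B)
    (h : Φ.map χ₁ = Φ.map χ₂) : χ₁ = χ₂ := by
  haveI := hasRightCalculusOfFractions_fullSubcategory W P hP
  obtain ⟨A', s, hs, n₁, n₂, h₁, h₂⟩ :=
    Groth.Agent.H84.OverLoc.exists_common_denominator L' (W.inverseImage P.ι) χ₁ χ₂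
  have hsiso : IsIso (L'.map s) := Localization.inverts L' _ s hs
  have hΦ : Φ.map (L'.map n₁) = Φ.map (L'.map n₂) := by
    rw [← h₁, ← h₂, Φ.map_comp, Φ.map_comp, h]
  have k1 : Φ.map (L'.map n₁) ≫ (e.app B).hom = (e.app A').hom ≫ (P.ι ⋙ L).map n₁ :=
    e.hom.naturality n₁
  have k2 : Φ.map (L'.map n₂) ≫ (e.app B).hom = (e.app A').hom ≫ (P.ι ⋙ L).map n₂ :=
    e.hom.naturality n₂
  have hpost : (P.ι ⋙ L).map n₁ = (P.ι ⋙ L).map n₂ := by
    rw [hΦ, k2] at k1
    exact ((cancel_epi (e.app A').hom).1 k1).symm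
  have hL : L.map n₁.hom = L.map n₂.hom := hpost
  obtain ⟨Z, t, ht, hteq⟩ := (MorphismProperty.map_eq_iff_precomp L W _ _).1 hL
  let Z' : P.FullSubcategory := ⟨Z, hP t ht A'.property⟩
  let τ : Z' ⟶ A' := ObjectProperty.homMk t
  have hτ : (W.inverseImage P.ι) τ := ht
  have hτiso : IsIso (L'.map τ) := Localization.inverts L' _ τ hτ
  have hτeq : τ ≫ n₁ = τ ≫ n₂ := by
    apply ObjectProperty.hom_ext
    exact hteq
  have hn : L'.map n₁ = L'.map n₂ := by
    have := congrArg L'.map hτeq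
    rw [L'.map_comp, L'.map_comp] at this
    exact (cancel_epi (L'.map τ)).1 this
  rw [← cancel_epi (L'.map s), h₁, h₂, hn]

theorem faithful : Φ.Faithful := ⟨fun {X Y} χ₁ χ₂ h => by
  have := Localization.essSurj L' (W.inverseImage P.ι)
  let iX : L'.obj (L'.objPreimage X) ≅ X := L'.objObjPreimageIso X
  let iY : L'.obj (L'.objPreimage Y) ≅ Y := L'.objObjPreimageIso Y
  have := faithful_aux W P hP L L' Φ e (L'.objPreimage X) (L'.objPreimage Y)
    (iX.hom ≫ χ₁ ≫ iY.inv) (iX.hom ≫ χ₂ ≫ iY.inv) (by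
      rw [Φ.map_comp, Φ.map_comp, Φ.map_comp, Φ.map_comp, h])
  rw [← cancel_epi iX.hom, ← cancel_mono iY.inv]
  simpa using this⟩

end Groth.Agent.H93.SubLoc
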