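import Mathlib.RingTheory.GradedAlgebra.Basic
import Mathlib.RingTheory.Ideal.Quotient.Operations
import Mathlib.RingTheory.GradedAlgebra.Homogeneous.Ideal
import Mathlib.LinearAlgebra.Span.Basic

set_option autoImplicit false
universe u v w

namespace Groth.Agent.H93.TorusGr

open DirectSum

variable {k : Type u} [Field k] {M : Type v} [AddCommGroup M] [DecidableEq M]
  {A : Type w} [CommRing A] [Algebra k A] (𝒜 : M → Submodule k A) [GradedAlgebra 𝒜]

/-- if all homogeneous elements of nonzero degree lie in the proper ideal `m` and `s ∉ m`,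
then the degree-zero component of `s` is not in `m`. -/
theorem decompose_zero_notMem (m : Ideal A)
    (hfix : ∀ i : M, i ≠ 0 → ∀ a ∈ 𝒜 i, a ∈ m) (s : A) (hs : s ∉ m) :
    (decompose 𝒜 s 0 : A) ∉ m := by
  classical
  intro h0
  apply hs
  rw [← DirectSum.sum_support_decompose 𝒜 s]
  refine Ideal.sum_mem _ fun i _ => ?_
  by_cases hi : i = 0
  · subst hi; exact h0
  · exact hfix i hi _ (SetLike.coe_mem _)

theorem mem_sq
    (m : Ideal A) [m.IsMaximal]
    (hfix : ∀ i : M, i ≠ 0 → ∀ a ∈ 𝒜 i, a ∈ m)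
    (hred : ∀ a ∈ m, ∃ s ∉ m, s * a ∈ Ideal.span {b : A | ∃ i : M, i ≠ 0 ∧ b ∈ 𝒜 i})
    {f : A} (hf0 : f ∈ 𝒜 0) (hfm : f ∈ m) : f ∈ m ^ 2 := by
  obtain ⟨s, hs, hsf⟩ := hred f hfm
  obtain ⟨n, c, g, hsum⟩ := Submodule.mem_span_set'.1 hsf
  -- degree zero part
  have h1 : (decompose 𝒜 (s * f) 0 : A) = (decompose 𝒜 s 0 : A) * f :=
    coe_decompose_mul_of_right_mem_zero 𝒜 hf0
  have h2 : (decompose 𝒜 (s * f) 0 : A) ∈ m ^ 2 := by
    rw [← hsum, decompose_sum, DFinsupp.finsetSum_apply, AddSubmonoidClass.coe_finsetSum]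
    refine Ideal.sum_mem _ fun j _ => ?_
    obtain ⟨i, hi, hgi⟩ := (g j).2
    have h3 : (decompose 𝒜 (c j • (g j : A)) 0 : A) = (decompose 𝒜 (c j) (-i) : A) * (g j : A) := by
      have := coe_decompose_mul_add_of_right_mem 𝒜 (i := -i) (a := c j) hgi
      rw [neg_add_cancel] at this
      rw [smul_eq_mul, this]
    rw [h3, pow_two]
    exact Ideal.mul_mem_mul (hfix (-i) (neg_ne_zero.2 hi) _ (SetLike.coe_mem _)) (hfix i hi _ hgi)
  rw [h1] at h2
  have hs0 := decompose_zero_notMem 𝒜 m hfix s hs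
  -- invert `s₀` modulo `m`
  obtain ⟨t, ht⟩ := Ideal.Quotient.exists_inv (I := m)
    (a := Ideal.Quotient.mk m (decompose 𝒜 s 0 : A))
    (by rwa [Ne, Ideal.Quotient.eq_zero_iff_mem])
  obtain ⟨t, rfl⟩ := Ideal.Quotient.mk_surjective t
  have h4 : 1 - (decompose 𝒜 s 0 : A) * t ∈ m := by
    rw [← Ideal.Quotient.eq_zero_iff_mem, map_sub, map_mul, ht, map_one, sub_self]
  have h5 : f = t * ((decompose 𝒜 s 0 : A) * f) + (1 - (decompose 𝒜 s 0 : A) * t) * f := by ring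
  rw [h5]
  refine add_mem (Ideal.mul_mem_left _ _ h2) ?_
  rw [pow_two]
  exact Ideal.mul_mem_mul h4 hfm

end Groth.Agent.H93.TorusGr
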