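import Mathlib.RingTheory.GradedAlgebra.Basic
import Mathlib.RingTheory.GradedAlgebra.Homogeneous.Ideal
import Mathlib.RingTheory.Localization.AtPrime.Basic
import Mathlib.RingTheory.Nakayama
import Mathlib.RingTheory.LocalRing.MaximalIdeal.Basic
import Mathlib.LinearAlgebra.Span.Basic

set_option autoImplicit false
universe u v w x

namespace Groth.Agent.H93.TorusGr

open DirectSum

variable {k : Type u} [Field k] {M : Type v} [AddCommGroup M] [DecidableEq M]
  {A : Type w} [CommRing A] [Algebra k A] (𝒜 : M → Submodule k A) [GradedAlgebra 𝒜]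
  {B : Type x} [CommRing B] [Algebra k B] (ℬ : M → Submodule k B) [GradedAlgebra ℬ]

theorem map_decompose (φ : B →ₐ[k] A) (hφ : ∀ i : M, ∀ b ∈ ℬ i, φ b ∈ 𝒜 i) (b : B) (j : M) :
    φ (decompose ℬ b j) = decompose 𝒜 (φ b) j := by
  classical
  conv_rhs => rw [← DirectSum.sum_support_decompose ℬ b]
  rw [map_sum, decompose_sum, DFinsupp.finsetSum_apply, AddSubmonoidClass.coe_finsetSum]
  have h : ∀ l ∈ (decompose ℬ b).support,
      ((decompose 𝒜 (φ (decompose ℬ b l : B)) j : 𝒜 j) : A) =
        if l = j then φ (decompose ℬ b j : B) else 0 := by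
    intro l _
    split_ifs with hlj
    · subst hlj
      exact decompose_of_mem_same 𝒜 (hφ l _ (SetLike.coe_mem _))
    · exact decompose_of_mem_ne 𝒜 (hφ l _ (SetLike.coe_mem _)) hlj
  rw [Finset.sum_congr rfl h, Finset.sum_ite_eq']
  split_ifs with hj
  · rfl
  · rw [DFinsupp.mem_support_toFun, not_not] at hj
    rw [hj]; simp

theorem ker_isHomogeneous
    (φ : B →ₐ[k] A) (hφ : ∀ i : M, ∀ b ∈ ℬ i, φ b ∈ 𝒜 i)
    (m : Ideal A) [m.IsMaximal] (hfix : ∀ i : M, i ≠ 0 → ∀ a ∈ 𝒜 i, a ∈ m) :
    (RingHom.ker ((algebraMap A (Localization.AtPrime m)).comp (φ : B →+* A))).IsHomogeneous ℬ := by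
  classical
  intro i b hb
  rw [RingHom.mem_ker, RingHom.comp_apply] at hb ⊢
  set S := Localization.AtPrime m
  set a : A := φ b with ha
  obtain ⟨s, hs⟩ := (IsLocalization.map_eq_zero_iff m.primeCompl S a).1 hb
  -- components of `s`
  have hs0 : (decompose 𝒜 (s : A) 0 : A) ∉ m := by
    intro h0
    apply s.2
    change (s : A) ∈ m
    rw [← DirectSum.sum_support_decompose 𝒜 (s : A)]
    refine Ideal.sum_mem _ fun j _ => ?_
    by_cases hj : j = 0
    · subst hj; exact h0
    · exact hfix j hj _ (SetLike.coe_mem _)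
  -- the submodule generated by the components of `a`
  let comp : M → S := fun j => algebraMap A S (decompose 𝒜 a j : A)
  let N : Submodule S S := Submodule.span S (Set.range comp)
  have hNfg : N.FG := by
    apply Submodule.fg_span
    have : Set.range comp ⊆ ((decompose 𝒜 a).support.image comp : Finset S) ∪ {0} := by
      rintro _ ⟨j, rfl⟩
      by_cases hj : j ∈ (decompose 𝒜 a).support
      · left; exact Finset.mem_coe.2 (Finset.mem_image_of_mem _ hj)
      · right
        rw [DFinsupp.mem_support_toFun, not_not] at hj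
        simp [comp, hj]
    exact Set.Finite.subset ((Finset.finite_toSet _).union (Set.finite_singleton 0)) this
  -- each component equation
  have heq : ∀ i' : M, ∑ j ∈ (decompose 𝒜 (s : A)).support,
      (decompose 𝒜 (s : A) j : A) * (decompose 𝒜 a (i' - j) : A) = 0 := by
    intro i'
    have h1 : (decompose 𝒜 ((s : A) * a) i' : A) = 0 := by rw [hs]; simp
    rw [← h1]
    conv_rhs => rw [← DirectSum.sum_support_decompose 𝒜 (s : A), Finset.sum_mul]
    rw [decompose_sum, DFinsupp.finsetSum_apply, AddSubmonoidClass.coe_finsetSum]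
    refine Finset.sum_congr rfl fun j _ => ?_
    have := coe_decompose_mul_add_of_left_mem 𝒜 (i := j) (j := i' - j) (b := a)
      (SetLike.coe_mem (decompose 𝒜 (s : A) j))
    rw [add_sub_cancel] at this
    exact this.symm
  have hN : N ≤ IsLocalRing.maximalIdeal S • N := by
    rw [Submodule.span_le]
    rintro _ ⟨i', rfl⟩
    have h1 := heq i'
    have hunit : IsUnit (algebraMap A S (decompose 𝒜 (s : A) 0 : A)) :=
      (IsLocalization.AtPrime.isUnit_to_map_iff S m _).2 hs0
    obtain ⟨u, hu⟩ := hunit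
    -- split off the `j = 0` term
    have h2 : algebraMap A S ((decompose 𝒜 (s : A) 0 : A) * (decompose 𝒜 a i' : A)) =
        - ∑ j ∈ (decompose 𝒜 (s : A)).support.erase 0,
          algebraMap A S (decompose 𝒜 (s : A) j : A) * comp (i' - j) := by
      rw [eq_neg_iff_add_eq_zero]
      simp only [comp, ← map_mul, ← map_sum, ← map_add]
      by_cases h0 : (0 : M) ∈ (decompose 𝒜 (s : A)).support
      · have h5 := Finset.add_sum_erase (decompose 𝒜 (s : A)).support
          (fun j => (decompose 𝒜 (s : A) j : A) * (decompose 𝒜 a (i' - j) : A)) h0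
        have h6 : (decompose 𝒜 a (i' - 0) : A) = (decompose 𝒜 a i' : A) :=
          congrArg (fun j => (decompose 𝒜 a j : A)) (sub_zero i')
        rw [h6] at h5
        rw [h5, h1, map_zero]
      · rw [Finset.erase_eq_of_notMem h0, h1]
        rw [DFinsupp.mem_support_toFun, not_not] at h0
        rw [h0]
        simp
    have h3 : comp i' = (↑u⁻¹ : S) * algebraMap A S ((decompose 𝒜 (s : A) 0 : A) *
        (decompose 𝒜 a i' : A)) := by
      rw [map_mul, ← hu, ← mul_assoc, Units.inv_mul, one_mul]
    change comp i' ∈ _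
    rw [h3, h2, mul_neg, Finset.mul_sum]
    refine neg_mem (Submodule.sum_mem _ fun j hj => ?_)
    rw [← mul_assoc, ← smul_eq_mul (a := _ * _)]
    refine Submodule.smul_mem_smul ?_ (Submodule.subset_span ⟨_, rfl⟩)
    refine Ideal.mul_mem_left _ _ ?_
    rw [IsLocalization.AtPrime.to_map_mem_maximal_iff S m]
    exact hfix j (Finset.ne_of_mem_erase hj) _ (SetLike.coe_mem _)
  have hbot : N = ⊥ := Submodule.eq_bot_of_le_smul_of_le_jacobson_bot _ N hNfg hN
    (IsLocalRing.maximalIdeal_le_jacobson _)
  have : comp i ∈ N := Submodule.subset_span ⟨i, rfl⟩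
  rw [hbot, Submodule.mem_bot] at this
  change algebraMap A S (φ (decompose ℬ b i : B)) = 0
  rw [map_decompose 𝒜 ℬ φ hφ]
  exact this

end Groth.Agent.H93.TorusGr
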