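import Groth.Agent.H93.DualMod
import Mathlib.RingTheory.HopfAlgebra.Basic
import Mathlib.RingTheory.HopfAlgebra.TensorProduct

set_option autoImplicit false
universe u v w w'
open TensorProduct

namespace Groth.Agent.H93

section Twist

variable {k : Type u} [CommRing k] {A : Type v} [AddCommGroup A] [Module k A] [Coalgebra k A]
variable {V : Type w} [AddCommGroup V] [Module k V] [HopfRep.Comod k A V]

variable (V) in
/-- `v ⊗ a ↦ ∑ v₀ ⊗ κ (v₁ ⊗ a)`. -/
noncomputable def tw (κ : A ⊗[k] A →ₗ[k] A) : V ⊗[k] A →ₗ[k] V ⊗[k] A :=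
  κ.lTensor V ∘ₗ (TensorProduct.assoc k V A A).toLinearMap ∘ₗ
    (HopfRep.Comod.coact (k := k) (A := A) (V := V)).rTensor A

theorem tw_tmul (κ : A ⊗[k] A →ₗ[k] A) (v : V) (a : A) :
    tw V κ (v ⊗ₜ a) = κ.lTensor V (TensorProduct.assoc k V A A
      (HopfRep.Comod.coact (k := k) (A := A) v ⊗ₜ a)) := rfl

/-- the product on `A ⊗ A → A` corresponding to composition of twists. -/
noncomputable def star (l κ : A ⊗[k] A →ₗ[k] A) : A ⊗[k] A →ₗ[k] A :=
  l ∘ₗ κ.lTensor A ∘ₗ (TensorProduct.assoc k A A A).toLinearMap ∘ₗ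
    (Coalgebra.comul (R := k) (A := A)).rTensor A

theorem tw_comp (l κ : A ⊗[k] A →ₗ[k] A) : tw V l ∘ₗ tw V κ = tw V (star l κ) := by
  have hco := HopfRep.Comod.coassoc (k := k) (A := A) (V := V)
  -- Step 1: LHS in terms of the double coaction
  apply TensorProduct.ext'
  intro v a
  let Λ : (V ⊗[k] A) ⊗[k] A →ₗ[k] V ⊗[k] A :=
    l.lTensor V ∘ₗ (TensorProduct.assoc k V A A).toLinearMap ∘ₗ
      (κ ∘ₗ (TensorProduct.mk k A A).flip a).lTensor (V ⊗[k] A)
  have hΛ : ∀ (y : V ⊗[k] A) (b : A), Λ (y ⊗ₜ b) =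
      l.lTensor V (TensorProduct.assoc k V A A (y ⊗ₜ κ (b ⊗ₜ a))) := fun y b => rfl
  have h1 : ∀ y : V ⊗[k] A, tw V l (κ.lTensor V (TensorProduct.assoc k V A A (y ⊗ₜ a))) =
      Λ ((HopfRep.Comod.coact (k := k) (A := A) (V := V)).rTensor A y) := by
    intro y
    induction y using TensorProduct.induction_on with
    | zero => simp
    | tmul x b =>
      simp only [assoc_tmul, LinearMap.lTensor_tmul, LinearMap.rTensor_tmul, tw_tmul, hΛ]
    | add y y' hy hy' => simp only [add_tmul, map_add, hy, hy', LinearMap.add_apply]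
  have h2 : ∀ y : V ⊗[k] A, Λ ((TensorProduct.assoc k V A A).symm
      ((Coalgebra.comul (R := k) (A := A)).lTensor V y)) =
      (star l κ).lTensor V (TensorProduct.assoc k V A A (y ⊗ₜ a)) := by
    intro y
    induction y using TensorProduct.induction_on with
    | zero => simp
    | tmul x b =>
      simp only [assoc_tmul, LinearMap.lTensor_tmul, star, LinearMap.comp_apply,
        LinearMap.rTensor_tmul, LinearEquiv.coe_coe]
      induction (Coalgebra.comul (R := k) b : A ⊗[k] A) using TensorProduct.induction_on with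
      | zero => simp
      | tmul b' b'' => simp [hΛ]
      | add z z' hz hz' =>
        simp only [tmul_add, add_tmul, map_add, LinearMap.add_apply, hz, hz']
    | add y y' hy hy' => simp only [add_tmul, map_add, hy, hy', LinearMap.add_apply]
  rw [LinearMap.comp_apply, tw_tmul, h1, tw_tmul, ← h2]
  congr 1
  have h3 := LinearMap.congr_fun hco v
  simp only [LinearMap.comp_apply, LinearEquiv.coe_coe] at h3
  rw [← h3, LinearEquiv.symm_apply_apply]

theorem tw_lTensor_comp (T : A →ₗ[k] A) (κ : A ⊗[k] A →ₗ[k] A) :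
    tw V (T ∘ₗ κ) = T.lTensor V ∘ₗ tw V κ := by
  unfold tw
  rw [LinearMap.lTensor_comp]
  rfl

/-- `b ⊗ a ↦ ε b • a` -/
noncomputable def kε : A ⊗[k] A →ₗ[k] A :=
  (TensorProduct.lid k A).toLinearMap ∘ₗ (Coalgebra.counit (R := k) (A := A)).rTensor A

@[simp] theorem kε_tmul (b a : A) : kε (k := k) (b ⊗ₜ a) = Coalgebra.counit (R := k) b • a := by
  simp [kε]

theorem tw_kε : tw V (kε (k := k) (A := A)) = LinearMap.id := by
  have hcu := HopfRep.Comod.counit_comp (k := k) (A := A) (V := V)
  apply TensorProduct.ext'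
  intro v a
  have h1 : ∀ y : V ⊗[k] A, (kε (k := k) (A := A)).lTensor V (TensorProduct.assoc k V A A (y ⊗ₜ a)) =
      (LinearMap.toSpanSingleton k A a).lTensor V
        ((Coalgebra.counit (R := k) (A := A)).lTensor V y) := by
    intro y
    induction y using TensorProduct.induction_on with
    | zero => simp
    | tmul x b => simp
    | add y y' hy hy' => simp only [add_tmul, map_add, hy, hy']
  have h2 := LinearMap.congr_fun hcu v
  simp only [LinearMap.comp_apply, LinearMap.flip_apply, TensorProduct.mk_apply] at h2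
  rw [tw_tmul, h1, h2]
  simp

end Twist

end Groth.Agent.H93
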