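import Groth.Prelude.Def_AlgGrp
import Mathlib.CategoryTheory.Monoidal.Cartesian.Mon
import Mathlib.AlgebraicGeometry.AffineScheme
import Mathlib.AlgebraicGeometry.Pullbacks
import Mathlib.CategoryTheory.Limits.Constructions.Over.Connected

set_option autoImplicit false
set_option linter.unusedSectionVars false
universe u v₁ u₁
open CategoryTheory MonoidalCategory CartesianMonoidalCategory MonObj Limits

namespace Groth.Agent.H93.Units

section General

variable {C : Type u₁} [Category.{v₁} C] [CartesianMonoidalCategory C] [HasPullbacks C]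
  (M : C) [MonObj M]

/-- `(a, b) ↦ (a b, b a)` -/
noncomputable def φ : M ⊗ M ⟶ M ⊗ M := lift μ[M] (lift (snd M M) (fst M M) ≫ μ[M])

/-- the point `(1, 1)` -/
noncomputable def e : 𝟙_ C ⟶ M ⊗ M := lift η[M] η[M]

/-- the object of units -/
noncomputable abbrev G : C := pullback (φ M) (e M)

/-- the inclusion of the units -/
noncomputable def i : G M ⟶ M := pullback.fst (φ M) (e M) ≫ fst M M

theorem lift_comp_φ {T : C} (m n : T ⟶ M) : lift m n ≫ φ M = lift (m * n) (n * m) := by
  simp only [φ, comp_lift, Hom.mul_def, lift_fst, lift_snd, ← Category.assoc]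

theorem toUnit_comp_e {T : C} : toUnit T ≫ e M = lift (1 : T ⟶ M) 1 := by
  simp only [e, comp_lift, Hom.one_def]

theorem cond_iff {T : C} (m n : T ⟶ M) :
    lift m n ≫ φ M = toUnit T ≫ e M ↔ m * n = 1 ∧ n * m = 1 := by
  rw [lift_comp_φ, toUnit_comp_e]
  constructor
  · intro h
    have h1 := congrArg (· ≫ fst M M) h
    have h2 := congrArg (· ≫ snd M M) h
    simp only [lift_fst, lift_snd] at h1 h2
    exact ⟨h1, h2⟩
  · rintro ⟨h1, h2⟩
    rw [h1, h2]

theorem factors_iff {T : C} (m : T ⟶ M) : (∃ g : T ⟶ G M, g ≫ i M = m) ↔ IsUnit m := by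
  constructor
  · rintro ⟨g, rfl⟩
    set p := g ≫ pullback.fst (φ M) (e M) with hp
    have hp' : p = lift (p ≫ fst M M) (p ≫ snd M M) := by
      apply CartesianMonoidalCategory.hom_ext <;> simp
    have hc : p ≫ φ M = toUnit T ≫ e M := by
      rw [hp, Category.assoc, pullback.condition, ← Category.assoc]
      congr 1
      exact toUnit_unique _ _
    rw [hp', cond_iff] at hc
    have : g ≫ i M = p ≫ fst M M := by rw [i, hp, Category.assoc]
    rw [this]
    exact ⟨⟨p ≫ fst M M, p ≫ snd M M, hc.1, hc.2⟩, rfl⟩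
  · rintro ⟨u, rfl⟩
    have hc : lift (u : T ⟶ M) ((u⁻¹ : (T ⟶ M)ˣ) : T ⟶ M) ≫ φ M = toUnit T ≫ e M := by
      rw [cond_iff]
      exact ⟨u.mul_inv, u.inv_mul⟩
    refine ⟨pullback.lift _ _ hc, ?_⟩
    rw [i, ← Category.assoc, pullback.lift_fst, lift_fst]

theorem mono_i : Mono (i M) := by
  constructor
  intro T g₁ g₂ h
  have key : ∀ g : T ⟶ G M, ∃ n : T ⟶ M, g ≫ pullback.fst (φ M) (e M) = lift (g ≫ i M) n ∧
      (g ≫ i M) * n = 1 ∧ n * (g ≫ i M) = 1 := by
    intro g
    set p := g ≫ pullback.fst (φ M) (e M) with hp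
    have hp' : p = lift (p ≫ fst M M) (p ≫ snd M M) := by
      apply CartesianMonoidalCategory.hom_ext <;> simp
    have hc : p ≫ φ M = toUnit T ≫ e M := by
      rw [hp, Category.assoc, pullback.condition, ← Category.assoc]
      congr 1
      exact toUnit_unique _ _
    rw [hp', cond_iff] at hc
    have : g ≫ i M = p ≫ fst M M := by rw [i, hp, Category.assoc]
    rw [this]
    exact ⟨p ≫ snd M M, hp', hc.1, hc.2⟩
  obtain ⟨n₁, e₁, a₁, b₁⟩ := key g₁
  obtain ⟨n₂, e₂, a₂, b₂⟩ := key g₂
  rw [h] at e₁ a₁ b₁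
  have hn : n₁ = n₂ := by
    calc n₁ = n₁ * ((g₂ ≫ i M) * n₂) := by rw [a₂, _root_.mul_one]
      _ = (n₁ * (g₂ ≫ i M)) * n₂ := by rw [_root_.mul_assoc]
      _ = n₂ := by rw [b₁, _root_.one_mul]
  apply pullback.hom_ext
  · rw [e₁, e₂, hn]
  · exact toUnit_unique _ _

end General

section Scheme

open AlgebraicGeometry

theorem exists_units (k : Type u) [CommRing k]
    (M : Over (Spec (CommRingCat.of k))) [MonObj M] :
    ∃ (G : Over (Spec (CommRingCat.of k))) (i : G ⟶ M), Mono i ∧
      (∀ (T : Over (Spec (CommRingCat.of k))) (m : T ⟶ M), (∃ g : T ⟶ G, g ≫ i = m) ↔ IsUnit m) ∧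
      (IsAffine M.left → IsAffine G.left) := by
  refine ⟨G M, i M, mono_i M, fun T m => factors_iff M m, ?_⟩
  intro hM
  let S := Spec (CommRingCat.of k)
  have h1 : IsAffine (M ⊗ M).left := by
    rw [Over.tensorObj_left]
    infer_instance
  have h2 : IsAffine (𝟙_ (Over S)).left := by
    rw [Over.tensorUnit_left]
    infer_instance
  let iso := PreservesPullback.iso (Over.forget S) (φ M) (e M)
  have h3 : IsAffine (pullback ((Over.forget S).map (φ M)) ((Over.forget S).map (e M))) := by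
    change IsAffine (pullback (φ M).left (e M).left)
    infer_instance
  have hiso : IsIso iso.hom := Iso.isIso_hom iso
  exact @IsAffine.of_isIso _ _ iso.hom hiso h3

end Scheme

end Groth.Agent.H93.Units
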