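import Groth.Prelude.Def_GrLC
import Mathlib.RingTheory.Noetherian.Defs
import Mathlib.RingTheory.Ideal.Span
import Mathlib.LinearAlgebra.Span.Defs
import Mathlib.LinearAlgebra.Span.Basic
import Mathlib.Algebra.Module.LinearMap.Defs
import Mathlib.RingTheory.GradedAlgebra.Basic
import Mathlib.Tactic.Linarith
import Mathlib.Tactic.Ring

set_option autoImplicit false
universe u

namespace Groth.Agent.H93.Veronese

open DirectSum

variable {R : Type u} [CommRing R] (𝒜 : ℤ → AddSubgroup R) [GradedRing 𝒜]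

/-- products of an element of degree `n` and an element of degree `k` -/
def prodSet (n k : ℤ) : Set R := {x | ∃ u ∈ 𝒜 n, ∃ v ∈ 𝒜 k, x = u * v}

theorem mem_closure_prod_one
    (hstd : Ideal.span (⋃ n ∈ Set.Ioi (0 : ℤ), (𝒜 n : Set R)) = Ideal.span ((𝒜 1 : AddSubgroup R) : Set R))
    (n : ℤ) (hn : 0 ≤ n) (x : R) (hx : x ∈ 𝒜 (n + 1)) :
    x ∈ AddSubgroup.closure (prodSet 𝒜 n 1) := by
  have h1 : x ∈ Ideal.span ((𝒜 1 : AddSubgroup R) : Set R) := by
    rw [← hstd]
    apply Ideal.subset_span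
    simp only [Set.mem_iUnion]
    exact ⟨n + 1, by simp only [Set.mem_Ioi]; omega, hx⟩
  obtain ⟨N, f, g, hsum⟩ := Submodule.mem_span_set'.1 h1
  have h2 : x = ∑ i, ((decompose 𝒜 (f i) n : R) * (g i : R)) := by
    conv_lhs => rw [← decompose_of_mem_same 𝒜 hx, ← hsum]
    rw [decompose_sum, DFinsupp.finsetSum_apply, AddSubmonoidClass.coe_finsetSum]
    refine Finset.sum_congr rfl fun i _ => ?_
    rw [smul_eq_mul]
    exact coe_decompose_mul_add_of_right_mem 𝒜 (g i).2
  rw [h2]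
  refine sum_mem fun i _ => AddSubgroup.subset_closure ?_
  exact ⟨_, SetLike.coe_mem _, _, (g i).2, rfl⟩

theorem mem_closure_prod
    (hstd : Ideal.span (⋃ n ∈ Set.Ioi (0 : ℤ), (𝒜 n : Set R)) = Ideal.span ((𝒜 1 : AddSubgroup R) : Set R))
    (n : ℤ) (hn : 0 ≤ n) (k : ℕ) (x : R) (hx : x ∈ 𝒜 (n + k)) :
    x ∈ AddSubgroup.closure (prodSet 𝒜 n k) := by
  induction k generalizing x with
  | zero =>
    apply AddSubgroup.subset_closure
    refine ⟨x, by simpa using hx, 1, ?_, (mul_one x).symm⟩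
    rw [Nat.cast_zero]
    exact SetLike.GradedOne.one_mem
  | succ k ih =>
    have hx' : x ∈ 𝒜 ((n + k) + 1) := by
      have : n + ((k + 1 : ℕ) : ℤ) = (n + k) + 1 := by push_cast; ring
      rwa [this] at hx
    have h1 := mem_closure_prod_one 𝒜 hstd (n + k) (by positivity) x hx'
    refine AddSubgroup.closure_induction ?_ ?_ ?_ ?_ h1
    · rintro y ⟨u, hu, v, hv, rfl⟩
      have h2 := ih u hu
      refine AddSubgroup.closure_induction ?_ ?_ ?_ ?_ h2
      · rintro z ⟨u', hu', v', hv', rfl⟩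
        apply AddSubgroup.subset_closure
        refine ⟨u', hu', v' * v, ?_, by ring⟩
        have : ((k + 1 : ℕ) : ℤ) = (k : ℤ) + 1 := by push_cast; ring
        rw [this]
        exact SetLike.GradedMul.mul_mem hv' hv
      · rw [zero_mul]; exact zero_mem _
      · intro a b _ _ ha hb; rw [add_mul]; exact add_mem ha hb
      · intro a _ ha; rw [neg_mul]; exact neg_mem ha
    · exact zero_mem _
    · intro a b _ _ ha hb; exact add_mem ha hb
    · intro a _ ha; exact neg_mem ha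

theorem veronese_span
    (hpos : ∀ n : ℤ, n < 0 → 𝒜 n = ⊥)
    (hstd : Ideal.span (⋃ n ∈ Set.Ioi (0 : ℤ), (𝒜 n : Set R)) = Ideal.span ((𝒜 1 : AddSubgroup R) : Set R))
    (q : ℕ) (hq : 0 < q) (R' : Type u) [CommRing R'] (𝒜' : ℤ → AddSubgroup R') [GradedRing 𝒜']
    (φ : R' →+* R) (hdeg : ∀ j : ℤ, (𝒜' j).map (φ : R' →+ R) = 𝒜 (j * q)) (a : ℤ)
    (M' : Type u) [AddCommGroup M'] [Module R' M'] (ℳ' : ℤ → AddSubgroup M')
    [DirectSum.Decomposition ℳ'] [SetLike.GradedSMul 𝒜' ℳ'] (g : M' →ₛₗ[φ] R)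
    (hg : Function.Injective g) (hgdeg : ∀ j : ℤ, (ℳ' j).map (g : M' →+ R) = 𝒜 (a + j * q))
    (j₀ : ℤ) (hj₀ : 0 ≤ a + j₀ * q) (hj₀' : a + (j₀ - 1) * q < 0) :
    Submodule.span R' ((ℳ' j₀ : AddSubgroup M') : Set M') = ⊤ := by
  have hqz : (0 : ℤ) < q := by exact_mod_cast hq
  -- pieces below `j₀` vanish
  have hlow : ∀ j : ℤ, j < j₀ → ∀ x ∈ ℳ' j, x = 0 := by
    intro j hj x hx
    have h1 : g x ∈ 𝒜 (a + j * q) := by
      rw [← hgdeg j]; exact ⟨x, hx, rfl⟩
    have h2 : a + j * q < 0 := by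
      have : j * q ≤ (j₀ - 1) * q := by
        apply mul_le_mul_of_nonneg_right _ hqz.le
        omega
      linarith
    rw [hpos _ h2, AddSubgroup.mem_bot] at h1
    exact hg (h1.trans (map_zero g).symm)
  -- pieces above are in the span
  have hhigh : ∀ (k : ℕ) (x : M'), x ∈ ℳ' (j₀ + k) →
      x ∈ Submodule.span R' ((ℳ' j₀ : AddSubgroup M') : Set M') := by
    intro k
    induction k with
    | zero =>
      intro x hx
      apply Submodule.subset_span
      simpa using hx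
    | succ k ih =>
      intro x hx
      set n : ℤ := a + (j₀ + k) * q with hn
      have hn0 : 0 ≤ n := by
        have : (0 : ℤ) ≤ (k : ℤ) * q := by positivity
        rw [hn]; nlinarith
      have h1 : g x ∈ 𝒜 (n + q) := by
        have h2 : g x ∈ 𝒜 (a + (j₀ + (k + 1 : ℕ)) * q) := by
          rw [← hgdeg]; exact ⟨x, hx, rfl⟩
        have : a + (j₀ + ((k + 1 : ℕ) : ℤ)) * q = n + q := by rw [hn]; push_cast; ring
        rwa [this] at h2
      have h3 := mem_closure_prod 𝒜 hstd n hn0 q (g x) h1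
      have key : ∀ y ∈ AddSubgroup.closure (prodSet 𝒜 n q),
          ∃ x' ∈ Submodule.span R' ((ℳ' j₀ : AddSubgroup M') : Set M'), g x' = y := by
        intro y hy
        refine AddSubgroup.closure_induction ?_ ?_ ?_ ?_ hy
        · rintro z ⟨u, hu, v, hv, rfl⟩
          have hu' : u ∈ (ℳ' (j₀ + k)).map (g : M' →+ R) := by rw [hgdeg]; exact hu
          obtain ⟨m, hm, rfl⟩ := hu'
          have hv' : v ∈ (𝒜' 1).map (φ : R' →+ R) := by rw [hdeg, one_mul]; exact hv
          obtain ⟨r, hr, rfl⟩ := hv'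
          refine ⟨r • m, Submodule.smul_mem _ _ (ih m hm), ?_⟩
          rw [map_smulₛₗ, smul_eq_mul, mul_comm]
          rfl
        · exact ⟨0, zero_mem _, map_zero g⟩
        · rintro y₁ y₂ _ _ ⟨x₁, h₁, rfl⟩ ⟨x₂, h₂, rfl⟩
          exact ⟨x₁ + x₂, add_mem h₁ h₂, map_add g _ _⟩
        · rintro y₁ _ ⟨x₁, h₁, rfl⟩
          exact ⟨-x₁, neg_mem h₁, map_neg g _⟩
      obtain ⟨x', hx', hgx'⟩ := key _ h3
      rw [← hg hgx']
      exact hx'
  rw [eq_top_iff]
  intro x _
  refine DirectSum.Decomposition.inductionOn ℳ' ?_ ?_ ?_ x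
  · exact zero_mem _
  · intro j m
    by_cases hj : j < j₀
    · rw [hlow j hj m m.2]; exact zero_mem _
    · rw [not_lt] at hj
      obtain ⟨k, hk⟩ := Int.eq_ofNat_of_zero_le (sub_nonneg.2 hj)
      have : j = j₀ + k := by omega
      subst this
      exact hhigh k m m.2
  · intro m m' hm hm'
    exact add_mem hm hm'

end Groth.Agent.H93.Veronese
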