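import Groth.Agent.H93.ZCDesc

/-!
# Graded prime avoidance and the covering by `D_+(f ⊗ ⋯ ⊗ f)` (S13391)
-/

set_option autoImplicit false

universe u

open PiTensorProduct
open scoped TensorProduct

namespace Groth.Agent.H93.ZC

variable {A B : Type u} [CommRing A] [CommRing B] [Algebra A B]
  (𝒜 : ℕ → Submodule A B) [GradedAlgebra 𝒜]

/-- Graded prime avoidance: finitely many primes, each missing an element of degree one, are
simultaneously avoided by a homogeneous element of positive degree. -/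
lemma graded_avoid {ι : Type*} [DecidableEq ι] (s : Finset ι) (𝔮 : ι → Ideal B)
    (h𝔮 : ∀ i ∈ s, (𝔮 i).IsPrime) (h1 : ∀ i ∈ s, ∃ f ∈ 𝒜 1, f ∉ 𝔮 i) :
    ∃ n : ℕ, 0 < n ∧ ∃ f ∈ 𝒜 n, ∀ i ∈ s, f ∉ 𝔮 i := by
  induction s using Finset.strongInduction with
  | H s ih =>
    -- elements avoiding all primes but one
    have hex : ∀ j ∈ s, ∃ n : ℕ, 0 < n ∧ ∃ f ∈ 𝒜 n, ∀ i ∈ s.erase j, f ∉ 𝔮 i := by
      intro j hj
      exact ih (s.erase j) (Finset.erase_ssubset hj)
        (fun i hi => h𝔮 i (Finset.mem_of_mem_erase hi))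
        (fun i hi => h1 i (Finset.mem_of_mem_erase hi))
    by_cases hgood : ∃ j ∈ s, ∃ n : ℕ, 0 < n ∧ ∃ f ∈ 𝒜 n, (∀ i ∈ s.erase j, f ∉ 𝔮 i) ∧ f ∉ 𝔮 j
    · obtain ⟨j, hj, n, hn, f, hf, hfe, hfj⟩ := hgood
      refine ⟨n, hn, f, hf, fun i hi => ?_⟩
      by_cases hij : i = j
      · rw [hij]; exact hfj
      · exact hfe i (Finset.mem_erase.mpr ⟨hij, hi⟩)
    · -- all the `f_j` lie in `𝔮 j`
      simp only [not_exists, not_and, not_not] at hgood
      rcases s.eq_empty_or_nonempty with rfl | ⟨j₁, hj₁⟩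
      · exact ⟨1, one_pos, 0, Submodule.zero_mem _, by simp⟩
      by_cases hone : s.erase j₁ = ∅
      · -- only one prime
        obtain ⟨f, hf, hfj⟩ := h1 j₁ hj₁
        refine ⟨1, one_pos, f, hf, fun i hi => ?_⟩
        by_cases hij : i = j₁
        · rw [hij]; exact hfj
        · exact absurd (Finset.mem_erase.mpr ⟨hij, hi⟩) (by rw [hone]; simp)
      · choose! n hn f hf hfe using hex
        have hfj : ∀ j ∈ s, f j ∈ 𝔮 j := fun j hj =>
          hgood j hj (n j) (hn j hj) (f j) (hf j hj) (hfe j hj)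
        obtain ⟨j₂, hj₂⟩ := Finset.nonempty_iff_ne_empty.mpr hone
        have hj₂s : j₂ ∈ s := Finset.mem_of_mem_erase hj₂
        set a : ℕ := ∑ j ∈ s.erase j₁, n j with ha
        set b : ℕ := n j₁ with hb
        have ha0 : 0 < a := by
          have h2 : n j₂ ≤ a := Finset.single_le_sum (f := n) (fun _ _ => Nat.zero_le _) hj₂
          have := hn j₂ hj₂s
          omega
        have hb0 : 0 < b := hn j₁ hj₁
        set g : B := ∏ j ∈ s.erase j₁, f j with hg
        have hgdeg : g ∈ 𝒜 a := by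
          rw [hg, ha]
          exact SetLike.prod_mem_graded (A := 𝒜) n f
            (fun j hj => hf j (Finset.mem_of_mem_erase hj))
        refine ⟨a * b, Nat.mul_pos ha0 hb0, f j₁ ^ a + g ^ b, ?_, ?_⟩
        · refine Submodule.add_mem _ ?_ ?_
          · have := SetLike.pow_mem_graded (A := 𝒜) a (hf j₁ hj₁)
            rwa [smul_eq_mul, ← hb] at this
          · have := SetLike.pow_mem_graded (A := 𝒜) b hgdeg
            rwa [smul_eq_mul, mul_comm] at this
        · intro i hi hmem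
          haveI := h𝔮 i hi
          by_cases hij : i = j₁
          · subst hij
            have h1' : f i ^ a ∈ 𝔮 i := Ideal.pow_mem_of_mem _ (hfj i hi) a ha0
            have h2 : g ^ b ∈ 𝔮 i := by
              have := (𝔮 i).sub_mem hmem h1'
              rwa [add_sub_cancel_left] at this
            have h3 : g ∈ 𝔮 i := Ideal.IsPrime.mem_of_pow_mem inferInstance b h2
            rw [hg, Ideal.IsPrime.prod_mem_iff] at h3
            obtain ⟨j, hj, hjm⟩ := h3
            have hjs := Finset.mem_of_mem_erase hj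
            have hne : j ≠ i := (Finset.mem_erase.mp hj).1
            exact hfe j hjs i (Finset.mem_erase.mpr ⟨hne.symm, hi⟩) hjm
          · have hie : i ∈ s.erase j₁ := Finset.mem_erase.mpr ⟨hij, hi⟩
            have h2 : g ^ b ∈ 𝔮 i := by
              apply Ideal.pow_mem_of_mem _ _ b hb0
              rw [hg, Ideal.IsPrime.prod_mem_iff]
              exact ⟨i, hie, hfj i hi⟩
            have h1' : f j₁ ^ a ∈ 𝔮 i := by
              have := (𝔮 i).sub_mem hmem h2
              rwa [add_sub_cancel_right] at this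
            have h3 : f j₁ ∈ 𝔮 i := Ideal.IsPrime.mem_of_pow_mem inferInstance a h1'
            exact hfe j₁ hj₁ i hie h3

variable (d : ℕ)

/-- the symmetric powers `f ⊗ ⋯ ⊗ f` of homogeneous elements of positive degree -/
def Spow : Set (TT A B d) :=
  {s | ∃ (n : ℕ) (f : B), 0 < n ∧ f ∈ 𝒜 n ∧ s = tprod A (fun _ : Fin d => f)}

/-- Step 1 for the symmetric powers. -/
lemma radical_pow {c : Fin d → B} (hc : ∀ i, c i ∈ 𝒜 1) :
    tprod A c ∈ (Ideal.span (Spow 𝒜 d)).radical := by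
  classical
  rw [Ideal.radical_eq_sInf, Ideal.mem_sInf]
  rintro 𝔔 ⟨hle, hprime⟩
  by_contra hnot
  haveI := hprime
  have hdiag : ∀ i, c i ∉ qPrime d 𝔔 i := by
    intro i hi
    rw [mem_qPrime] at hi
    apply hnot
    rw [← prod_eTen d c, ← Finset.mul_prod_erase _ _ (Finset.mem_univ i)]
    exact Ideal.mul_mem_right _ _ hi
  obtain ⟨n, hn, f, hf, hfa⟩ := graded_avoid 𝒜 (Finset.univ : Finset (Fin d)) (qPrime d 𝔔)
    (fun i _ => inferInstance) (fun i _ => ⟨c i, hc i, hdiag i⟩)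
  refine tprod_const_notMem d (fun i => hfa i (Finset.mem_univ i)) ?_
  exact hle (Ideal.subset_span ⟨n, f, hn, hf, rfl⟩)

/-- S13391 in the notation of this library. -/
theorem main_pow (hgen : Algebra.adjoin A (𝒜 1 : Set B) = ⊤)
    (k : ℕ) (hk : 0 < k) (t : TT A B d) (htD : t ∈ DD 𝒜 d) (htk : t ∈ Ck 𝒜 d k) :
    ∃ m : ℕ, 0 < m ∧ (⟨t, htD⟩ : DD 𝒜 d) ^ m ∈
      Ideal.span {x : DD 𝒜 d | ∃ (n : ℕ) (f : B), 0 < n ∧ f ∈ 𝒜 n ∧
        (x : TT A B d) = tprod A (fun _ : Fin d => f)} := by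
  rcases Nat.eq_zero_or_pos d with hd | hd
  · subst hd
    refine ⟨1, one_pos, ?_⟩
    have h1 : (1 : DD 𝒜 0) ∈ Ideal.span {x : DD 𝒜 0 | ∃ (n : ℕ) (f : B), 0 < n ∧ f ∈ 𝒜 n ∧
        (x : TT A B 0) = tprod A (fun _ : Fin 0 => f)} := by
      apply Ideal.subset_span
      refine ⟨1, 0, one_pos, Submodule.zero_mem _, ?_⟩
      change (1 : TT A B 0) = _
      rw [PiTensorProduct.one_def]
      congr 1
      funext i
      exact i.elim0
    rw [(Ideal.eq_top_iff_one _).mpr h1]
    trivial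
  · exact main_generic 𝒜 d hgen (Spow 𝒜 d)
      (fun s hs => by
        obtain ⟨n, f, _, _, rfl⟩ := hs
        exact tprod_const_mem_TS d f)
      (fun c hc => tprod_mem_RT_of_radical_gen 𝒜 d hd _
        (fun s hs => by
          obtain ⟨n, f, _, hf, rfl⟩ := hs
          exact ⟨n, tprod_const_mem_Ck 𝒜 d hf⟩) hc (radical_pow 𝒜 d hc))
      k hk t htD htk

end Groth.Agent.H93.ZC
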