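import Mathlib
import Groth.Prelude.Def_SymTen

/-!
# Tensor powers of a graded algebra: diagonal subalgebra and multigraded projections
-/

set_option autoImplicit false

universe u

open PiTensorProduct
open scoped TensorProduct

namespace Groth.Agent.H93.ZC

variable {A B : Type u} [CommRing A] [CommRing B] [Algebra A B]
  (𝒜 : ℕ → Submodule A B) [GradedAlgebra 𝒜] (d : ℕ)

/-- The `d`-fold tensor power. -/
abbrev TT (A B : Type u) [CommRing A] [CommRing B] [Algebra A B] (d : ℕ) := ⨂[A] _ : Fin d, B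

/-- pure tensors with all entries of degree `k` -/
def pureK (k : ℕ) : Set (TT A B d) :=
  {s | ∃ b : Fin d → B, (∀ i, b i ∈ 𝒜 k) ∧ s = PiTensorProduct.tprod A b}

/-- their span -/
def Ck (k : ℕ) : Submodule A (TT A B d) := Submodule.span A (pureK 𝒜 d k)

/-- generators of the diagonal subalgebra -/
def Cgen : Set (TT A B d) :=
  {t | ∃ (k : ℕ) (b : Fin d → B), (∀ i, b i ∈ 𝒜 k) ∧ t = PiTensorProduct.tprod A b}

/-- the diagonal subalgebra -/
def CC : Subalgebra A (TT A B d) := Algebra.adjoin A (Cgen 𝒜 d)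

lemma pureK_subset_Cgen (k : ℕ) : pureK 𝒜 d k ⊆ Cgen 𝒜 d := by
  rintro _ ⟨b, hb, rfl⟩
  exact ⟨k, b, hb, rfl⟩

lemma Ck_le_CC (k : ℕ) {x : TT A B d} (hx : x ∈ Ck 𝒜 d k) : x ∈ CC 𝒜 d := by
  have h : Ck 𝒜 d k ≤ Subalgebra.toSubmodule (CC 𝒜 d) := by
    unfold Ck
    rw [Submodule.span_le]
    intro s hs
    exact Algebra.subset_adjoin (pureK_subset_Cgen 𝒜 d k hs)
  exact h hx

/-- The multigraded projection. -/
noncomputable def P (m : Fin d → ℕ) : TT A B d →ₗ[A] TT A B d :=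
  PiTensorProduct.map (fun i => GradedAlgebra.proj 𝒜 (m i))

lemma P_tprod (m : Fin d → ℕ) (y : Fin d → B) :
    P 𝒜 d m (tprod A y) = tprod A (fun i => GradedAlgebra.proj 𝒜 (m i) (y i)) := by
  unfold P
  rw [PiTensorProduct.map_tprod]

lemma proj_mul_of_mem {n : ℕ} {a : B} (ha : a ∈ 𝒜 n) (m : ℕ) (b : B) :
    GradedAlgebra.proj 𝒜 (n + m) (a * b) = a * GradedAlgebra.proj 𝒜 m b := by
  rw [GradedAlgebra.proj_apply, GradedAlgebra.proj_apply,
    DirectSum.coe_decompose_mul_add_of_left_mem 𝒜 ha]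

lemma proj_of_mem {n : ℕ} {a : B} (ha : a ∈ 𝒜 n) : GradedAlgebra.proj 𝒜 n a = a := by
  rw [GradedAlgebra.proj_apply, DirectSum.decompose_of_mem_same 𝒜 ha]

lemma proj_of_mem_ne {n m : ℕ} {a : B} (ha : a ∈ 𝒜 n) (h : n ≠ m) :
    GradedAlgebra.proj 𝒜 m a = 0 := by
  rw [GradedAlgebra.proj_apply, DirectSum.decompose_of_mem_ne 𝒜 ha h]

lemma proj_mem (n : ℕ) (a : B) : GradedAlgebra.proj 𝒜 n a ∈ 𝒜 n := by
  rw [GradedAlgebra.proj_apply]
  exact SetLike.coe_mem _

/-- multiplication by a pure tensor of degree `n` shifts the projection -/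
lemma P_pure_mul {n : ℕ} {e : Fin d → B} (he : ∀ i, e i ∈ 𝒜 n) (m : Fin d → ℕ)
    (τ : TT A B d) :
    P 𝒜 d (fun i => n + m i) (tprod A e * τ) = tprod A e * P 𝒜 d m τ := by
  induction τ using PiTensorProduct.induction_on with
  | smul_tprod r y =>
    rw [mul_smul_comm, map_smul, map_smul, mul_smul_comm, tprod_mul_tprod, P_tprod, P_tprod,
      tprod_mul_tprod]
    congr 2
    funext i
    exact proj_mul_of_mem 𝒜 (he i) (m i) (y i)
  | add x y hx hy =>
    rw [mul_add, map_add, map_add, mul_add, hx, hy]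

lemma P_Ck_mul {n : ℕ} {s : TT A B d} (hs : s ∈ Ck 𝒜 d n) (N : ℕ) (τ : TT A B d) :
    P 𝒜 d (fun _ => n + N) (s * τ) = s * P 𝒜 d (fun _ => N) τ := by
  unfold Ck at hs
  induction hs using Submodule.span_induction with
  | mem x hx =>
    obtain ⟨e, he, rfl⟩ := hx
    exact P_pure_mul 𝒜 d he (fun _ => N) τ
  | zero => simp
  | add x y _ _ hx hy => rw [add_mul, map_add, hx, hy, add_mul]
  | smul a x _ hx => rw [smul_mul_assoc, map_smul, hx, smul_mul_assoc]

lemma P_mem_Ck (N : ℕ) (τ : TT A B d) : P 𝒜 d (fun _ => N) τ ∈ Ck 𝒜 d N := by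
  induction τ using PiTensorProduct.induction_on with
  | smul_tprod r y =>
    rw [map_smul, P_tprod]
    exact Submodule.smul_mem _ _ (Submodule.subset_span ⟨_, fun i => proj_mem 𝒜 N (y i), rfl⟩)
  | add x y hx hy =>
    rw [map_add]
    exact Submodule.add_mem _ hx hy

lemma P_fix {N : ℕ} {y : TT A B d} (hy : y ∈ Ck 𝒜 d N) : P 𝒜 d (fun _ => N) y = y := by
  unfold Ck at hy
  induction hy using Submodule.span_induction with
  | mem x hx =>
    obtain ⟨e, he, rfl⟩ := hx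
    rw [P_tprod]
    congr 1
    funext i
    exact proj_of_mem 𝒜 (he i)
  | zero => simp
  | add x y _ _ hx hy => rw [map_add, hx, hy]
  | smul a x _ hx => rw [map_smul, hx]

lemma tprod_pow (c : Fin d → B) (n : ℕ) : (tprod A c) ^ n = tprod A (fun i => c i ^ n) := by
  induction n with
  | zero =>
    simp only [pow_zero]
    rfl
  | succ n ih =>
    rw [pow_succ, ih, tprod_mul_tprod]
    congr 1
    funext i
    simp [pow_succ]

lemma tprod_pow_mem {c : Fin d → B} (hc : ∀ i, c i ∈ 𝒜 1) (n : ℕ) :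
    (tprod A c) ^ n ∈ Ck 𝒜 d n := by
  rw [tprod_pow]
  refine Submodule.subset_span ⟨_, fun i => ?_, rfl⟩
  have := SetLike.pow_mem_graded n (hc i)
  simpa using this

end Groth.Agent.H93.ZC
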