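import Groth.Agent.H93.ZCAvoid

/-!
# Covering by `D_+(f ⊗ ⋯ ⊗ f)` with `f` of degree one, when the residue fields are big (S13392)
-/

set_option autoImplicit false

universe u

open PiTensorProduct
open scoped TensorProduct

namespace Groth.Agent.H93.ZC

/-- A module is not the union of `n` proper "`𝔭`-prime" submodules if `A ⧸ 𝔭` has at least `n`
elements. -/
lemma exists_avoid_prime_submodules {A M : Type*} [CommRing A] [AddCommGroup M] [Module A M]
    (𝔭 : Ideal A) (n : ℕ) (a : Fin n → A) (ha : ∀ j j', j ≠ j' → a j - a j' ∉ 𝔭)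
    {ι : Type*} [DecidableEq ι] (s : Finset ι) (hs : s.card ≤ n) (N : ι → Submodule A M)
    (hprime : ∀ i ∈ s, ∀ (x : A) (m : M), x • m ∈ N i → x ∈ 𝔭 ∨ m ∈ N i)
    (hproper : ∀ i ∈ s, ∃ m, m ∉ N i) : ∃ m, ∀ i ∈ s, m ∉ N i := by
  induction s using Finset.induction_on with
  | empty => exact ⟨0, by simp⟩
  | insert i₀ s hi₀ ih =>
    have hcard : s.card < n := by
      rw [Finset.card_insert_of_notMem hi₀] at hs
      omega
    obtain ⟨u, hu⟩ := ih (by omega)
      (fun i hi => hprime i (Finset.mem_insert_of_mem hi))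
      (fun i hi => hproper i (Finset.mem_insert_of_mem hi))
    by_cases hu0 : u ∈ N i₀
    · obtain ⟨v, hv⟩ := hproper i₀ (Finset.mem_insert_self _ _)
      by_contra hcon
      simp only [not_exists, not_forall, not_not] at hcon
      -- each `v + a j • u` lies in some `N i`, `i ∈ s`
      have hex : ∀ j : Fin n, ∃ i ∈ s, v + a j • u ∈ N i := by
        intro j
        obtain ⟨i, hi, hmem⟩ := hcon (v + a j • u)
        rcases Finset.mem_insert.mp hi with rfl | his
        · exfalso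
          apply hv
          have := (N i).sub_mem hmem ((N i).smul_mem (a j) hu0)
          rwa [add_sub_cancel_right] at this
        · exact ⟨i, his, hmem⟩
      choose φ hφs hφ using hex
      obtain ⟨j, j', hne, heq⟩ : ∃ j j' : Fin n, j ≠ j' ∧ φ j = φ j' := by
        have := Finset.exists_ne_map_eq_of_card_lt_of_maps_to (s := (Finset.univ : Finset (Fin n)))
          (t := s) (by simpa using hcard) (f := φ) (fun j _ => hφs j)
        obtain ⟨j, -, j', -, hne, heq⟩ := this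
        exact ⟨j, j', hne, heq⟩
      have h1 := hφ j
      have h2 := hφ j'
      rw [← heq] at h2
      have h3 : (a j - a j') • u ∈ N (φ j) := by
        have := (N (φ j)).sub_mem h1 h2
        rwa [add_sub_add_left_eq_sub, ← sub_smul] at this
      rcases hprime (φ j) (Finset.mem_insert_of_mem (hφs j)) _ _ h3 with h4 | h4
      · exact ha j j' hne h4
      · exact hu (φ j) (hφs j) h4
    · refine ⟨u, fun i hi => ?_⟩
      rcases Finset.mem_insert.mp hi with rfl | his
      · exact hu0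
      · exact hu i his

/-- if the residue field at `𝔭` has at least `d` elements, there are `d` elements of `A`
pairwise distinct modulo `𝔭`. -/
lemma exists_distinct_mod {A : Type u} [CommRing A] (𝔭 : Ideal A) [𝔭.IsPrime] (d : ℕ)
    (h : (d : Cardinal) ≤ Cardinal.mk 𝔭.ResidueField) :
    ∃ a : Fin d → A, ∀ j j', j ≠ j' → a j - a j' ∉ 𝔭 := by
  have h1 : Cardinal.mk 𝔭.ResidueField ≤ Cardinal.mk (A ⧸ 𝔭) :=
    IsLocalization.cardinalMk_le (nonZeroDivisors (A ⧸ 𝔭))
  have h2 : Cardinal.lift.{u} (Cardinal.mk (Fin d)) ≤ Cardinal.lift.{0} (Cardinal.mk (A ⧸ 𝔭)) := by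
    rw [Cardinal.mk_fin, Cardinal.lift_natCast, Cardinal.lift_uzero]
    exact h.trans h1
  obtain ⟨e⟩ := Cardinal.lift_mk_le'.mp h2
  refine ⟨fun j => (e j).out, fun j j' hne hmem => hne ?_⟩
  apply e.injective
  rw [← Quotient.out_eq (e j), ← Quotient.out_eq (e j')]
  exact (Ideal.Quotient.mk_eq_mk_iff_sub_mem _ _).mpr hmem

variable {A B : Type u} [CommRing A] [CommRing B] [Algebra A B]
  (𝒜 : ℕ → Submodule A B) [GradedAlgebra 𝒜] (d : ℕ)

/-- the symmetric powers `f ⊗ ⋯ ⊗ f` of elements of degree one -/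
def Spow1 : Set (TT A B d) :=
  {s | ∃ f : B, f ∈ 𝒜 1 ∧ s = tprod A (fun _ : Fin d => f)}

lemma algebraMap_mem_qPrime {𝔔 : Ideal (TT A B d)} (i : Fin d) (x : A) :
    algebraMap A B x ∈ qPrime d 𝔔 i ↔ x ∈ Ideal.comap (algebraMap A (TT A B d)) 𝔔 := by
  unfold qPrime
  rw [Ideal.mem_comap, Ideal.mem_comap, AlgHom.commutes]

/-- Step 1 for the symmetric powers of degree one. -/
lemma radical_pow1 (hres : ∀ p : PrimeSpectrum A, (d : Cardinal) ≤ Cardinal.mk p.asIdeal.ResidueField)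
    {c : Fin d → B} (hc : ∀ i, c i ∈ 𝒜 1) :
    tprod A c ∈ (Ideal.span (Spow1 𝒜 d)).radical := by
  classical
  rw [Ideal.radical_eq_sInf, Ideal.mem_sInf]
  rintro 𝔔 ⟨hle, hprime⟩
  by_contra hnot
  haveI := hprime
  have hdiag : ∀ i, c i ∉ qPrime d 𝔔 i := by
    intro i hi
    rw [mem_qPrime] at hi
    apply hnot
    rw [← prod_eTen d c, ← Finset.mul_prod_erase _ _ (Finset.mem_univ i)]
    exact Ideal.mul_mem_right _ _ hi
  set 𝔭 : Ideal A := Ideal.comap (algebraMap A (TT A B d)) 𝔔 with h𝔭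
  haveI : 𝔭.IsPrime := Ideal.comap_isPrime _ _
  obtain ⟨a, ha⟩ := exists_distinct_mod 𝔭 d (hres ⟨𝔭, inferInstance⟩)
  let N : Fin d → Submodule A (𝒜 1) := fun i =>
    Submodule.comap (𝒜 1).subtype ((qPrime d 𝔔 i).restrictScalars A)
  obtain ⟨f, hf⟩ := exists_avoid_prime_submodules 𝔭 d a ha (Finset.univ : Finset (Fin d))
    (by simp) N
    (by
      intro i _ x m hxm
      have h1 : algebraMap A B x * (m : B) ∈ qPrime d 𝔔 i := by
        have : ((x • m : 𝒜 1) : B) ∈ qPrime d 𝔔 i := hxm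
        rwa [Submodule.coe_smul, Algebra.smul_def] at this
      rcases (qPrime_isPrime d 𝔔 i).mem_or_mem h1 with h2 | h2
      · left
        exact (algebraMap_mem_qPrime d i x).mp h2
      · right
        exact h2)
    (fun i _ => ⟨⟨c i, hc i⟩, hdiag i⟩)
  refine tprod_const_notMem d (f := (f : B)) (fun i => hf i (Finset.mem_univ i)) ?_
  exact hle (Ideal.subset_span ⟨f, f.2, rfl⟩)

/-- S13392 in the notation of this library. -/
theorem main_pow1 (hgen : Algebra.adjoin A (𝒜 1 : Set B) = ⊤)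
    (hres : ∀ p : PrimeSpectrum A, (d : Cardinal) ≤ Cardinal.mk p.asIdeal.ResidueField)
    (k : ℕ) (hk : 0 < k) (t : TT A B d) (htD : t ∈ DD 𝒜 d) (htk : t ∈ Ck 𝒜 d k) :
    ∃ m : ℕ, 0 < m ∧ (⟨t, htD⟩ : DD 𝒜 d) ^ m ∈
      Ideal.span {x : DD 𝒜 d | ∃ f : B, f ∈ 𝒜 1 ∧
        (x : TT A B d) = tprod A (fun _ : Fin d => f)} := by
  exact main_generic 𝒜 d hgen (Spow1 𝒜 d)
    (fun s hs => by
      obtain ⟨f, _, rfl⟩ := hs
      exact tprod_const_mem_TS d f)
    (fun c hc => tprod_mem_RT_of_radical 𝒜 d _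
      (fun s hs => by
        obtain ⟨f, hf, rfl⟩ := hs
        exact tprod_const_mem_Ck 𝒜 d hf) hc (radical_pow1 𝒜 d hres hc))
    k hk t htD htk

end Groth.Agent.H93.ZC
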