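import Groth.Agent.H93.ZCSym

/-!
# Descent from `T` to `C` for generators of arbitrary degrees, and symmetric powers `f ⊗ ⋯ ⊗ f`
-/

set_option autoImplicit false

universe u

open PiTensorProduct
open scoped TensorProduct

namespace Groth.Agent.H93.ZC

variable {A B : Type u} [CommRing A] [CommRing B] [Algebra A B]
  (𝒜 : ℕ → Submodule A B) [GradedAlgebra 𝒜] (d : ℕ)

lemma proj_mul_of_lt {n N : ℕ} {a : B} (ha : a ∈ 𝒜 n) (h : N < n) (b : B) :
    GradedAlgebra.proj 𝒜 N (a * b) = 0 := by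
  rw [GradedAlgebra.proj_apply]
  exact DirectSum.coe_decompose_mul_of_left_mem_of_not_le 𝒜 ha (by omega)

lemma P_pure_mul_zero (hd : 0 < d) {n N : ℕ} (h : N < n) {e : Fin d → B} (he : ∀ i, e i ∈ 𝒜 n)
    (τ : TT A B d) : P 𝒜 d (fun _ => N) (tprod A e * τ) = 0 := by
  induction τ using PiTensorProduct.induction_on with
  | smul_tprod r y =>
    rw [mul_smul_comm, map_smul, tprod_mul_tprod, P_tprod]
    have : tprod A (fun i => GradedAlgebra.proj 𝒜 N ((e * y) i)) = 0 := by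
      apply MultilinearMap.map_coord_zero _ (⟨0, hd⟩ : Fin d)
      exact proj_mul_of_lt 𝒜 (he _) h _
    rw [this, smul_zero]
  | add x y hx hy =>
    rw [mul_add, map_add, hx, hy, add_zero]

lemma P_Ck_mul_zero (hd : 0 < d) {n N : ℕ} (h : N < n) {s : TT A B d} (hs : s ∈ Ck 𝒜 d n)
    (τ : TT A B d) : P 𝒜 d (fun _ => N) (s * τ) = 0 := by
  unfold Ck at hs
  induction hs using Submodule.span_induction with
  | mem x hx =>
    obtain ⟨e, he, rfl⟩ := hx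
    exact P_pure_mul_zero 𝒜 d hd h he τ
  | zero => simp
  | add x y _ _ hx hy => rw [add_mul, map_add, hx, hy, add_zero]
  | smul a x _ hx => rw [smul_mul_assoc, map_smul, hx, smul_zero]

/-- Descent from `T` to `C` for homogeneous generators of arbitrary degrees. -/
lemma descent_gen (hd : 0 < d) (S : Set (TT A B d)) (hS : ∀ s ∈ S, ∃ n, s ∈ Ck 𝒜 d n) (N : ℕ)
    {y : TT A B d} (hy : y ∈ Ideal.span S) :
    ∀ τ : TT A B d, ∃ z : CC 𝒜 d, z ∈ idC 𝒜 d S ∧ (z : TT A B d) = P 𝒜 d (fun _ => N) (τ * y) := by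
  induction hy using Submodule.span_induction with
  | mem s hs =>
    intro τ
    obtain ⟨n, hn⟩ := hS s hs
    by_cases hnN : n ≤ N
    · refine ⟨⟨s, Ck_le_CC 𝒜 d n hn⟩ * ⟨P 𝒜 d (fun _ => N - n) τ,
        Ck_le_CC 𝒜 d (N - n) (P_mem_Ck 𝒜 d (N - n) τ)⟩, ?_, ?_⟩
      · exact Ideal.mul_mem_right _ _ (Ideal.subset_span hs)
      · have hN : N = n + (N - n) := by omega
        rw [mul_comm τ s]
        conv_rhs => rw [hN]
        rw [P_Ck_mul 𝒜 d hn]
        rfl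
    · refine ⟨0, Ideal.zero_mem _, ?_⟩
      rw [mul_comm τ s, P_Ck_mul_zero 𝒜 d hd (by omega) hn]
      rfl
  | zero =>
    intro τ
    exact ⟨0, Ideal.zero_mem _, by simp⟩
  | add x y _ _ hx hy =>
    intro τ
    obtain ⟨z1, hz1, e1⟩ := hx τ
    obtain ⟨z2, hz2, e2⟩ := hy τ
    refine ⟨z1 + z2, Ideal.add_mem _ hz1 hz2, ?_⟩
    rw [mul_add, map_add, ← e1, ← e2]
    rfl
  | smul a x _ hx =>
    intro τ
    obtain ⟨z, hz, e⟩ := hx (τ * a)
    refine ⟨z, hz, ?_⟩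
    rw [e, smul_eq_mul, mul_assoc]

/-- From the radical in `T` to the radical in `C`, homogeneous generators of arbitrary degrees. -/
lemma tprod_mem_RT_of_radical_gen (hd : 0 < d) (S : Set (TT A B d))
    (hS : ∀ s ∈ S, ∃ n, s ∈ Ck 𝒜 d n)
    {c : Fin d → B} (hc : ∀ i, c i ∈ 𝒜 1) (hrad : tprod A c ∈ (Ideal.span S).radical) :
    tprod A c ∈ RT 𝒜 d S := by
  obtain ⟨n, hn⟩ := hrad
  have hn1 : (tprod A c) ^ (1 + n) ∈ Ideal.span S := by
    rw [pow_add, pow_one]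
    exact Ideal.mul_mem_left _ _ hn
  obtain ⟨z, hz, e⟩ := descent_gen 𝒜 d hd S hS (1 + n) hn1 1
  rw [one_mul, P_fix 𝒜 d (tprod_pow_mem 𝒜 d hc (1 + n))] at e
  have hcC : tprod A c ∈ CC 𝒜 d := Ck_le_CC 𝒜 d 1 (Submodule.subset_span ⟨c, hc, rfl⟩)
  refine ⟨hcC, 1 + n, ?_⟩
  have : (⟨tprod A c, hcC⟩ : CC 𝒜 d) ^ (1 + n) = z := Subtype.ext (by rw [e]; rfl)
  rw [this]
  exact hz

/-- the constant pure tensors are symmetric -/
lemma tprod_const_mem_TS (f : B) : tprod A (fun _ : Fin d => f) ∈ SymTen.TS A B d := by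
  intro σ
  rw [PiTensorProduct.reindex_tprod]

lemma tprod_const_mem_Ck {n : ℕ} {f : B} (hf : f ∈ 𝒜 n) :
    tprod A (fun _ : Fin d => f) ∈ Ck 𝒜 d n :=
  Submodule.subset_span ⟨_, fun _ => hf, rfl⟩

/-- `eTen` as a ring homomorphism -/
lemma eTen_eq_single (i : Fin d) (b : B) :
    eTen (A := A) d i b = PiTensorProduct.singleAlgHom (R := A) (A := fun _ : Fin d => B) i b := rfl

/-- the prime of `B` cut out by a prime of `T` through the `i`-th factor -/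
noncomputable def qPrime (𝔔 : Ideal (TT A B d)) (i : Fin d) : Ideal B :=
  Ideal.comap (PiTensorProduct.singleAlgHom (R := A) (A := fun _ : Fin d => B) i) 𝔔

lemma mem_qPrime {𝔔 : Ideal (TT A B d)} {i : Fin d} {b : B} :
    b ∈ qPrime d 𝔔 i ↔ eTen d i b ∈ 𝔔 := Iff.rfl

instance qPrime_isPrime (𝔔 : Ideal (TT A B d)) [𝔔.IsPrime] (i : Fin d) :
    (qPrime d 𝔔 i).IsPrime := by
  unfold qPrime
  infer_instance

/-- if `f` avoids all the primes `qPrime 𝔔 i`, then `f ⊗ ⋯ ⊗ f ∉ 𝔔` -/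
lemma tprod_const_notMem {𝔔 : Ideal (TT A B d)} [𝔔.IsPrime] {f : B}
    (hf : ∀ i, f ∉ qPrime d 𝔔 i) : tprod A (fun _ : Fin d => f) ∉ 𝔔 := by
  rw [← prod_eTen d (fun _ => f)]
  intro h
  rw [Ideal.IsPrime.prod_mem_iff] at h
  obtain ⟨i, -, hi⟩ := h
  exact hf i hi

end Groth.Agent.H93.ZC
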