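import Groth.Agent.H93.ZCBase

/-!
# Generation in degree one
-/

set_option autoImplicit false

universe u

open PiTensorProduct
open scoped TensorProduct Pointwise

namespace Groth.Agent.H93.ZC

variable {A B : Type u} [CommRing A] [CommRing B] [Algebra A B]
  (𝒜 : ℕ → Submodule A B) [GradedAlgebra 𝒜] (d : ℕ)

lemma pow_le_graded (n : ℕ) : (𝒜 1) ^ n ≤ 𝒜 n := by
  induction n with
  | zero =>
    rw [pow_zero, Submodule.one_le]
    exact SetLike.GradedOne.one_mem
  | succ n ih =>
    rw [pow_succ, Submodule.mul_le]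
    intro x hx y hy
    exact SetLike.GradedMul.mul_mem (ih hx) hy

lemma closure_mem_pow {m : B} (hm : m ∈ Submonoid.closure (𝒜 1 : Set B)) :
    ∃ n : ℕ, m ∈ (𝒜 1) ^ n := by
  induction hm using Submonoid.closure_induction with
  | mem x hx => exact ⟨1, by rw [pow_one]; exact hx⟩
  | one => exact ⟨0, by rw [pow_zero]; exact Submodule.one_le.mp le_rfl⟩
  | mul x y _ _ hx hy =>
    obtain ⟨n, hn⟩ := hx
    obtain ⟨n', hn'⟩ := hy
    exact ⟨n + n', by rw [pow_add]; exact Submodule.mul_mem_mul hn hn'⟩

/-- If `B` is generated in degree one then `B_k = (B_1)^k`. -/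
lemma graded_le_pow (hgen : Algebra.adjoin A (𝒜 1 : Set B) = ⊤) (k : ℕ) :
    𝒜 k ≤ (𝒜 1) ^ k := by
  have key : ∀ x ∈ Submodule.span A (Submonoid.closure (𝒜 1 : Set B) : Set B),
      GradedAlgebra.proj 𝒜 k x ∈ (𝒜 1) ^ k := by
    intro x hx
    induction hx using Submodule.span_induction with
    | mem m hm =>
      obtain ⟨n, hn⟩ := closure_mem_pow 𝒜 hm
      by_cases h : n = k
      · subst h
        rw [proj_of_mem 𝒜 (pow_le_graded 𝒜 n hn)]
        exact hn
      · rw [proj_of_mem_ne 𝒜 (pow_le_graded 𝒜 n hn) h]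
        exact Submodule.zero_mem _
    | zero => rw [map_zero]; exact Submodule.zero_mem _
    | add x y _ _ hx hy => rw [map_add]; exact Submodule.add_mem _ hx hy
    | smul a x _ hx => rw [map_smul]; exact Submodule.smul_mem _ _ hx
  intro x hx
  have hx' : x ∈ Submodule.span A (Submonoid.closure (𝒜 1 : Set B) : Set B) := by
    rw [← Algebra.adjoin_eq_span, hgen]
    trivial
  have := key x hx'
  rwa [proj_of_mem 𝒜 hx] at this

lemma prod_mem_pow {R : Type*} [CommRing R] {M : Type*} [CommRing M] [Algebra R M]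
    (N : Submodule R M) (k : ℕ) (x : Fin k → M) (hx : ∀ j, x j ∈ N) :
    ∏ j, x j ∈ N ^ k := by
  induction k with
  | zero => simp only [Finset.univ_eq_empty, Finset.prod_empty, pow_zero]
            exact Submodule.one_le.mp le_rfl
  | succ k ih =>
    rw [Fin.prod_univ_succ, pow_succ']
    exact Submodule.mul_mem_mul (hx 0) (ih (fun j => x j.succ) (fun j => hx j.succ))

/-- pure tensors of `k`-fold products of degree one elements lie in `(C_1)^k` -/
lemma tprod_mem_pow_of_setpow (k : ℕ) (b : Fin d → B)
    (hb : ∀ i, b i ∈ ((𝒜 1 : Set B)) ^ k) :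
    tprod A b ∈ (Ck 𝒜 d 1) ^ k := by
  classical
  choose f hf using fun i => Set.mem_pow.mp (hb i)
  have hb' : b = ∏ j : Fin k, (fun i => ((f i j : B))) := by
    funext i
    rw [Finset.prod_apply, ← hf i, List.prod_ofFn]
  rw [hb', tprod_prod]
  apply prod_mem_pow
  intro j
  exact Submodule.subset_span ⟨_, fun i => (f i j).2, rfl⟩

lemma tprod_mem_pow_aux (k : ℕ) (s : Finset (Fin d)) :
    ∀ b : Fin d → B, (∀ i ∈ s, b i ∈ (𝒜 1) ^ k) → (∀ i ∉ s, b i ∈ ((𝒜 1 : Set B)) ^ k) →
      tprod A b ∈ (Ck 𝒜 d 1) ^ k := by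
  classical
  induction s using Finset.induction_on with
  | empty =>
    intro b _ hb
    exact tprod_mem_pow_of_setpow 𝒜 d k b (fun i => hb i (Finset.notMem_empty i))
  | insert i₀ s hi₀ ih =>
    intro b hb1 hb2
    have hmem : b i₀ ∈ Submodule.span A (((𝒜 1 : Set B)) ^ k) := by
      rw [← Submodule.pow_eq_span_pow_set]
      exact hb1 i₀ (Finset.mem_insert_self _ _)
    have key : ∀ x ∈ Submodule.span A (((𝒜 1 : Set B)) ^ k),
        tprod A (Function.update b i₀ x) ∈ (Ck 𝒜 d 1) ^ k := by
      intro x hx
      induction hx using Submodule.span_induction with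
      | mem y hy =>
        apply ih
        · intro i hi
          have hne : i ≠ i₀ := fun h => hi₀ (h ▸ hi)
          rw [Function.update_of_ne hne]
          exact hb1 i (Finset.mem_insert_of_mem hi)
        · intro i hi
          by_cases hne : i = i₀
          · subst hne
            rw [Function.update_self]
            exact hy
          · rw [Function.update_of_ne hne]
            exact hb2 i (by
              intro h
              rcases Finset.mem_insert.mp h with h | h
              · exact hne h
              · exact hi h)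
      | zero =>
        rw [MultilinearMap.map_update_zero]
        exact Submodule.zero_mem _
      | add x y _ _ hx hy =>
        rw [MultilinearMap.map_update_add]
        exact Submodule.add_mem _ hx hy
      | smul a x _ hx =>
        rw [MultilinearMap.map_update_smul]
        exact Submodule.smul_mem _ _ hx
    have := key (b i₀) hmem
    rwa [Function.update_eq_self] at this

/-- `C_k ⊆ (C_1)^k` when `B` is generated in degree one. -/
lemma Ck_le_pow (hgen : Algebra.adjoin A (𝒜 1 : Set B) = ⊤) (k : ℕ) :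
    Ck 𝒜 d k ≤ (Ck 𝒜 d 1) ^ k := by
  unfold Ck
  rw [Submodule.span_le]
  rintro _ ⟨b, hb, rfl⟩
  exact tprod_mem_pow_aux 𝒜 d k Finset.univ b (fun i _ => graded_le_pow 𝒜 hgen k (hb i))
    (fun i hi => absurd (Finset.mem_univ i) hi)

end Groth.Agent.H93.ZC
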