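import Groth.Agent.H93.ZCBase

/-!
# The diagonal subalgebra is integral over its symmetric part
-/

set_option autoImplicit false

universe u

open PiTensorProduct
open scoped TensorProduct

namespace Groth.Agent.H93.ZC

variable {A B : Type u} [CommRing A] [CommRing B] [Algebra A B]
  (𝒜 : ℕ → Submodule A B) [GradedAlgebra 𝒜] (d : ℕ)

lemma perm_one (x : TT A B d) : SymTen.perm A B d 1 x = x := by
  induction x using PiTensorProduct.induction_on with
  | smul_tprod r f => rw [map_smul, SymTen.perm_tprod]; rfl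
  | add x y hx hy => rw [map_add, hx, hy]

lemma perm_mul (σ τ : Equiv.Perm (Fin d)) (x : TT A B d) :
    SymTen.perm A B d (σ * τ) x = SymTen.perm A B d σ (SymTen.perm A B d τ x) := by
  induction x using PiTensorProduct.induction_on with
  | smul_tprod r f =>
    rw [map_smul, map_smul, map_smul, SymTen.perm_tprod, SymTen.perm_tprod, SymTen.perm_tprod]
    rfl
  | add x y hx hy => rw [map_add, map_add, map_add, hx, hy]

lemma perm_mem_CC (σ : Equiv.Perm (Fin d)) {x : TT A B d} (hx : x ∈ CC 𝒜 d) :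
    SymTen.perm A B d σ x ∈ CC 𝒜 d := by
  have h : (CC 𝒜 d).map (SymTen.perm A B d σ) ≤ CC 𝒜 d := by
    unfold CC
    rw [AlgHom.map_adjoin]
    apply Algebra.adjoin_mono
    rintro _ ⟨_, ⟨k, b, hb, rfl⟩, rfl⟩
    rw [SymTen.perm_tprod]
    exact ⟨k, _, fun i => hb _, rfl⟩
  exact h ⟨x, hx, rfl⟩

/-- The permutation action on the diagonal subalgebra. -/
noncomputable def actCC : MulSemiringAction (Equiv.Perm (Fin d)) (CC 𝒜 d) where
  smul σ x := ⟨SymTen.perm A B d σ x.1, perm_mem_CC 𝒜 d σ x.2⟩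
  one_smul x := Subtype.ext (perm_one d x.1)
  mul_smul σ τ x := Subtype.ext (perm_mul d σ τ x.1)
  smul_zero σ := Subtype.ext (map_zero _)
  smul_add σ x y := Subtype.ext (map_add _ _ _)
  smul_one σ := Subtype.ext (map_one _)
  smul_mul σ x y := Subtype.ext (map_mul _ _ _)

/-- The symmetric part of the diagonal subalgebra. -/
noncomputable def DD : Subalgebra A (TT A B d) := CC 𝒜 d ⊓ SymTen.TS A B d

lemma DD_le_CC : DD 𝒜 d ≤ CC 𝒜 d := inf_le_left

/-- `C` as a `D`-algebra. -/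
noncomputable def algDC : Algebra (DD 𝒜 d) (CC 𝒜 d) :=
  (Subalgebra.inclusion (DD_le_CC 𝒜 d)).toRingHom.toAlgebra

lemma isIntegral_CC :
    letI := algDC 𝒜 d
    Algebra.IsIntegral (DD 𝒜 d) (CC 𝒜 d) := by
  letI := algDC 𝒜 d
  letI := actCC 𝒜 d
  haveI : Algebra.IsInvariant (DD 𝒜 d) (CC 𝒜 d) (Equiv.Perm (Fin d)) := by
    refine ⟨fun b hb => ?_⟩
    have hbTS : (b : TT A B d) ∈ SymTen.TS A B d := by
      intro σ
      rw [← SymTen.perm_apply]
      exact congrArg Subtype.val (hb σ)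
    exact ⟨⟨b.1, ⟨b.2, hbTS⟩⟩, Subtype.ext rfl⟩
  exact Algebra.IsInvariant.isIntegral (DD 𝒜 d) (CC 𝒜 d) (Equiv.Perm (Fin d))

end Groth.Agent.H93.ZC
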