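import Mathlib

/-!
# A product of linear forms with nonzero diagonal coefficients has a nonzero coefficient
-/

set_option autoImplicit false

open MvPolynomial

namespace Groth.Agent.H93.ZC

/-- multidegree of a map `f : Fin d → Fin d` -/
noncomputable def mu {d : ℕ} (f : Fin d → Fin d) : Fin d →₀ ℕ := ∑ i, Finsupp.single (f i) 1

lemma mu_comp_perm {d : ℕ} (f : Fin d → Fin d) (σ : Equiv.Perm (Fin d)) :
    mu (fun i => f (σ i)) = mu f := by
  unfold mu
  exact Equiv.sum_comp σ (fun i => Finsupp.single (f i) 1)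

lemma prod_monomial_aux {d : ℕ} {Ω : Type*} [CommRing Ω] (s : Finset (Fin d)) (g : Fin d → Fin d)
    (a : Fin d → Ω) :
    ∏ i ∈ s, monomial (Finsupp.single (g i) 1) (a i) =
      monomial (∑ i ∈ s, Finsupp.single (g i) 1) (∏ i ∈ s, a i) := by
  classical
  induction s using Finset.induction_on with
  | empty => simp
  | insert i s hi ih =>
    rw [Finset.prod_insert hi, Finset.sum_insert hi, Finset.prod_insert hi, ih, monomial_mul]

theorem exists_coeff_ne_zero {d : ℕ} {Ω : Type*} [CommRing Ω] [IsDomain Ω]
    (a : Fin d → Fin d → Ω) (ha : ∀ i, a i i ≠ 0) :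
    ∃ α : Fin d →₀ ℕ,
      ∑ f ∈ (Finset.univ : Finset (Fin d → Fin d)).filter (fun f => mu f = α),
        ∏ i, a i (f i) ≠ 0 := by
  classical
  let F : MvPolynomial (Fin d) Ω := ∏ i, ∑ j, monomial (Finsupp.single j 1) (a i j)
  have hF : F ≠ 0 := by
    apply Finset.prod_ne_zero_iff.mpr
    intro i _ h
    have h2 := congrArg (coeff (Finsupp.single i 1)) h
    rw [coeff_sum, coeff_zero] at h2
    simp only [coeff_monomial] at h2
    rw [Finset.sum_eq_single i] at h2
    · rw [if_pos rfl] at h2
      exact ha i h2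
    · intro j _ hj
      rw [if_neg]
      intro h3
      have := Finsupp.single_left_injective (one_ne_zero) h3
      exact hj this
    · intro h3; exact absurd (Finset.mem_univ i) h3
  have hexp : F = ∑ f : Fin d → Fin d, monomial (mu f) (∏ i, a i (f i)) := by
    simp only [F]
    rw [Finset.prod_univ_sum]
    refine Finset.sum_congr (by ext; simp) fun f _ => ?_
    rw [prod_monomial_aux]
    rfl
  obtain ⟨α, hα⟩ : ∃ α, coeff α F ≠ 0 := by
    by_contra h
    simp only [not_exists, not_not] at h
    exact hF (MvPolynomial.ext _ _ (fun α => by rw [h α, coeff_zero]))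
  refine ⟨α, ?_⟩
  rw [hexp, coeff_sum] at hα
  simp only [coeff_monomial] at hα
  rwa [← Finset.sum_filter] at hα

end Groth.Agent.H93.ZC
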