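import Groth.Agent.H93.ZCGen
import Groth.Agent.H93.ZCInt
import Groth.Agent.H93.ZCLin

/-!
# Covering `Proj` of the symmetric part of the diagonal subalgebra: the main argument
-/

set_option autoImplicit false

universe u

open PiTensorProduct
open scoped TensorProduct

namespace Groth.Agent.H93.ZC

variable {A B : Type u} [CommRing A] [CommRing B] [Algebra A B]
  (𝒜 : ℕ → Submodule A B) [GradedAlgebra 𝒜] (d : ℕ)

/-- the ideal of `C` generated by (the elements with value in) `S` -/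
def idC (S : Set (TT A B d)) : Ideal (CC 𝒜 d) := Ideal.span {x : CC 𝒜 d | (x : TT A B d) ∈ S}

/-- the ideal of `D` generated by (the elements with value in) `S` -/
noncomputable def idD (S : Set (TT A B d)) : Ideal (DD 𝒜 d) :=
  Ideal.span {x : DD 𝒜 d | (x : TT A B d) ∈ S}

/-- Elements of `T` lying in `C` and in the radical of `idC S`. -/
def RT (S : Set (TT A B d)) : Submodule A (TT A B d) where
  carrier := {x | ∃ hx : x ∈ CC 𝒜 d, (⟨x, hx⟩ : CC 𝒜 d) ∈ (idC 𝒜 d S).radical}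
  add_mem' := by
    rintro x y ⟨hx, hx'⟩ ⟨hy, hy'⟩
    exact ⟨(CC 𝒜 d).add_mem hx hy, (idC 𝒜 d S).radical.add_mem hx' hy'⟩
  zero_mem' := ⟨(CC 𝒜 d).zero_mem, (idC 𝒜 d S).radical.zero_mem⟩
  smul_mem' := by
    rintro a x ⟨hx, hx'⟩
    refine ⟨(CC 𝒜 d).smul_mem hx a, ?_⟩
    have : (⟨a • x, (CC 𝒜 d).smul_mem hx a⟩ : CC 𝒜 d) = a • (⟨x, hx⟩ : CC 𝒜 d) := rfl
    rw [this, Algebra.smul_def]
    exact Ideal.mul_mem_left _ _ hx'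

lemma RT_mul {S : Set (TT A B d)} {c x : TT A B d} (hc : c ∈ CC 𝒜 d) (hx : x ∈ RT 𝒜 d S) :
    c * x ∈ RT 𝒜 d S := by
  obtain ⟨hx1, hx2⟩ := hx
  refine ⟨(CC 𝒜 d).mul_mem hc hx1, ?_⟩
  have : (⟨c * x, (CC 𝒜 d).mul_mem hc hx1⟩ : CC 𝒜 d) = ⟨c, hc⟩ * ⟨x, hx1⟩ := rfl
  rw [this]
  exact Ideal.mul_mem_left _ _ hx2

lemma pow_le_CC (k : ℕ) : (Ck 𝒜 d 1) ^ k ≤ Subalgebra.toSubmodule (CC 𝒜 d) := by
  have h1 : Ck 𝒜 d 1 ≤ Subalgebra.toSubmodule (CC 𝒜 d) := fun x hx => Ck_le_CC 𝒜 d 1 hx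
  calc (Ck 𝒜 d 1) ^ k ≤ (Subalgebra.toSubmodule (CC 𝒜 d)) ^ k := pow_le_pow_left' h1 k
    _ ≤ Subalgebra.toSubmodule (CC 𝒜 d) := by
        induction k with
        | zero =>
          rw [pow_zero, Submodule.one_le]
          exact (CC 𝒜 d).one_mem
        | succ k ih =>
          rw [pow_succ, Submodule.mul_le]
          intro x hx y hy
          exact (CC 𝒜 d).mul_mem (ih hx) hy

lemma pow_le_RT {S : Set (TT A B d)} (h1 : Ck 𝒜 d 1 ≤ RT 𝒜 d S) (k : ℕ) (hk : 1 ≤ k) :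
    (Ck 𝒜 d 1) ^ k ≤ RT 𝒜 d S := by
  induction k with
  | zero => omega
  | succ k ih =>
    rcases Nat.eq_zero_or_pos k with rfl | hk'
    · rw [zero_add, pow_one]
      exact h1
    · rw [pow_succ, Submodule.mul_le]
      intro x hx y hy
      exact RT_mul 𝒜 d (pow_le_CC 𝒜 d k hx) (h1 hy)

/-- The generic main theorem. -/
theorem main_generic (hgen : Algebra.adjoin A (𝒜 1 : Set B) = ⊤) (S : Set (TT A B d))
    (hSTS : ∀ s ∈ S, s ∈ SymTen.TS A B d)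
    (hdesc : ∀ c : Fin d → B, (∀ i, c i ∈ 𝒜 1) → tprod A c ∈ RT 𝒜 d S)
    (k : ℕ) (hk : 0 < k) (t : TT A B d) (htD : t ∈ DD 𝒜 d) (htk : t ∈ Ck 𝒜 d k) :
    ∃ m : ℕ, 0 < m ∧ (⟨t, htD⟩ : DD 𝒜 d) ^ m ∈ idD 𝒜 d S := by
  classical
  -- `C_1 ⊆ RT`
  have h1 : Ck 𝒜 d 1 ≤ RT 𝒜 d S := by
    unfold Ck
    rw [Submodule.span_le]
    rintro _ ⟨c, hc, rfl⟩
    exact hdesc c hc
  have htRT : t ∈ RT 𝒜 d S := pow_le_RT 𝒜 d h1 k hk (Ck_le_pow 𝒜 d hgen k htk)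
  obtain ⟨htC, htrad⟩ := htRT
  by_contra hcon
  have hnot : (⟨t, htD⟩ : DD 𝒜 d) ∉ (idD 𝒜 d S).radical := by
    rintro ⟨m, hm⟩
    rcases Nat.eq_zero_or_pos m with rfl | hm0
    · apply hcon
      refine ⟨1, one_pos, ?_⟩
      rw [pow_zero] at hm
      rw [(Ideal.eq_top_iff_one _).mpr hm]
      trivial
    · exact hcon ⟨m, hm0, hm⟩
  rw [Ideal.radical_eq_sInf, Ideal.mem_sInf] at hnot
  simp only [not_forall] at hnot
  obtain ⟨𝔭, ⟨h𝔭le, h𝔭prime⟩, ht𝔭⟩ := hnot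
  letI := algDC 𝒜 d
  haveI := isIntegral_CC 𝒜 d
  haveI := h𝔭prime
  have hmap : ∀ x : DD 𝒜 d, algebraMap (DD 𝒜 d) (CC 𝒜 d) x = ⟨x.1, DD_le_CC 𝒜 d x.2⟩ :=
    fun _ => rfl
  have hbot : Ideal.comap (algebraMap (DD 𝒜 d) (CC 𝒜 d)) ⊥ ≤ 𝔭 := by
    intro x hx
    rw [Ideal.mem_comap, Ideal.mem_bot, hmap] at hx
    have h3 : (x : TT A B d) = 0 :=
      congrArg (Subtype.val : CC 𝒜 d → TT A B d) hx
    have : x = 0 := Subtype.ext h3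
    rw [this]
    exact 𝔭.zero_mem
  obtain ⟨𝔓, -, h𝔓prime, h𝔓⟩ := Ideal.exists_ideal_over_prime_of_isIntegral 𝔭 ⊥ hbot
  have hle : idC 𝒜 d S ≤ 𝔓 := by
    unfold idC
    rw [Ideal.span_le]
    intro x hx
    have hxTS := hSTS _ hx
    have hxD : (⟨x.1, ⟨x.2, hxTS⟩⟩ : DD 𝒜 d) ∈ 𝔭 := by
      apply h𝔭le
      exact Ideal.subset_span hx
    rw [← h𝔓, Ideal.mem_comap, hmap] at hxD
    exact hxD
  have h2 : (⟨t, htC⟩ : CC 𝒜 d) ∈ 𝔓 := (h𝔓prime.radical_le_iff.mpr hle) htrad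
  apply ht𝔭
  rw [← h𝔓, Ideal.mem_comap, hmap]
  exact h2

/-- Descent from `T` to `C` for generators of degree one. -/
lemma descent_one (S : Set (TT A B d)) (hS1 : ∀ s ∈ S, s ∈ Ck 𝒜 d 1) (N : ℕ)
    {y : TT A B d} (hy : y ∈ Ideal.span S) :
    ∀ τ : TT A B d, ∃ z : CC 𝒜 d, z ∈ idC 𝒜 d S ∧ (z : TT A B d) = P 𝒜 d (fun _ => 1 + N) (τ * y) := by
  induction hy using Submodule.span_induction with
  | mem s hs =>
    intro τ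
    refine ⟨⟨s, Ck_le_CC 𝒜 d 1 (hS1 s hs)⟩ * ⟨P 𝒜 d (fun _ => N) τ,
      Ck_le_CC 𝒜 d N (P_mem_Ck 𝒜 d N τ)⟩, ?_, ?_⟩
    · exact Ideal.mul_mem_right _ _ (Ideal.subset_span hs)
    · rw [mul_comm τ s, P_Ck_mul 𝒜 d (hS1 s hs)]
      rfl
  | zero =>
    intro τ
    exact ⟨0, Ideal.zero_mem _, by simp⟩
  | add x y _ _ hx hy =>
    intro τ
    obtain ⟨z1, hz1, e1⟩ := hx τ
    obtain ⟨z2, hz2, e2⟩ := hy τ
    refine ⟨z1 + z2, Ideal.add_mem _ hz1 hz2, ?_⟩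
    rw [mul_add, map_add, ← e1, ← e2]
    rfl
  | smul a x _ hx =>
    intro τ
    obtain ⟨z, hz, e⟩ := hx (τ * a)
    refine ⟨z, hz, ?_⟩
    rw [e, smul_eq_mul, mul_assoc]

/-- From the radical in `T` to the radical in `C`, generators of degree one. -/
lemma tprod_mem_RT_of_radical (S : Set (TT A B d)) (hS1 : ∀ s ∈ S, s ∈ Ck 𝒜 d 1)
    {c : Fin d → B} (hc : ∀ i, c i ∈ 𝒜 1) (hrad : tprod A c ∈ (Ideal.span S).radical) :
    tprod A c ∈ RT 𝒜 d S := by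
  obtain ⟨n, hn⟩ := hrad
  have hn1 : (tprod A c) ^ (1 + n) ∈ Ideal.span S := by
    rw [pow_add, pow_one]
    exact Ideal.mul_mem_left _ _ hn
  obtain ⟨z, hz, e⟩ := descent_one 𝒜 d S hS1 n hn1 1
  rw [one_mul, P_fix 𝒜 d (tprod_pow_mem 𝒜 d hc (1 + n))] at e
  have hcC : tprod A c ∈ CC 𝒜 d := Ck_le_CC 𝒜 d 1 (Submodule.subset_span ⟨c, hc, rfl⟩)
  refine ⟨hcC, 1 + n, ?_⟩
  have : (⟨tprod A c, hcC⟩ : CC 𝒜 d) ^ (1 + n) = z := Subtype.ext (by rw [e]; rfl)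
  rw [this]
  exact hz

end Groth.Agent.H93.ZC
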