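import Groth.Agent.H93.ZCMain

/-!
# Step 1 for symmetric multilinear generators (S13390)
-/

set_option autoImplicit false

universe u

open PiTensorProduct
open scoped TensorProduct

namespace Groth.Agent.H93.ZC

variable {A B : Type u} [CommRing A] [CommRing B] [Algebra A B]
  (𝒜 : ℕ → Submodule A B) [GradedAlgebra 𝒜] (d : ℕ)

/-- the elementary tensors `1 ⊗ … ⊗ b ⊗ … ⊗ 1` -/
noncomputable def eTen (i : Fin d) (b : B) : TT A B d := tprod A (Pi.mulSingle i b)

lemma prod_eTen (g : Fin d → B) : ∏ i, eTen d i (g i) = tprod A g := by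
  unfold eTen
  rw [← tprod_prod, Finset.univ_prod_mulSingle]

/-- the symmetrized sums of pure tensors -/
noncomputable def symSum (c : Fin d → B) (α : Fin d →₀ ℕ) : TT A B d :=
  ∑ f ∈ (Finset.univ : Finset (Fin d → Fin d)).filter (fun f => mu f = α),
    tprod A (fun i => c (f i))

lemma symSum_mem_Ck {c : Fin d → B} (hc : ∀ i, c i ∈ 𝒜 1) (α : Fin d →₀ ℕ) :
    symSum d c α ∈ Ck 𝒜 d 1 := by
  unfold symSum
  exact Submodule.sum_mem _ fun f _ => Submodule.subset_span ⟨_, fun i => hc (f i), rfl⟩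

lemma symSum_mem_TS (c : Fin d → B) (α : Fin d →₀ ℕ) :
    symSum (A := A) d c α ∈ SymTen.TS A B d := by
  classical
  intro σ
  unfold symSum
  rw [map_sum]
  simp only [PiTensorProduct.reindex_tprod]
  refine Finset.sum_equiv (Equiv.arrowCongr σ (Equiv.refl (Fin d))) ?_ ?_
  · intro f
    simp only [Finset.mem_filter, Finset.mem_univ, true_and]
    have : (Equiv.arrowCongr σ (Equiv.refl (Fin d))) f = fun i => f (σ.symm i) := rfl
    rw [this, mu_comp_perm f σ.symm]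
  · intro f _
    rfl

/-- Step 1: pure tensors of degree one are in the radical of the ideal of `T` generated by the
symmetric tensors of degree one. -/
lemma radical_sym {c : Fin d → B} (hc : ∀ i, c i ∈ 𝒜 1) :
    tprod A c ∈ (Ideal.span {s : TT A B d | s ∈ Ck 𝒜 d 1 ∧ s ∈ SymTen.TS A B d}).radical := by
  classical
  rw [Ideal.radical_eq_sInf, Ideal.mem_sInf]
  rintro 𝔔 ⟨hle, hprime⟩
  by_contra hnot
  haveI := hprime
  have hdiag : ∀ i, eTen d i (c i) ∉ 𝔔 := by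
    intro i hi
    apply hnot
    rw [← prod_eTen d c, ← Finset.mul_prod_erase _ _ (Finset.mem_univ i)]
    exact Ideal.mul_mem_right _ _ hi
  let a : Fin d → Fin d → (TT A B d ⧸ 𝔔) := fun i j => Ideal.Quotient.mk 𝔔 (eTen d i (c j))
  have ha : ∀ i, a i i ≠ 0 := by
    intro i h
    exact hdiag i (Ideal.Quotient.eq_zero_iff_mem.mp h)
  obtain ⟨α, hα⟩ := exists_coeff_ne_zero a ha
  apply hα
  have : ∑ f ∈ (Finset.univ : Finset (Fin d → Fin d)).filter (fun f => mu f = α), ∏ i, a i (f i)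
      = Ideal.Quotient.mk 𝔔 (symSum d c α) := by
    unfold symSum
    rw [map_sum]
    refine Finset.sum_congr rfl fun f _ => ?_
    simp only [a]
    rw [← map_prod, prod_eTen]
  rw [this, Ideal.Quotient.eq_zero_iff_mem]
  exact hle (Ideal.subset_span ⟨symSum_mem_Ck 𝒜 d hc α, symSum_mem_TS d c α⟩)

/-- S13390 in the notation of this library. -/
theorem main_sym (hgen : Algebra.adjoin A (𝒜 1 : Set B) = ⊤)
    (k : ℕ) (hk : 0 < k) (t : TT A B d) (htD : t ∈ DD 𝒜 d) (htk : t ∈ Ck 𝒜 d k) :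
    ∃ m : ℕ, 0 < m ∧ (⟨t, htD⟩ : DD 𝒜 d) ^ m ∈
      Ideal.span {x : DD 𝒜 d | (x : TT A B d) ∈ Ck 𝒜 d 1} := by
  obtain ⟨m, hm, h⟩ := main_generic 𝒜 d hgen
    {s : TT A B d | s ∈ Ck 𝒜 d 1 ∧ s ∈ SymTen.TS A B d} (fun s hs => hs.2)
    (fun c hc => tprod_mem_RT_of_radical 𝒜 d _ (fun s hs => hs.1) hc (radical_sym 𝒜 d hc))
    k hk t htD htk
  refine ⟨m, hm, ?_⟩
  have hle : idD 𝒜 d {s : TT A B d | s ∈ Ck 𝒜 d 1 ∧ s ∈ SymTen.TS A B d} ≤
      Ideal.span {x : DD 𝒜 d | (x : TT A B d) ∈ Ck 𝒜 d 1} := by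
    unfold idD
    apply Ideal.span_mono
    intro x hx
    exact hx.1
  exact hle h

end Groth.Agent.H93.ZC
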